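import Mathlib
import Cfsg.Agent.S0352
import Cfsg.Agent.S0363
import Cfsg.Agent.S0364
import Cfsg.Agent.S0366
import Cfsg.Agent.S0381
import Cfsg.Agent.SporadicStructure.M23LocalInput
import Cfsg.Agent.SporadicStructure.M24IndexMain
set_option linter.all false

/-!
# Fixed points of 2-elements of `M24` (R07, helper855)

* `involution_fix` : an involution of `M24` fixing five points of an octad `o` fixes exactly `o`;
* `card_fix_le` : an involution fixes at most 8 points.
* `fixBound` : elements of prime order `≥ 5` fix at most four points.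
* `exists_fixed` : a subgroup of order 20160 of `M24` fixing two points fixes a third one.
-/

set_option autoImplicit false
open scoped Pointwise
open Cfsg MulAction

namespace Cfsg.Agent.J4Type.InvFix

open Cfsg.Agent.SporadicStructure.M24IndexAbs Cfsg.Agent.SporadicStructure.M24IndexMain
open Cfsg.Agent.SporadicStructure.M23Index253 (exists_map card_golayPt smul_mem_octads)
open Cfsg.Agent.SporadicStructure.M23LocalInput

theorem inter_ne_three : ∀ b ∈ octads, ∀ c ∈ octads, (b ∩ c).card = 3 → False := by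
  intro b hb c hc h3
  by_cases hbc : b = c
  · subst hbc
    rw [Finset.inter_self, hb.2] at h3
    omega
  · have hα : Fintype.card Cfsg.GolayPt = 24 := by simp
    rcases S0352.result hα S0363.result hb hc hbc with h | h | h <;> omega

theorem fixBound24 : FixBound M24 GolayPt := fixBound S0364.result S0366.result

/-- the pointwise stabiliser of an octad has order 16 -/
theorem card_fix_octad {o : Finset GolayPt} (ho : o ∈ octads) :
    Nat.card (fixingSubgroup M24 (o : Set GolayPt)) = 16 := by
  rw [← (S0381.result o ho).1]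
  refine Nat.card_congr
    { toFun := fun r => ⟨(r : M24), r.1.2, ?_⟩
      invFun := fun r => ⟨⟨r.1, r.2.1⟩, ?_⟩
      left_inv := fun r => rfl
      right_inv := fun r => rfl }
  · intro p
    exact r.2 p
  · intro p
    exact r.2.2 p

/-- the pointwise stabiliser of five points has order 48 -/
theorem card_fix_five {s : Finset GolayPt} (hs : s.card = 5) :
    Nat.card (fixingSubgroup M24 (s : Set GolayPt)) = 48 := by
  have hs5' : (s : Set GolayPt).ncard = 5 := by rw [Set.ncard_coe_finset, hs]
  have h1 := S0366.result.index_of_fixingSubgroup_mul hs5'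
  rw [card_golayPt] at h1
  have h2 : (fixingSubgroup M24 (s : Set GolayPt)).index = 24 * 23 * 22 * 21 * 20 := by
    apply Nat.eq_of_mul_eq_mul_right (Nat.factorial_pos (24 - 5))
    rw [h1]
    decide +kernel
  have h3 := (fixingSubgroup M24 (s : Set GolayPt)).card_mul_index
  rw [h2, S0364.result] at h3
  omega

/-- An involution of `M24` fixing five points of an octad fixes the octad pointwise. -/
theorem fix_octad {u : M24} (hu : u ^ 2 = 1) {s o : Finset GolayPt} (hs : 5 ≤ s.card)
    (ho : o ∈ octads) (hso : s ⊆ o) (hfix : ∀ p ∈ s, u • p = p) : ∀ p ∈ o, u • p = p := by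
  classical
  obtain ⟨s', hs', hs5⟩ := Finset.exists_subset_card_eq hs
  set T := fixingSubgroup M24 (s' : Set GolayPt) with hT
  set K := fixingSubgroup M24 (o : Set GolayPt) with hK
  have hs'o : s' ⊆ o := hs'.trans hso
  have hKT : K ≤ T := by
    intro k hk
    rw [hT, mem_fixingSubgroup_iff]
    intro y hy
    rw [hK, mem_fixingSubgroup_iff] at hk
    exact hk y (hs'o hy)
  have huT : u ∈ T := by
    rw [hT, mem_fixingSubgroup_iff]
    intro y hy
    exact hfix y (hs' hy)
  have hTo : ∀ k ∈ T, k • o = o := by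
    intro k hk
    refine smul_octad_eq S0363.result k ho s' (by rw [hs5]) hs'o ?_
    rw [hT, mem_fixingSubgroup_iff] at hk
    exact hk
  have hn : (K.subgroupOf T).Normal := by
    constructor
    rintro ⟨k, hkT⟩ hk ⟨g, hg⟩
    rw [Subgroup.mem_subgroupOf] at hk ⊢
    change k ∈ K at hk
    change g * k * g⁻¹ ∈ K
    rw [hK, mem_fixingSubgroup_iff] at hk ⊢
    intro y hy
    have h1 : g⁻¹ • y ∈ (o : Set GolayPt) := by
      have h2 := hTo g⁻¹ (T.inv_mem hg)
      have h3 : g⁻¹ • y ∈ g⁻¹ • o := Finset.smul_mem_smul_finset hy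
      rw [h2] at h3
      exact h3
    rw [mul_smul, mul_smul, hk _ h1, smul_inv_smul]
  have hidx : (K.subgroupOf T).index = 3 := by
    have h1 := (K.subgroupOf T).card_mul_index
    have hc1 : Nat.card K = 16 := card_fix_octad ho
    have hc2 : Nat.card T = 48 := card_fix_five hs5
    rw [Nat.card_congr (Subgroup.subgroupOfEquivOfLe hKT).toEquiv, hc1, hc2] at h1
    omega
  have h3 : (⟨u, huT⟩ : T) ^ 3 ∈ K.subgroupOf T := by
    rw [← hidx]
    exact Subgroup.pow_index_mem _ _
  have h4 : (⟨u, huT⟩ : T) ^ 3 = ⟨u, huT⟩ := by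
    apply Subtype.ext
    change u ^ 3 = u
    rw [pow_succ, hu, one_mul]
  rw [h4, Subgroup.mem_subgroupOf] at h3
  change u ∈ K at h3
  rw [hK, mem_fixingSubgroup_iff] at h3
  exact h3

/-- The fixed points of an involution of `M24` fixing five points. -/
theorem involution_fix {u : M24} (hu : u ^ 2 = 1) (hu1 : u ≠ 1) {s : Finset GolayPt}
    (hs : 5 ≤ s.card) (hfix : ∀ p ∈ s, u • p = p) :
    ∃ o ∈ octads, s ⊆ o ∧ ∀ p, u • p = p ↔ p ∈ o := by
  classical
  obtain ⟨s', hs', hs5⟩ := Finset.exists_subset_card_eq hs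
  obtain ⟨o, ⟨ho, hso⟩, -⟩ := S0363.result.2 s' hs5
  have h1 := fix_octad hu (by rw [hs5]) ho hso (fun p hp => hfix p (hs' hp))
  have h2 : ∀ p, u • p = p ↔ p ∈ o := by
    intro p
    refine ⟨fun hp => ?_, h1 p⟩
    by_contra hpo
    exact hu1 (eq_one_of_fix S0363.result inter_ne_three ho u h1 hpo hp)
  exact ⟨o, ho, fun p hp => (h2 p).1 (hfix p hp), h2⟩

theorem card_fix_le {u : M24} (hu : u ^ 2 = 1) (hu1 : u ≠ 1) {s : Finset GolayPt}
    (hfix : ∀ p ∈ s, u • p = p) : s.card ≤ 8 := by
  by_contra hcon
  push Not at hcon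
  obtain ⟨o, ho, hso, -⟩ := involution_fix hu hu1 (by omega) hfix
  have := Finset.card_le_card hso
  rw [ho.2] at this
  omega

/-- A subgroup of `M24` fixing nine points and of order not 1 or 3 is impossible. -/
theorem card_of_fix_nine (K : Subgroup M24) {s : Finset GolayPt} (hs : 9 ≤ s.card)
    (hfix : ∀ k ∈ K, ∀ p ∈ s, k • p = p) : Nat.card K ≤ 3 := by
  classical
  obtain ⟨s', hs', hs5⟩ := Finset.exists_subset_card_eq (show 5 ≤ s.card by omega)
  have hle : K ≤ fixingSubgroup M24 (s' : Set GolayPt) := by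
    intro k hk
    rw [mem_fixingSubgroup_iff]
    intro y hy
    exact hfix k hk y (hs' hy)
  have hdvd : Nat.card K ∣ 48 := by
    rw [← card_fix_five hs5]
    exact Subgroup.card_dvd_of_le hle
  have hodd : ¬ 2 ∣ Nat.card K := by
    intro h2
    have : Fact (Nat.Prime 2) := ⟨Nat.prime_two⟩
    obtain ⟨u, hu, hu1, hu2⟩ := exists_prime_elem K 2 h2
    have := card_fix_le hu2 hu1 (hfix u hu)
    omega
  have h16 : Nat.Coprime (Nat.card K) 16 := by
    rw [show (16 : ℕ) = 2 ^ 4 by norm_num]
    apply Nat.Coprime.pow_right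
    rw [Nat.coprime_comm, Nat.Prime.coprime_iff_not_dvd Nat.prime_two]
    exact hodd
  have h3 : Nat.card K ∣ 3 := by
    apply h16.dvd_of_dvd_mul_left
    rw [show (16 * 3 : ℕ) = 48 by norm_num]
    exact hdvd
  exact Nat.le_of_dvd (by norm_num) h3

/-- If a subgroup preserves a finite set `s`, it acts on it with kernel the pointwise stabiliser. -/
theorem card_le_factorial_mul (H : Subgroup M24) (s : Finset GolayPt)
    (hs : ∀ h ∈ H, ∀ x ∈ s, h • x ∈ s) :
    Nat.card H ≤ s.card.factorial * Nat.card (H ⊓ fixingSubgroup M24 (s : Set GolayPt) :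
      Subgroup M24) := by
  classical
  let f : H →* Equiv.Perm s :=
    { toFun := fun h => ⟨fun x => ⟨(h : M24) • (x : GolayPt), hs h h.2 x x.2⟩,
        fun x => ⟨(h : M24)⁻¹ • (x : GolayPt), hs _ (H.inv_mem h.2) x x.2⟩,
        fun x => Subtype.ext (inv_smul_smul _ _), fun x => Subtype.ext (smul_inv_smul _ _)⟩
      map_one' := by ext x; simp
      map_mul' := fun a b => by ext x; simp [mul_smul] }
  have h1 := Subgroup.card_mul_index f.ker
  have h2 : f.ker.index ≤ s.card.factorial := by
    rw [Subgroup.index_ker]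
    have h3 : Nat.card f.range ≤ Nat.card (Equiv.Perm s) := Subgroup.card_le_card_group _
    rw [Nat.card_perm, Nat.card_eq_fintype_card (α := s), Fintype.card_coe] at h3
    exact h3
  have h3 : Nat.card f.ker = Nat.card (H ⊓ fixingSubgroup M24 (s : Set GolayPt) :
      Subgroup M24) := by
    refine Nat.card_congr
      { toFun := fun k => ⟨(k : H), ?_⟩
        invFun := fun k => ⟨⟨k.1, k.2.1⟩, ?_⟩
        left_inv := fun k => rfl
        right_inv := fun k => rfl }
    · refine Subgroup.mem_inf.2 ⟨(k : H).2, ?_⟩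
      rw [mem_fixingSubgroup_iff]
      intro y hy
      have := congrArg (fun g : Equiv.Perm s => ((g ⟨y, hy⟩ : s) : GolayPt)) k.2
      exact this
    · have h4 := (Subgroup.mem_inf.1 k.2).2
      rw [mem_fixingSubgroup_iff] at h4
      exact Equiv.ext fun x => Subtype.ext (h4 x x.2)
  rw [← h1, h3, mul_comm]
  exact Nat.mul_le_mul_right _ h2

/-- A subgroup of order 20160 of `M24` fixing two points fixes a third one. -/
theorem exists_fixed (H : Subgroup M24) (hH : Nat.card H = 20160) {p q : GolayPt} (hpq : p ≠ q)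
    (hp : ∀ h ∈ H, h • p = p) (hq : ∀ h ∈ H, h • q = q) :
    ∃ x, x ≠ p ∧ x ≠ q ∧ ∀ h ∈ H, h • x = x := by
  classical
  have : Fact (Nat.Prime 7) := ⟨by norm_num⟩
  have : Fact (Nat.Prime 5) := ⟨by norm_num⟩
  obtain ⟨g, hg, hg1, hg7⟩ := exists_prime_elem H 7 (by rw [hH]; norm_num)
  obtain ⟨f, hf, hf1, hf5⟩ := exists_prime_elem H 5 (by rw [hH]; norm_num)
  obtain ⟨hga, hgb⟩ := fix_card card24 fixBound24 (by norm_num) (by norm_num) hg1 hg7
  obtain ⟨hfa, hfb⟩ := fix_card card24 fixBound24 (by norm_num) (by norm_num) hf1 hf5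
  unfold Nat.ModEq at hgb hfb
  have hg3 : (Finset.univ.filter fun x : GolayPt => g • x = x).card = 3 := by omega
  have hf4 : (Finset.univ.filter fun x : GolayPt => f • x = x).card = 4 := by omega
  have hpqg : ({p, q} : Finset GolayPt) ⊆ Finset.univ.filter fun x : GolayPt => g • x = x := by
    intro y hy
    rw [Finset.mem_insert, Finset.mem_singleton] at hy
    rcases hy with rfl | rfl
    · exact Finset.mem_filter.2 ⟨Finset.mem_univ _, hp g hg⟩
    · exact Finset.mem_filter.2 ⟨Finset.mem_univ _, hq g hg⟩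
  have hpqf : ({p, q} : Finset GolayPt) ⊆ Finset.univ.filter fun x : GolayPt => f • x = x := by
    intro y hy
    rw [Finset.mem_insert, Finset.mem_singleton] at hy
    rcases hy with rfl | rfl
    · exact Finset.mem_filter.2 ⟨Finset.mem_univ _, hp f hf⟩
    · exact Finset.mem_filter.2 ⟨Finset.mem_univ _, hq f hf⟩
  have hpq2 : ({p, q} : Finset GolayPt).card = 2 := Finset.card_pair hpq
  -- the third fixed point of `g`
  obtain ⟨x, hx⟩ : ∃ x, (Finset.univ.filter fun x : GolayPt => g • x = x) \ {p, q} = {x} := by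
    apply Finset.card_eq_one.1
    rw [Finset.card_sdiff_of_subset hpqg, hg3, hpq2]
  have hxm : x ∈ (Finset.univ.filter fun x : GolayPt => g • x = x) \ {p, q} := by
    rw [hx]; exact Finset.mem_singleton_self x
  rw [Finset.mem_sdiff, Finset.mem_filter, Finset.mem_insert, Finset.mem_singleton] at hxm
  obtain ⟨⟨-, hgx⟩, hxpq⟩ := hxm
  have hxp : x ≠ p := fun h => hxpq (Or.inl h)
  have hxq : x ≠ q := fun h => hxpq (Or.inr h)
  -- `p`, `q` are not in the orbit
  have hpo : ∀ r : GolayPt, (∀ h ∈ H, h • r = r) → x ≠ r → r ∉ orb H x := by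
    intro r hr hxr hro
    obtain ⟨k, hk, hkr⟩ := mem_orb.1 hro
    exact hxr (MulAction.injective k (hkr.trans (hr k hk).symm))
  have hp' := hpo p hp hxp
  have hq' := hpo q hq hxq
  have hxo : x ∈ orb H x := mem_orb.2 ⟨1, H.one_mem, one_smul _ _⟩
  have h1 := card_filter_modEq hg7 (orb H x) (fun y hy => smul_mem_orb hg hy)
  have h2 := card_filter_modEq hf5 (orb H x) (fun y hy => smul_mem_orb hf hy)
  unfold Nat.ModEq at h1 h2
  have hdisj : Disjoint (orb H x) ({p, q} : Finset GolayPt) := by
    rw [Finset.disjoint_left]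
    intro y hy hy2
    rw [Finset.mem_insert, Finset.mem_singleton] at hy2
    rcases hy2 with rfl | rfl
    · exact hp' hy
    · exact hq' hy
  have h3 : (((orb H x).filter fun y => g • y = y)).card = 1 := by
    have : ((orb H x).filter fun y => g • y = y) = {x} := by
      rw [← hx]
      ext y
      rw [Finset.mem_filter, Finset.mem_sdiff, Finset.mem_filter]
      constructor
      · rintro ⟨hy, hgy⟩
        exact ⟨⟨Finset.mem_univ _, hgy⟩, Finset.disjoint_left.1 hdisj hy⟩
      · rintro ⟨⟨-, hgy⟩, hy⟩
        have : y ∈ (Finset.univ.filter fun x : GolayPt => g • x = x) \ {p, q} :=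
          Finset.mem_sdiff.2 ⟨Finset.mem_filter.2 ⟨Finset.mem_univ _, hgy⟩, hy⟩
        rw [hx, Finset.mem_singleton] at this
        rw [this]
        exact ⟨hxo, hgx⟩
    rw [this, Finset.card_singleton]
  have h4 : (((orb H x).filter fun y => f • y = y)).card ≤ 2 := by
    have h5 : ((orb H x).filter fun y => f • y = y) ⊆
        (Finset.univ.filter fun x : GolayPt => f • x = x) \ {p, q} := by
      intro y hy
      rw [Finset.mem_filter] at hy
      exact Finset.mem_sdiff.2 ⟨Finset.mem_filter.2 ⟨Finset.mem_univ _, hy.2⟩,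
        Finset.disjoint_left.1 hdisj hy.1⟩
    have h6 := Finset.card_le_card h5
    rw [Finset.card_sdiff_of_subset hpqf, hf4, hpq2] at h6
    exact h6
  have h5 : (orb H x).card ≤ 22 := by
    have h6 := Finset.card_union_of_disjoint hdisj
    have h7 : (orb H x ∪ {p, q}).card ≤ Fintype.card GolayPt := Finset.card_le_univ _
    rw [card24, h6, hpq2] at h7
    omega
  have h6 : (orb H x).card ∣ 20160 := by rw [← hH]; exact card_orb_dvd H x
  have h22 : (orb H x).card ≠ 22 := by
    intro h
    rw [h] at h6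
    revert h6
    norm_num
  have hcases : (orb H x).card = 1 ∨ (orb H x).card = 15 := by omega
  rcases hcases with hc | hc
  · refine ⟨x, hxp, hxq, ?_⟩
    intro h hh
    obtain ⟨y, hy⟩ := Finset.card_eq_one.1 hc
    have h7 : h • x ∈ orb H x := smul_mem_orb hh hxo
    have h8 := hxo
    rw [hy, Finset.mem_singleton] at h7 h8
    rw [h7, ← h8]
  · exfalso
    -- the complement has seven points
    set Z : Finset GolayPt := (orb H x ∪ {p, q})ᶜ with hZ
    have hZc : Z.card = 7 := by
      rw [hZ, Finset.card_compl, card24, Finset.card_union_of_disjoint hdisj, hc, hpq2]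
    have hinv : ∀ h ∈ H, ∀ y ∈ Z, h • y ∈ Z := by
      intro h hh y hy
      rw [hZ, Finset.mem_compl, Finset.mem_union, Finset.mem_insert, Finset.mem_singleton]
        at hy ⊢
      rintro (h7 | h7 | h7)
      · apply hy
        left
        have := smul_mem_orb (H.inv_mem hh) h7
        rwa [inv_smul_smul] at this
      · exact hy (Or.inr (Or.inl (MulAction.injective h (h7.trans (hp h hh).symm))))
      · exact hy (Or.inr (Or.inr (MulAction.injective h (h7.trans (hq h hh).symm))))
    have h7 := card_le_factorial_mul H Z hinv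
    have h8 : Nat.card (H ⊓ fixingSubgroup M24 (Z : Set GolayPt) : Subgroup M24) ≤ 3 := by
      apply card_of_fix_nine _ (s := Z ∪ {p, q})
      · rw [Finset.card_union_of_disjoint, hZc, hpq2]
        rw [Finset.disjoint_left]
        intro y hy hy2
        rw [hZ, Finset.mem_compl] at hy
        exact hy (Finset.mem_union_right _ hy2)
      · intro k hk y hy
        obtain ⟨hk1, hk2⟩ := Subgroup.mem_inf.1 hk
        rw [mem_fixingSubgroup_iff] at hk2
        rw [Finset.mem_union, Finset.mem_insert, Finset.mem_singleton] at hy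
        rcases hy with hy | rfl | rfl
        · exact hk2 y hy
        · exact hp k hk1
        · exact hq k hk1
    rw [hZc, hH, show Nat.factorial 7 = 5040 by decide] at h7
    have h9 : 5040 * Nat.card (H ⊓ fixingSubgroup M24 (Z : Set GolayPt) : Subgroup M24) ≤
        5040 * 3 := Nat.mul_le_mul_left _ h8
    omega

end Cfsg.Agent.J4Type.InvFix
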