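import Cfsg.Agent.SporadicA.GolayPerm
set_option linter.all false

/-!
Elements of `M24` by packed tables, and the even Golay cocode by masks of 12 bits: the mask `s`
stands for the sum of the points of index `12 + i`, `i` a bit of `s`. The action of a permutation
is the linear map `act`.
-/

set_option autoImplicit false

namespace Cfsg.Agent.J4Type.CocodeMask

open Cfsg Cfsg.Agent.SporadicA.GolayBase Cfsg.Agent.SporadicA.GolayPerm

/-! ### Tables -/

/-- The permutation `g` has the packed table `P`. -/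
def IsTab (g : M24) (P : ℕ) : Prop :=
  ∀ p : GolayPt, idx ((g : Equiv.Perm GolayPt) p) = papp P (idx p)

/-- Composition of packed tables (first `Q`). -/
def pcomp (P Q : ℕ) : ℕ := pack ((List.range 24).map fun i => papp P (papp Q i))

theorem papp_lt32 (P i : ℕ) : papp P i < 32 := Nat.mod_lt _ (by norm_num)

theorem papp_pcomp (P Q : ℕ) {i : ℕ} (hi : i < 24) : papp (pcomp P Q) i = papp P (papp Q i) := by
  unfold pcomp
  rw [papp_pack]
  · rw [List.getD_eq_getElem?_getD, List.getElem?_map, List.getElem?_range hi]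
    rfl
  · intro a ha
    obtain ⟨j, -, rfl⟩ := List.mem_map.1 ha
    exact papp_lt32 _ _

theorem IsTab.mul {g h : M24} {P Q : ℕ} (hg : IsTab g P) (hh : IsTab h Q) :
    IsTab (g * h) (pcomp P Q) := by
  intro p
  rw [papp_pcomp P Q (idx_lt p), ← hh p, ← hg]
  rfl

/-- The table of the identity. -/
def pone : ℕ := pack (List.range 24)

theorem isTab_one : IsTab 1 pone := by
  intro p
  have h : ∀ p : GolayPt, idx p = papp pone (idx p) := by decide +kernel
  exact h p

theorem IsTab.eq {g h : M24} {P : ℕ} (hg : IsTab g P) (hh : IsTab h P) : g = h := by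
  apply Subtype.ext
  apply Equiv.ext
  intro p
  apply idx_injective
  rw [hg, hh]

/-- The element of `M24` with a given table. -/
noncomputable def mk (P : ℕ) (h : (isPerm P && isAut P) = true) : M24 :=
  ⟨permOf P (by rw [Bool.and_eq_true] at h; exact h.1),
    permOf_mem_M24 _ (by rw [Bool.and_eq_true] at h; exact h.2)⟩

theorem isTab_mk (P : ℕ) (h : (isPerm P && isAut P) = true) : IsTab (mk P h) P := by
  intro p
  rw [Bool.and_eq_true] at h
  exact idx_permOf h.1 p

theorem IsTab.inv_eq {g h : M24} {P Q : ℕ} (hg : IsTab g P) (hh : IsTab h Q)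
    (hPQ : pcomp P Q = pone) : g⁻¹ = h := by
  have h1 : g * h = 1 := (hg.mul hh).eq (by rw [hPQ]; exact isTab_one)
  exact inv_eq_of_mul_eq_one_right h1

/-! ### Linear maps on masks -/

/-- The linear map with given values at the powers of two. -/
def lin (v : ℕ → ℕ) (s : ℕ) : ℕ :=
  (s % 2 * v 0) ^^^ ((s >>> 1) % 2 * v 1) ^^^ ((s >>> 2) % 2 * v 2) ^^^ ((s >>> 3) % 2 * v 3) ^^^
  ((s >>> 4) % 2 * v 4) ^^^ ((s >>> 5) % 2 * v 5) ^^^ ((s >>> 6) % 2 * v 6) ^^^
  ((s >>> 7) % 2 * v 7) ^^^ ((s >>> 8) % 2 * v 8) ^^^ ((s >>> 9) % 2 * v 9) ^^^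
  ((s >>> 10) % 2 * v 10) ^^^ ((s >>> 11) % 2 * v 11)

theorem lin_xor (v : ℕ → ℕ) (a b : ℕ) : lin v (a ^^^ b) = lin v a ^^^ lin v b := by
  unfold lin
  simp only [Nat.shiftRight_xor_distrib, bit_mul_xor]
  ac_rfl

theorem lin_zero (v : ℕ → ℕ) : lin v 0 = 0 := by
  simp [lin]

theorem lin_congr {v w : ℕ → ℕ} (h : ∀ i, i < 12 → v i = w i) (s : ℕ) : lin v s = lin w s := by
  unfold lin
  rw [h 0 (by norm_num), h 1 (by norm_num), h 2 (by norm_num), h 3 (by norm_num),
    h 4 (by norm_num), h 5 (by norm_num), h 6 (by norm_num), h 7 (by norm_num),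
    h 8 (by norm_num), h 9 (by norm_num), h 10 (by norm_num), h 11 (by norm_num)]

/-- A homomorphism from masks to an abelian group, at a value of a linear map. -/
theorem map_lin {A : Type*} [CommGroup A] (F : ℕ → A)
    (hF : ∀ a b, F (a ^^^ b) = F a * F b) (v : ℕ → ℕ) (s : ℕ) :
    F (lin v s) = F (v 0) ^ (s % 2) * F (v 1) ^ ((s >>> 1) % 2) * F (v 2) ^ ((s >>> 2) % 2) *
      F (v 3) ^ ((s >>> 3) % 2) * F (v 4) ^ ((s >>> 4) % 2) * F (v 5) ^ ((s >>> 5) % 2) *
      F (v 6) ^ ((s >>> 6) % 2) * F (v 7) ^ ((s >>> 7) % 2) * F (v 8) ^ ((s >>> 8) % 2) *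
      F (v 9) ^ ((s >>> 9) % 2) * F (v 10) ^ ((s >>> 10) % 2) * F (v 11) ^ ((s >>> 11) % 2) := by
  have h0 : F 0 = 1 := by
    have := hF 0 0
    rw [Nat.xor_self] at this
    exact (mul_eq_left.1 this.symm)
  have hb : ∀ i c, F (i % 2 * c) = F c ^ (i % 2) := by
    intro i c
    have hi : i % 2 < 2 := Nat.mod_lt _ (by norm_num)
    interval_cases i % 2
    · rw [zero_mul, h0, pow_zero]
    · rw [one_mul, pow_one]
  unfold lin
  simp only [hF, hb]

/-- The parity of a mask. -/
def par (s : ℕ) : ℕ := lin (fun _ => 1) s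

/-- Masks of the elements of the even cocode. -/
def ev (s : ℕ) : Bool := Nat.blt s 4096 && Nat.beq (par s) 0

theorem ev_iff (s : ℕ) : ev s = true ↔ s < 4096 ∧ par s = 0 := by
  unfold ev
  rw [Bool.and_eq_true, Nat.blt_eq, Nat.beq_eq]

theorem ev_zero : ev 0 = true := by decide

theorem ev_xor {a b : ℕ} (ha : ev a = true) (hb : ev b = true) : ev (a ^^^ b) = true := by
  rw [ev_iff] at *
  refine ⟨Nat.xor_lt_two_pow (n := 12) ha.1 hb.1, ?_⟩
  unfold par at *
  rw [lin_xor, ha.2, hb.2, Nat.xor_self]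

theorem xor_eq_zero_iff' {a b : ℕ} : a ^^^ b = 0 ↔ a = b := Nat.xor_eq_zero_iff

/-- Syndromes of the points, packed. -/
def stPack : ℕ := 248691976112133571757837344452371891228356556719987225608045611691752986595338236853365

/-- The mask of the point of index `i` modulo the code. -/
def st (i : ℕ) : ℕ := (stPack >>> (12 * i)) % 4096

/-- The action of a permutation on masks. -/
def act (g : M24) (s : ℕ) : ℕ := lin (fun i => st (idx ((g : Equiv.Perm GolayPt) (pt (12 + i))))) s

/-- The action of a table on masks. -/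
def actT (P s : ℕ) : ℕ := lin (fun i => st (papp P (12 + i))) s

theorem act_eq {g : M24} {P : ℕ} (hg : IsTab g P) (s : ℕ) : act g s = actT P s := by
  unfold act actT
  apply lin_congr
  intro i hi
  rw [hg, idx_pt (by omega)]

theorem act_xor (g : M24) (a b : ℕ) : act g (a ^^^ b) = act g a ^^^ act g b := lin_xor _ _ _

theorem actT_xor (P a b : ℕ) : actT P (a ^^^ b) = actT P a ^^^ actT P b := lin_xor _ _ _

theorem st_lt (i : ℕ) : st i < 4096 := Nat.mod_lt _ (by norm_num)

theorem lin_lt {v : ℕ → ℕ} (hv : ∀ i, v i < 4096) (s : ℕ) : lin v s < 4096 := by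
  have hb : ∀ i j, j % 2 * v i < 2 ^ 12 := by
    intro i j
    have hj : j % 2 < 2 := Nat.mod_lt _ (by norm_num)
    have := hv i
    interval_cases j % 2
    · norm_num
    · omega
  unfold lin
  exact Nat.xor_lt_two_pow (n := 12) (Nat.xor_lt_two_pow (Nat.xor_lt_two_pow (Nat.xor_lt_two_pow
    (Nat.xor_lt_two_pow (Nat.xor_lt_two_pow (Nat.xor_lt_two_pow (Nat.xor_lt_two_pow
    (Nat.xor_lt_two_pow (Nat.xor_lt_two_pow (Nat.xor_lt_two_pow (hb _ _) (hb _ _)) (hb _ _))
    (hb _ _)) (hb _ _)) (hb _ _)) (hb _ _)) (hb _ _)) (hb _ _)) (hb _ _)) (hb _ _)) (hb _ _)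

theorem par_bit_mul (i c : ℕ) : par (i % 2 * c) = i % 2 * par c := by
  have hi : i % 2 < 2 := Nat.mod_lt _ (by norm_num)
  interval_cases i % 2
  · rw [zero_mul, zero_mul]; exact lin_zero _
  · rw [one_mul, one_mul]

theorem par_xor (a b : ℕ) : par (a ^^^ b) = par a ^^^ par b := lin_xor _ _ _

theorem par_lin (v : ℕ → ℕ) (hv : ∀ i, i < 12 → par (v i) = 1) (s : ℕ) :
    par (lin v s) = par s := by
  conv_lhs => unfold lin
  simp only [par_xor, par_bit_mul]
  rw [hv 0 (by norm_num), hv 1 (by norm_num), hv 2 (by norm_num), hv 3 (by norm_num),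
    hv 4 (by norm_num), hv 5 (by norm_num), hv 6 (by norm_num), hv 7 (by norm_num),
    hv 8 (by norm_num), hv 9 (by norm_num), hv 10 (by norm_num), hv 11 (by norm_num)]
  rfl

theorem par_st : ∀ i, i < 24 → par (st i) = 1 := by decide +kernel

theorem ev_act (g : M24) {s : ℕ} (hs : ev s = true) : ev (act g s) = true := by
  rw [ev_iff] at *
  refine ⟨lin_lt (fun i => st_lt _) s, ?_⟩
  unfold act
  rw [par_lin _ (fun i _ => par_st _ (idx_lt _))]
  exact hs.2

end Cfsg.Agent.J4Type.CocodeMask
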