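import Cfsg.Agent.J4Type.FusionCent
import Cfsg.Agent.J4Type.FusionComm
import Cfsg.Agent.J4Type.FusionConj
set_option linter.all false

-- part: J4Type/FusionHex
section
/-!
# Conjugates of `z` in `Q` for a group of type `J4` (R07, helper180)

`exists_conj`: `Hex` + (`Z*`-hypothesis) gives a conjugate `t ≠ z` of `z` in `Q`.  The finite facts on
`M22:2` are taken as hypotheses (structure `Facts`).
-/

set_option autoImplicit false

open scoped Pointwise

namespace Cfsg.Agent.J4Type.FusionHex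

open Cfsg Cfsg.Agent.J4Type Cfsg.Agent.Co2Type.Quad Cfsg.Agent.J4Type.FusionOne
  Cfsg.Agent.J4Type.FusionCent

/-- involutions of `M22` fix a hexad pointwise -/
def FactInv : Prop := ∀ g ∈ M24, g * g = 1 → g none = none → g (some 0) = some 0 →
  ∃ O, IsHex O ∧ ∀ p ∈ O, g p = p

/-- 2-subgroups of `M22:2` whose commutators take at most one nontrivial value are small -/
def FactComm : Prop := ∀ (B : Subgroup (Equiv.Perm GolayPt)), B ≤ M22d → IsPGroup 2 B →
  (∃ c, ∀ a ∈ B, ∀ b ∈ B, a * b * a⁻¹ * b⁻¹ = 1 ∨ a * b * a⁻¹ * b⁻¹ * c = 1) → Nat.card B < 2 ^ 7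

variable {G : Type*} [Group G] (H : Hex G)

/-- the elements commuting with `a` modulo `z` -/
theorem card_eq_of_set [Finite G] (t : Subgroup.centralizer ({H.z} : Set G)) :
    Nat.card {q : G // q ∈ H.Q ∧ ((t : G) * q = q * t ∨ (t : G) * q = H.z * (q * t))} =
      2 * Nat.card (LinearMap.ker (Nil (large H.toCent) t)) := by
  rw [← card_pre]
  apply Nat.card_congr
  apply Equiv.subtypeEquivRight
  intro q
  have hz : ∀ q ∈ H.Q, q * H.z = H.z * q := fun q hq => (large H.toCent).comm_z q hq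
  have htz : (t : G) * H.z = H.z * t := (mem_cent H.toCent).1 t.2
  have key : ∀ hq : q ∈ H.Q, ((large H.toCent).act t ((large H.toCent).pr ⟨q, hq⟩) =
      (large H.toCent).pr ⟨q, hq⟩ ↔ ((t : G) * q = q * t ∨ (t : G) * q = H.z * (q * t))) := by
    intro hq
    rw [(large H.toCent).act_pr, (large H.toCent).pr_eq_pr]
    have e : (((large H.toCent).conjQ t ⟨q, hq⟩ : H.Q) : G) = (t : G) * q * (t : G)⁻¹ := rfl
    rw [e]
    show (t : G) * q * (t : G)⁻¹ = q ∨ (t : G) * q * (t : G)⁻¹ = q * H.z ↔ _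
    rw [mul_inv_eq_iff_eq_mul, mul_inv_eq_iff_eq_mul, hz q hq, mul_assoc]
  constructor
  · rintro ⟨hq, h1⟩
    exact ⟨hq, (mem_ker_Nil _ _ _).2 ((key hq).2 h1)⟩
  · rintro ⟨hq, h1⟩
    exact ⟨hq, (key hq).1 ((mem_ker_Nil _ _ _).1 h1)⟩

theorem Nil_congr (t a : Subgroup.centralizer ({H.z} : Set G)) (hta : (t : G) * (a : G)⁻¹ ∈ H.Q) :
    Nil (large H.toCent) t = Nil (large H.toCent) a := by
  have h1 : (large H.toCent).act t = (large H.toCent).act a := by
    have e : t = (t * a⁻¹) * a := by group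
    rw [e, map_mul, (large H.toCent).act_mem (t * a⁻¹) hta, one_mul]
  ext v
  rw [Nil_apply, Nil_apply, h1]

/-- every inner involution of `C` outside `Q` agrees modulo `Q` with an element of some `E O` -/
theorem exists_mem_E (hinv : FactInv) (t : Subgroup.centralizer ({H.z} : Set G))
    (ht2 : (t : G) * t ∈ H.Q) (ht : H.P t none = none) :
    ∃ O, IsHex O ∧ ∃ a : Subgroup.centralizer ({H.z} : Set G), (a : G) ∈ H.E O ∧
      H.P a = H.P t ∧ (t : G) * (a : G)⁻¹ ∈ H.Q := by
  have h1 : H.P t * H.P t = 1 := by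
    rw [← map_mul]
    exact P_of_mem_Q H.toCent _ ht2
  obtain ⟨hM24, hc⟩ := mem_M22d (P_mem H.toCent t)
  have h0 : H.P t (some 0) = some 0 := by
    rcases hc with h2 | h2
    · exact h2.2
    · rw [ht] at h2; simp at h2
  obtain ⟨O, hO, hfix⟩ := hinv (H.P t) hM24 h1 ht h0
  obtain ⟨a, ha, hPa⟩ := (H.E_map O hO (H.P t)).2 ⟨hM24, hfix⟩
  refine ⟨O, hO, a, ha, hPa, ?_⟩
  apply div_mem_Q H.toCent t a hPa.symm (by rw [hPa]; exact ht) ht2
  rw [(H.E_elem O hO).1 a ha]
  exact H.Q.one_mem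

theorem card_ker_inner [Finite G] (hinv : FactInv) (t : Subgroup.centralizer ({H.z} : Set G))
    (ht2 : (t : G) * t ∈ H.Q) (ht : H.P t none = none) (htQ : (t : G) ∉ H.Q) :
    Nat.card (LinearMap.ker (Nil (large H.toCent) t)) = 2 ^ 8 := by
  obtain ⟨O, hO, a, ha, hPa, hta⟩ := exists_mem_E H hinv t ht2 ht
  have haQ : (a : G) ∉ H.Q := by
    intro h1
    apply htQ
    have := H.Q.mul_mem hta h1
    rwa [inv_mul_cancel_right] at this
  have h1 := H.V_dim O hO a ha haQ
  rw [card_eq_of_set H a] at h1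
  rw [Nil_congr H t a hta]
  omega

/-- `F2` of `FusionOne` -/
theorem fact_comm [Finite G] (hcomm : FactComm) (P : Subgroup G)
    (hP : P ≤ Subgroup.centralizer {H.z}) (hP2 : IsPGroup 2 P)
    (hc : ∃ c, ∀ a ∈ P, ∀ b ∈ P, a * b * a⁻¹ * b⁻¹ ∈ H.Q ∨ a * b * a⁻¹ * b⁻¹ * c ∈ H.Q) :
    Nat.card P < 2 ^ 7 * Nat.card (P ⊓ H.Q : Subgroup G) := by
  set f : P →* Equiv.Perm GolayPt := H.P.comp (Subgroup.inclusion hP) with hf
  have hfx : ∀ x : P, f x = H.P ⟨x, hP x.2⟩ := fun x => rfl
  -- kernel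
  have hker : Nat.card f.ker ≤ Nat.card (P ⊓ H.Q : Subgroup G) := by
    let F : f.ker → (P ⊓ H.Q : Subgroup G) := fun x => ⟨((x : P) : G), (x : P).2, by
      obtain ⟨k, hk⟩ := hP2 (x : P)
      have h1 : H.P ⟨((x : P) : G), hP (x : P).2⟩ = 1 := x.2
      refine mem_Q_of_pow H.toCent ⟨((x : P) : G), hP (x : P).2⟩ h1 (n := 2 ^ k)
        (Nat.Coprime.pow_left k (by norm_num)) ?_
      have : ((x : P) : G) ^ (2 ^ k) = 1 := by
        have := congrArg (fun y : P => (y : G)) hk
        simpa using this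
      show ((x : P) : G) ^ (2 ^ k) ∈ H.Q
      rw [this]; exact H.Q.one_mem⟩
    apply Nat.card_le_card_of_injective F
    intro x y hxy
    apply Subtype.ext
    apply Subtype.ext
    exact congrArg (fun w : (P ⊓ H.Q : Subgroup G) => (w : G)) hxy
  have hran : Nat.card f.range < 2 ^ 7 := by
    apply hcomm
    · rintro _ ⟨x, rfl⟩
      exact P_mem H.toCent _
    · exact hP2.of_surjective f.rangeRestrict f.rangeRestrict_surjective
    · obtain ⟨c, hc⟩ := hc
      by_cases hcC : c ∈ Subgroup.centralizer ({H.z} : Set G)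
      · refine ⟨H.P ⟨c, hcC⟩, ?_⟩
        rintro _ ⟨a, rfl⟩ _ ⟨b, rfl⟩
        have e : f a * f b * (f a)⁻¹ * (f b)⁻¹ = f (a * b * a⁻¹ * b⁻¹) := by simp
        rcases hc a a.2 b b.2 with h1 | h1
        · left
          rw [e, hfx]
          exact P_of_mem_Q H.toCent _ h1
        · right
          rw [e, hfx, ← map_mul]
          exact P_of_mem_Q H.toCent _ h1
      · refine ⟨1, ?_⟩
        rintro _ ⟨a, rfl⟩ _ ⟨b, rfl⟩
        have e : f a * f b * (f a)⁻¹ * (f b)⁻¹ = f (a * b * a⁻¹ * b⁻¹) := by simp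
        rcases hc a a.2 b b.2 with h1 | h1
        · left
          rw [e, hfx]
          exact P_of_mem_Q H.toCent _ h1
        · exfalso
          apply hcC
          have h2 : (a : G) * b * (a : G)⁻¹ * (b : G)⁻¹ ∈ Subgroup.centralizer ({H.z} : Set G) :=
            hP (P.mul_mem (P.mul_mem (P.mul_mem a.2 b.2) (P.inv_mem a.2)) (P.inv_mem b.2))
          have h3 := Subgroup.mul_mem _ (Subgroup.inv_mem _ h2) (H.Q_le h1)
          rwa [inv_mul_cancel_left] at h3
  have h1 := Subgroup.card_mul_index f.ker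
  rw [Subgroup.index_ker] at h1
  have hpos : 0 < Nat.card (P ⊓ H.Q : Subgroup G) := Nat.card_pos
  calc Nat.card P = Nat.card f.ker * Nat.card f.range := h1.symm
    _ ≤ Nat.card (P ⊓ H.Q : Subgroup G) * Nat.card f.range := Nat.mul_le_mul_right _ hker
    _ < Nat.card (P ⊓ H.Q : Subgroup G) * 2 ^ 7 := Nat.mul_lt_mul_of_pos_left hran hpos
    _ = _ := mul_comm _ _

/-- some conjugate `t ≠ z` of `z` lies in `Q` -/
theorem exists_conj [Finite G] (hinv : FactInv) (hcomm : FactComm)
    (hZ : ∃ t, IsConj H.z t ∧ t * H.z = H.z * t ∧ t ≠ H.z) :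
    ∃ t ∈ H.Q, IsConj H.z t ∧ t ≠ H.z := by
  refine exists_conj_mem (large H.toCent) (M H.toCent)
    (fun a b ha hb => M_index H.toCent ha hb) (z_mem_M H.toCent) (card_V H.toCent).ge ?_ ?_
    (fun P hP hP2 hc => fact_comm H hcomm P hP hP2 hc) hZ
  · intro t ht h2 hM hQ
    obtain ⟨_, h3⟩ := (mem_M H.toCent).1 hM
    exact (card_ker_inner H hinv ⟨t, ht⟩ (by show t * t ∈ H.Q; rw [h2]; exact H.Q.one_mem) h3 hQ).ge
  · intro t ht h2 hM
    have h3 : H.P ⟨t, ht⟩ none ≠ none := fun h4 => hM ((mem_M H.toCent).2 ⟨ht, h4⟩)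
    exact card_ker_outer H.toCent ⟨t, ht⟩ (H.P_outer ⟨t, ht⟩ h3)

end Cfsg.Agent.J4Type.FusionHex
end

-- part: J4Type/FusionFact
section
/-!
# J₄ type, part (b): the facts (M1), (M2), (M3) on `M22 : 2` (R07, helper607)

* `fact_inv : FactInv` : an involution of `M22` fixes a hexad pointwise;
* `fix_hex` : an elementary abelian 2-subgroup of `M22:2` of order at least `2^5` fixes a hexad and contains two
  nontrivial translations of it;
* `fact_comm : FactComm` : a 2-subgroup of `M22:2` whose commutators take at most one nontrivial value has order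
  less than `2^7`.
-/

set_option autoImplicit false

namespace Cfsg.Agent.J4Type.FusionFact

open Cfsg Cfsg.Agent.J4Type Cfsg.Agent.J4Type.FusionM22 Cfsg.Agent.J4Type.FusionComm
open Cfsg.Agent.J4Type.FusionEA Cfsg.Agent.J4Type.FusionHex
open Cfsg.Agent.SporadicA.GolayBase Cfsg.Agent.SporadicA.OctadFix
open Cfsg.Agent.J4.M24InvolData Cfsg.Agent.J4.M24Invol
open scoped Pointwise

/-! ### (M1) -/

theorem fix_P1_octad : (Finset.univ.filter fun p : GolayPt =>
    pt (Cfsg.Agent.SporadicA.GolayPerm.papp P1 (idx p)) = p) ∈ octads := by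
  rw [mem_octads_iff]
  decide +kernel

theorem fact_inv : FactInv := by
  intro g hM hg h0 h1
  by_cases hg1 : g = 1
  · subst hg1
    exact ⟨hex0, FusionConj.isHex_hex0, fun p _ => rfl⟩
  obtain ⟨a, ha⟩ := invol_conj ⟨g, hM⟩ (Subtype.ext hg) (fun h => hg1 (congrArg Subtype.val h))
  have key : ∀ (v : M24), a * ⟨g, hM⟩ * a⁻¹ = v → ∀ p : GolayPt, g p = p ↔ v • (a • p) = a • p := by
    intro v hv p
    rw [← hv, mul_smul, mul_smul, inv_smul_smul, smul_left_cancel_iff]
    exact Iff.rfl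
  rcases ha with ha | ha
  · refine ⟨(a⁻¹ : M24) • (Finset.univ.filter fun p : GolayPt =>
      pt (Cfsg.Agent.SporadicA.GolayPerm.papp P1 (idx p)) = p), ⟨?_, ?_⟩, ?_⟩
    · exact Cfsg.Agent.SporadicStructure.OctadStabM24.smul_octad (a⁻¹ : M24).2 fix_P1_octad
    all_goals
      have hiff : ∀ p, p ∈ (a⁻¹ : M24) • (Finset.univ.filter fun p : GolayPt =>
          pt (Cfsg.Agent.SporadicA.GolayPerm.papp P1 (idx p)) = p) ↔ g p = p := by
        intro p
        rw [Finset.mem_inv_smul_finset_iff, Finset.mem_filter, key _ ha p,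
          Cfsg.Agent.SporadicStructure.M24El.el_smul_pt ok_P1]
        simp only [Finset.mem_univ, true_and]
    · intro p hp
      rw [hiff]
      simp only [base, Finset.mem_insert, Finset.mem_singleton] at hp
      rcases hp with rfl | rfl
      · exact h0
      · exact h1
    · intro p hp
      exact (hiff p).1 hp
  · exfalso
    have := (key _ ha none).1 h0
    rw [Cfsg.Agent.SporadicStructure.M24El.el_smul_pt ok_P2] at this
    exact fix_P2 _ this

/-! ### the inner part of a subgroup of `M22:2` -/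

/-- the elements of `B` fixing `none` -/
def inn (B : Subgroup (Equiv.Perm GolayPt)) : Subgroup (Equiv.Perm GolayPt) :=
  B ⊓ MulAction.stabilizer (Equiv.Perm GolayPt) (none : GolayPt)

theorem inn_none {B : Subgroup (Equiv.Perm GolayPt)} : ∀ g ∈ inn B, g none = none := fun _ hg => hg.2

theorem inn_zero {B : Subgroup (Equiv.Perm GolayPt)} (hB : B ≤ M22d) : ∀ g ∈ inn B, g (some 0) = some 0 := by
  intro g hg
  rcases (base_cases (hB hg.1)).2 with h | h
  · exact h.2
  · exact absurd (h.1.symm.trans (inn_none g hg)) (by decide)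

theorem card_le_inn {B : Subgroup (Equiv.Perm GolayPt)} (hB : B ≤ M22d) :
    Nat.card B ≤ 2 * Nat.card (inn B) := by
  by_cases hno : ∀ b ∈ B, b none = none
  · have : inn B = B := le_antisymm inf_le_left fun b hb => ⟨hb, hno b hb⟩
    rw [this]
    omega
  push Not at hno
  obtain ⟨b, hbB, hb⟩ := hno
  have hrel : ((inn B).subgroupOf B).index ≤ 2 := by
    rw [Subgroup.index_eq_two_iff.2]
    refine ⟨⟨b, hbB⟩, ?_⟩
    rintro ⟨g, hg⟩
    rw [Subgroup.mem_subgroupOf, Subgroup.mem_subgroupOf]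
    have hbn : b none = some 0 := by
      rcases (base_cases (hB hbB)).2 with h | h
      · exact absurd h.1 hb
      · exact h.1
    rcases (base_cases (hB hg)).2 with h | h
    · right
      refine ⟨⟨hg, h.1⟩, ?_⟩
      intro h2
      have h3 : (g * b) none = none := h2.2
      rw [Equiv.Perm.mul_apply, hbn, h.2] at h3
      exact absurd h3 (by decide)
    · left
      refine ⟨⟨B.mul_mem hg hbB, ?_⟩, ?_⟩
      · show (g * b) none = none
        rw [Equiv.Perm.mul_apply, hbn, h.2]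
      · intro h2
        have h3 : g none = none := h2.2
        rw [h.1] at h3
        exact absurd h3 (by decide)
  have h1 := Subgroup.card_mul_index ((inn B).subgroupOf B)
  have h2 : Nat.card ((inn B).subgroupOf B) = Nat.card (inn B) :=
    Nat.card_congr (Subgroup.subgroupOfEquivOfLe (inf_le_left : inn B ≤ B)).toEquiv
  rw [h2] at h1
  rw [← h1, mul_comm]
  exact Nat.mul_le_mul_right _ hrel

theorem isPGroup_of_sq {B : Subgroup (Equiv.Perm GolayPt)} (h : ∀ g ∈ B, g * g = 1) : IsPGroup 2 B := by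
  intro g
  refine ⟨1, ?_⟩
  rw [pow_one, pow_two]
  exact Subtype.ext (h _ g.2)

theorem exists_hex {B : Subgroup (Equiv.Perm GolayPt)} (hB : B ≤ M22d) (h2 : IsPGroup 2 B) :
    ∃ O, IsHex O ∧ ∀ g ∈ B, g • O = O := by
  obtain ⟨O, hO, h⟩ := exists_hexad B (fun g hg => (base_cases (hB hg)).1) h2
    (fun g hg => (base_cases (hB hg)).2)
  exact ⟨O, isHexad_iff.1 hO, h⟩

theorem none_mem {O : Finset GolayPt} (hO : IsHex O) : none ∈ O :=
  hO.2 (show (none : GolayPt) ∈ base by decide)

theorem zero_mem {O : Finset GolayPt} (hO : IsHex O) : some 0 ∈ O :=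
  hO.2 (show (some 0 : GolayPt) ∈ base by decide)

/-! ### (M2) -/

theorem exists_two_of_card {K : Subgroup (Equiv.Perm GolayPt)} (hK : 4 ≤ Nat.card K) :
    ∃ a ∈ K, ∃ b ∈ K, a ≠ 1 ∧ b ≠ 1 ∧ a ≠ b := by
  classical
  have hKf : Fintype K := Fintype.ofFinite K
  have h1 : 2 < (Finset.univ : Finset K).card := by
    rw [Finset.card_univ, ← Nat.card_eq_fintype_card]
    exact lt_of_lt_of_le (by norm_num) hK
  obtain ⟨k, -, hk1⟩ := Finset.exists_mem_ne (s := (Finset.univ : Finset K)) (by omega) 1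
  have h2 : (Finset.univ.erase (1 : K)).card = (Finset.univ : Finset K).card - 1 :=
    Finset.card_erase_of_mem (Finset.mem_univ _)
  obtain ⟨l, hl, hlk⟩ := Finset.exists_mem_ne (s := Finset.univ.erase (1 : K)) (by omega) k
  exact ⟨k, k.2, l, l.2, fun h => hk1 (Subtype.ext h), fun h => (Finset.mem_erase.1 hl).1 (Subtype.ext h),
    fun h => hlk (Subtype.ext h.symm)⟩

/-- (M2) -/
theorem fix_hex (B : Subgroup (Equiv.Perm GolayPt)) (hB : B ≤ M22d) (hsq : ∀ a ∈ B, a * a = 1)
    (hcard : 2 ^ 5 ≤ Nat.card B) :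
    ∃ O, IsHex O ∧ (∀ b ∈ B, b • O = O) ∧ ∃ b₁ ∈ B, ∃ b₂ ∈ B, b₁ ≠ 1 ∧ b₂ ≠ 1 ∧ b₁ ≠ b₂ ∧
      (∀ p ∈ O, b₁ p = p) ∧ ∀ p ∈ O, b₂ p = p := by
  obtain ⟨O, hO, hBO⟩ := exists_hex hB (isPGroup_of_sq hsq)
  have h1 := card_le_inn hB
  have h2 := card_le_four_mul (inn B) (fun g hg => (base_cases (hB hg.1)).1) (fun g hg => hsq g hg.1) hO.1
    (fun g hg => hBO g hg.1) (none_mem hO) (zero_mem hO) (by decide) inn_none (inn_zero hB)
  have hK : 4 ≤ Nat.card (inn B ⊓ fixOct O : Subgroup (Equiv.Perm GolayPt)) := by omega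
  obtain ⟨a, ha, b, hb, ha1, hb1, hab⟩ := exists_two_of_card hK
  exact ⟨O, hO, hBO, a, ha.1.1, b, hb.1.1, ha1, hb1, hab, (mem_fixOct.1 ha.2).2, (mem_fixOct.1 hb.2).2⟩

/-! ### (M3) -/

/-- the order of the group induced by a 2-group on a hexad is at most 8 -/
theorem card_le_eight_mul {S : Subgroup (Equiv.Perm GolayPt)} (hS : S ≤ M24) (h2 : IsPGroup 2 S)
    {O : Finset GolayPt} (hO : O ∈ octads) (hSO : ∀ g ∈ S, g • O = O) {p q : GolayPt} (hp : p ∈ O)
    (hq : q ∈ O) (hpq : p ≠ q) (hSp : ∀ g ∈ S, g p = p) (hSq : ∀ g ∈ S, g q = q) :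
    Nat.card S ≤ 8 * Nat.card (S ⊓ fixOct O : Subgroup (Equiv.Perm GolayPt)) := by
  classical
  have hst : ∀ g ∈ S, ∀ x, g x ∈ O ↔ x ∈ O := fun g hg => mem_iff_of_smul_eq (hSO g hg)
  let pr : ↥O → Prop := fun x => (x : GolayPt) ≠ p ∧ (x : GolayPt) ≠ q
  have hpr : ∀ g (hg : g ∈ S) (x : ↥O), pr (g.subtypePerm (hst g hg) x) ↔ pr x := by
    intro g hg x
    have h1 : ∀ y, g y = p ↔ y = p := fun y =>
      ⟨fun h => g.injective (h.trans (hSp g hg).symm), fun h => by rw [h, hSp g hg]⟩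
    have h2 : ∀ y, g y = q ↔ y = q := fun y =>
      ⟨fun h => g.injective (h.trans (hSq g hg).symm), fun h => by rw [h, hSq g hg]⟩
    show (g x ≠ p ∧ g x ≠ q) ↔ ((x : GolayPt) ≠ p ∧ (x : GolayPt) ≠ q)
    rw [Ne, Ne, h1, h2]
  let f : S →* Equiv.Perm {x : ↥O // pr x} :=
    { toFun := fun g => ((g : Equiv.Perm GolayPt).subtypePerm (hst g g.2)).subtypePerm (hpr g g.2)
      map_one' := by ext x; rfl
      map_mul' := by intro a b; ext x; rfl }
  have hfx : ∀ (g : S) (x : {x : ↥O // pr x}), (((f g x : {x : ↥O // pr x}) : ↥O) : GolayPt) =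
      (g : Equiv.Perm GolayPt) x := fun g x => rfl
  have hsign : ∀ g : S, f g ∈ alternatingGroup {x : ↥O // pr x} := by
    intro g
    rw [Equiv.Perm.mem_alternatingGroup]
    show Equiv.Perm.sign (((g : Equiv.Perm GolayPt).subtypePerm (hst g g.2)).subtypePerm (hpr g g.2)) = 1
    rw [Equiv.Perm.sign_subtypePerm]
    · exact sign_octad hO (hS g.2) _
    · intro x hx
      constructor
      · intro h
        apply hx
        apply Subtype.ext
        show (g : Equiv.Perm GolayPt) x = x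
        rw [h, hSp g g.2]
      · intro h
        apply hx
        apply Subtype.ext
        show (g : Equiv.Perm GolayPt) x = x
        rw [h, hSq g g.2]
  have hT : Fintype.card {x : ↥O // pr x} = 6 := by
    rw [Fintype.card_subtype]
    have h1 : (Finset.univ.filter pr) = Finset.univ \ {⟨p, hp⟩, ⟨q, hq⟩} := by
      ext x
      simp only [pr, Finset.mem_filter, Finset.mem_univ, true_and, Finset.mem_sdiff, Finset.mem_insert,
        Finset.mem_singleton, not_or, Subtype.ext_iff, ne_eq]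
    rw [h1, Finset.card_sdiff_of_subset (Finset.subset_univ _), Finset.card_univ, Fintype.card_coe,
      octad_card hO, Finset.card_pair (fun h => hpq (congrArg Subtype.val h))]
  have hA : Nat.card (alternatingGroup {x : ↥O // pr x}) = 360 := by
    have : Nontrivial {x : ↥O // pr x} := Fintype.one_lt_card_iff_nontrivial.1 (by rw [hT]; norm_num)
    have h1 := nat_card_alternatingGroup (α := {x : ↥O // pr x})
    rw [Nat.card_eq_fintype_card (α := {x : ↥O // pr x}), hT] at h1
    rw [h1]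
    rfl
  have hrange : f.range ≤ alternatingGroup {x : ↥O // pr x} := by
    rintro _ ⟨g, rfl⟩
    exact hsign g
  have hd : Nat.card f.range ∣ 360 := by
    rw [← hA]
    exact Subgroup.card_dvd_of_le hrange
  have hr2 : IsPGroup 2 f.range := h2.of_surjective f.rangeRestrict f.rangeRestrict_surjective
  have : Fact (Nat.Prime 2) := ⟨Nat.prime_two⟩
  obtain ⟨n, hn⟩ := IsPGroup.iff_card.1 hr2
  have hr8 : Nat.card f.range ≤ 8 := by
    rw [hn] at hd ⊢
    have : n ≤ 3 := by
      by_contra h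
      have h1 : 2 ^ 4 ∣ 2 ^ n := pow_dvd_pow 2 (by omega)
      exact absurd (h1.trans hd) (by norm_num)
    calc 2 ^ n ≤ 2 ^ 3 := Nat.pow_le_pow_right (by norm_num) this
      _ = 8 := by norm_num
  have hker : Nat.card f.ker = Nat.card (S ⊓ fixOct O : Subgroup (Equiv.Perm GolayPt)) := by
    have key : ∀ g : S, f g = 1 ↔ (g : Equiv.Perm GolayPt) ∈ fixOct O := by
      intro g
      rw [mem_fixOct]
      constructor
      · intro h
        refine ⟨hS g.2, fun x hx => ?_⟩
        by_cases hxp : x = p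
        · rw [hxp, hSp g g.2]
        by_cases hxq : x = q
        · rw [hxq, hSq g g.2]
        exact congrArg (fun e : Equiv.Perm {x : ↥O // pr x} =>
          (((e ⟨⟨x, hx⟩, hxp, hxq⟩ : {x : ↥O // pr x}) : ↥O) : GolayPt)) h
      · rintro ⟨-, h⟩
        apply Equiv.ext
        intro x
        apply Subtype.ext
        apply Subtype.ext
        exact h _ x.1.2
    refine Nat.card_congr
      { toFun := fun g => ⟨(g : S), (g : S).2, (key _).1 g.2⟩
        invFun := fun g => ⟨⟨g.1, g.2.1⟩, (key _).2 g.2.2⟩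
        left_inv := fun g => rfl
        right_inv := fun g => rfl }
  rw [← Subgroup.card_mul_index f.ker, Subgroup.index_ker, hker, mul_comm]
  exact Nat.mul_le_mul_right _ hr8

/-- (M3) -/
theorem fact_comm : FactComm := by
  classical
  rintro B hB h2 ⟨c, hc⟩
  by_contra hcon
  push Not at hcon
  obtain ⟨O, hO, hBO⟩ := exists_hex hB h2
  have hM : ∀ g ∈ inn B, g ∈ M24 := fun g hg => (base_cases (hB hg.1)).1
  have h64 : 64 ≤ Nat.card (inn B) := by
    have := card_le_inn hB
    omega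
  set K := (inn B ⊓ fixOct O : Subgroup (Equiv.Perm GolayPt)) with hK
  have hK16 : Nat.card K ≤ 16 := by
    rw [← card_fixOct hO.1]
    exact Nat.card_mono (Set.toFinite _) (inf_le_right : K ≤ fixOct O)
  have h8 : Nat.card (inn B) ≤ 8 * Nat.card K :=
    card_le_eight_mul hM (h2.to_le inf_le_left) hO.1 (fun g hg => hBO g hg.1) (none_mem hO) (zero_mem hO)
      (by decide) inn_none (inn_zero hB)
  -- the centraliser of `b` in `K` has index at most 2
  have hidx : ∀ b ∈ inn B, ∃ D : Subgroup (Equiv.Perm GolayPt), D ≤ fixOct O ∧ (∀ d ∈ D, d * b = b * d) ∧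
      Nat.card K ≤ 2 * Nat.card D := by
    intro b hb
    let D : Subgroup (Equiv.Perm GolayPt) := K ⊓ Subgroup.centralizer ({b} : Set (Equiv.Perm GolayPt))
    refine ⟨D, inf_le_left.trans inf_le_right, fun d hd => Subgroup.mem_centralizer_singleton_iff.1 hd.2, ?_⟩
    by_cases hall : ∀ k ∈ K, k * b = b * k
    · have : D = K := le_antisymm inf_le_left fun k hk =>
        ⟨hk, Subgroup.mem_centralizer_singleton_iff.2 (hall k hk)⟩
      rw [this]
      omega
    push Not at hall
    obtain ⟨k, hkK, hk⟩ := hall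
    have hcomm : ∀ a ∈ K, a * b ≠ b * a → a * b * a⁻¹ = c⁻¹ * b := by
      intro a ha hab
      rcases hc a ha.1.1 b hb.1 with h | h
      · exact absurd (by rw [mul_inv_eq_one, mul_inv_eq_iff_eq_mul] at h; exact h) hab
      · rw [mul_eq_one_iff_eq_inv, mul_inv_eq_iff_eq_mul] at h
        exact h
    have hrel : (D.subgroupOf K).index ≤ 2 := by
      rw [Subgroup.index_eq_two_iff'.2]
      refine ⟨⟨k, hkK⟩, ?_⟩
      rintro ⟨a, ha⟩
      rw [Subgroup.mem_subgroupOf, Subgroup.mem_subgroupOf]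
      by_cases hab : a * b = b * a
      · right
        refine ⟨⟨ha, Subgroup.mem_centralizer_singleton_iff.2 hab⟩, ?_⟩
        intro h
        have h1 : (k * a) * b = b * (k * a) := Subgroup.mem_centralizer_singleton_iff.1 h.2
        apply hk
        have h3 : k * b * a = b * k * a := by
          rw [mul_assoc, ← hab, ← mul_assoc, h1, mul_assoc]
        exact mul_right_cancel h3
      · left
        refine ⟨⟨K.mul_mem hkK ha, Subgroup.mem_centralizer_singleton_iff.2 ?_⟩, ?_⟩
        · -- `k a` centralises `b`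
          have hkk : k⁻¹ = k := (eq_inv_of_mul_eq_one_left (fixOct_sq hO.1 hkK.2)).symm
          have h1 := hcomm a ha hab
          have h3 := hcomm k hkK hk
          have h4 : k⁻¹ * (a * b * a⁻¹) * k = b := by
            rw [h1, ← h3]; group
          have h5 : a * b = k * b * k⁻¹ * a := by
            calc a * b = k * (k⁻¹ * (a * b * a⁻¹) * k) * k⁻¹ * a := by group
              _ = k * b * k⁻¹ * a := by rw [h4]
          show k * a * b = b * (k * a)
          rw [mul_assoc, h5, ← mul_assoc, ← mul_assoc, ← mul_assoc]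
          have h6 : k * k = 1 := fixOct_sq hO.1 hkK.2
          rw [h6, one_mul, hkk, mul_assoc]
        · intro h
          exact hab (Subgroup.mem_centralizer_singleton_iff.1 h.2)
    have h1 := Subgroup.card_mul_index (D.subgroupOf K)
    have h3 : Nat.card (D.subgroupOf K) = Nat.card D :=
      Nat.card_congr (Subgroup.subgroupOfEquivOfLe (inf_le_left : D ≤ K)).toEquiv
    rw [h3] at h1
    rw [← h1, mul_comm]
    exact Nat.mul_le_mul_right _ hrel
  by_cases hsq : ∀ b ∈ inn B, ∀ x ∈ O, b (b x) = x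
  · -- elementary abelian on `O`
    have h4 := card_le_four_mul' (inn B) hM hO.1 hsq (fun g hg => hBO g hg.1) (none_mem hO) (zero_mem hO)
      (by decide) inn_none (inn_zero hB)
    change Nat.card (inn B) ≤ 4 * Nat.card K at h4
    obtain ⟨b, hb, hbO⟩ : ∃ b ∈ inn B, ¬ ∀ x ∈ O, b x = x := by
      by_contra hno
      push Not at hno
      have : K = inn B := le_antisymm inf_le_left fun b hb => ⟨hb, mem_fixOct.2 ⟨hM b hb, hno b hb⟩⟩
      rw [this] at hK16
      omega
    obtain ⟨D, hD, hDb, hDc⟩ := hidx b hb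
    have h5 := card_comm_le_four hO.1 D hD (hM b hb) (hBO b hb.1) hDb (none_mem hO) (zero_mem hO)
      (by decide) (inn_none b hb) (inn_zero hB b hb) (hsq b hb) hbO
    omega
  · push Not at hsq
    obtain ⟨b, hb, x, hx, hbx⟩ := hsq
    obtain ⟨D, hD, hDb, hDc⟩ := hidx b hb
    obtain ⟨k, hk⟩ := h2 ⟨b, hb.1⟩
    have hk' : b ^ 2 ^ k = 1 := congrArg Subtype.val hk
    have h5 := card_comm_le_two hO.1 D hD (hM b hb) (hBO b hb.1) hDb hk' (none_mem hO) (zero_mem hO)
      (by decide) (inn_none b hb) (inn_zero hB b hb) (fun h => hbx (h x hx))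
    omega

end Cfsg.Agent.J4Type.FusionFact
end
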