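import Cfsg.Agent.J4Type.VCoord
import Cfsg.Agent.J4Type.HexPerms
import Cfsg.Agent.J4Type.NormRho
import Cfsg.Agent.J4Type.HexMax
import Cfsg.Agent.SporadicStructure.OctadStabFinal
import Mathlib
import Cfsg.Agent.J4Type.FusionFact
import Cfsg.Agent.J4Type.Conj
import Cfsg.Agent.LargeExtra.Base
import Cfsg.Agent.J4Type.FusionConj
import Cfsg.Agent.SporadicA.FieldFour
import Mathlib.Algebra.Group.Basic
import Mathlib.Data.ZMod.Basic
set_option linter.all false

-- part: J4Type/ECoord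
section
/-!
# Canonical lifts (part (c), helper233)

From the coordinates `VCoord H` of `V = Q/⟨z⟩` we pass to exact formulas in `Q`: the lifts
`s a`, `s' c` of `(a; 0)` and `(0; c)` with `x · x^ρ · x^(ρ²) = 1`.
-/

set_option autoImplicit false

namespace Cfsg.Agent.J4Type

open SporadicA.FieldFour (F4)
open VCoord HexPerms

namespace ECoord

section zp

variable {G : Type*} [Group G]

/-- `z ^ t`, `t ∈ F₂` -/
def zp (z : G) (t : ZMod 2) : G := z ^ t.val

theorem zp_zero (z : G) : zp z 0 = 1 := by simp [zp]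

theorem zp_one (z : G) : zp z 1 = z := by
  show z ^ (1 : ZMod 2).val = z
  rw [show (1 : ZMod 2).val = 1 from rfl, pow_one]

theorem zmod2_cases (t : ZMod 2) : t = 0 ∨ t = 1 := by
  revert t; decide

theorem zp_add {z : G} (hz : z * z = 1) (s t : ZMod 2) : zp z (s + t) = zp z s * zp z t := by
  rcases zmod2_cases s with rfl | rfl <;> rcases zmod2_cases t with rfl | rfl
  · simp [zp_zero]
  · simp [zp_zero]
  · simp [zp_zero]
  · rw [show (1 : ZMod 2) + 1 = 0 from rfl, zp_zero, zp_one, hz]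

theorem zp_sq {z : G} (hz : z * z = 1) (s : ZMod 2) : zp z s * zp z s = 1 := by
  rw [← zp_add hz, show s + s = 0 by revert s; decide, zp_zero]

theorem zp_inv {z : G} (hz : z * z = 1) (s : ZMod 2) : (zp z s)⁻¹ = zp z s :=
  inv_eq_of_mul_eq_one_left (zp_sq hz s)

theorem zp_comm {z x : G} (h : x * z = z * x) (t : ZMod 2) : x * zp z t = zp z t * x :=
  (Commute.pow_right (show Commute x z from h) _)

theorem zp_inj {z : G} (h1 : z ≠ 1) {s t : ZMod 2} (h : zp z s = zp z t) : s = t := by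
  rcases zmod2_cases s with rfl | rfl <;> rcases zmod2_cases t with rfl | rfl
  · rfl
  · rw [zp_zero, zp_one] at h; exact absurd h.symm h1
  · rw [zp_zero, zp_one] at h; exact absurd h h1
  · rfl

theorem exists_zp {z x y : G} (h : x = y ∨ x = z * y) : ∃ t, x = zp z t * y := by
  rcases h with h | h
  · exact ⟨0, by rw [zp_zero, one_mul]; exact h⟩
  · exact ⟨1, by rw [zp_one]; exact h⟩

theorem zp_cases (z : G) (t : ZMod 2) : zp z t = 1 ∨ zp z t = z := by
  rcases zmod2_cases t with rfl | rfl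
  · left; exact zp_zero z
  · right; exact zp_one z

end zp

/-! ### The canonical lift `can x = x^ρ · x^(ρ²)` of the vector of an involution `x` of `Q` -/

section can

variable {G : Type*} [Group G]

/-- conjugation by `r`, twice, multiplied -/
def can (r x : G) : G := (r * x * r⁻¹) * (r * (r * x * r⁻¹) * r⁻¹)

theorem can_conj {r f : G} (hf : f * r = r * f) (x : G) : can r (f * x * f⁻¹) = f * can r x * f⁻¹ := by
  have h1 : ∀ y : G, r * (f * y * f⁻¹) * r⁻¹ = f * (r * y * r⁻¹) * f⁻¹ := by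
    intro y
    have h2 : f⁻¹ * r⁻¹ = r⁻¹ * f⁻¹ := by
      rw [← mul_inv_rev, ← mul_inv_rev, hf]
    calc r * (f * y * f⁻¹) * r⁻¹ = (r * f) * y * (f⁻¹ * r⁻¹) := by group
      _ = (f * r) * y * (r⁻¹ * f⁻¹) := by rw [← hf, h2]
      _ = f * (r * y * r⁻¹) * f⁻¹ := by group
  unfold can
  rw [h1, h1]
  group

theorem can_mul_of {z r x y : G} (hz : ∀ g : G, g = r * y * r⁻¹ ∨ g = r * x * r⁻¹ → g * z = z * g)
    {t : ZMod 2}
    (h : (r * y * r⁻¹) * (r * (r * x * r⁻¹) * r⁻¹) =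
      zp z t * ((r * (r * x * r⁻¹) * r⁻¹) * (r * y * r⁻¹))) :
    can r (x * y) = zp z t * (can r x * can r y) := by
  have h1 : can r (x * y) = (r * x * r⁻¹) * ((r * y * r⁻¹) * (r * (r * x * r⁻¹) * r⁻¹)) *
      (r * (r * y * r⁻¹) * r⁻¹) := by
    unfold can; group
  rw [h1, h, ← mul_assoc (r * x * r⁻¹) (zp z t), zp_comm (hz _ (Or.inr rfl))]
  unfold can
  group

theorem can_zp_mul {z r : G} (hz : z * z = 1) (hr : r * z = z * r) {x : G} (hx : x * z = z * x)
    (t : ZMod 2) : can r (zp z t * x) = can r x := by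
  have h1 : ∀ y : G, r * (zp z t * y) * r⁻¹ = zp z t * (r * y * r⁻¹) := by
    intro y
    rw [← mul_assoc, zp_comm hr]
    group
  have h2 : (r * x * r⁻¹) * z = z * (r * x * r⁻¹) := by
    have hr' : r⁻¹ * z = z * r⁻¹ := (Commute.inv_left (show Commute r z from hr))
    calc (r * x * r⁻¹) * z = r * x * (r⁻¹ * z) := by group
      _ = r * (x * z) * r⁻¹ := by rw [hr']; group
      _ = (r * z) * x * r⁻¹ := by rw [hx]; group
      _ = z * (r * x * r⁻¹) := by rw [hr]; group
  unfold can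
  rw [h1, h1]
  calc zp z t * (r * x * r⁻¹) * (zp z t * (r * (r * x * r⁻¹) * r⁻¹))
      = zp z t * ((r * x * r⁻¹) * zp z t) * (r * (r * x * r⁻¹) * r⁻¹) := by group
    _ = (zp z t * zp z t) * ((r * x * r⁻¹) * (r * (r * x * r⁻¹) * r⁻¹)) := by
        rw [zp_comm h2]; group
    _ = _ := by rw [zp_sq hz, one_mul]

end can

/-! ### Arithmetic of `F₄` -/

theorem f4_add_self (x : F4) : x + x = 0 := by cases x <;> rfl

theorem f43_add_self (a : F43) : a + a = 0 := by
  funext k; exact f4_add_self (a k)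

theorem w_add_v (a : F43) : sc .w a + sc .w (sc .w a) = a := by
  funext k
  show F4.w * a k + F4.w * (F4.w * a k) = a k
  generalize a k = x
  cases x <;> rfl

theorem sc_add (x : F4) (a b : F43) : sc x (a + b) = sc x a + sc x b := by
  funext k; exact mul_add x (a k) (b k)

theorem sc_zero (x : F4) : sc x 0 = 0 := by
  funext k; exact mul_zero x

theorem hp3_zero_left (c : F43) : hp3 0 c = 0 := by
  show (0 : F4) * _ + 0 * _ + 0 * _ = 0
  rw [zero_mul, zero_mul, zero_mul]; rfl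

theorem hp3_zero_right (a : F43) : hp3 a 0 = 0 := by
  show a 0 * cj 0 + a 1 * cj 0 + a 2 * cj 0 = 0
  rw [show cj 0 = 0 from rfl, mul_zero, mul_zero, mul_zero]; rfl

theorem cj_add (x y : F4) : cj (x + y) = cj x + cj y := by cases x <;> cases y <;> rfl

theorem cj_mul (x y : F4) : cj (x * y) = cj x * cj y := by cases x <;> cases y <;> rfl

theorem tr_add (x y : F4) : tr (x + y) = tr x + tr y := by cases x <;> cases y <;> rfl

theorem hp3_add_left (a b c : F43) : hp3 (a + b) c = hp3 a c + hp3 b c := by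
  simp only [hp3, Pi.add_apply]; ring

theorem hp3_add_right (a c d : F43) : hp3 a (c + d) = hp3 a c + hp3 a d := by
  simp only [hp3, Pi.add_apply, cj_add]; ring

theorem hp3_sc_left (x : F4) (a c : F43) : hp3 (sc x a) c = x * hp3 a c := by
  simp only [hp3, sc]; ring

theorem hp3_sc_right (x : F4) (a c : F43) : hp3 a (sc x c) = cj x * hp3 a c := by
  simp only [hp3, sc, cj_mul]; ring

theorem hp3_swap (a c : F43) : hp3 c a = cj (hp3 a c) := by
  have h : ∀ x : F4, cj (cj x) = x := by intro x; cases x <;> rfl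
  simp only [hp3, cj_add, cj_mul, h]; ring

/-- `h((f-1)c, c) = N(γᵢ) + N(γⱼ)` -/
theorem hp3_act (c : F43) (i j : Fin 6) :
    tr (F4.v * hp3 (sc (gam c i) (hv i) + sc (gam c j) (hv j)) c) = nm (gam c i) + nm (gam c j) := by
  rw [hp3_add_left, hp3_sc_left, hp3_sc_left, hp3_swap c, hp3_swap c]
  show tr (F4.v * (gam c i * cj (gam c i) + gam c j * cj (gam c j))) = _
  generalize gam c i = x
  generalize gam c j = y
  cases x <;> cases y <;> rfl

theorem tr_hp3_act (c : F43) (i j : Fin 6) :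
    tr (hp3 (sc (gam c i) (hv i) + sc (gam c j) (hv j)) c) = 0 := by
  rw [hp3_add_left, hp3_sc_left, hp3_sc_left, hp3_swap c, hp3_swap c]
  show tr (gam c i * cj (gam c i) + gam c j * cj (gam c j)) = _
  generalize gam c i = x
  generalize gam c j = y
  cases x <;> cases y <;> rfl

end ECoord

/-! ### The structure `ECoord` -/

open ECoord

/-- Exact coordinates on `Q` (and on `E hex0`). -/
structure ECoord {G : Type*} [Group G] (H : Hex G) where
  s : F43 → G
  s' : F43 → G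
  s_Q : ∀ a, s a ∈ H.Q
  s'_Q : ∀ a, s' a ∈ H.Q
  s_E : ∀ a, s a ∈ H.E hex0
  s'_E : ∀ a, s' a ∈ H.E hex1
  s_add : ∀ a b, s (a + b) = s a * s b
  s'_add : ∀ a b, s' (a + b) = s' a * s' b
  s_rho : ∀ a, H.ρ * s a * H.ρ⁻¹ = s (sc .w a)
  s'_rho : ∀ a, H.ρ * s' a * H.ρ⁻¹ = s' (sc .w a)
  inj : ∀ a c t, s a * s' c = zp H.z t → a = 0 ∧ c = 0
  comm : ∀ a c, s' c * s a = zp H.z (tr (hp3 a c)) * (s a * s' c)
  act : ∀ f : Subgroup.centralizer ({H.z} : Set G), (f : G) ∈ H.E hex0 →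
    (f : G) * H.ρ = H.ρ * f → ∀ i j, i ≠ j → H.P f (hp i) = hp j → ∀ c,
      (f : G) * s' c * (f : G)⁻¹ = zp H.z (nm (gam c i) + nm (gam c j)) *
        (s' c * s (sc (gam c i) (hv i) + sc (gam c j) (hv j)))

section

variable {G : Type*} [Group G]

theorem ECoord.zz (H : Hex G) : H.z * H.z = 1 := NormRho.z_sq' H.toCent

theorem ECoord.z_ne (H : Hex G) : H.z ≠ 1 := NormRho.z_ne' H.toCent

theorem ECoord.comm_z (H : Hex G) {q : G} (hq : q ∈ H.Q) : q * H.z = H.z * q :=
  NormRho.Q_comm_z H.toCent hq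

theorem ECoord.rho_conj_mem (H : Hex G) {q : G} (hq : q ∈ H.Q) : H.ρ * q * H.ρ⁻¹ ∈ H.Q :=
  NormRho.rho_mem H.toCent hq

variable {H : Hex G} (C : VCoord H)

namespace VCoord

include C

theorem cz (a c : F43) : C.v a c * H.z = H.z * C.v a c := comm_z H (C.v_mem a c)

theorem add (a c a' c' : F43) : ∃ t, C.v (a + a') (c + c') = zp H.z t * (C.v a c * C.v a' c') :=
  exists_zp (C.v_add a c a' c')

theorem comm (a c a' c' : F43) :
    C.v a c * C.v a' c' = zp H.z (tr (hp3 a c' + hp3 a' c)) * (C.v a' c' * C.v a c) := by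
  obtain ⟨t, ht⟩ := C.add a c a' c'
  have h1 := C.v_sq (a + a') (c + c')
  have hx := C.v_sq a c
  have hy := C.v_sq a' c'
  have hcx := C.cz a c
  have hcy := C.cz a' c'
  set x := C.v a c with hxdef
  set y := C.v a' c' with hydef
  have hxy : x * y * H.z = H.z * (x * y) := by
    rw [mul_assoc, hcy, ← mul_assoc, hcx, mul_assoc]
  have h2 : x * y * (x * y) = H.z ^ (tr (hp3 (a + a') (c + c'))).val := by
    rw [← h1, ht]
    calc x * y * (x * y) = (zp H.z t * zp H.z t) * (x * y * (x * y)) := by rw [zp_sq (zz H), one_mul]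
      _ = zp H.z t * (zp H.z t * (x * y)) * (x * y) := by group
      _ = zp H.z t * ((x * y) * zp H.z t) * (x * y) := by rw [zp_comm hxy]
      _ = _ := by group
  have h3 : tr (hp3 (a + a') (c + c')) = tr (hp3 a c) + tr (hp3 a c' + hp3 a' c) + tr (hp3 a' c') := by
    rw [hp3_add_left, hp3_add_right, hp3_add_right, tr_add, tr_add, tr_add, tr_add]
    ring
  change x * y * (x * y) = zp H.z _ at h2
  change x * x = zp H.z _ at hx
  change y * y = zp H.z _ at hy
  rw [h3, zp_add (zz H), zp_add (zz H), ← hx, ← hy] at h2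
  -- x y x y = x x z^s y y
  have h4 : y * x * y = x * zp H.z (tr (hp3 a c' + hp3 a' c)) * y * y := by
    apply mul_left_cancel (a := x)
    calc x * (y * x * y) = x * y * (x * y) := by group
      _ = _ := by rw [h2]; group
  have h5 : y * x = x * zp H.z (tr (hp3 a c' + hp3 a' c)) * y := mul_right_cancel h4
  rw [h5, zp_comm hcx]
  calc x * y = (zp H.z (tr (hp3 a c' + hp3 a' c)) * zp H.z (tr (hp3 a c' + hp3 a' c))) * (x * y) := by
        rw [zp_sq (zz H), one_mul]
    _ = _ := by group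

theorem rho (a c : F43) : ∃ t, H.ρ * C.v a c * H.ρ⁻¹ = zp H.z t * C.v (sc .w a) (sc .w c) :=
  exists_zp (C.v_rho a c)

theorem rho2 (a c : F43) : ∃ t, H.ρ * (H.ρ * C.v a c * H.ρ⁻¹) * H.ρ⁻¹ =
    zp H.z t * C.v (sc .w (sc .w a)) (sc .w (sc .w c)) := by
  obtain ⟨t, ht⟩ := C.rho a c
  obtain ⟨u, hu⟩ := C.rho (sc .w a) (sc .w c)
  refine ⟨t + u, ?_⟩
  rw [ht, zp_add (zz H), mul_assoc (zp H.z t), ← hu, ← mul_assoc, zp_comm H.ρ_comm]
  group

/-- the canonical lift is a lift -/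
theorem can_eq (a c : F43) : ∃ t, can H.ρ (C.v a c) = zp H.z t * C.v a c := by
  obtain ⟨t, ht⟩ := C.rho a c
  obtain ⟨u, hu⟩ := C.rho2 a c
  obtain ⟨r, hr⟩ := C.add (sc .w a) (sc .w c) (sc .w (sc .w a)) (sc .w (sc .w c))
  rw [w_add_v, w_add_v] at hr
  refine ⟨t + u + r, ?_⟩
  unfold can
  have hc := C.cz (sc .w a) (sc .w c)
  rw [hu, ht, hr, zp_add (zz H), zp_add (zz H)]
  set x := C.v (sc .w a) (sc .w c)
  set y := C.v (sc .w (sc .w a)) (sc .w (sc .w c))
  calc zp H.z t * x * (zp H.z u * y) = zp H.z t * (x * zp H.z u) * y := by group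
    _ = zp H.z t * zp H.z u * (x * y) := by rw [zp_comm hc]; group
    _ = zp H.z t * zp H.z u * (zp H.z r * zp H.z r) * (x * y) := by rw [zp_sq (zz H), mul_one]
    _ = _ := by group

/-- general multiplication rule for the canonical lifts -/
theorem can_mul (a c a' c' : F43) :
    can H.ρ (C.v a c * C.v a' c') =
      zp H.z (tr (hp3 (sc .w a') (sc .w (sc .w c)) + hp3 (sc .w (sc .w a)) (sc .w c'))) *
        (can H.ρ (C.v a c) * can H.ρ (C.v a' c')) := by
  apply can_mul_of (z := H.z)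
  · rintro g (rfl | rfl)
    · exact comm_z H (rho_conj_mem H (C.v_mem _ _))
    · exact comm_z H (rho_conj_mem H (C.v_mem _ _))
  · obtain ⟨t, ht⟩ := C.rho a' c'
    obtain ⟨u, hu⟩ := C.rho2 a c
    have hcm := C.comm (sc .w a') (sc .w c') (sc .w (sc .w a)) (sc .w (sc .w c))
    have hcx := C.cz (sc .w a') (sc .w c')
    have hcy := C.cz (sc .w (sc .w a)) (sc .w (sc .w c))
    rw [ht, hu]
    set x := C.v (sc .w a') (sc .w c')
    set y := C.v (sc .w (sc .w a)) (sc .w (sc .w c))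
    have e1 : zp H.z t * x * (zp H.z u * y) = zp H.z t * zp H.z u * (x * y) := by
      rw [mul_assoc, ← mul_assoc x, zp_comm hcx]; group
    have e2 : zp H.z u * y * (zp H.z t * x) = zp H.z t * zp H.z u * (y * x) := by
      have : zp H.z u * zp H.z t = zp H.z t * zp H.z u := by
        rw [← zp_add (zz H), ← zp_add (zz H), add_comm]
      rw [← this, mul_assoc, ← mul_assoc y, zp_comm hcy]; group
    rw [e1, e2, hcm]
    generalize tr (hp3 (sc .w a') (sc .w (sc .w c)) + hp3 (sc .w (sc .w a)) (sc .w c')) = k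
    have : zp H.z t * zp H.z u * zp H.z k = zp H.z k * (zp H.z t * zp H.z u) := by
      rw [← zp_add (zz H), ← zp_add (zz H), ← zp_add (zz H), add_comm]
    rw [← mul_assoc, this]; group

theorem can_add (a c a' c' : F43) :
    can H.ρ (C.v (a + a') (c + c')) =
      zp H.z (tr (hp3 (sc .w a') (sc .w (sc .w c)) + hp3 (sc .w (sc .w a)) (sc .w c'))) *
        (can H.ρ (C.v a c) * can H.ρ (C.v a' c')) := by
  obtain ⟨t, ht⟩ := C.add a c a' c'
  rw [ht, can_zp_mul (zz H) H.ρ_comm, C.can_mul]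
  rw [mul_assoc, C.cz, ← mul_assoc, C.cz, mul_assoc]

theorem rho_can (a c : F43) : H.ρ * can H.ρ (C.v a c) * H.ρ⁻¹ = can H.ρ (C.v (sc .w a) (sc .w c)) := by
  obtain ⟨t, ht⟩ := C.rho a c
  rw [← can_conj rfl, ht, can_zp_mul (zz H) H.ρ_comm (C.cz _ _)]

/-- the exact coordinates -/
def toECoord : ECoord H where
  s a := can H.ρ (C.v a 0)
  s' c := can H.ρ (C.v 0 c)
  s_Q a := H.Q.mul_mem (rho_conj_mem H (C.v_mem _ _)) (rho_conj_mem H (rho_conj_mem H (C.v_mem _ _)))
  s'_Q a := H.Q.mul_mem (rho_conj_mem H (C.v_mem _ _)) (rho_conj_mem H (rho_conj_mem H (C.v_mem _ _)))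
  s_E a := by
    obtain ⟨t, ht⟩ := C.can_eq a 0
    rw [ht]
    refine (H.E hex0).mul_mem ?_ (C.v_E0 a)
    rcases zp_cases H.z t with h | h
    · rw [h]; exact one_mem _
    · rw [h]; exact H.z_mem_E _ hex0_isHex
  s'_E a := by
    obtain ⟨t, ht⟩ := C.can_eq 0 a
    rw [ht]
    refine (H.E hex1).mul_mem ?_ (C.v_E1 a)
    rcases zp_cases H.z t with h | h
    · rw [h]; exact one_mem _
    · rw [h]; exact H.z_mem_E _ hex1_isHex
  s_add a b := by
    have h := C.can_add a 0 b 0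
    rw [add_zero, sc_zero, sc_zero, hp3_zero_right, hp3_zero_right, add_zero,
      show tr 0 = 0 from rfl, zp_zero, one_mul] at h
    exact h
  s'_add a b := by
    have h := C.can_add 0 a 0 b
    rw [add_zero, sc_zero, sc_zero, hp3_zero_left, hp3_zero_left, add_zero,
      show tr 0 = 0 from rfl, zp_zero, one_mul] at h
    exact h
  s_rho a := by
    have h := C.rho_can a 0
    rw [sc_zero] at h
    exact h
  s'_rho a := by
    have h := C.rho_can 0 a
    rw [sc_zero] at h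
    exact h
  inj a c t h := by
    obtain ⟨t1, h1⟩ := C.can_eq a 0
    obtain ⟨t2, h2⟩ := C.can_eq 0 c
    obtain ⟨t3, h3⟩ := C.add a 0 0 c
    rw [add_zero, zero_add] at h3
    have h4 : C.v a c = zp H.z (t3 + (t1 + t2 + t)) := by
      have e1 : zp H.z t1 * C.v a 0 * (zp H.z t2 * C.v 0 c) =
          zp H.z (t1 + t2) * (C.v a 0 * C.v 0 c) := by
        rw [zp_add (zz H), mul_assoc, ← mul_assoc (C.v a 0), zp_comm (C.cz a 0)]; group
      rw [h1, h2, e1] at h
      have h5 : C.v a 0 * C.v 0 c = zp H.z (t1 + t2) * zp H.z t := by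
        rw [← h, ← mul_assoc, zp_sq (zz H), one_mul]
      rw [h3, h5, ← zp_add (zz H), ← zp_add (zz H)]
    apply C.v_inj
    rw [h4]
    exact zp_cases _ _
  comm a c := by
    obtain ⟨t1, h1⟩ := C.can_eq a 0
    obtain ⟨t2, h2⟩ := C.can_eq 0 c
    have h3 := C.comm 0 c a 0
    rw [hp3_zero_left, zero_add] at h3
    have e1 : zp H.z t2 * C.v 0 c * (zp H.z t1 * C.v a 0) =
        zp H.z (t1 + t2) * (C.v 0 c * C.v a 0) := by
      rw [zp_add (zz H), mul_assoc, ← mul_assoc (C.v 0 c), zp_comm (C.cz 0 c),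
        show zp H.z t1 * zp H.z t2 = zp H.z t2 * zp H.z t1 by
          rw [← zp_add (zz H), ← zp_add (zz H), add_comm]]
      group
    have e2 : zp H.z t1 * C.v a 0 * (zp H.z t2 * C.v 0 c) =
        zp H.z (t1 + t2) * (C.v a 0 * C.v 0 c) := by
      rw [zp_add (zz H), mul_assoc, ← mul_assoc (C.v a 0), zp_comm (C.cz a 0)]; group
    rw [h1, h2, e1, e2, h3, ← mul_assoc (zp H.z (t1 + t2)), ← zp_add (zz H),
      ← mul_assoc (zp H.z (tr (hp3 a c))), ← zp_add (zz H), add_comm]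
  act f hf hfr i j hij hP c := by
    obtain ⟨t, ht⟩ := exists_zp (C.act f hf hfr i j hij hP c)
    have h1 := C.can_add 0 c (sc (gam c i) (hv i) + sc (gam c j) (hv j)) 0
    rw [zero_add, add_zero, sc_zero, sc_zero, hp3_zero_left, add_zero, hp3_sc_left, hp3_sc_right,
      hp3_sc_right] at h1
    rw [← can_conj hfr, ht, can_zp_mul (zz H) H.ρ_comm (C.cz _ _), h1]
    congr 1
    rw [← hp3_act c i j]
    congr 2
    generalize hp3 (sc (gam c i) (hv i) + sc (gam c j) (hv j)) c = x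
    cases x <;> rfl

end VCoord

end

end Cfsg.Agent.J4Type
end

-- part: J4Type/EElems
section
/-!
# The elements of `E = E hex0` (part (c), helper233)

`FSys H` : representatives `f o` (`o : Fin 16`) of `E / (E ∩ Q)` centralised by `ρ`;
`el C F t a o = z^t · s a · f o` : all elements of `E`, each exactly once; formulas for the
conjugation by `s' c` and `ρ`.
-/

set_option autoImplicit false

open scoped Pointwise

namespace Cfsg.Agent.J4Type.EElems

open Cfsg VCoord HexPerms ECoord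
open SporadicA.FieldFour (F4)

variable {G : Type*} [Group G]

/-! ### general facts -/

/-- `ρ` as an element of the centraliser -/
def rC (H : Hex G) : Subgroup.centralizer ({H.z} : Set G) :=
  ⟨H.ρ, Subgroup.mem_centralizer_singleton_iff.2 H.ρ_comm⟩

theorem P_rC (H : Hex G) : H.P (rC H) = 1 :=
  (H.P_ker _).2 ⟨1, one_mem _, 1, by rw [one_mul, pow_one]; rfl⟩

theorem P_of_Q (H : Hex G) (c : Subgroup.centralizer ({H.z} : Set G)) (hc : (c : G) ∈ H.Q) :
    H.P c = 1 :=
  (H.P_ker _).2 ⟨c, hc, 0, by rw [pow_zero, mul_one]⟩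

theorem E_comm (H : Hex G) {a b : G} (ha : a ∈ H.E hex0) (hb : b ∈ H.E hex0) : a * b = b * a :=
  (H.E_elem hex0 hex0_isHex).2 a ha b hb

theorem E_sq (H : Hex G) {a : G} (ha : a ∈ H.E hex0) : a * a = 1 :=
  (H.E_elem hex0 hex0_isHex).1 a ha

theorem z_mem (H : Hex G) : H.z ∈ H.E hex0 := H.z_mem_E hex0 hex0_isHex

theorem zp_mem (H : Hex G) (t : ZMod 2) : zp H.z t ∈ H.E hex0 := Subgroup.pow_mem _ (z_mem H) _

theorem E_cz (H : Hex G) {a : G} (ha : a ∈ H.E hex0) : a * H.z = H.z * a := E_comm H ha (z_mem H)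

/-- an element of `E` as an element of the centraliser -/
def toC (H : Hex G) (a : G) (ha : a ∈ H.E hex0) : Subgroup.centralizer ({H.z} : Set G) :=
  ⟨a, Subgroup.mem_centralizer_singleton_iff.2 (E_cz H ha)⟩

theorem conj_mem_E (H : Hex G) (c : Subgroup.centralizer ({H.z} : Set G))
    (hc : H.P c • hex0 = hex0) (a : G) : a ∈ H.E hex0 ↔ (c : G) * a * (c : G)⁻¹ ∈ H.E hex0 := by
  have h := H.E_conj hex0 hex0_isHex c a
  rw [hc] at h
  exact h

theorem rho_conj_E (H : Hex G) {a : G} (ha : a ∈ H.E hex0) : H.ρ * a * H.ρ⁻¹ ∈ H.E hex0 :=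
  (conj_mem_E H (rC H) (by rw [P_rC, one_smul]) a).1 ha

/-- an involution in the kernel of `P` lies in `Q` -/
theorem mem_Q_of_P (H : Hex G) (c : Subgroup.centralizer ({H.z} : Set G))
    (h1 : (c : G) * c = 1) (h2 : H.P c = 1) : (c : G) ∈ H.Q := by
  obtain ⟨q, hq, i, hi⟩ := (H.P_ker c).1 h2
  have hr3 : H.ρ ^ 3 = 1 := by rw [← H.ρ_order]; exact pow_orderOf_eq_one _
  have hconj : ∀ k : ℕ, ∀ x ∈ H.Q, H.ρ ^ k * x * (H.ρ ^ k)⁻¹ ∈ H.Q := by
    intro k
    induction k with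
    | zero => intro x hx; rw [pow_zero, one_mul, inv_one, mul_one]; exact hx
    | succ n ih =>
      intro x hx
      have := ih _ (NormRho.rho_mem H.toCent hx)
      rw [show H.ρ ^ (n + 1) * x * (H.ρ ^ (n + 1))⁻¹ =
        H.ρ ^ n * (H.ρ * x * H.ρ⁻¹) * (H.ρ ^ n)⁻¹ by rw [pow_succ]; group]
      exact this
  have h3 : q * (H.ρ ^ i * q * (H.ρ ^ i)⁻¹) * H.ρ ^ (2 * i) = 1 := by
    rw [hi] at h1
    rw [← h1, two_mul, pow_add]; group
  have h4 : H.ρ ^ (2 * i) ∈ H.Q := by
    have h5 : H.ρ ^ (2 * i) = (q * (H.ρ ^ i * q * (H.ρ ^ i)⁻¹))⁻¹ := (inv_eq_of_mul_eq_one_right h3).symm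
    rw [h5]
    exact inv_mem (mul_mem hq (hconj i q hq))
  have h6 : H.ρ ^ i ∈ H.Q := by
    have h7 : H.ρ ^ i = H.ρ ^ (2 * i) * H.ρ ^ (2 * i) := by
      rw [← pow_add, show 2 * i + 2 * i = 3 * i + i by ring, pow_add, pow_mul, hr3, one_pow, one_mul]
    rw [h7]
    exact mul_mem h4 h4
  rw [hi]
  exact mul_mem hq h6

/-- elements of `E` centralised by `ρ` with the same image under `P` are equal up to `z` -/
theorem eq_zp_mul (H : Hex G) (c d : Subgroup.centralizer ({H.z} : Set G)) (hc : (c : G) ∈ H.E hex0)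
    (hd : (d : G) ∈ H.E hex0) (hcr : (c : G) * H.ρ = H.ρ * c) (hdr : (d : G) * H.ρ = H.ρ * d)
    (h : H.P c = H.P d) : ∃ t, (c : G) = zp H.z t * d := by
  have h1 : ((c * d : Subgroup.centralizer ({H.z} : Set G)) : G) ∈ H.E hex0 := mul_mem hc hd
  have hPd : H.P d * H.P d = 1 := by
    rw [← map_mul, show d * d = 1 from Subtype.ext (E_sq H hd), map_one]
  have h2 : ((c * d : Subgroup.centralizer ({H.z} : Set G)) : G) ∈ H.Q :=
    mem_Q_of_P H _ (E_sq H h1) (by rw [map_mul, h, hPd])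
  have h3 := H.ρ_fix _ h2 (by
    show H.ρ * ((c : G) * d) = ((c : G) * d) * H.ρ
    rw [← mul_assoc, ← hcr, mul_assoc, ← hdr, mul_assoc])
  have h4 : (c : G) = ((c : G) * d) * d := by rw [mul_assoc, E_sq H hd, mul_one]
  rcases h3 with h3 | h3
  · exact ⟨0, by rw [zp_zero, h4]; exact congrArg (· * (d : G)) h3⟩
  · exact ⟨1, by rw [zp_one]; rw [h4]; exact congrArg (· * (d : G)) h3⟩

theorem exists_f (H : Hex G) (o : Fin 16) : ∃ f : Subgroup.centralizer ({H.z} : Set G),
    (f : G) ∈ H.E hex0 ∧ (f : G) * H.ρ = H.ρ * f ∧ H.P f = gO o := by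
  obtain ⟨a, ha, hP⟩ := (H.E_map hex0 hex0_isHex (gO o)).2 ⟨gO_mem o, gO_fix o⟩
  set r := rC H with hr
  have h1 : H.ρ * (a : G) * H.ρ⁻¹ ∈ H.E hex0 := rho_conj_E H ha
  have h2 := rho_conj_E H h1
  refine ⟨a * (r * a * r⁻¹) * (r * (r * a * r⁻¹) * r⁻¹), mul_mem (mul_mem ha h1) h2, ?_, ?_⟩
  · have h3 : H.ρ * (H.ρ * (H.ρ * (a : G) * H.ρ⁻¹) * H.ρ⁻¹) * H.ρ⁻¹ = a := by
      calc H.ρ * (H.ρ * (H.ρ * (a : G) * H.ρ⁻¹) * H.ρ⁻¹) * H.ρ⁻¹
          = (H.ρ * (H.ρ * H.ρ)) * a * (H.ρ * (H.ρ * H.ρ))⁻¹ := by group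
        _ = a := by rw [NormRho.rho_cube H.toCent]; group
    show (a : G) * (H.ρ * a * H.ρ⁻¹) * (H.ρ * (H.ρ * a * H.ρ⁻¹) * H.ρ⁻¹) * H.ρ =
      H.ρ * ((a : G) * (H.ρ * a * H.ρ⁻¹) * (H.ρ * (H.ρ * a * H.ρ⁻¹) * H.ρ⁻¹))
    have h5 := E_comm H ha (mul_mem h1 h2)
    generalize hx : H.ρ * (a : G) * H.ρ⁻¹ = x at h3 h5 ⊢
    generalize hy : H.ρ * x * H.ρ⁻¹ = y at h3 h5 ⊢
    calc (a : G) * x * y * H.ρ = (a : G) * (x * y) * H.ρ := by group
      _ = x * y * a * H.ρ := by rw [h5]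
      _ = (H.ρ * (a : G) * H.ρ⁻¹) * (H.ρ * x * H.ρ⁻¹) * (H.ρ * y * H.ρ⁻¹) * H.ρ := by
          rw [hx, hy, h3]
      _ = H.ρ * ((a : G) * x * y) := by group
  · have e : ∀ o : Fin 16, o ^^^ o ^^^ o = o := by decide +kernel
    simp only [map_mul, map_inv, hr, P_rC, hP, one_mul, inv_one, mul_one, gO_mul, e]

/-! ### systems of representatives -/

/-- representatives of `E/(E ∩ Q)` centralised by `ρ` -/
structure FSys (H : Hex G) where
  f : Fin 16 → G
  f_E : ∀ o, f o ∈ H.E hex0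
  f_rho : ∀ o, f o * H.ρ = H.ρ * f o
  f_P : ∀ o, H.P (toC H (f o) (f_E o)) = gO o
  f_zero : f 0 = 1

theorem exists_FSys (H : Hex G) : Nonempty (FSys H) := by
  choose f hE hr hP using exists_f H
  refine ⟨⟨fun o => if o = 0 then 1 else f o, ?_, ?_, ?_, ?_⟩⟩
  · intro o
    split_ifs
    · exact one_mem _
    · exact hE o
  · intro o
    split_ifs
    · rw [one_mul, mul_one]
    · exact hr o
  · intro o
    by_cases ho : o = 0
    · subst ho
      have : toC H (if (0 : Fin 16) = 0 then 1 else ((f 0 : Subgroup.centralizer ({H.z} : Set G)) : G))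
          (by rw [if_pos rfl]; exact one_mem _) = 1 :=
        Subtype.ext (show (if (0 : Fin 16) = 0 then (1 : G) else (f 0 : G)) = 1 from if_pos rfl)
      rw [this, map_one, gO_zero]
    · rw [← hP o]
      congr 1
      exact Subtype.ext (if_neg ho)
  · exact if_pos rfl

/-- change of signs -/
def FSys.twist {H : Hex G} (F : FSys H) (ζ : Fin 16 → ZMod 2) (hζ : ζ 0 = 0) : FSys H where
  f o := zp H.z (ζ o) * F.f o
  f_E o := mul_mem (zp_mem H _) (F.f_E o)
  f_rho o := by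
    rw [mul_assoc, F.f_rho, ← mul_assoc, ← mul_assoc, zp_comm (H.ρ_comm)]
  f_P o := by
    have : toC H (zp H.z (ζ o) * F.f o) (mul_mem (zp_mem H _) (F.f_E o)) =
        toC H (zp H.z (ζ o)) (zp_mem H _) * toC H (F.f o) (F.f_E o) := rfl
    rw [this, map_mul, F.f_P, P_of_Q, one_mul]
    exact Subgroup.pow_mem _ H.z_mem_Q _
  f_zero := by rw [hζ, zp_zero, F.f_zero, one_mul]

/-! ### the pair of points attached to `o : Fin 16` -/

/-- the pair `i < j` with `mo i j = o` -/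
def pr : Fin 16 → Fin 6 × Fin 6 :=
  ![(0, 0), (0, 1), (0, 2), (1, 2), (0, 3), (1, 3), (2, 3), (4, 5), (0, 4), (1, 4), (2, 4), (3, 5),
    (3, 4), (2, 5), (1, 5), (0, 5)]

theorem pr_ne : ∀ o : Fin 16, o ≠ 0 → (pr o).1 ≠ (pr o).2 := by decide

theorem mo_pr : ∀ o : Fin 16, mo (pr o).1 (pr o).2 = o := by decide

/-- the vector `[f o, s' c]` -/
def dd (o : Fin 16) (c : F43) : F43 :=
  if o = 0 then 0 else sc (gam c (pr o).1) (hv (pr o).1) + sc (gam c (pr o).2) (hv (pr o).2)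

/-- the sign of `[f o, s' c]` -/
def nn (o : Fin 16) (c : F43) : ZMod 2 := if o = 0 then 0 else nm (gam c (pr o).1) + nm (gam c (pr o).2)

section

variable {H : Hex G} (C : ECoord H) (F : FSys H)

include C

theorem s_zero : C.s 0 = 1 := by
  have h := C.s_add 0 0
  rw [add_zero] at h
  exact mul_eq_left.1 h.symm

theorem s'_zero : C.s' 0 = 1 := by
  have h := C.s'_add 0 0
  rw [add_zero] at h
  exact mul_eq_left.1 h.symm

theorem s_sq (a : F43) : C.s a * C.s a = 1 := by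
  rw [← C.s_add, f43_add_self, s_zero C]

theorem s'_sq (a : F43) : C.s' a * C.s' a = 1 := by
  rw [← C.s'_add, f43_add_self, s'_zero C]

theorem s_inj {a b : F43} {t u : ZMod 2} (h : zp H.z t * C.s a = zp H.z u * C.s b) :
    t = u ∧ a = b := by
  have h1 : C.s (a + b) * C.s' 0 = zp H.z (t + u) := by
    rw [s'_zero C, mul_one, C.s_add, zp_add (zz H)]
    have h2 : C.s a = zp H.z t * (zp H.z u * C.s b) := by
      rw [← h, ← mul_assoc, zp_sq (zz H), one_mul]
    rw [h2, ← mul_assoc, mul_assoc, s_sq C, mul_one]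
  have h3 := (C.inj _ _ _ h1).1
  have h4 : a = b := by
    calc a = a + b + b := by rw [add_assoc, f43_add_self, add_zero]
      _ = b := by rw [h3, zero_add]
  subst h4
  exact ⟨zp_inj (z_ne H) (mul_right_cancel h), rfl⟩

theorem conj_s (a c : F43) : C.s' c * C.s a * (C.s' c)⁻¹ = zp H.z (tr (hp3 a c)) * C.s a := by
  rw [C.comm]; group

/-- the key formula for `f o` -/
theorem conj_f (o : Fin 16) (c : F43) :
    C.s' c * F.f o * (C.s' c)⁻¹ = zp H.z (nn o c) * C.s (dd o c) * F.f o := by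
  by_cases ho : o = 0
  · subst ho
    rw [F.f_zero, show dd 0 c = 0 from if_pos rfl, show nn 0 c = 0 from if_pos rfl, s_zero C, zp_zero]
    group
  · have hP : H.P (toC H (F.f o) (F.f_E o)) (hp (pr o).1) = hp (pr o).2 := by
      rw [F.f_P]
      have h9 := gO_hp (pr o).1 (pr o).2
      rw [mo_pr] at h9
      exact h9
    have h := C.act (toC H (F.f o) (F.f_E o)) (F.f_E o) (F.f_rho o) _ _ (pr_ne o ho) hP c
    have hff := E_sq H (F.f_E o)
    have hinv : (F.f o)⁻¹ = F.f o := inv_eq_of_mul_eq_one_left hff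
    change F.f o * C.s' c * (F.f o)⁻¹ = _ at h
    have hd : dd o c = sc (gam c (pr o).1) (hv (pr o).1) + sc (gam c (pr o).2) (hv (pr o).2) :=
      if_neg ho
    have hn : nn o c = nm (gam c (pr o).1) + nm (gam c (pr o).2) := if_neg ho
    rw [← hd, ← hn] at h
    have h0 : tr (hp3 (dd o c) c) = 0 := by rw [hd]; exact tr_hp3_act _ _ _
    have h1 := conj_s C (dd o c) c
    rw [h0, zp_zero, one_mul] at h1
    calc C.s' c * F.f o * (C.s' c)⁻¹ = F.f o * ((F.f o)⁻¹ * C.s' c * F.f o) * (C.s' c)⁻¹ := by group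
      _ = F.f o * (F.f o * C.s' c * (F.f o)⁻¹) * (C.s' c)⁻¹ := by rw [hinv]
      _ = F.f o * zp H.z (nn o c) * (C.s' c * C.s (dd o c) * (C.s' c)⁻¹) := by rw [h]; group
      _ = F.f o * (zp H.z (nn o c) * C.s (dd o c)) := by rw [h1]; group
      _ = _ := E_comm H (F.f_E o) (mul_mem (zp_mem H _) (C.s_E _))

/-! ### the elements of `E` -/

/-- `z^t · s a · f o` -/
def el (t : ZMod 2) (a : F43) (o : Fin 16) : G := zp H.z t * C.s a * F.f o

theorem el_mem (t : ZMod 2) (a : F43) (o : Fin 16) : el C F t a o ∈ H.E hex0 :=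
  mul_mem (mul_mem (zp_mem H _) (C.s_E _)) (F.f_E _)

theorem el_mul_zp (t u : ZMod 2) (a : F43) (o : Fin 16) :
    zp H.z u * el C F t a o = el C F (u + t) a o := by
  unfold el; rw [zp_add (zz H)]; group

theorem el_twist (ζ : Fin 16 → ZMod 2) (hζ : ζ 0 = 0) (t : ZMod 2) (a : F43) (o : Fin 16) :
    el C (F.twist ζ hζ) t a o = el C F (t + ζ o) a o := by
  show zp H.z t * C.s a * (zp H.z (ζ o) * F.f o) = zp H.z (t + ζ o) * C.s a * F.f o
  rw [zp_add (zz H), ← mul_assoc, mul_assoc (zp H.z t), zp_comm (comm_z H (C.s_Q a))]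
  group

theorem P_el (t : ZMod 2) (a : F43) (o : Fin 16) : H.P (toC H _ (el_mem C F t a o)) = gO o := by
  have h1 : toC H _ (el_mem C F t a o) = toC H _ (mul_mem (zp_mem H t) (C.s_E a)) *
      toC H _ (F.f_E o) := rfl
  rw [h1, map_mul, F.f_P, P_of_Q, one_mul]
  exact mul_mem (Subgroup.pow_mem _ H.z_mem_Q _) (C.s_Q a)

theorem el_mem_Q_iff (t : ZMod 2) (a : F43) (o : Fin 16) : el C F t a o ∈ H.Q ↔ o = 0 := by
  constructor
  · intro h
    have h1 := P_of_Q H (toC H _ (el_mem C F t a o)) h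
    rw [P_el, ← gO_zero] at h1
    exact gO_injective h1
  · rintro rfl
    unfold el
    rw [F.f_zero, mul_one]
    exact mul_mem (Subgroup.pow_mem _ H.z_mem_Q _) (C.s_Q a)

theorem el_inj {t t' : ZMod 2} {a a' : F43} {o o' : Fin 16} (h : el C F t a o = el C F t' a' o') :
    t = t' ∧ a = a' ∧ o = o' := by
  have h1 : toC H _ (el_mem C F t a o) = toC H _ (el_mem C F t' a' o') := Subtype.ext h
  have h2 := congrArg H.P h1
  rw [P_el, P_el] at h2
  have h3 := gO_injective h2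
  subst h3
  obtain ⟨h4, h5⟩ := s_inj C (mul_right_cancel h)
  exact ⟨h4, h5, rfl⟩

theorem el_surj {x : G} (hx : x ∈ H.E hex0) : ∃ t a o, x = el C F t a o := by
  have hfin : Finite (H.E hex0) :=
    Nat.finite_of_card_ne_zero (by rw [H.E_card hex0 hex0_isHex]; norm_num)
  let φ : ZMod 2 × F43 × Fin 16 → H.E hex0 := fun p => ⟨el C F p.1 p.2.1 p.2.2, el_mem C F _ _ _⟩
  have hinj : Function.Injective φ := by
    rintro ⟨t, a, o⟩ ⟨t', a', o'⟩ h
    obtain ⟨h1, h2, h3⟩ := el_inj C F (congrArg Subtype.val h)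
    exact Prod.ext h1 (Prod.ext h2 h3)
  have hcard : Nat.card (ZMod 2 × F43 × Fin 16) = Nat.card (H.E hex0) := by
    rw [H.E_card hex0 hex0_isHex, Nat.card_prod, Nat.card_prod, Nat.card_eq_fintype_card,
      Nat.card_eq_fintype_card, Nat.card_eq_fintype_card, Fintype.card_fin, ZMod.card,
      Fintype.card_fun, Fintype.card_fin, SporadicA.FieldFour.F4.card_eq]
    norm_num
  have hbij := (Nat.bijective_iff_injective_and_card φ).2 ⟨hinj, hcard⟩
  obtain ⟨⟨t, a, o⟩, h⟩ := hbij.2 ⟨x, hx⟩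
  exact ⟨t, a, o, (congrArg Subtype.val h).symm⟩

theorem el_one : el C F 0 0 0 = 1 := by
  unfold el; rw [zp_zero, s_zero C, F.f_zero, mul_one, mul_one]

theorem el_z : el C F 1 0 0 = H.z := by
  unfold el; rw [zp_one, s_zero C, F.f_zero, mul_one, mul_one]

/-- conjugation by `s' c` -/
theorem conj_el (c : F43) (t : ZMod 2) (a : F43) (o : Fin 16) :
    C.s' c * el C F t a o * (C.s' c)⁻¹ = el C F (t + tr (hp3 a c) + nn o c) (a + dd o c) o := by
  have hz : C.s' c * zp H.z t * (C.s' c)⁻¹ = zp H.z t := by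
    rw [zp_comm (comm_z H (C.s'_Q c))]; group
  calc C.s' c * el C F t a o * (C.s' c)⁻¹
      = (C.s' c * zp H.z t * (C.s' c)⁻¹) * (C.s' c * C.s a * (C.s' c)⁻¹) *
        (C.s' c * F.f o * (C.s' c)⁻¹) := by unfold el; group
    _ = zp H.z t * (zp H.z (tr (hp3 a c)) * C.s a) * (zp H.z (nn o c) * C.s (dd o c) * F.f o) := by
        rw [hz, conj_s C, conj_f C F]
    _ = zp H.z t * zp H.z (tr (hp3 a c)) * (C.s a * zp H.z (nn o c)) * (C.s (dd o c) * F.f o) := by
        group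
    _ = zp H.z t * zp H.z (tr (hp3 a c)) * zp H.z (nn o c) * (C.s a * C.s (dd o c)) * F.f o := by
        rw [zp_comm (comm_z H (C.s_Q a))]; group
    _ = _ := by rw [← C.s_add, ← zp_add (zz H), ← zp_add (zz H)]; rfl

/-- conjugation by `ρ` -/
theorem rho_el (t : ZMod 2) (a : F43) (o : Fin 16) :
    H.ρ * el C F t a o * H.ρ⁻¹ = el C F t (sc .w a) o := by
  have hz : H.ρ * zp H.z t * H.ρ⁻¹ = zp H.z t := by
    rw [zp_comm H.ρ_comm]; group
  have hf : H.ρ * F.f o * H.ρ⁻¹ = F.f o := by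
    rw [← F.f_rho]; group
  calc H.ρ * el C F t a o * H.ρ⁻¹
      = (H.ρ * zp H.z t * H.ρ⁻¹) * (H.ρ * C.s a * H.ρ⁻¹) * (H.ρ * F.f o * H.ρ⁻¹) := by
        unfold el; group
    _ = _ := by rw [hz, C.s_rho, hf]; rfl

/-- the elements of `Q` -/
theorem Q_surj {x : G} (hx : x ∈ H.Q) : ∃ t a c, x = zp H.z t * C.s a * C.s' c := by
  have hfin : Finite H.Q := Nat.finite_of_card_ne_zero (by rw [H.Q_card]; norm_num)
  let φ : ZMod 2 × F43 × F43 → H.Q := fun p =>
    ⟨zp H.z p.1 * C.s p.2.1 * C.s' p.2.2,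
      mul_mem (mul_mem (Subgroup.pow_mem _ H.z_mem_Q _) (C.s_Q _)) (C.s'_Q _)⟩
  have hinj : Function.Injective φ := by
    rintro ⟨t, a, c⟩ ⟨t', a', c'⟩ h
    have h1 : zp H.z t * C.s a * C.s' c = zp H.z t' * C.s a' * C.s' c' := congrArg Subtype.val h
    have h2 : zp H.z t * C.s a * C.s' (c + c') = zp H.z t' * C.s a' := by
      rw [C.s'_add, ← mul_assoc, h1, mul_assoc, s'_sq C, mul_one]
    have h3 : C.s (a + a') * C.s' (c + c') = zp H.z (t + t') := by
      have h4 : C.s a * C.s' (c + c') = zp H.z t * (zp H.z t' * C.s a') := by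
        rw [← h2]
        calc C.s a * C.s' (c + c') = (zp H.z t * zp H.z t) * C.s a * C.s' (c + c') := by
              rw [zp_sq (zz H), one_mul]
          _ = _ := by group
      rw [add_comm a a', C.s_add, mul_assoc, h4, zp_add (zz H)]
      calc C.s a' * (zp H.z t * (zp H.z t' * C.s a'))
          = (C.s a' * (zp H.z t * zp H.z t')) * C.s a' := by group
        _ = (zp H.z t * zp H.z t') * (C.s a' * C.s a') := by
            rw [← zp_add (zz H), zp_comm (comm_z H (C.s_Q a'))]; group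
        _ = _ := by rw [s_sq C, mul_one]
    obtain ⟨h5, h6⟩ := C.inj _ _ _ h3
    have hcc : c = c' := by
      calc c = c + c' + c' := by rw [add_assoc, f43_add_self, add_zero]
        _ = c' := by rw [h6, zero_add]
    subst hcc
    obtain ⟨h7, h8⟩ := s_inj C (mul_right_cancel h1)
    rw [h7, h8]
  have hcard : Nat.card (ZMod 2 × F43 × F43) = Nat.card H.Q := by
    rw [H.Q_card, Nat.card_prod, Nat.card_prod, Nat.card_eq_fintype_card,
      Nat.card_eq_fintype_card, ZMod.card,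
      Fintype.card_fun, Fintype.card_fin, SporadicA.FieldFour.F4.card_eq]
    norm_num
  have hbij := (Nat.bijective_iff_injective_and_card φ).2 ⟨hinj, hcard⟩
  obtain ⟨⟨t, a, c⟩, h⟩ := hbij.2 ⟨x, hx⟩
  exact ⟨t, a, c, (congrArg Subtype.val h).symm⟩

omit C in
/-- `f o f o' = z^? f (o + o')` -/
theorem f_mul (o o' : Fin 16) : ∃ t, F.f o * F.f o' = zp H.z t * F.f (o ^^^ o') := by
  have h1 : F.f o * F.f o' ∈ H.E hex0 := mul_mem (F.f_E o) (F.f_E o')
  obtain ⟨t, ht⟩ := eq_zp_mul H (toC H _ h1) (toC H _ (F.f_E (o ^^^ o'))) h1 (F.f_E _) (by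
    show F.f o * F.f o' * H.ρ = H.ρ * (F.f o * F.f o')
    rw [mul_assoc, F.f_rho, ← mul_assoc, F.f_rho, mul_assoc]) (F.f_rho _) (by
    have : toC H _ h1 = toC H _ (F.f_E o) * toC H _ (F.f_E o') := rfl
    rw [this, map_mul, F.f_P, F.f_P, F.f_P, gO_mul])
  exact ⟨t, ht⟩

end

end Cfsg.Agent.J4Type.EElems
end

-- part: J4Type/EPi
section
/-!
# The action of `A₆` on `E = E hex0` (part (c), helper233)

`exists_piC` : for `b : Bool` there is an element of `C` commuting with `ρ`, normalising `E`, and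
acting by `s a ↦ s (Mb b a)`, `f o ↦ z^? f (oG b o)`, where `Mb b` is the explicit linear map with
`Mb b wᵢ ∈ F₄ w_{π i}`, `π = piG b`.
-/

set_option autoImplicit false

open scoped Pointwise

namespace Cfsg.Agent.J4Type.EPi

open Cfsg VCoord HexPerms ECoord EElems
open SporadicA.FieldFour (F4)

/-- the scalars of the explicit linear maps -/
def lam : Bool → F4 × F4 × F4
  | false => (.o, .v, .w)
  | true => (.o, .w, .v)

/-- linear map with `eₖ ↦ lₖ w_{π k}` -/
def Ml (l : F4 × F4 × F4) (b : Bool) (a : F43) : F43 :=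
  sc (a 0 * l.1) (hv (piG b 0)) + sc (a 1 * l.2.1) (hv (piG b 1)) + sc (a 2 * l.2.2) (hv (piG b 2))

/-- the explicit linear maps -/
def Mb (b : Bool) (a : F43) : F43 := Ml (lam b) b a

/-! ### finite facts -/

theorem dec_l : ∀ (b : Bool) (l0 l1 l2 : F4), l0 ≠ 0 → l1 ≠ 0 → l2 ≠ 0 →
    (∃ μ, Ml (l0, l1, l2) b (hv 3) = sc μ (hv (piG b 3))) →
    (∃ μ, Ml (l0, l1, l2) b (hv 4) = sc μ (hv (piG b 4))) →
    (l0, l1, l2) = (l0 * (lam b).1, l0 * (lam b).2.1, l0 * (lam b).2.2) := by decide +kernel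

/-- next index modulo 6 -/
def nx : Fin 6 → Fin 6 := ![1, 2, 3, 4, 5, 0]

theorem dec_three : ∀ (b : Bool) (i : Fin 6) (x x' y y' : F4),
    sc x (hv (piG b i)) + sc x' (hv (piG b (nx i))) =
      sc y (hv (piG b i)) + sc y' (hv (piG b (nx (nx i)))) → x' = 0 := by decide +kernel

theorem dec_gam : ∀ (o : Fin 16), o ≠ 0 → ∀ x y : F4, ∃ c : F43,
    gam c (pr o).1 = x ∧ gam c (pr o).2 = y := by decide +kernel

theorem pr_mo : ∀ i j : Fin 6, i ≠ j → pr (mo i j) = (i, j) ∨ pr (mo i j) = (j, i) := by decide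

theorem mo_ne : ∀ i j : Fin 6, i ≠ j → mo i j ≠ 0 := by decide

theorem piG_inj : ∀ b i j, piG b i = piG b j → i = j := by decide

theorem hv_ne : ∀ i : Fin 6, hv i ≠ 0 := by decide +kernel

theorem dd_mo (i j : Fin 6) (h : i ≠ j) (c : F43) :
    dd (mo i j) c = sc (gam c i) (hv i) + sc (gam c j) (hv j) := by
  unfold dd
  rw [if_neg (mo_ne i j h)]
  rcases pr_mo i j h with h1 | h1
  · rw [h1]
  · rw [h1, add_comm]

theorem exists_dd (i j : Fin 6) (h : i ≠ j) (x y : F4) :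
    ∃ c : F43, dd (mo i j) c = sc x (hv i) + sc y (hv j) := by
  rcases pr_mo i j h with h1 | h1
  · obtain ⟨c, hc1, hc2⟩ := dec_gam (mo i j) (mo_ne i j h) x y
    rw [h1] at hc1 hc2
    exact ⟨c, by rw [dd_mo i j h]; dsimp only at hc1 hc2; rw [hc1, hc2]⟩
  · obtain ⟨c, hc1, hc2⟩ := dec_gam (mo i j) (mo_ne i j h) y x
    rw [h1] at hc1 hc2
    exact ⟨c, by rw [dd_mo i j h]; dsimp only at hc1 hc2; rw [hc1, hc2]⟩

theorem sc_sc (x y : F4) (a : F43) : sc x (sc y a) = sc (x * y) a := by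
  funext k; exact (mul_assoc x y (a k)).symm

theorem sc_one (a : F43) : sc .o a = a := by
  funext k; exact one_mul (a k)

theorem sc_zero' (a : F43) : sc .z a = 0 := by
  funext k; exact zero_mul (a k)

theorem basis (a : F43) : a = sc (a 0) (hv 0) + sc (a 1) (hv 1) + sc (a 2) (hv 2) := by
  funext k
  have h : ∀ k : Fin 3, k = 0 ∨ k = 1 ∨ k = 2 := by decide
  rcases h k with rfl | rfl | rfl
  · show a 0 = a 0 * F4.o + a 1 * F4.z + a 2 * F4.z
    generalize a 0 = x; generalize a 1 = y; generalize a 2 = u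
    cases x <;> cases y <;> cases u <;> rfl
  · show a 1 = a 0 * F4.z + a 1 * F4.o + a 2 * F4.z
    generalize a 0 = x; generalize a 1 = y; generalize a 2 = u
    cases x <;> cases y <;> cases u <;> rfl
  · show a 2 = a 0 * F4.z + a 1 * F4.z + a 2 * F4.o
    generalize a 0 = x; generalize a 1 = y; generalize a 2 = u
    cases x <;> cases y <;> cases u <;> rfl

theorem Ml_scale (b : Bool) (x l0 l1 l2 : F4) (a : F43) :
    Ml (x * l0, x * l1, x * l2) b a = sc x (Ml (l0, l1, l2) b a) := by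
  unfold Ml
  rw [sc_add, sc_add, sc_sc, sc_sc, sc_sc]
  have h : ∀ u l : F4, u * (x * l) = x * (u * l) := by intro u l; ring
  dsimp only
  rw [h, h, h]

theorem Ml_sc (l : F4 × F4 × F4) (b : Bool) (x : F4) (a : F43) : Ml l b (sc x a) = sc x (Ml l b a) := by
  unfold Ml
  rw [sc_add, sc_add, sc_sc, sc_sc, sc_sc]
  simp only [sc, mul_assoc]

variable {G : Type*} [Group G] {H : Hex G} (C : ECoord H) (F : FSys H)

/-- the canonical lifts are preserved -/
theorem exists_M (g : G) (hgr : g * H.ρ = H.ρ * g) (hgz : g * H.z = H.z * g)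
    (hgE : ∀ a, a ∈ H.E hex0 ↔ g * a * g⁻¹ ∈ H.E hex0) (a : F43) :
    ∃ a', g * C.s a * g⁻¹ = C.s a' := by
  obtain ⟨F⟩ := exists_FSys H
  obtain ⟨t, a', o, h⟩ := el_surj C F ((hgE _).1 (C.s_E a))
  have h1 : g * C.s a * g⁻¹ ∈ H.Q := H.Q_conj g hgz _ (C.s_Q a)
  rw [h, el_mem_Q_iff] at h1
  subst h1
  have h2 : g * C.s a * g⁻¹ = zp H.z t * C.s a' := by
    rw [h]; unfold el; rw [F.f_zero, mul_one]
  have hg' : H.ρ * g⁻¹ = g⁻¹ * H.ρ := (Commute.inv_right (show Commute H.ρ g from hgr.symm))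
  have h3 : H.ρ * (g * C.s a * g⁻¹) * H.ρ⁻¹ = g * C.s (sc .w a) * g⁻¹ := by
    rw [← C.s_rho a]
    calc H.ρ * (g * C.s a * g⁻¹) * H.ρ⁻¹ = (H.ρ * g) * C.s a * (H.ρ * g)⁻¹ := by group
      _ = _ := by rw [← hgr]; group
  have h4 : H.ρ * (g * C.s (sc .w a) * g⁻¹) * H.ρ⁻¹ = g * C.s (sc .w (sc .w a)) * g⁻¹ := by
    rw [← C.s_rho (sc .w a)]
    calc H.ρ * (g * C.s (sc .w a) * g⁻¹) * H.ρ⁻¹ = (H.ρ * g) * C.s (sc .w a) * (H.ρ * g)⁻¹ := by group
      _ = _ := by rw [← hgr]; group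
  have e1 : ∀ y, H.ρ * (zp H.z t * C.s y) * H.ρ⁻¹ = zp H.z t * C.s (sc .w y) := by
    intro y
    rw [← C.s_rho, ← mul_assoc, zp_comm H.ρ_comm]; group
  have h5 : g * C.s (sc .w a) * g⁻¹ = zp H.z t * C.s (sc .w a') := by
    rw [← h3, h2, e1]
  have h6 : g * C.s (sc .w (sc .w a)) * g⁻¹ = zp H.z t * C.s (sc .w (sc .w a')) := by
    rw [← h4, h5, e1]
  have hsum : ∀ y : F43, C.s y * (C.s (sc .w y) * C.s (sc .w (sc .w y))) = 1 := by
    intro y
    rw [← C.s_add, w_add_v, ← C.s_add, f43_add_self, s_zero C]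
  have h7 : (g * C.s a * g⁻¹) * ((g * C.s (sc .w a) * g⁻¹) * (g * C.s (sc .w (sc .w a)) * g⁻¹)) = 1 := by
    calc _ = g * (C.s a * (C.s (sc .w a) * C.s (sc .w (sc .w a)))) * g⁻¹ := by group
      _ = 1 := by rw [hsum]; group
  rw [h2, h5, h6] at h7
  have h8 : zp H.z t * (C.s a' * (C.s (sc .w a') * C.s (sc .w (sc .w a')))) = 1 := by
    rw [← h7]
    have hc1 := zp_comm (comm_z H (C.s_Q (sc .w a'))) t
    have hc2 := zp_comm (comm_z H (C.s_Q a')) t
    calc zp H.z t * (C.s a' * (C.s (sc .w a') * C.s (sc .w (sc .w a'))))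
        = (zp H.z t * zp H.z t) * zp H.z t * (C.s a' * (C.s (sc .w a') * C.s (sc .w (sc .w a')))) := by
          rw [zp_sq (zz H), one_mul]
      _ = zp H.z t * (zp H.z t * (zp H.z t * C.s a')) * C.s (sc .w a') * C.s (sc .w (sc .w a')) := by
          group
      _ = zp H.z t * (zp H.z t * (C.s a' * zp H.z t)) * C.s (sc .w a') * C.s (sc .w (sc .w a')) := by
          rw [hc2]
      _ = zp H.z t * ((zp H.z t * C.s a') * (zp H.z t * C.s (sc .w a'))) * C.s (sc .w (sc .w a')) := by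
          group
      _ = zp H.z t * ((C.s a' * zp H.z t) * (C.s (sc .w a') * zp H.z t)) * C.s (sc .w (sc .w a')) := by
          rw [hc1, hc2]
      _ = _ := by group
  rw [hsum, mul_one] at h8
  refine ⟨a', ?_⟩
  rw [h2, h8, one_mul]

/-- conjugation of `f o` by an element of the coset of `Q` -/
theorem conj_f_Q (o : Fin 16) {q : G} (hq : q ∈ H.Q) :
    ∃ (c : F43) (t : ZMod 2), q * F.f o * q⁻¹ = zp H.z t * C.s (dd o c) * F.f o := by
  obtain ⟨t, a, c, rfl⟩ := Q_surj C hq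
  refine ⟨c, nn o c, ?_⟩
  have h1 := conj_f C F o c
  have hza : zp H.z t * C.s a ∈ H.E hex0 := mul_mem (zp_mem H _) (C.s_E a)
  have h2 : zp H.z (nn o c) * C.s (dd o c) * F.f o ∈ H.E hex0 := el_mem C F _ _ _
  calc zp H.z t * C.s a * C.s' c * F.f o * (zp H.z t * C.s a * C.s' c)⁻¹
      = (zp H.z t * C.s a) * (C.s' c * F.f o * (C.s' c)⁻¹) * (zp H.z t * C.s a)⁻¹ := by group
    _ = _ := by rw [h1, E_comm H hza h2]; group

include C in
theorem exists_piC (b : Bool) : ∃ g : G, g * H.z = H.z * g ∧ g * H.ρ = H.ρ * g ∧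
    (∀ a, a ∈ H.E hex0 ↔ g * a * g⁻¹ ∈ H.E hex0) ∧ (∀ a, g * C.s a * g⁻¹ = C.s (Mb b a)) ∧
    ∀ o, ∃ t, g * F.f o * g⁻¹ = zp H.z t * F.f (oG b o) := by
  obtain ⟨c0, hc0⟩ : gG b ∈ H.P.range := by rw [H.P_range]; exact gG_mem' b
  obtain ⟨x, hx, hxr⟩ := NormRho.exists_comm H.toCent c0 (by rw [hc0]; exact gG_none b)
  have hxz : x ∈ Subgroup.centralizer ({H.z} : Set G) := H.Q_le hx
  set c : Subgroup.centralizer ({H.z} : Set G) := ⟨x, hxz⟩ * c0 with hcdef
  have hc : (c : G) = x * c0 := rfl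
  have hPc : H.P c = gG b := by
    rw [hcdef, map_mul, P_of_Q H ⟨x, hxz⟩ hx, one_mul, hc0]
  have hcz : (c : G) * H.z = H.z * c := Subgroup.mem_centralizer_singleton_iff.1 c.2
  have hcr : (c : G) * H.ρ = H.ρ * c := hxr
  have hcE := conj_mem_E H c (by rw [hPc]; exact gG_hex0 b)
  have hcr' : H.ρ * (c : G)⁻¹ = (c : G)⁻¹ * H.ρ :=
    (Commute.inv_right (show Commute H.ρ (c : G) from hcr.symm))
  -- the action on the `f o`
  have hf : ∀ o, ∃ t, (c : G) * F.f o * (c : G)⁻¹ = zp H.z t * F.f (oG b o) := by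
    intro o
    have hE1 : (c : G) * F.f o * (c : G)⁻¹ ∈ H.E hex0 := (hcE _).1 (F.f_E o)
    obtain ⟨t, ht⟩ := eq_zp_mul H (toC H _ hE1) (toC H _ (F.f_E (oG b o))) hE1 (F.f_E _) (by
      show (c : G) * F.f o * (c : G)⁻¹ * H.ρ = H.ρ * ((c : G) * F.f o * (c : G)⁻¹)
      calc (c : G) * F.f o * (c : G)⁻¹ * H.ρ = (c : G) * F.f o * ((c : G)⁻¹ * H.ρ) := by group
        _ = (c : G) * (F.f o * H.ρ) * (c : G)⁻¹ := by rw [← hcr']; group
        _ = ((c : G) * H.ρ) * F.f o * (c : G)⁻¹ := by rw [F.f_rho]; group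
        _ = _ := by rw [hcr]; group) (F.f_rho _) (by
      have h1 : toC H _ hE1 = c * toC H _ (F.f_E o) * c⁻¹ := rfl
      rw [h1, map_mul, map_mul, map_inv, hPc, F.f_P, F.f_P, gG_conj])
    exact ⟨t, ht⟩
  -- the action on the `s a`
  have hM := exists_M C (c : G) hcr hcz hcE
  choose M hM using hM
  have hMadd : ∀ a a', M (a + a') = M a + M a' := by
    intro a a'
    have h1 : C.s (M (a + a')) = C.s (M a + M a') := by
      rw [← hM, C.s_add, C.s_add, ← hM, ← hM]; group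
    exact (s_inj C (a := M (a + a')) (b := M a + M a') (t := 0) (u := 0) (by rw [h1])).2
  have hMw : ∀ a, M (sc .w a) = sc .w (M a) := by
    intro a
    have h1 : C.s (M (sc .w a)) = C.s (sc .w (M a)) := by
      rw [← hM, ← C.s_rho, ← C.s_rho, ← hM]
      calc (c : G) * (H.ρ * C.s a * H.ρ⁻¹) * (c : G)⁻¹
          = ((c : G) * H.ρ) * C.s a * ((c : G) * H.ρ)⁻¹ := by group
        _ = _ := by rw [hcr]; group
    exact (s_inj C (a := M (sc .w a)) (b := sc .w (M a)) (t := 0) (u := 0) (by rw [h1])).2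
  have hM0 : M 0 = 0 := by
    have h := hMadd 0 0
    rw [add_zero] at h
    have h2 := f43_add_self (M 0)
    rw [← h] at h2
    exact h2
  have hMsc : ∀ (x : F4) a, M (sc x a) = sc x (M a) := by
    intro x a
    cases x with
    | z => rw [sc_zero', sc_zero', hM0]
    | o => rw [sc_one, sc_one]
    | w => exact hMw a
    | v =>
      have e : ∀ y : F43, sc .v y = sc .w (sc .w y) := by
        intro y; rw [sc_sc]; rfl
      rw [e, e, hMw, hMw]
  have hMinj : ∀ a, M a = 0 → a = 0 := by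
    intro a ha
    have h1 : (c : G) * C.s a * (c : G)⁻¹ = 1 := by rw [hM, ha, s_zero C]
    have h2 : C.s a = C.s 0 := by
      rw [s_zero C]
      calc C.s a = (c : G)⁻¹ * ((c : G) * C.s a * (c : G)⁻¹) * c := by group
        _ = 1 := by rw [h1]; group
    exact (s_inj C (a := a) (b := 0) (t := 0) (u := 0) (by rw [h2])).2
  -- secants go to secants
  have hL : ∀ o (c1 : F43), ∃ c2, M (dd o c1) = dd (oG b o) c2 := by
    intro o c1
    obtain ⟨τ, hτ⟩ := hf o
    have hq : (c : G) * C.s' c1 * (c : G)⁻¹ ∈ H.Q := H.Q_conj _ hcz _ (C.s'_Q c1)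
    obtain ⟨c2, t2, h2⟩ := conj_f_Q C F (oG b o) hq
    have h1 := conj_f C F o c1
    have h3 : (c : G) * (C.s' c1 * F.f o * (C.s' c1)⁻¹) * (c : G)⁻¹ =
        zp H.z τ * (zp H.z t2 * C.s (dd (oG b o) c2) * F.f (oG b o)) := by
      rw [← h2]
      calc (c : G) * (C.s' c1 * F.f o * (C.s' c1)⁻¹) * (c : G)⁻¹
          = ((c : G) * C.s' c1 * (c : G)⁻¹) * ((c : G) * F.f o * (c : G)⁻¹) *
            ((c : G) * C.s' c1 * (c : G)⁻¹)⁻¹ := by group
        _ = (((c : G) * C.s' c1 * (c : G)⁻¹) * zp H.z τ) * F.f (oG b o) *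
            ((c : G) * C.s' c1 * (c : G)⁻¹)⁻¹ := by rw [hτ]; group
        _ = _ := by rw [zp_comm (comm_z H hq)]; group
    have h4 : (c : G) * (C.s' c1 * F.f o * (C.s' c1)⁻¹) * (c : G)⁻¹ =
        zp H.z (nn o c1) * C.s (M (dd o c1)) * (zp H.z τ * F.f (oG b o)) := by
      rw [h1, ← hτ, ← hM]
      calc (c : G) * (zp H.z (nn o c1) * C.s (dd o c1) * F.f o) * (c : G)⁻¹
          = ((c : G) * zp H.z (nn o c1)) * C.s (dd o c1) * F.f o * (c : G)⁻¹ := by group
        _ = _ := by rw [zp_comm hcz]; group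
    rw [h3] at h4
    have h5 : zp H.z (τ + t2) * C.s (dd (oG b o) c2) = zp H.z (nn o c1 + τ) * C.s (M (dd o c1)) := by
      apply mul_right_cancel (b := F.f (oG b o))
      rw [zp_add (zz H), zp_add (zz H)]
      calc zp H.z τ * zp H.z t2 * C.s (dd (oG b o) c2) * F.f (oG b o)
          = zp H.z τ * (zp H.z t2 * C.s (dd (oG b o) c2) * F.f (oG b o)) := by group
        _ = zp H.z (nn o c1) * (C.s (M (dd o c1)) * zp H.z τ) * F.f (oG b o) := by rw [h4]; group
        _ = _ := by rw [zp_comm (comm_z H (C.s_Q _))]; group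
    exact ⟨c2, (s_inj C h5).2.symm⟩
  -- points go to points
  have hpt : ∀ i, ∃ μ, M (hv i) = sc μ (hv (piG b i)) := by
    intro i
    have hne1 : i ≠ nx i := by revert i; decide
    have hne2 : i ≠ nx (nx i) := by revert i; decide
    have hp1 : piG b i ≠ piG b (nx i) := fun h => hne1 (piG_inj b _ _ h)
    have hp2 : piG b i ≠ piG b (nx (nx i)) := fun h => hne2 (piG_inj b _ _ h)
    obtain ⟨c1, hc1⟩ := exists_dd i (nx i) hne1 .o .z
    obtain ⟨c2, hc2⟩ := exists_dd i (nx (nx i)) hne2 .o .z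
    rw [sc_one, sc_zero', add_zero] at hc1 hc2
    obtain ⟨d1, hd1⟩ := hL (mo i (nx i)) c1
    obtain ⟨d2, hd2⟩ := hL (mo i (nx (nx i))) c2
    rw [hc1, oG_mo, dd_mo _ _ hp1] at hd1
    rw [hc2, oG_mo, dd_mo _ _ hp2] at hd2
    have h0 := dec_three b i _ _ _ _ (hd1.symm.trans hd2)
    refine ⟨gam d1 (piG b i), ?_⟩
    rw [hd1, h0, show sc (0 : F4) (hv (piG b (nx i))) = 0 from sc_zero' _, add_zero]
  choose l hl using hpt
  have hMl : ∀ a, M a = Ml (l 0, l 1, l 2) b a := by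
    intro a
    conv_lhs => rw [basis a]
    rw [hMadd, hMadd, hMsc, hMsc, hMsc, hl, hl, hl, sc_sc, sc_sc, sc_sc]
    rfl
  have hne : ∀ i, l i ≠ 0 := by
    intro i hi
    have h1 := hl i
    rw [hi, show sc (0 : F4) (hv (piG b i)) = 0 from sc_zero' _] at h1
    exact hv_ne i (hMinj _ h1)
  have hkey := dec_l b (l 0) (l 1) (l 2) (hne 0) (hne 1) (hne 2) ⟨l 3, by rw [← hMl]; exact hl 3⟩
    ⟨l 4, by rw [← hMl]; exact hl 4⟩
  have hfin : ∀ a, M a = sc (l 0) (Mb b a) := by
    intro a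
    rw [hMl, hkey, Ml_scale]
    rfl
  -- correct by a power of `ρ`
  have hpow : ∀ k : ℕ, ∃ g : G, g * H.z = H.z * g ∧ g * H.ρ = H.ρ * g ∧
      (∀ a, a ∈ H.E hex0 ↔ g * a * g⁻¹ ∈ H.E hex0) ∧
      (∀ a, g * C.s a * g⁻¹ = C.s (M (sc (F4.w ^ k) a))) ∧
      ∀ o, ∃ t, g * F.f o * g⁻¹ = zp H.z t * F.f (oG b o) := by
    intro k
    induction k with
    | zero =>
      refine ⟨c, hcz, hcr, hcE, fun a => ?_, hf⟩
      rw [pow_zero, show sc (1 : F4) a = a from sc_one a]
      exact hM a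
    | succ k ih =>
      obtain ⟨g, h1, h2, h3, h4, h5⟩ := ih
      refine ⟨g * H.ρ, ?_, ?_, ?_, ?_, ?_⟩
      · rw [mul_assoc, H.ρ_comm, ← mul_assoc, h1, mul_assoc]
      · rw [mul_assoc, ← mul_assoc H.ρ, ← h2, mul_assoc]
      · intro a
        have h6 := conj_mem_E H (rC H) (by rw [P_rC, one_smul]) a
        rw [h6, h3, show g * H.ρ * a * (g * H.ρ)⁻¹ = g * (H.ρ * a * H.ρ⁻¹) * g⁻¹ by group]
        exact Iff.rfl
      · intro a
        have e : g * H.ρ * C.s a * (g * H.ρ)⁻¹ = g * (H.ρ * C.s a * H.ρ⁻¹) * g⁻¹ := by group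
        rw [e, C.s_rho, h4, sc_sc, pow_succ]
      · intro o
        obtain ⟨t, ht⟩ := h5 o
        refine ⟨t, ?_⟩
        rw [← ht]
        have e : g * H.ρ * F.f o * (g * H.ρ)⁻¹ = g * (H.ρ * F.f o * H.ρ⁻¹) * g⁻¹ := by group
        rw [e, ← F.f_rho]; group
  obtain ⟨k, hk⟩ : ∃ k : ℕ, F4.w ^ k * l 0 = 1 := by
    have h0 := hne 0
    generalize l 0 = x at h0 ⊢
    cases x with
    | z => exact absurd rfl h0
    | o => exact ⟨0, rfl⟩
    | w => exact ⟨2, rfl⟩
    | v => exact ⟨1, rfl⟩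
  obtain ⟨g, h1, h2, h3, h4, h5⟩ := hpow k
  refine ⟨g, h1, h2, h3, fun a => ?_, h5⟩
  rw [h4, hMsc, hfin, sc_sc, hk, show sc (1 : F4) (Mb b a) = Mb b a from sc_one _]

end Cfsg.Agent.J4Type.EPi
end

-- part: J4Type/EOrbCheck
section
/-!
# Orbits of `N_C(E)` on `E` : the finite part (part (c), helper233)

Index set: `(t, a, o) : ZMod 2 × F43 × Fin 16` (see `EElems.el`).  `Inv F` : a predicate on the
index set invariant under the maps induced by `Q`, `ρ` and `A₆`.  `Inv.main` : such a predicate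
depends only on the class `kap (t + ζ o) a o ∈ Fin 7` for suitable signs `ζ`; the classes
`0, …, 6` have `1, 1, 36, 90, 240, 240, 1440` elements.
-/

set_option autoImplicit false

namespace Cfsg.Agent.J4Type.EOrbCheck

open Cfsg VCoord HexPerms ECoord EElems EPi
open SporadicA.FieldFour (F4)

/-! ### coding by numbers -/

def decA (n : ℕ) : F43 := ![F4.ofNat (n % 4), F4.ofNat (n / 4 % 4), F4.ofNat (n / 16 % 4)]

def encA (a : F43) : ℕ := F4.toNat (a 0) + 4 * F4.toNat (a 1) + 16 * F4.toNat (a 2)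

theorem toNat_lt (x : F4) : F4.toNat x < 4 := by cases x <;> decide

theorem encA_lt (a : F43) : encA a < 64 := by
  have h0 := toNat_lt (a 0)
  have h1 := toNat_lt (a 1)
  have h2 := toNat_lt (a 2)
  unfold encA
  omega

theorem decA_encA (a : F43) : decA (encA a) = a := by
  have h0 := toNat_lt (a 0)
  have h1 := toNat_lt (a 1)
  have h2 := toNat_lt (a 2)
  funext k
  have h : ∀ k : Fin 3, k = 0 ∨ k = 1 ∨ k = 2 := by decide
  rcases h k with rfl | rfl | rfl
  · show F4.ofNat (encA a % 4) = a 0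
    rw [show encA a % 4 = F4.toNat (a 0) by unfold encA; omega, F4.ofNat_toNat]
  · show F4.ofNat (encA a / 4 % 4) = a 1
    rw [show encA a / 4 % 4 = F4.toNat (a 1) by unfold encA; omega, F4.ofNat_toNat]
  · show F4.ofNat (encA a / 16 % 4) = a 2
    rw [show encA a / 16 % 4 = F4.toNat (a 2) by unfold encA; omega, F4.ofNat_toNat]

def encY (a : F43) (o : Fin 16) : ℕ := o.val + 16 * encA a

def aY (y : ℕ) : F43 := decA (y / 16)

def oY (y : ℕ) : Fin 16 := ⟨y % 16, Nat.mod_lt _ (by norm_num)⟩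

theorem encY_lt (a : F43) (o : Fin 16) : encY a o < 1024 := by
  have := encA_lt a
  have := o.2
  unfold encY
  omega

theorem aY_encY (a : F43) (o : Fin 16) : aY (encY a o) = a := by
  have := o.2
  unfold aY encY
  rw [show (o.val + 16 * encA a) / 16 = encA a by omega, decA_encA]

theorem oY_encY (a : F43) (o : Fin 16) : oY (encY a o) = o := by
  have := o.2
  apply Fin.ext
  show (o.val + 16 * encA a) % 16 = o.val
  omega

/-- the generator maps -/
def gen (k y : ℕ) : ℕ :=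
  if k < 6 then encY (aY y + dd (oY y) (decA (2 ^ k))) (oY y)
  else if k = 6 then encY (sc .w (aY y)) (oY y)
  else if k = 7 then encY (Mb false (aY y)) (oG false (oY y))
  else encY (Mb true (aY y)) (oG true (oY y))

/-- certificate: for each node generator (4 bits), parent (10), depth (4), class (3), `c` (6) -/
def cert : ℕ := 0xb2217e29c6e4e0b8bcac12cf98719a72ee3c4e51e38dc93b91238156273ee1b4e71c36bcd398cf988062f2ce244e521086a8b024b907b21f0304b6e0e068dc2c3713d877a3736b0b5f51d28de93b90f8f85622eec544f71e28dc5412cf888062face245e121087e08828b808b2276310c6c75d26b8dbb70f1879e2bd644c5eee066d893b90f117aa2acec2c4ef2118bdd40cd3b880a2f6d0245ed21086b0b0497b08b2191e29c6e8e068badbdb13a787a26aee3c46e8928da93b90faf80da6bee2c5eb2118bad386d3a88f1aeace245e921084a0b0893a08621b2309c664e226a4dbb70c9877a212ee3c4251e38e4938ccc91756213ee544271c66acd4511198806312ce2466521087989829190862130307b660e068c6dbdb118789e29aee4c562e128c6939ecc2805619bee9b4371e28cc54511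18880629ace2466121087909828d8086219be30c6075cb8cdac1ecc1877a282ee0b4051c16a09390c811719983ee2c4071d188dd4510db880a282ce2456d21087889844410762119e29c668e068c2dbb71058705a0aee3c5151d28a29382c8080aa28bee2c5498518a2d3d111a88e1a8ace2466921085809888450725992309c624e068b4dbdb109787a352ee8b5c29638f493c9109f8aa2d3ee2c4272096a4d4290c98806352ce4442521086c8b0292907119103013620e026b6dbb70c2c13da5aee3c4b51d28cac9490c8f8259dbee2c4b71e28d6d3a908888062dace4442121087a0882548083d983e30c6875c68d0dbb7101c17a242ee3c4851cf6b093c910bf8561c3ef1b42f2118a5d42910b880a2c2ce4452d21086d0b0494b0809901e29c628e0b8dfea04cc0c19e2caee4c52ae128b293c910af85624bee544798518d2d3a90ca88d1acace4452921084c0b108ca086228fe29c6a4e068d4ac37119879e2b2ee4c5a6e238ec93b90d91731a72ea2c5e594c6acd3a915b4106352d19b5a52108488b02929086225030236a0e0b8d42c08cc0c27a23aee3c5751d28ce93b90ca80aa2a6ec2c4a32228d4542916888062bacf934a1210858088296808622d6310c6475c68a8dbdb12b7821a22ee3c5da9486a893b909117562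24ec544471d18b5d42916b880a2a2cf8b5ad2108490b049110762209e29c6575f26aadbb70c2c27a2d5318b4551d28aa93b90888056274eb9b4571d18aad3a916a88c1aaacf834a92108280b2052a082998c309c618e0b8c32c5b106789e2a6ee3c54d1ca6c44ab90888256227ee9341b2228c354511068806326ce2451921089a8b028c6081d985e10c65f5c68cbdbb70c2c07a22eef9b45d1d28ab93b90d680561afee5445f1c76a3d45110788062aece2451d21089b8b029570731908300b610e016addbb70db8729a36ee4c56d1e38ed93b90f1811d9b7ee2c41321188dd3d10c4880a2b6ce2451121089b0b045440805901e09c614e068afdb82cc0c07a33eee3c5ae9528cf93b90f081aa2bfee2c57f1d18a2d45110588b1abece2451521087a0b0884508622cc309c698e316b1dbb7123877a34d303c48d1cd6c449491231756186e25458f1e28d3541ad3f4006346ce2469921089e8b029a6086228de10c69f5c6893db8ece78735aceee4c49ee1289393c91368156204e2134018426b3d390ce788062cece2459d21089f8b024e70762248303b690e0b8d22c5b164787a256ee9b5ad1e38f593c9124f8aa282e22c5af1d18b5d38ed01410a2c8d02469121089f0b048e40862209e09c694e068d7dbb70ef879e2deee3c5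bd1d28d793c9125f809980e22c4098518bca904cc041a1adece2469521087e0b0892f07b2217e09c6d8e068a1db94d15c27a186ee1b4028836a04a88c808235a07ee2c4db2228bb54291368806286ce443d921089c8b0248307b226e310c61f5d16a3dbb7107879e28eee3c51d1d28a3939acde80aa28fee2c51f1cd6a3d3a917788062eed0444dd21089d8b0297708b21e830536d0e068c5dbb7117c27a369303c52d1e38e59394cf98156217ef9342f1d18a5d3a9174880a296ce444d121089d0b0493408b2191e09c6d4e0b8daac5b135780da1eee4c5d6e128c79386cf8815621fee5443f1d18bad4291758891aead0445d521087c0b1088f07621ac309c658e068d9dbb71338711a01644c55ae046a049390f317aa282e62c55b2228cb54290d6880632cd11b5592108788b02973076219de10c6df5cb8cbac5b117787a36eee3c4dd1d28bb93b90d7f821980e62c45f2086a029a90f640062aed11345d2108798b0295708621283063650e068bddb98d3b879e2f6ee3c5ed1e38fd93b913b1756186e6544ef1d18bdd3a90d4880a2f6cf0b4512108790b049140862119e09c554e216bfdbb7130c67a24f6b1b4fd1d28bf93b90f08656204e7134ff1d18aad4291158881afecf034552108580b204ff0762258302b6b0e0b8d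62c37106877a20cee3c5191d28a3138acc617aa28def0b41b1d18dea9a9137410630cce245b122088b89828ac08622cfec9c6b4e068b6ac0acc2879e204ee134091c26a11398c82172d985ee5430b1d18a153a90f64106204ce244b522086b09824c207622dc309c6b8e336a75bdb12e787a31cee4c5bae128c71396cc1815619dee2c4bb20b6b75429109400a2dcd0245b922086a89849ae0862249ed0c62b5c68a55bb70ca8709a14ee3c46e9638f7ec04c808156215ee2c52b1e28c553a90ef8871aded0245bd22084a09888ca0721901e61b630e036bb5bdb1368715a6cee3c3d91d28bb13b908cf8399edee544db1d18bb53a910c88062ecce24631220869898254c0815983e69c634e068b95bb7117c57a373644c636e056b913b90cdf8aa2e5ef8b4cb1d18d953a914d88062e4ce24635220849098290d0839985e69c638e0b8c72c3712ec69e2bd6b134f91d28df13b90cef85627dee2c5fb1ce6a7542914e880a2fcce2463922084889848fe070d9d9e30c7eb5c68dd5b86d15c57a274ee3c5e91e38fd13b90c481561f5ee2c43f2228dd53a914f8861a9ed02463d220828098888f0862119e673670e068ab5bb70d6879e2acef935c28928cb13b90d61756186e02c4732118ae541ccdc8806338d044471220869890291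c086219be69c674e236a95bdb11d787a224ee3c5491cb6c913b90921756204e02c54b1d18a95396d1d88062a4ce4457522084909029dd086219de69c578e068af5b9ccde872da3cee3c4791d28af13b90c981aa282e00b47b1c16af5388cde880a23cce44479220848890451e07621c1e30c66b5cb8efac3711a877a334ee4c57ee238efec390888105980e0544799628d42b02cc04051abed04457d22082809108df08b21f830436f0e068d35b90cc0c37a34cee4c5f2e128b313c913cf856204e42c5f32118be545113c8806378d09b5f1220848888297c08b227a309c6f4e0b8deac37101c331a44ee3c4891cc6b113c91221756186e42c4f72118b153d113d88062c4ce935f522082808829a207b2245ec9c6f8e068b75bb70c2c37a25cee3c5b91d28d713c913ef811980e4544bb1c46b753d1122460a2fcd08b4f922082808048fe08b21c1ed0c5ab5d36d55bdb103c39e2d4ee934a91e38d513c910c81aa282e48b4ff2228b553d117f8841afed0834fd22080808404ff08621a6310c6b35cb8c9ac370c2c57a327303c5b11d28d613c9113f83d9d9ef834b31d18b6a9a915b4006326d02454d20f6628b028450662124309c648e068d45bdb1127839a50ee834a11e38e96c4912817aa2d1ee544a31d18a9542915288062a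4d02454920e66309829680762122309c644e206b25b9acc0c57a2c8ee4c546e128b54ac91241756249ee2c4472228c8d429151880a2a2d02454520d66289848e407620a0306b6835c68b05bb7101c59e2c0ee3c5ae88e6b013c90e017561c1ee2c5831cf6b053a91508831ac0ce2464120c642098852007b21e6310c6735d06ae5b96cdc879e2b8ee3c4711d28ce13b90dc17aa282ea544731d18ae53a91338806338ce246cd20b661898291c07b21e4309c6c8e068ac5bb7118877a230ee4c5cae238ec13b90981729980eb034cb2118d9542913288062e4d0246c920a641098288f06b21e2309c6c4e0b8d8ac370d48725a28ef834511d28b549390941756186ea2c5531e28d8d4290f1880a2e2d0246c5209640898491407b2160305b6c0e068c85bdb103c47a320ee3c6411c96a813b90501756204ea2c4c320a6b854290f08821aa0ce246c120862009885100762246310c6f35c68be5bb713c871da016b034029528de13b90fc1756279ee2c4099118be53d11238806346d04448d207661890297c0762244309c688e306bc5b8ccf8877a345303c5e11e38fc13b90f817561f1ee2c5e31d18b1545112288062c4d04448920664109028b80762242309c684e068da5bdb121789e2e8ee3c4d11d28d14ab90e1f8159e9ee834d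31e28d0d45112d410a2c2d044485205640890480500621c030336c35cb8d02c370f0877a24f644c582e076b813b90b017aa2e1ee544c31c56b054511208811ac0d0445812046200910520082d986310c6335c68c65bdb0c3787a218ee4c50ee128d0490eccc1756119ee2c40f2118d0a99ed038806286d01b50d20364088824410619904309c508e0b8c12c37088879e290ee3c4211e38e4139cc881756191ee2c30b2118a15414cc28806204d01340920262008824830635902309c604e068a25bb70c4877a308ee3c5111d28d14912c8417aa209ee544072228c0d40acc1880a282d00b405201620080440100018803003500e006805b80c808701980ee033011c06801380c401701901ee033031c06805380c808801a00ce03301200600080000000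

def fk (y : ℕ) : ℕ := (cert >>> (27 * y)) % 16
def fpar (y : ℕ) : ℕ := (cert >>> (27 * y + 4)) % 1024
def fdep (y : ℕ) : ℕ := (cert >>> (27 * y + 14)) % 16
def fcls (y : ℕ) : ℕ := (cert >>> (27 * y + 18)) % 8
def fcin (y : ℕ) : ℕ := (cert >>> (27 * y + 21)) % 64

/-- the roots of the five classes -/
def root (k : ℕ) : ℕ := if k = 0 then 0 else if k = 1 then 16 else if k = 2 then 80 else if k = 3 then 1 else 257

def chk1 (y : ℕ) : Bool :=
  if fdep y = 0 then Nat.beq y (root (fcls y))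
  else Nat.beq (gen (fk y) y) (fpar y) && Nat.blt (fdep (fpar y)) (fdep y) &&
    Nat.beq (fcls (fpar y)) (fcls y)

theorem chk1_all : SporadicA.GolayBase.allR 10 0 chk1 = true := by decide +kernel

/-- the vector `c` attached to a node -/
def cY (y : ℕ) : F43 := decA (fcin y)

/-- total change of sign under `s' (cY y)` -/
def sY (y : ℕ) : ZMod 2 := tr (hp3 (aY y) (cY y)) + nn (oY y) (cY y)

def chk2 (y : ℕ) : Bool :=
  if fcls y = 0 then Nat.beq y 0
  else if fcls y = 3 then decide (aY y + dd (oY y) (cY y) = 0) && decide (oY y ≠ 0)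
  else decide (dd (oY y) (cY y) = 0) && decide (sY y = 1)

theorem chk2_all : SporadicA.GolayBase.allR 10 0 chk2 = true := by decide +kernel

theorem chk1_spec {y : ℕ} (hy : y < 1024) : chk1 y = true :=
  SporadicA.GolayBase.allR_zero_spec chk1_all y hy

theorem chk2_spec {y : ℕ} (hy : y < 1024) : chk2 y = true :=
  SporadicA.GolayBase.allR_zero_spec chk2_all y hy

/-- class of `(t, a, o)` -/
def kap (t : ZMod 2) (a : F43) (o : Fin 16) : Fin 7 :=
  if fcls (encY a o) = 0 then (if t = 0 then 0 else 1)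
  else if fcls (encY a o) = 1 then 2
  else if fcls (encY a o) = 2 then 3
  else if fcls (encY a o) = 3 then (if t + sY (encY a o) = 0 then 4 else 5)
  else 6

end Cfsg.Agent.J4Type.EOrbCheck
end

-- part: J4Type/EOrbits
section
/-!
# Orbits of `N_C(E)` on `E = E hex0` (part (c), helper233)

`exists_signs` : for a subset `S` of `E` invariant under `N_C(E)` there are signs for the `f o`
such that `z^t · s a · f o ∈ S` depends only on the class `kap t a o ∈ Fin 7`.
`exists_classes` : the same in terms of seven subsets of `E` of sizes `1, 1, 36, 90, 240, 240, 1440`.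
-/

set_option autoImplicit false

namespace Cfsg.Agent.J4Type.EOrbits

open Cfsg VCoord HexPerms ECoord EElems EPi EOrbCheck
open SporadicA.FieldFour (F4)

/-- a predicate invariant under the maps induced by `Q`, `ρ` and `A₆` -/
structure Inv (F : ZMod 2 → F43 → Fin 16 → Prop) : Prop where
  q : ∀ c t a o, F t a o ↔ F (t + tr (hp3 a c) + nn o c) (a + dd o c) o
  r : ∀ t a o, F t a o ↔ F t (sc .w a) o
  p : ∀ b o, ∃ τ, ∀ t a, F t a o ↔ F (t + τ) (Mb b a) (oG b o)

/-- the same modulo `z` -/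
structure Inv1 (g : F43 → Fin 16 → Prop) : Prop where
  q : ∀ c a o, g a o ↔ g (a + dd o c) o
  r : ∀ a o, g a o ↔ g (sc .w a) o
  p : ∀ b a o, g a o ↔ g (Mb b a) (oG b o)

theorem Inv1.gen {g : F43 → Fin 16 → Prop} (hg : Inv1 g) (k y : ℕ) :
    g (aY y) (oY y) ↔ g (aY (gen k y)) (oY (gen k y)) := by
  unfold EOrbCheck.gen
  split_ifs
  · rw [aY_encY, oY_encY]; exact hg.q _ _ _
  · rw [aY_encY, oY_encY]; exact hg.r _ _
  · rw [aY_encY, oY_encY]; exact hg.p _ _ _
  · rw [aY_encY, oY_encY]; exact hg.p _ _ _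

theorem Inv1.walk {g : F43 → Fin 16 → Prop} (hg : Inv1 g) : ∀ (n y : ℕ), y < 1024 → fdep y = n →
    (g (aY y) (oY y) ↔ g (aY (root (fcls y))) (oY (root (fcls y)))) := by
  intro n
  induction n using Nat.strong_induction_on with
  | _ n ih =>
    intro y hy hn
    have h := chk1_spec hy
    unfold chk1 at h
    split_ifs at h with h0
    · rw [← Nat.eq_of_beq_eq_true h]
    · rw [Bool.and_eq_true, Bool.and_eq_true] at h
      obtain ⟨⟨h1, h2⟩, h3⟩ := h
      have h1' := Nat.eq_of_beq_eq_true h1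
      have h3' := Nat.eq_of_beq_eq_true h3
      have h2' : fdep (fpar y) < fdep y := by
        have := Nat.le_of_ble_eq_true h2
        omega
      have hp : fpar y < 1024 := Nat.mod_lt _ (by norm_num)
      rw [hg.gen (fk y) y, h1', ih _ (hn ▸ h2') (fpar y) hp rfl, h3']

theorem Inv1.root {g : F43 → Fin 16 → Prop} (hg : Inv1 g) (a : F43) (o : Fin 16) :
    g a o ↔ g (aY (root (fcls (encY a o)))) (oY (root (fcls (encY a o)))) := by
  have h := hg.walk _ (encY a o) (encY_lt a o) rfl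
  rw [aY_encY, oY_encY] at h
  exact h

theorem and_shift (P : ZMod 2 → Prop) (s : ZMod 2) : (P (0 + s) ∧ P (1 + s)) ↔ (P 0 ∧ P 1) := by
  rcases zmod2_cases s with rfl | rfl
  · rw [add_zero, add_zero]
  · rw [zero_add, show (1 : ZMod 2) + 1 = 0 from rfl]; exact And.comm

theorem or_shift (P : ZMod 2 → Prop) (s : ZMod 2) : (P (0 + s) ∨ P (1 + s)) ↔ (P 0 ∨ P 1) := by
  rcases zmod2_cases s with rfl | rfl
  · rw [add_zero, add_zero]
  · rw [zero_add, show (1 : ZMod 2) + 1 = 0 from rfl]; exact Or.comm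

variable {F : ZMod 2 → F43 → Fin 16 → Prop}

theorem Inv.and (hF : Inv F) : Inv1 fun a o => F 0 a o ∧ F 1 a o where
  q c a o := by
    rw [hF.q c 0 a o, hF.q c 1 a o, add_assoc, add_assoc]
    exact and_shift (fun t => F t (a + dd o c) o) _
  r a o := by rw [← hF.r, ← hF.r]
  p b a o := by
    obtain ⟨τ, hτ⟩ := hF.p b o
    rw [hτ, hτ]
    exact and_shift (fun t => F t (Mb b a) (oG b o)) _

theorem Inv.or (hF : Inv F) : Inv1 fun a o => F 0 a o ∨ F 1 a o where
  q c a o := by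
    rw [hF.q c 0 a o, hF.q c 1 a o, add_assoc, add_assoc]
    exact or_shift (fun t => F t (a + dd o c) o) _
  r a o := by rw [← hF.r, ← hF.r]
  p b a o := by
    obtain ⟨τ, hτ⟩ := hF.p b o
    rw [hτ, hτ]
    exact or_shift (fun t => F t (Mb b a) (oG b o)) _

theorem fcls_zero : ∀ o : Fin 16, o ≠ 0 → fcls (encY 0 o) = 3 := by decide +kernel

theorem root3 : aY (root 3) = 0 ∧ oY (root 3) = 1 := by decide +kernel

theorem fcls_encY_zero {a : F43} {o : Fin 16} (h : fcls (encY a o) = 0) : a = 0 ∧ o = 0 := by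
  have h2 := chk2_spec (encY_lt a o)
  unfold chk2 at h2
  rw [if_pos h] at h2
  have h3 := Nat.eq_of_beq_eq_true h2
  have e1 := aY_encY a o
  have e2 := oY_encY a o
  rw [h3] at e1 e2
  exact ⟨by rw [← e1]; decide +kernel, by rw [← e2]; rfl⟩

theorem fcls_three {a : F43} {o : Fin 16} (h : fcls (encY a o) = 3) :
    a + dd o (cY (encY a o)) = 0 ∧ o ≠ 0 := by
  have h2 := chk2_spec (encY_lt a o)
  unfold chk2 at h2
  rw [if_neg (by rw [h]; norm_num), if_pos h, aY_encY, oY_encY, Bool.and_eq_true,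
    decide_eq_true_eq, decide_eq_true_eq] at h2
  exact h2

theorem fcls_other {a : F43} {o : Fin 16} (h0 : fcls (encY a o) ≠ 0) (h3 : fcls (encY a o) ≠ 3) :
    dd o (cY (encY a o)) = 0 ∧ sY (encY a o) = 1 := by
  have h2 := chk2_spec (encY_lt a o)
  unfold chk2 at h2
  rw [if_neg h0, if_neg h3, oY_encY, Bool.and_eq_true,
    decide_eq_true_eq, decide_eq_true_eq] at h2
  exact h2

/-- Outside the class of the `f o` and away from `1, z`, membership does not depend on `t`. -/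
theorem Inv.shift (hF : Inv F) {a : F43} {o : Fin 16} (h0 : fcls (encY a o) ≠ 0)
    (h3 : fcls (encY a o) ≠ 3) (t : ZMod 2) : F t a o ↔ (F 0 a o ∧ F 1 a o) := by
  obtain ⟨h1, h2⟩ := fcls_other h0 h3
  have h4 : ∀ t, F t a o ↔ F (t + 1) a o := by
    intro t
    have h5 := hF.q (cY (encY a o)) t a o
    rw [h1, add_zero, add_assoc] at h5
    rw [h5]
    have h6 : tr (hp3 a (cY (encY a o))) + nn o (cY (encY a o)) = 1 := by
      have := h2
      unfold sY at this
      rw [aY_encY, oY_encY] at this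
      exact this
    rw [h6]
  have h5 := h4 0
  rw [zero_add] at h5
  rcases zmod2_cases t with rfl | rfl
  · exact ⟨fun h => ⟨h, h5.1 h⟩, fun h => h.1⟩
  · exact ⟨fun h => ⟨h5.2 h, h⟩, fun h => h.2⟩

open Classical in
/-- **Main lemma.** -/
theorem Inv.main (hF : Inv F) : ∃ ζ : Fin 16 → ZMod 2, ζ 0 = 0 ∧ ∃ χ : Fin 7 → Prop,
    ∀ t a o, F t a o ↔ χ (kap (t + ζ o) a o) := by
  let ζ : Fin 16 → ZMod 2 := fun o => if o = 0 then 0 else if F 0 0 o then 0 else 1
  have hζ : ζ 0 = 0 := if_pos rfl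
  let R : ℕ → Prop := fun k => F 0 (aY (root k)) (oY (root k)) ∧ F 1 (aY (root k)) (oY (root k))
  let χ : Fin 7 → Prop := ![F 0 0 0, F 1 0 0, R 1, R 2, F 0 0 1 ∨ F 1 0 1, F 0 0 1 ∧ F 1 0 1, R 4]
  refine ⟨ζ, hζ, χ, fun t a o => ?_⟩
  have hroot4 : ∀ k, k ≠ 0 → k ≠ 1 → k ≠ 2 → k ≠ 3 → root k = root 4 := by
    intro k h0 h1 h2 h3
    unfold root
    rw [if_neg h0, if_neg h1, if_neg h2, if_neg h3]
    rfl
  unfold kap
  split_ifs with h0 ht h1 h2 h3 hs
  · obtain ⟨rfl, rfl⟩ := fcls_encY_zero h0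
    rw [hζ, add_zero] at ht
    rw [ht]; exact Iff.rfl
  · obtain ⟨rfl, rfl⟩ := fcls_encY_zero h0
    rw [hζ, add_zero] at ht
    rw [(zmod2_cases t).resolve_left ht]; exact Iff.rfl
  · rw [hF.shift h0 (by rw [h1]; norm_num) t]
    have h := hF.and.root a o
    rw [h1] at h
    exact h
  · rw [hF.shift h0 (by rw [h2]; norm_num) t]
    have h := hF.and.root a o
    rw [h2] at h
    exact h
  all_goals first
    | (obtain ⟨h4, ho⟩ := fcls_three h3
       have h5 := hF.q (cY (encY a o)) t a o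
       rw [h4, add_assoc] at h5
       have h6 : tr (hp3 a (cY (encY a o))) + nn o (cY (encY a o)) = sY (encY a o) := by
         unfold sY
         rw [aY_encY, oY_encY]
       rw [h6] at h5
       have ha := hF.and.root 0 o
       have hb := hF.or.root 0 o
       rw [fcls_zero o ho, root3.1, root3.2] at ha hb
       have hz : ζ o = if F 0 0 o then 0 else 1 := if_neg ho
       generalize sY (encY a o) = s at h5 hs
       rw [h5]
       have e1 : ∀ x y w : ZMod 2, x + y + w = 0 → x + w = y := by decide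
       have e2 : ∀ x y w : ZMod 2, x + y + w ≠ 0 → x + w = y + 1 := by decide
       first
        | (rw [e1 _ _ _ hs]
           show _ ↔ (F 0 0 1 ∨ F 1 0 1)
           rw [← hb, hz]
           by_cases h : F 0 0 o
           · rw [if_pos h]; exact ⟨fun _ => Or.inl h, fun _ => h⟩
           · rw [if_neg h]; exact ⟨fun h' => Or.inr h', fun h' => h'.resolve_left h⟩)
        | (rw [e2 _ _ _ hs]
           show _ ↔ (F 0 0 1 ∧ F 1 0 1)
           rw [← ha, hz]
           by_cases h : F 0 0 o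
           · rw [if_pos h, zero_add]; exact ⟨fun h' => ⟨h, h'⟩, fun h' => h'.2⟩
           · rw [if_neg h, show (1 : ZMod 2) + 1 = 0 from rfl]
             exact ⟨fun h' => absurd h' h, fun h' => absurd h'.1 h⟩))
    | (rw [hF.shift h0 h3 t]
       have h := hF.and.root a o
       rw [hroot4 _ h0 h1 h2 h3] at h
       exact h)

end Cfsg.Agent.J4Type.EOrbits
end

-- part: J4Type/EClasses
section
/-!
# The seven classes of `N_C(E)` on `E = E hex0` (part (c), helper233)

`exists_signs`, `K`, `K_ncard`, `exists_classes` (for the count `|z^{N_G(E)}| = 1771`).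
-/

set_option autoImplicit false

open scoped Pointwise

namespace Cfsg.Agent.J4Type.EClasses

open Cfsg VCoord HexPerms ECoord EElems EPi EOrbCheck EOrbits
open SporadicA.FieldFour (F4)

/-! ### counting -/

/-- number of `s ≤ i < s + 2 ^ k` with `p i` -/
def cntR : ℕ → ℕ → (ℕ → Bool) → ℕ
  | 0, s, p => (p s).toNat
  | k + 1, s, p => cntR k s p + cntR k (s + 2 ^ k) p

theorem cntR_spec (k : ℕ) : ∀ (s : ℕ) (p : ℕ → Bool),
    cntR k s p = ((Finset.Ico s (s + 2 ^ k)).filter fun i => p i = true).card := by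
  induction k with
  | zero =>
    intro s p
    rw [pow_zero, Nat.Ico_succ_singleton]
    show (p s).toNat = _
    cases h : p s with
    | false => rw [Finset.filter_singleton, if_neg (by rw [h]; exact Bool.false_ne_true)]; rfl
    | true => rw [Finset.filter_singleton, if_pos h]; rfl
  | succ k ih =>
    intro s p
    show cntR k s p + cntR k (s + 2 ^ k) p = _
    rw [ih, ih]
    have h1 : Finset.Ico s (s + 2 ^ (k + 1)) =
        Finset.Ico s (s + 2 ^ k) ∪ Finset.Ico (s + 2 ^ k) (s + 2 ^ k + 2 ^ k) := by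
      rw [Finset.Ico_union_Ico_eq_Ico (Nat.le_add_right _ _) (Nat.le_add_right _ _)]
      congr 1
      rw [pow_succ, mul_two, add_assoc]
    rw [h1, Finset.filter_union, Finset.card_union_of_disjoint]
    rw [Finset.disjoint_left]
    intro x hx hx'
    have := Finset.mem_Ico.1 (Finset.mem_filter.1 hx).1
    have := Finset.mem_Ico.1 (Finset.mem_filter.1 hx').1
    omega

/-! ### coding of the index set -/

def tX (x : ℕ) : ZMod 2 := if x / 1024 = 0 then 0 else 1
def aX (x : ℕ) : F43 := decA (x / 16 % 64)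
def oX (x : ℕ) : Fin 16 := ⟨x % 16, Nat.mod_lt _ (by norm_num)⟩
def encX (t : ZMod 2) (a : F43) (o : Fin 16) : ℕ := encY a o + (if t = 0 then 0 else 1024)

theorem encX_lt (t : ZMod 2) (a : F43) (o : Fin 16) : encX t a o < 2048 := by
  have := encY_lt a o
  unfold encX
  split_ifs <;> omega

theorem tX_encX (t : ZMod 2) (a : F43) (o : Fin 16) : tX (encX t a o) = t := by
  have := encY_lt a o
  unfold tX encX
  by_cases h : t = 0
  · rw [if_pos h, if_pos (by omega), h]
  · rw [if_neg h, if_neg (by omega)]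
    exact ((zmod2_cases t).resolve_left h).symm

theorem aX_encX (t : ZMod 2) (a : F43) (o : Fin 16) : aX (encX t a o) = a := by
  have h1 := encA_lt a
  have h2 := o.2
  have h3 : encX t a o / 16 % 64 = encA a := by
    unfold encX encY
    split_ifs <;> omega
  unfold aX
  rw [h3, decA_encA]

theorem oX_encX (t : ZMod 2) (a : F43) (o : Fin 16) : oX (encX t a o) = o := by
  have h2 := o.2
  apply Fin.ext
  show encX t a o % 16 = o.val
  unfold encX encY
  split_ifs <;> omega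

theorem encX_dec : ∀ x < 2048, encX (tX x) (aX x) (oX x) = x := by
  have h : SporadicA.GolayBase.allR 11 0 (fun x => Nat.beq (encX (tX x) (aX x) (oX x)) x) = true := by
    decide +kernel
  intro x hx
  exact Nat.eq_of_beq_eq_true (SporadicA.GolayBase.allR_zero_spec h x hx)

/-- the class of an index -/
def kapX (x : ℕ) : Fin 7 := kap (tX x) (aX x) (oX x)

def sizes : Fin 7 → ℕ := ![1, 1, 36, 90, 240, 240, 1440]

theorem cnt_kap : ∀ k : Fin 7, cntR 11 0 (fun x => decide (kapX x = k)) = sizes k := by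
  decide +kernel

/-- classes `≤ 3` are the classes inside `Q` -/
theorem kap_o : ∀ x < 2048, (oX x = 0 ↔ kapX x ≤ 3) := by
  have h : SporadicA.GolayBase.allR 11 0 (fun x => decide (oX x = 0 ↔ kapX x ≤ 3)) = true := by
    decide +kernel
  intro x hx
  exact of_decide_eq_true (SporadicA.GolayBase.allR_zero_spec h x hx)

theorem kap_zero : ∀ x < 2048, (kapX x = 0 ↔ x = 0) := by
  have h : SporadicA.GolayBase.allR 11 0 (fun x => decide (kapX x = 0 ↔ x = 0)) = true := by
    decide +kernel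
  intro x hx
  exact of_decide_eq_true (SporadicA.GolayBase.allR_zero_spec h x hx)

theorem kap_one : ∀ x < 2048, (kapX x = 1 ↔ x = 1024) := by
  have h : SporadicA.GolayBase.allR 11 0 (fun x => decide (kapX x = 1 ↔ x = 1024)) = true := by
    decide +kernel
  intro x hx
  exact of_decide_eq_true (SporadicA.GolayBase.allR_zero_spec h x hx)

theorem kap_eq (t : ZMod 2) (a : F43) (o : Fin 16) : kap t a o = kapX (encX t a o) := by
  unfold kapX; rw [tX_encX, aX_encX, oX_encX]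

variable {G : Type*} [Group G] {H : Hex G} (C : ECoord H) (F : FSys H)

/-- the seven classes -/
def K (k : Fin 7) : Set G := {x | ∃ t a o, x = el C F t a o ∧ kap t a o = k}

theorem el_mem_K {t : ZMod 2} {a : F43} {o : Fin 16} {k : Fin 7} :
    el C F t a o ∈ K C F k ↔ kap t a o = k := by
  constructor
  · rintro ⟨t', a', o', h, hk⟩
    obtain ⟨rfl, rfl, rfl⟩ := el_inj C F h
    exact hk
  · intro h
    exact ⟨t, a, o, rfl, h⟩

theorem mem_E_iff {x : G} : x ∈ H.E hex0 ↔ ∃ k, x ∈ K C F k := by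
  constructor
  · intro hx
    obtain ⟨t, a, o, rfl⟩ := el_surj C F hx
    exact ⟨_, (el_mem_K C F).2 rfl⟩
  · rintro ⟨k, t, a, o, rfl, -⟩
    exact el_mem C F _ _ _

theorem K_unique {x : G} {k l : Fin 7} (hk : x ∈ K C F k) (hl : x ∈ K C F l) : k = l := by
  obtain ⟨t, a, o, rfl, h⟩ := hk
  rw [← h]
  exact (el_mem_K C F).1 hl

theorem mem_Q_iff {x : G} {k : Fin 7} (hk : x ∈ K C F k) : x ∈ H.Q ↔ k ≤ 3 := by
  obtain ⟨t, a, o, rfl, h⟩ := hk
  rw [el_mem_Q_iff, ← h, kap_eq, ← kap_o _ (encX_lt t a o), oX_encX]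

theorem K_zero : K C F 0 = {1} := by
  ext x
  constructor
  · rintro ⟨t, a, o, rfl, h⟩
    rw [kap_eq, kap_zero _ (encX_lt _ _ _)] at h
    have e1 := tX_encX t a o
    have e2 := aX_encX t a o
    have e3 := oX_encX t a o
    rw [h] at e1 e2 e3
    rw [← e1, ← e2, ← e3]
    show el C F 0 (decA 0) 0 = 1
    rw [show decA 0 = 0 by decide +kernel, el_one]
  · rintro rfl
    rw [← el_one C F]
    exact (el_mem_K C F).2 (by decide +kernel)

theorem K_one : K C F 1 = {H.z} := by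
  ext x
  constructor
  · rintro ⟨t, a, o, rfl, h⟩
    rw [kap_eq, kap_one _ (encX_lt _ _ _)] at h
    have e1 := tX_encX t a o
    have e2 := aX_encX t a o
    have e3 := oX_encX t a o
    rw [h] at e1 e2 e3
    rw [← e1, ← e2, ← e3]
    show el C F (tX 1024) (aX 1024) (oX 1024) = H.z
    rw [show tX 1024 = 1 by decide +kernel, show aX 1024 = 0 by decide +kernel,
      show oX 1024 = 0 by decide +kernel, el_z]
  · intro h
    rw [Set.mem_singleton_iff.1 h, ← el_z C F]
    exact (el_mem_K C F).2 (by decide +kernel)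

theorem K_ncard (k : Fin 7) : (K C F k).ncard = sizes k := by
  classical
  let e : ℕ → G := fun x => el C F (tX x) (aX x) (oX x)
  let S : Finset ℕ := (Finset.Ico 0 (0 + 2 ^ 11)).filter fun x => decide (kapX x = k) = true
  have h1 : K C F k = e '' (S : Set ℕ) := by
    ext x
    constructor
    · rintro ⟨t, a, o, rfl, h⟩
      refine ⟨encX t a o, ?_, ?_⟩
      · rw [Finset.mem_coe, Finset.mem_filter, Finset.mem_Ico]
        refine ⟨⟨Nat.zero_le _, ?_⟩, ?_⟩
        · have := encX_lt t a o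
          norm_num
          omega
        · rw [decide_eq_true_eq, ← kap_eq]; exact h
      · show el C F (tX (encX t a o)) (aX (encX t a o)) (oX (encX t a o)) = _
        rw [tX_encX, aX_encX, oX_encX]
    · rintro ⟨y, hy, rfl⟩
      rw [Finset.mem_coe, Finset.mem_filter] at hy
      exact (el_mem_K C F).2 (of_decide_eq_true hy.2)
  have hinj : Set.InjOn e (S : Set ℕ) := by
    intro x hx y hy h
    rw [Finset.mem_coe, Finset.mem_filter, Finset.mem_Ico] at hx hy
    obtain ⟨h1, h2, h3⟩ := el_inj C F h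
    have hx' : x < 2048 := by have := hx.1.2; norm_num at this; exact this
    have hy' : y < 2048 := by have := hy.1.2; norm_num at this; exact this
    rw [← encX_dec x hx', ← encX_dec y hy', h1, h2, h3]
  rw [h1, hinj.ncard_image, Set.ncard_coe_finset, ← cntR_spec, cnt_kap]

/-- the invariance of the index predicate -/
theorem inv_of (S : Set G) (hS : ∀ n : G, n * H.z = H.z * n →
    (∀ a, a ∈ H.E hex0 ↔ n * a * n⁻¹ ∈ H.E hex0) → ∀ a ∈ H.E hex0, (a ∈ S ↔ n * a * n⁻¹ ∈ S)) :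
    Inv fun t a o => el C F t a o ∈ S where
  q c t a o := by
    have hE : ∀ x, x ∈ H.E hex0 ↔ C.s' c * x * (C.s' c)⁻¹ ∈ H.E hex0 :=
      conj_mem_E H ⟨C.s' c, H.Q_le (C.s'_Q c)⟩ (by rw [P_of_Q H _ (C.s'_Q c), one_smul])
    rw [hS (C.s' c) (comm_z H (C.s'_Q c)) hE _ (el_mem C F t a o), conj_el]
  r t a o := by
    have hE : ∀ x, x ∈ H.E hex0 ↔ H.ρ * x * H.ρ⁻¹ ∈ H.E hex0 :=
      conj_mem_E H (rC H) (by rw [P_rC, one_smul])
    rw [hS H.ρ H.ρ_comm hE _ (el_mem C F t a o), rho_el]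
  p b o := by
    obtain ⟨g, h1, h2, h3, h4, h5⟩ := exists_piC C F b
    obtain ⟨τ, hτ⟩ := h5 o
    refine ⟨τ, fun t a => ?_⟩
    rw [hS g h1 h3 _ (el_mem C F t a o)]
    have h6 : g * el C F t a o * g⁻¹ = el C F (t + τ) (Mb b a) (oG b o) := by
      have hz : g * zp H.z t * g⁻¹ = zp H.z t := by rw [zp_comm h1]; group
      calc g * el C F t a o * g⁻¹
          = (g * zp H.z t * g⁻¹) * (g * C.s a * g⁻¹) * (g * F.f o * g⁻¹) := by unfold el; group
        _ = zp H.z t * (C.s (Mb b a) * zp H.z τ) * F.f (oG b o) := by rw [hz, h4, hτ]; group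
        _ = _ := by
            rw [zp_comm (comm_z H (C.s_Q _))]
            unfold el
            rw [zp_add (zz H)]; group
    rw [h6]

/-- **Signs.** -/
theorem exists_signs (S : Set G) (hS : ∀ n : G, n * H.z = H.z * n →
    (∀ a, a ∈ H.E hex0 ↔ n * a * n⁻¹ ∈ H.E hex0) → ∀ a ∈ H.E hex0, (a ∈ S ↔ n * a * n⁻¹ ∈ S)) :
    ∃ (F : FSys H) (χ : Fin 7 → Prop), ∀ t a o, el C F t a o ∈ S ↔ χ (kap t a o) := by
  obtain ⟨F⟩ := exists_FSys H
  obtain ⟨ζ, hζ, χ, h⟩ := (inv_of C F S hS).main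
  refine ⟨F.twist ζ hζ, χ, fun t a o => ?_⟩
  rw [el_twist]
  refine (h (t + ζ o) a o).trans ?_
  rw [add_assoc, show ζ o + ζ o = 0 by generalize ζ o = x; revert x; decide, add_zero]

include C in
/-- **Classes.** -/
theorem exists_classes (S : Set G) (hS : ∀ n : G, n * H.z = H.z * n →
    (∀ a, a ∈ H.E hex0 ↔ n * a * n⁻¹ ∈ H.E hex0) → ∀ a ∈ H.E hex0, (a ∈ S ↔ n * a * n⁻¹ ∈ S)) :
    ∃ K : Fin 7 → Set G, (∀ x, x ∈ H.E hex0 ↔ ∃ k, x ∈ K k) ∧
      (∀ x k l, x ∈ K k → x ∈ K l → k = l) ∧ K 0 = {1} ∧ K 1 = {H.z} ∧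
      (∀ k, (K k).ncard = sizes k) ∧ (∀ x k, x ∈ K k → (x ∈ H.Q ↔ k ≤ 3)) ∧
      ∀ k, K k ⊆ S ∨ Disjoint (K k) S := by
  obtain ⟨F, χ, h⟩ := exists_signs C S hS
  refine ⟨K C F, fun x => mem_E_iff C F, fun x k l => K_unique C F, K_zero C F, K_one C F,
    K_ncard C F, fun x k => mem_Q_iff C F, fun k => ?_⟩
  by_cases hk : χ k
  · left
    rintro x ⟨t, a, o, rfl, h1⟩
    rw [h, h1]
    exact hk
  · right
    rw [Set.disjoint_left]
    rintro x ⟨t, a, o, rfl, h1⟩ hx
    rw [h, h1] at hx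
    exact hk hx

end Cfsg.Agent.J4Type.EClasses
end

-- part: J4Type/FusionM24
section
/-!
# Facts on `M24` for the fusion part of the `J4` recognition (R07, helper180)
-/

set_option autoImplicit false

open scoped Pointwise

namespace Cfsg.Agent.J4Type.FusionM24

open Cfsg Cfsg.Agent.J4Type Cfsg.Agent.SporadicA.GolayBase Cfsg.Agent.SporadicA.GolayPerm
  Cfsg.Agent.J4Type.HexMax

theorem mem_iff_of_smul_eq {g : Equiv.Perm GolayPt} {o : Finset GolayPt} (h : g • o = o)
    (x : GolayPt) : g x ∈ o ↔ x ∈ o := by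
  have h1 := mem_smul_iff g o x
  rwa [h] at h1

/-- An element of `M24` stabilising an octad and fixing six of its points fixes it pointwise. -/
theorem fix_octad_of_six {g : Equiv.Perm GolayPt} (hg : g ∈ M24) {o : Finset GolayPt}
    (ho : o ∈ octads) (hgo : g • o = o) {s : Finset GolayPt} (hs : s ⊆ o) (h6 : s.card = 6)
    (hfix : ∀ z ∈ s, g z = z) : ∀ z ∈ o, g z = z := by
  obtain ⟨p, hp⟩ : ∃ p : GolayPt, p ∉ o := by
    by_contra hcon
    push Not at hcon
    have h1 : o = Finset.univ := Finset.eq_univ_iff_forall.2 hcon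
    have h2 := octad_card ho
    rw [h1, Finset.card_univ, card24] at h2
    omega
  have H := Cfsg.Agent.SporadicStructure.OctadStabFinal.hyp ho hp
  obtain ⟨k, hk, hko, hkg⟩ := Cfsg.Agent.SporadicStructure.OctadStabAbs.exists_mul_mem_L H g hg
    (mem_iff_of_smul_eq hgo)
  obtain ⟨h1, h2, h3⟩ := Cfsg.Agent.SporadicStructure.OctadStabAbs.mem_L.1 hkg
  have h4 : k * g = 1 := H.hR _ h1 h2 h3 s hs h6 (by
    intro z hz
    rw [Equiv.Perm.mul_apply, hfix z hz, hko z (hs hz)])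
  intro z hz
  have h5 : g = k⁻¹ := eq_inv_of_mul_eq_one_right h4
  rw [h5, Equiv.Perm.inv_eq_iff_eq]
  exact (hko z hz).symm

/-- the images of a permutation of order five in `M22`, fixing `hex0` -/
def P5 : ℕ := pack [0, 21, 2, 3, 10, 4, 11, 14, 18, 19, 6, 5, 15, 17, 9, 1, 13, 8, 16, 20, 7, 22,
  12, 23]

theorem isPerm_P5 : isPerm P5 = true := by decide +kernel

theorem isAut_P5 : isAut P5 = true := by decide +kernel

theorem exists_order_five : ∃ g ∈ M22d, g • hex0 = hex0 ∧ g ^ 5 = 1 ∧ g ≠ 1 := by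
  refine ⟨permOf P5 isPerm_P5, ⟨permOf_mem_M24 isPerm_P5 isAut_P5, ?_⟩, ?_, ?_, ?_⟩
  · show permOf P5 isPerm_P5 • base = base
    have h1 : base = fin 8388609 := by decide +kernel
    rw [h1, smul_fin]
    have : pimg P5 8388609 = 8388609 := by decide +kernel
    rw [this]
  · have h1 : hex0 = fin 8391797 := by decide +kernel
    rw [h1, smul_fin]
    have : pimg P5 8391797 = 8391797 := by decide +kernel
    rw [this]
  · ext1 p
    simp only [pow_succ, pow_zero, one_mul, Equiv.Perm.mul_apply, permOf_apply,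
      Equiv.Perm.one_apply]
    revert p
    decide +kernel
  · intro h
    have h1 : permOf P5 isPerm_P5 (some 1) = some 1 := by rw [h]; rfl
    rw [permOf_apply] at h1
    exact absurd h1 (by decide +kernel)

end Cfsg.Agent.J4Type.FusionM24
end

-- part: J4Type/FusionFive
section
/-!
# A 2-group normalised by an element of order 5, on 6 points (R07, helper180)
-/

set_option autoImplicit false

namespace Cfsg.Agent.J4Type.FusionFive

open MulAction

/-- A 2-group of permutations preserving a set of six points and normalised by an element of order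
five acting nontrivially on it, is trivial on it. -/
theorem six_fix {α : Type*} [DecidableEq α] (B : Subgroup (Equiv.Perm α)) (hB : IsPGroup 2 B)
    (σ : Equiv.Perm α) (hσ5 : σ ^ 5 = 1) (S : Finset α) (hS : S.card = 6)
    (hBS : ∀ b ∈ B, ∀ x ∈ S, b x ∈ S) (hσS : ∀ x ∈ S, σ x ∈ S) (hσ1 : ∃ x ∈ S, σ x ≠ x)
    (hnorm : ∀ b ∈ B, σ⁻¹ * b * σ ∈ B) : ∀ b ∈ B, ∀ x ∈ S, b x = x := by
  classical
  obtain ⟨p, hpS, hp⟩ := hσ1
  have hper : Function.minimalPeriod σ p = 5 := by
    have : Fact (Nat.Prime 5) := ⟨by norm_num⟩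
    apply Function.minimalPeriod_eq_prime
    · show (σ : α → α)^[5] p = p
      rw [Equiv.Perm.iterate_eq_pow, hσ5]; rfl
    · intro h; exact hp h
  have hpow : ∀ n, (σ ^ n) p ∈ S := by
    intro n
    induction n with
    | zero => simpa using hpS
    | succ n ih => rw [pow_succ', Equiv.Perm.mul_apply]; exact hσS _ ih
  set O5 : Finset α := (Finset.range 5).image (fun i => (σ ^ i) p) with hO5
  have hO5c : O5.card = 5 := by
    rw [hO5, Finset.card_image_of_injOn, Finset.card_range]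
    intro i hi j hj hij
    have h1 := Function.iterate_injOn_Iio_minimalPeriod (f := σ) (x := p)
    rw [hper] at h1
    apply h1 (by simpa using hi) (by simpa using hj)
    simpa [Equiv.Perm.iterate_eq_pow] using hij
  have hO5S : O5 ⊆ S := by
    intro x hx
    rw [hO5, Finset.mem_image] at hx
    obtain ⟨i, -, rfl⟩ := hx
    exact hpow i
  have hmem5 : ∀ n, (σ ^ n) p ∈ O5 := by
    intro n
    rw [hO5, Finset.mem_image]
    refine ⟨n % 5, Finset.mem_range.2 (Nat.mod_lt _ (by norm_num)), ?_⟩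
    have : σ ^ n = σ ^ (n % 5) := by
      conv_lhs => rw [← Nat.mod_add_div n 5, pow_add, pow_mul, hσ5, one_pow, mul_one]
    rw [this]
  have hdiff : (S \ O5).card = 1 := by
    rw [Finset.card_sdiff_of_subset hO5S, hS, hO5c]
  obtain ⟨r, hr⟩ := Finset.card_eq_one.1 hdiff
  have hrS : r ∈ S ∧ r ∉ O5 := by
    have : r ∈ S \ O5 := by rw [hr]; exact Finset.mem_singleton_self r
    exact Finset.mem_sdiff.1 this
  have hcases : ∀ x ∈ S, x = r ∨ ∃ n, x = (σ ^ n) p := by
    intro x hx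
    by_cases h5 : x ∈ O5
    · right
      rw [hO5, Finset.mem_image] at h5
      obtain ⟨i, -, rfl⟩ := h5
      exact ⟨i, rfl⟩
    · left
      have : x ∈ S \ O5 := Finset.mem_sdiff.2 ⟨hx, h5⟩
      rw [hr] at this
      exact Finset.mem_singleton.1 this
  have hσr : σ r = r := by
    rcases hcases (σ r) (hσS r hrS.1) with h1 | ⟨n, h1⟩
    · exact h1
    · exfalso
      apply hrS.2
      have h2 : r = (σ ^ (n + 4)) p := by
        have h3 : (σ ^ 4) (σ r) = r := by
          rw [← Equiv.Perm.mul_apply, ← pow_succ, hσ5]; rfl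
        rw [← h3, h1, ← Equiv.Perm.mul_apply, ← pow_add, add_comm]
      rw [h2]; exact hmem5 _
  -- a `σ`-closed predicate holding at one `σ ^ n p` holds at all
  have hclosed : ∀ (T : α → Prop), (∀ x, T x → T (σ x)) → ∀ n, T ((σ ^ n) p) →
      ∀ m, T ((σ ^ m) p) := by
    intro T hT n hn m
    have h1 : ∀ k, T ((σ ^ k) ((σ ^ n) p)) := by
      intro k
      induction k with
      | zero => simpa using hn
      | succ k ih => rw [pow_succ', Equiv.Perm.mul_apply]; exact hT _ ih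
    have h2 := h1 (m + 4 * n)
    rw [← Equiv.Perm.mul_apply, ← pow_add] at h2
    have h3 : σ ^ (m + 4 * n + n) = σ ^ m := by
      rw [show m + 4 * n + n = m + 5 * n by ring, pow_add, pow_mul, hσ5, one_pow, mul_one]
    rwa [h3] at h2
  -- action on `S`
  letI act : MulAction B {x // x ∈ S} :=
    { smul := fun b x => ⟨b.1 x.1, hBS b.1 b.2 x.1 x.2⟩
      one_smul := fun x => Subtype.ext rfl
      mul_smul := fun a b x => Subtype.ext rfl }
  have hsmul : ∀ (b : B) (x : {x // x ∈ S}), ((b • x : {x // x ∈ S}) : α) = b.1 x.1 :=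
    fun _ _ => rfl
  have hcardS : Nat.card {x // x ∈ S} = 6 := by
    rw [Nat.card_eq_fintype_card, Fintype.card_coe, hS]
  -- `B` fixes `r`
  have hfixr : ∀ b ∈ B, b r = r := by
    by_contra hcon
    push Not at hcon
    obtain ⟨b, hb, hbr⟩ := hcon
    have hT : ∀ x, (∃ c ∈ B, c r = x) → ∃ c ∈ B, c r = σ x := by
      rintro x ⟨c, hc, rfl⟩
      refine ⟨σ * c * σ⁻¹, ?_, ?_⟩
      · have h4 : ∀ k : ℕ, (σ⁻¹) ^ k * c * σ ^ k ∈ B := by
          intro k
          induction k with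
          | zero => simpa using hc
          | succ k ih =>
            have := hnorm _ ih
            have e : σ⁻¹ * ((σ⁻¹) ^ k * c * σ ^ k) * σ = (σ⁻¹) ^ (k + 1) * c * σ ^ (k + 1) := by
              rw [pow_succ' (σ⁻¹) k, pow_succ σ k]; simp only [mul_assoc]
            rwa [e] at this
        have h5 := h4 4
        have e1 : (σ⁻¹) ^ 4 = σ := by
          have : σ ^ 4 * σ = 1 := by rw [← pow_succ, hσ5]
          rw [inv_pow]
          exact (eq_inv_of_mul_eq_one_right this).symm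
        have e2 : σ ^ 4 = σ⁻¹ := by
          have : σ ^ 4 * σ = 1 := by rw [← pow_succ, hσ5]
          exact eq_inv_of_mul_eq_one_left this
        rwa [e1, e2] at h5
      · rw [Equiv.Perm.mul_apply, Equiv.Perm.mul_apply]
        have : σ⁻¹ r = r := by
          rw [Equiv.Perm.inv_eq_iff_eq]; exact hσr.symm
        rw [this]
    have hall : ∀ x : {x // x ∈ S}, x ∈ orbit B (⟨r, hrS.1⟩ : {x // x ∈ S}) := by
      intro x
      have hx : ∃ c ∈ B, c r = x.1 := by
        rcases hcases x.1 x.2 with h1 | ⟨n, h1⟩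
        · exact ⟨1, B.one_mem, h1.symm⟩
        · rw [h1]
          rcases hcases (b r) (hBS b hb r hrS.1) with h2 | ⟨m, h2⟩
          · exact absurd h2 hbr
          · exact hclosed (fun y => ∃ c ∈ B, c r = y) hT m ⟨b, hb, h2⟩ n
      obtain ⟨c, hc, hcx⟩ := hx
      exact ⟨⟨c, hc⟩, Subtype.ext hcx⟩
    obtain ⟨n, hn⟩ := hB.card_orbit (⟨r, hrS.1⟩ : {x // x ∈ S})
    have huniv : orbit B (⟨r, hrS.1⟩ : {x // x ∈ S}) = Set.univ := Set.eq_univ_of_forall hall
    rw [huniv, Nat.card_coe_set_eq, Set.ncard_univ, hcardS] at hn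
    rcases Nat.lt_or_ge n 3 with h3 | h3
    · interval_cases n <;> omega
    · have : 2 ^ 3 ≤ 2 ^ n := Nat.pow_le_pow_right (by norm_num) h3
      omega
  -- parity
  have hmod := hB.card_modEq_card_fixedPoints {x // x ∈ S}
  rw [hcardS] at hmod
  have hrfix : (⟨r, hrS.1⟩ : {x // x ∈ S}) ∈ fixedPoints B {x // x ∈ S} := by
    intro b
    exact Subtype.ext (hfixr b.1 b.2)
  have hexist : ∃ x ∈ fixedPoints B {x // x ∈ S}, x ≠ ⟨r, hrS.1⟩ := by
    by_contra hcon
    push Not at hcon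
    have : fixedPoints B {x // x ∈ S} = {⟨r, hrS.1⟩} := by
      ext x
      constructor
      · intro hx; exact hcon x hx
      · rintro rfl; exact hrfix
    rw [this] at hmod
    simp only [Nat.card_unique] at hmod
    exact absurd hmod (by decide)
  obtain ⟨x, hx, hxr⟩ := hexist
  have hxr' : (x : α) ≠ r := fun h => hxr (Subtype.ext h)
  obtain ⟨n, hn⟩ := (hcases x.1 x.2).resolve_left hxr'
  have hTfix : ∀ y, (∀ b ∈ B, b y = y) → ∀ b ∈ B, b (σ y) = σ y := by
    intro y hy b hb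
    have h1 := hy _ (hnorm b hb)
    rw [Equiv.Perm.mul_apply, Equiv.Perm.mul_apply, Equiv.Perm.inv_eq_iff_eq] at h1
    exact h1
  have hfixn : ∀ m, ∀ b ∈ B, b ((σ ^ m) p) = (σ ^ m) p :=
    hclosed (fun y => ∀ b ∈ B, b y = y) hTfix n (by
      rw [← hn]
      intro b hb
      exact congrArg Subtype.val (hx ⟨b, hb⟩))
  intro b hb y hy
  rcases hcases y hy with h1 | ⟨m, h1⟩
  · rw [h1]; exact hfixr b hb
  · rw [h1]; exact hfixn m b hb

end Cfsg.Agent.J4Type.FusionFive
end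

-- part: J4Type/FusionMain
section
/-!
# Conjugates of `z` in `E` (R07 J4 type, helper180)

For a conjugate `t = g z g⁻¹ ≠ z` of `z` in `Q`: `t` lies in some `E O`; `Q` and `Q^g` normalise `E O`; `z` and
`t` are conjugate in `N_G(E O)`; no element of order 5 of `C_G(z) ∩ C_G(t)` normalises `E O`.
-/

set_option autoImplicit false

open scoped Pointwise

namespace Cfsg.Agent.J4Type.FusionMain

open Cfsg Cfsg.Agent.J4Type Cfsg.Agent.Co2Type.Quad Cfsg.Agent.J4Type.FusionOne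
  Cfsg.Agent.J4Type.FusionCent Cfsg.Agent.J4Type.FusionHex Cfsg.Agent.LargeExtra.Base

/-- elementary abelian subgroups of order `≥ 2 ^ 5` of `M22:2` -/
def FactElem : Prop := ∀ B : Subgroup (Equiv.Perm GolayPt), B ≤ M22d → IsElem2 B →
  2 ^ 5 ≤ Nat.card B → ∃ O, IsHex O ∧ ∃ b ∈ B, ∃ b' ∈ B, b ≠ 1 ∧ b' ≠ 1 ∧ b ≠ b' ∧
    ∀ p ∈ O, b p = p ∧ b' p = p

/-- the elementary abelian subgroups of order `2 ^ 11` containing `z` -/
def FactEA (G : Type*) [Group G] : Prop := ∀ (H : Hex G) (F : Subgroup G), IsElem2 F → H.z ∈ F →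
  2 ^ 11 ≤ Nat.card F → ∃ O, IsHex O ∧ F = H.E O

section isotropic

variable {G : Type*} [Group G] {Q : Subgroup G} {z : G}

theorem card_isotropic [Finite G] (h : Large Q z) (W : Submodule (ZMod 2) h.V)
    (hW : ∀ v ∈ W, ∀ w ∈ W, h.b v w = 0) : Nat.card W * Nat.card W ≤ Nat.card h.V := by
  classical
  have : Module.Finite (ZMod 2) h.V := Module.Finite.of_finite
  let f : h.V →ₗ[ZMod 2] Module.Dual (ZMod 2) W := W.dualRestrict.comp h.b
  have hf : Function.Surjective f := by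
    intro φ
    obtain ⟨ψ, hψ⟩ := Subspace.dualRestrict_surjective (W := W) φ
    obtain ⟨v, hv⟩ := h.exists_b_eq ψ
    refine ⟨v, ?_⟩
    rw [← hψ]
    show W.dualRestrict (h.b v) = W.dualRestrict ψ
    congr 1
    ext w; exact hv w
  have hker : W ≤ LinearMap.ker f := by
    intro v hv
    rw [LinearMap.mem_ker]
    ext w
    exact hW v hv w w.2
  have h1 : Nat.card h.V = Nat.card (LinearMap.ker f) * Nat.card (Module.Dual (ZMod 2) W) := by
    rw [Submodule.card_eq_card_quotient_mul_card (LinearMap.ker f),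
      Nat.card_congr (f.quotKerEquivOfSurjective hf).toEquiv]
  have h2 : Nat.card (Module.Dual (ZMod 2) W) = Nat.card W := by
    rw [Module.natCard_eq_pow_finrank (K := ZMod 2) (V := Module.Dual (ZMod 2) W),
      Subspace.dual_finrank_eq, ← Module.natCard_eq_pow_finrank]
  have h3 : Nat.card W ≤ Nat.card (LinearMap.ker f) :=
    Nat.card_le_card_of_injective (Submodule.inclusion hker) (Submodule.inclusion_injective hker)
  rw [h1, h2]
  exact Nat.mul_le_mul_right _ h3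

/-- image in `V` of a subgroup of `Q` -/
def im (h : Large Q z) (D : Subgroup G) (hD : D ≤ Q) : Submodule (ZMod 2) h.V where
  carrier := {v | ∃ (d : G) (hd : d ∈ D), h.pr ⟨d, hD hd⟩ = v}
  zero_mem' := ⟨1, one_mem _, h.pr_one⟩
  add_mem' := by
    rintro _ _ ⟨d, h1, rfl⟩ ⟨e, h3, rfl⟩
    exact ⟨d * e, mul_mem h1 h3, h.pr_mul ⟨d, hD h1⟩ ⟨e, hD h3⟩⟩
  smul_mem' := by
    rintro c _ ⟨d, h1, rfl⟩
    have hc : c = 0 ∨ c = 1 := by revert c; decide
    rcases hc with rfl | rfl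
    · exact ⟨1, one_mem _, by rw [zero_smul]; exact h.pr_one⟩
    · exact ⟨d, h1, by rw [one_smul]⟩

theorem card_abelian [Finite G] (h : Large Q z) (D : Subgroup G) (hD : D ≤ Q)
    (hc : ∀ a ∈ D, ∀ b ∈ D, a * b = b * a) :
    Nat.card D * Nat.card D ≤ 4 * Nat.card h.V := by
  have h1 := card_isotropic h (im h D hD) (by
    rintro _ ⟨a, ha, rfl⟩ _ ⟨b, hb, rfl⟩
    rw [h.b_pr]
    exact hc a ha b hb)
  have h2 : D ≤ pre h (im h D hD) := fun d hd => ⟨hD hd, d, hd, rfl⟩
  have h3 := Subgroup.card_le_of_le h2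
  rw [card_pre] at h3
  calc Nat.card D * Nat.card D ≤ (2 * Nat.card (im h D hD)) * (2 * Nat.card (im h D hD)) :=
        Nat.mul_le_mul h3 h3
    _ = 4 * (Nat.card (im h D hD) * Nat.card (im h D hD)) := by ring
    _ ≤ _ := Nat.mul_le_mul_left _ h1

end isotropic

variable {G : Type*} [Group G] (H : Hex G)

theorem Q_norm {O : Finset GolayPt} (hO : IsHex O) {c : G} (hc : c ∈ H.Q) (a : G) :
    a ∈ H.E O ↔ c * a * c⁻¹ ∈ H.E O := by
  have h1 := H.E_conj O hO ⟨c, H.Q_le hc⟩ a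
  rw [P_of_mem_Q H.toCent _ hc, one_smul] at h1
  exact h1

/-- elements of `C` normalising `E O` fix `O` -/
theorem smul_eq_of_norm [Finite G] {O : Finset GolayPt} (hO : IsHex O)
    (c : Subgroup.centralizer ({H.z} : Set G))
    (hc : ∀ a ∈ H.E O, (c : G) * a * (c : G)⁻¹ ∈ H.E O) : H.P c • O = O := by
  by_contra hne
  have hO' : IsHex (H.P c • O) := HexMax.smul_isHex (P_mem H.toCent c) hO
  have h1 : H.E O ≤ H.Q := by
    intro a ha
    have h2 : (c : G) * a * (c : G)⁻¹ ∈ H.Q := by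
      apply H.E_inf O _ hO hO' (Ne.symm hne)
      exact Subgroup.mem_inf.2 ⟨hc a ha, (H.E_conj O hO c a).1 ha⟩
    have hcz : (c : G)⁻¹ * H.z = H.z * (c : G)⁻¹ :=
      (mem_cent H.toCent).1 (Subgroup.inv_mem _ c.2)
    have h3 := H.Q_conj _ hcz _ h2
    have e : (c : G)⁻¹ * ((c : G) * a * (c : G)⁻¹) * ((c : G)⁻¹)⁻¹ = a := by group
    rwa [e] at h3
  have h2 := H.A_card O hO
  rw [inf_eq_left.2 h1, H.E_card O hO] at h2
  norm_num at h2

/-! ### the pair -/

section pair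

variable {g : G}

/-- `Q ^ g` -/
abbrev Qg (H : Hex G) (g : G) : Subgroup G := H.Q.map (MulAut.conj g).toMonoidHom

theorem card_Qg : Nat.card (Qg H g) = 2 ^ 13 := by
  rw [← H.Q_card]
  exact Nat.card_congr (H.Q.equivMapOfInjective _ (MulAut.conj g).injective).symm.toEquiv

/-- `C_{Q^g}(z)` -/
abbrev Xg (H : Hex G) (g : G) : Subgroup G := Qg H g ⊓ Subgroup.centralizer {H.z}

theorem card_Xg [Finite G] (p : Pair H.Q H.z (Qg H g) (g * H.z * g⁻¹)) :
    2 ^ 12 ≤ Nat.card (Xg H g) := by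
  have h1 := card_le_two_mul (Qg H g) (Subgroup.centralizer {H.z}) (by
    intro a ha b hb haz hbz
    rw [Subgroup.mem_centralizer_singleton_iff] at haz hbz ⊢
    have ha' := (p.la.comm a ha H.z p.z_mem).resolve_left haz
    have hb' := (p.la.comm b hb H.z p.z_mem).resolve_left hbz
    set t := g * H.z * g⁻¹ with ht
    have hta : a⁻¹ * t = t * a⁻¹ := p.la.comm_z _ (inv_mem ha)
    have htb : a⁻¹ * b * t = t * (a⁻¹ * b) := p.la.comm_z _ (mul_mem (inv_mem ha) hb)
    have e1 : a⁻¹ * H.z = H.z * t * a⁻¹ := by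
      rw [inv_mul_eq_iff_eq_mul]
      calc H.z = H.z * (a * a⁻¹) * (t * t) := by rw [p.la.z_sq]; group
        _ = H.z * a * (a⁻¹ * t) * t := by group
        _ = H.z * a * (t * a⁻¹) * t := by rw [hta]
        _ = (H.z * a * t) * (a⁻¹ * t) := by group
        _ = (a * H.z) * (t * a⁻¹) := by rw [ha', hta]
        _ = a * (H.z * t * a⁻¹) := by group
    calc a⁻¹ * b * H.z = a⁻¹ * (b * H.z) := by group
      _ = (a⁻¹ * H.z) * b * t := by rw [hb']; group
      _ = H.z * t * (a⁻¹ * b * t) := by rw [e1]; group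
      _ = H.z * t * (t * (a⁻¹ * b)) := by rw [htb]
      _ = H.z * (t * t) * (a⁻¹ * b) := by group
      _ = H.z * (a⁻¹ * b) := by rw [p.la.z_sq, mul_one])
  rw [card_Qg] at h1
  have h2 : (2 : ℕ) ^ 13 = 2 * 2 ^ 12 := by norm_num
  show 2 ^ 12 ≤ Nat.card (Qg H g ⊓ Subgroup.centralizer {H.z} : Subgroup G)
  omega

theorem card_Dg [Finite G] (p : Pair H.Q H.z (Qg H g) (g * H.z * g⁻¹)) :
    Nat.card (H.Q ⊓ Qg H g : Subgroup G) ≤ 2 ^ 7 := by
  have h1 := card_abelian (large H.toCent) (H.Q ⊓ Qg H g) inf_le_left (by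
    intro a ha b hb
    exact p.comm_D (Subgroup.mem_inf.1 ha).1 (Subgroup.mem_inf.1 ha).2
      (Subgroup.mem_inf.1 hb).1 (Subgroup.mem_inf.1 hb).2)
  rw [card_V] at h1
  by_contra h2
  have h3 : 2 ^ 7 + 1 ≤ Nat.card (H.Q ⊓ Qg H g : Subgroup G) := by omega
  have h4 := Nat.mul_le_mul h3 h3
  have h5 : (4 : ℕ) * 2 ^ 12 < (2 ^ 7 + 1) * (2 ^ 7 + 1) := by norm_num
  omega

/-- the homomorphism `P` on `C_{Q^g}(z)` -/
def fg (H : Hex G) (g : G) : Xg H g →* Equiv.Perm GolayPt :=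
  H.P.comp (Subgroup.inclusion inf_le_right)

theorem fg_apply (x : Xg H g) : fg H g x = H.P ⟨x, (Subgroup.mem_inf.1 x.2).2⟩ := rfl

theorem card_range_fg [Finite G] (p : Pair H.Q H.z (Qg H g) (g * H.z * g⁻¹)) :
    2 ^ 5 ≤ Nat.card (fg H g).range := by
  have hker : Nat.card (fg H g).ker ≤ Nat.card (H.Q ⊓ Qg H g : Subgroup G) := by
    let F : (fg H g).ker → (H.Q ⊓ Qg H g : Subgroup G) := fun x => ⟨((x : Xg H g) : G), by
      have hx := (Subgroup.mem_inf.1 (x : Xg H g).2)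
      refine Subgroup.mem_inf.2 ⟨?_, hx.1⟩
      have h1 : H.P ⟨((x : Xg H g) : G), hx.2⟩ = 1 := x.2
      refine mem_Q_of_pow H.toCent ⟨((x : Xg H g) : G), hx.2⟩ h1 (n := 4) (by norm_num) ?_
      have h4 : (((x : Xg H g) : G) * ((x : Xg H g) : G)) * (((x : Xg H g) : G) * ((x : Xg H g) : G)) = 1 := by
        rcases p.la.sq _ hx.1 with h2 | h2
        · rw [h2, mul_one]
        · rw [h2, p.la.z_sq]
      rw [← pow_two, ← pow_two, ← pow_mul] at h4
      show ((x : Xg H g) : G) ^ 4 ∈ H.Q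
      rw [show (4 : ℕ) = 2 * 2 from rfl, h4]
      exact H.Q.one_mem⟩
    apply Nat.card_le_card_of_injective F
    intro x y hxy
    apply Subtype.ext
    apply Subtype.ext
    exact congrArg (fun w : (H.Q ⊓ Qg H g : Subgroup G) => (w : G)) hxy
  have h1 := Subgroup.card_mul_index (fg H g).ker
  rw [Subgroup.index_ker] at h1
  have h2 := card_Xg H p
  have h3 := card_Dg H p
  by_contra h4
  have h5 : Nat.card (fg H g).range ≤ 2 ^ 5 - 1 := by omega
  have h6 := Nat.mul_le_mul (hker.trans h3) h5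
  have h7 : (2 : ℕ) ^ 7 * (2 ^ 5 - 1) < 2 ^ 12 := by norm_num
  omega

theorem fg_t (p : Pair H.Q H.z (Qg H g) (g * H.z * g⁻¹)) {x : Xg H g}
    (hx : (x : G) = 1 ∨ (x : G) = g * H.z * g⁻¹) : fg H g x = 1 := by
  rw [fg_apply]
  apply P_of_mem_Q
  rcases hx with h1 | h1
  · show (x : G) ∈ H.Q
    rw [h1]; exact H.Q.one_mem
  · show (x : G) ∈ H.Q
    rw [h1]; exact p.a_mem

theorem range_elem (p : Pair H.Q H.z (Qg H g) (g * H.z * g⁻¹)) : IsElem2 (fg H g).range := by
  constructor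
  · rintro _ ⟨x, rfl⟩
    rw [← map_mul]
    exact fg_t H p (p.la.sq _ (Subgroup.mem_inf.1 x.2).1)
  · rintro _ ⟨x, rfl⟩ _ ⟨y, rfl⟩
    have h1 : fg H g ((y * x)⁻¹ * (x * y)) = 1 := by
      apply fg_t H p
      rcases p.la.comm _ (Subgroup.mem_inf.1 x.2).1 _ (Subgroup.mem_inf.1 y.2).1 with h2 | h2
      · left
        show ((y : G) * x)⁻¹ * (x * y) = 1
        rw [h2, inv_mul_cancel]
      · right
        show ((y : G) * x)⁻¹ * (x * y) = _
        rw [h2]; group
    rw [map_mul, map_inv, inv_mul_eq_one, map_mul, map_mul] at h1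
    exact h1.symm

theorem range_le : (fg H g).range ≤ M22d := by
  rintro _ ⟨x, rfl⟩
  exact P_mem H.toCent _

/-- **Step 2**: `t` lies in some `E O`. -/
theorem exists_hex [Finite G] (hel : FactElem) (p : Pair H.Q H.z (Qg H g) (g * H.z * g⁻¹)) :
    ∃ O, IsHex O ∧ g * H.z * g⁻¹ ∈ H.E O := by
  obtain ⟨O, hO, b, ⟨x, hx⟩, b', ⟨x', hx'⟩, hb, hb', hbb, hfix⟩ :=
    hel _ (range_le H) (range_elem H p) (card_range_fg H p)
  refine ⟨O, hO, ?_⟩
  set t := g * H.z * g⁻¹ with ht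
  have key : ∀ (x : Xg H g) (b : Equiv.Perm GolayPt), fg H g x = b → (∀ p ∈ O, b p = p) → b ≠ 1 →
      ∃ a : Subgroup.centralizer ({H.z} : Set G), (a : G) ∈ H.E O ∧ H.P a = b ∧ (a : G) ∉ H.Q ∧
        ((a : G) * t = t * a ∨ (a : G) * t = H.z * (t * a)) := by
    intro x b hxb hfix hb1
    have hbM : b ∈ M24 := by
      rw [← hxb]; exact (range_le H ⟨x, rfl⟩).1
    obtain ⟨a, ha, hPa⟩ := (H.E_map O hO b).2 ⟨hbM, hfix⟩
    have hxX := Subgroup.mem_inf.1 x.2
    have hd : ((⟨x, hxX.2⟩ : Subgroup.centralizer ({H.z} : Set G)) : G) * (a : G)⁻¹ ∈ H.Q := by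
      apply div_mem_Q H.toCent
      · rw [hPa, ← hxb]; rfl
      · rw [hPa]; exact hfix _ (hO.2 (by simp [base]))
      · rcases p.la.sq _ hxX.1 with h1 | h1
        · show (x : G) * x ∈ H.Q
          rw [h1]; exact H.Q.one_mem
        · show (x : G) * x ∈ H.Q
          rw [h1]; exact p.a_mem
      · rw [(H.E_elem O hO).1 a ha]; exact H.Q.one_mem
    refine ⟨a, ha, hPa, ?_, ?_⟩
    · intro haQ
      apply hb1
      rw [← hPa]
      exact P_of_mem_Q H.toCent _ haQ
    · -- `a = q⁻¹ x`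
      have hd' : (x : G) * (a : G)⁻¹ ∈ H.Q := hd
      have hq : ((x : G) * (a : G)⁻¹)⁻¹ ∈ H.Q := H.Q.inv_mem hd'
      have hax : (a : G) = ((x : G) * (a : G)⁻¹)⁻¹ * x := by group
      have hxt : (x : G) * t = t * x := p.la.comm_z _ hxX.1
      set q := ((x : G) * (a : G)⁻¹)⁻¹ with hqdef
      rcases (large H.toCent).comm q hq t p.a_mem with h1 | h1
      · left
        calc (a : G) * t = q * (x * t) := by rw [hax]; group
          _ = (q * t) * x := by rw [hxt]; group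
          _ = t * (q * x) := by rw [h1]; group
          _ = t * a := by rw [← hax]
      · right
        have hz : (t * q) * H.z = H.z * (t * q) :=
          (large H.toCent).comm_z _ (H.Q.mul_mem p.a_mem hq)
        calc (a : G) * t = q * (x * t) := by rw [hax]; group
          _ = (q * t) * x := by rw [hxt]; group
          _ = (t * q * H.z) * x := by rw [h1]
          _ = H.z * (t * (q * x)) := by rw [hz]; group
          _ = H.z * (t * a) := by rw [← hax]
  obtain ⟨a, ha, hPa, haQ, hat⟩ := key x b hx (fun p hp => (hfix p hp).1) hb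
  obtain ⟨a', ha', hPa', haQ', hat'⟩ := key x' b' hx' (fun p hp => (hfix p hp).2) hb'
  refine H.V_inf O hO a ha a' ha' haQ haQ' ?_ t p.a_mem hat hat'
  intro h1
  have h2 : H.P (a * a') = 1 := P_of_mem_Q H.toCent _ h1
  rw [map_mul, hPa, hPa'] at h2
  apply hbb
  have h3 : b * b = 1 := (range_elem H p).1 b ⟨x, hx⟩
  exact (mul_left_cancel (h3.trans h2.symm))

/-- `Q ^ g` normalises `E O` -/
theorem Qg_norm [Finite G] (hea : FactEA G)
    {O : Finset GolayPt} (hO : IsHex O) (ht : g * H.z * g⁻¹ ∈ H.E O) {c : G} (hc : c ∈ Qg H g)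
    (a : G) : a ∈ H.E O ↔ c * a * c⁻¹ ∈ H.E O := by
  obtain ⟨O', hO', he⟩ := hea (H.conj g) (H.E O) (H.E_elem O hO) ht (H.E_card O hO).ge
  rw [he]
  exact Q_norm (H.conj g) hO' hc a

/-- **Step 4**: `z` and `t` are conjugate in `N_G(E O)` -/
theorem exists_norm_conj [Finite G] (hea : FactEA G) (p : Pair H.Q H.z (Qg H g) (g * H.z * g⁻¹))
    {O : Finset GolayPt} (hO : IsHex O) (ht : g * H.z * g⁻¹ ∈ H.E O) :
    ∃ n : G, (∀ a, a ∈ H.E O ↔ n * a * n⁻¹ ∈ H.E O) ∧ n * H.z * n⁻¹ = g * H.z * g⁻¹ := by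
  set t := g * H.z * g⁻¹ with htdef
  have hzt : H.z ≠ t := p.ne.symm
  obtain ⟨y, hy, hy'⟩ := exists_not_comm p.la p.z_mem p.lz.z_ne hzt
  obtain ⟨q, hq, hq'⟩ := exists_not_comm p.lz p.a_mem p.la.z_ne p.ne
  -- `y z y⁻¹ = z t`, `q t q⁻¹ = t z`
  have h1 : y * H.z * y⁻¹ = H.z * t := by
    rw [hy', mul_assoc H.z y t, p.la.comm_z y hy]; group
  have h2 : q * t * q⁻¹ = t * H.z := by
    rw [hq', mul_assoc t q H.z, p.lz.comm_z q hq]; group
  have h3 : H.z * t = t * H.z := (p.lz.comm_z t p.a_mem).symm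
  refine ⟨q⁻¹ * y, ?_, ?_⟩
  · intro a
    rw [Qg_norm H hea hO ht hy a, Q_norm H hO (H.Q.inv_mem hq)]
    have e : q⁻¹ * (y * a * y⁻¹) * q⁻¹⁻¹ = q⁻¹ * y * a * (q⁻¹ * y)⁻¹ := by group
    rw [e]
  · calc q⁻¹ * y * H.z * (q⁻¹ * y)⁻¹ = q⁻¹ * (y * H.z * y⁻¹) * q := by group
      _ = q⁻¹ * (q * t * q⁻¹) * q := by rw [h1, h3, h2]
      _ = t := by group

/-- **no element of order 5** -/
theorem no_five [Finite G] (hea : FactEA G) (p : Pair H.Q H.z (Qg H g) (g * H.z * g⁻¹))
    {O : Finset GolayPt} (hO : IsHex O) (ht : g * H.z * g⁻¹ ∈ H.E O)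
    (c : Subgroup.centralizer ({H.z} : Set G))
    (hct : (c : G) * (g * H.z * g⁻¹) = (g * H.z * g⁻¹) * c)
    (hcE : ∀ a ∈ H.E O, (c : G) * a * (c : G)⁻¹ ∈ H.E O) (hc5 : (c : G) ^ 5 = 1) : (c : G) = 1 := by
  classical
  set t := g * H.z * g⁻¹ with htdef
  by_contra hc1
  have hc5' : c ^ 5 = 1 := Subtype.ext hc5
  set σ := H.P c with hσ
  have hσ5 : σ ^ 5 = 1 := by rw [hσ, ← map_pow, hc5', map_one]
  have hσ1 : σ ≠ 1 := by
    intro h1
    have h2 := mem_Q_of_pow H.toCent c h1 (n := 5) (by norm_num) (by rw [hc5]; exact H.Q.one_mem)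
    have h4 : ((c : G) * c) * ((c : G) * c) = 1 := by
      rcases H.Q_sq _ h2 with h3 | h3
      · rw [h3, mul_one]
      · rw [h3]; exact p.lz.z_sq
    apply hc1
    calc (c : G) = (c : G) ^ 5 * (((c : G) * c) * ((c : G) * c))⁻¹ := by
          rw [← pow_two, ← pow_two, ← pow_mul]; group
      _ = 1 := by rw [hc5, h4]; group
  have hσM : σ ∈ M22d := P_mem H.toCent c
  have hσO : σ • O = O := smul_eq_of_norm H hO c hcE
  -- `σ` fixes the two base points
  obtain ⟨hσ24, hσb⟩ := mem_M22d hσM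
  have hσb' : σ none = none ∧ σ (some 0) = some 0 := by
    rcases hσb with h1 | ⟨h1, h2⟩
    · exact h1
    · exfalso
      have h3 : (σ ^ 5) none = some 0 := by
        simp only [pow_succ, pow_zero, one_mul, Equiv.Perm.mul_apply, h1, h2]
      rw [hσ5] at h3
      simp at h3
  -- the six points
  set S := O \ base with hS
  have hScard : S.card = 6 := by
    rw [hS, Finset.card_sdiff_of_subset hO.2, HexMax.card_hex hO, HexMax.base_card]
  -- `B` stabilises `O`
  have hBO : ∀ b ∈ (fg H g).range, b • O = O := by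
    rintro _ ⟨x, rfl⟩
    rw [fg_apply]
    apply smul_eq_of_norm H hO
    intro a ha
    exact (Qg_norm H hea hO ht (Subgroup.mem_inf.1 x.2).1 a).1 ha
  have hsub : ∀ g' : Equiv.Perm GolayPt, g' ∈ M22d → g' • O = O → ∀ x ∈ S, g' x ∈ S := by
    intro g' hg' hg'O x hx
    rw [hS, Finset.mem_sdiff] at hx ⊢
    exact ⟨(FusionM24.mem_iff_of_smul_eq hg'O x).2 hx.1,
      fun h => hx.2 ((FusionM24.mem_iff_of_smul_eq (HexMax.smul_base hg') x).1 h)⟩
  have hσS1 : ∃ x ∈ S, σ x ≠ x := by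
    by_contra hcon
    push Not at hcon
    have hfix : ∀ x ∈ O, σ x = x := by
      intro x hx
      by_cases hxb : x ∈ base
      · simp only [base, Finset.mem_insert, Finset.mem_singleton] at hxb
        rcases hxb with rfl | rfl
        · exact hσb'.1
        · exact hσb'.2
      · exact hcon x (Finset.mem_sdiff.2 ⟨hx, hxb⟩)
    obtain ⟨a, ha, hPa⟩ := (H.E_map O hO σ).2 ⟨hσ24, hfix⟩
    have h2 : σ * σ = 1 := by
      rw [← hPa, ← map_mul]
      have : a * a = 1 := Subtype.ext ((H.E_elem O hO).1 a ha)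
      rw [this, map_one]
    apply hσ1
    calc σ = σ ^ 5 * ((σ * σ) * (σ * σ))⁻¹ := by
          rw [← pow_two, ← pow_two, ← pow_mul]; group
      _ = 1 := by rw [hσ5, h2]; group
  have hB2 : IsPGroup 2 (fg H g).range := by
    intro x
    refine ⟨1, Subtype.ext ?_⟩
    have := (range_elem H p).1 x x.2
    show (x : Equiv.Perm GolayPt) ^ (2 ^ 1) = 1
    rw [pow_one, pow_two]; exact this
  have hnorm : ∀ b ∈ (fg H g).range, σ⁻¹ * b * σ ∈ (fg H g).range := by
    rintro _ ⟨x, rfl⟩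
    have hcz : (c : G)⁻¹ * H.z = H.z * (c : G)⁻¹ :=
      (mem_cent H.toCent).1 (Subgroup.inv_mem _ c.2)
    have hct' : (c : G)⁻¹ * t = t * (c : G)⁻¹ := by
      rw [inv_mul_eq_iff_eq_mul, ← mul_assoc, hct, mul_assoc, mul_inv_cancel, mul_one]
    have hx := Subgroup.mem_inf.1 x.2
    have h1 : (c : G)⁻¹ * x * ((c : G)⁻¹)⁻¹ ∈ Xg H g :=
      Subgroup.mem_inf.2 ⟨p.la.conj_mem _ hct' _ hx.1, Subgroup.mul_mem _ (Subgroup.mul_mem _
        (Subgroup.inv_mem _ c.2) hx.2) (Subgroup.inv_mem _ (Subgroup.inv_mem _ c.2))⟩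
    refine ⟨⟨_, h1⟩, ?_⟩
    rw [fg_apply, fg_apply, hσ, ← map_inv, ← map_mul, ← map_mul]
    congr 1
    apply Subtype.ext
    show (c : G)⁻¹ * x * ((c : G)⁻¹)⁻¹ = (c : G)⁻¹ * x * c
    rw [inv_inv]
  have hfixS := FusionFive.six_fix (fg H g).range hB2 σ hσ5 S hScard
    (fun b hb => hsub b (range_le H hb) (hBO b hb)) (hsub σ hσM hσO) hσS1 hnorm
  -- so `B` fixes `O` pointwise
  have hfixO : ∀ b ∈ (fg H g).range, ∀ z ∈ O, b z = z := fun b hb =>
    FusionM24.fix_octad_of_six (range_le H hb).1 hO.1 (hBO b hb) Finset.sdiff_subset hScard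
      (hfixS b hb)
  -- the image of `E O` has order 16
  have h16 : Nat.card (fg H g).range ≤ 2 ^ 4 := by
    let f2 : H.E O →* Equiv.Perm GolayPt := H.P.comp (Subgroup.inclusion (by
      intro a ha
      rw [mem_cent]
      exact (H.E_elem O hO).2 a ha _ (H.z_mem_E O hO)))
    have hr : (fg H g).range ≤ f2.range := by
      intro b hb
      obtain ⟨a, ha, hPa⟩ := (H.E_map O hO b).2 ⟨(range_le H hb).1, hfixO b hb⟩
      exact ⟨⟨a, ha⟩, hPa⟩
    have h1 := Subgroup.card_mul_index f2.ker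
    rw [Subgroup.index_ker, H.E_card O hO] at h1
    have h2 : Nat.card (H.E O ⊓ H.Q : Subgroup G) ≤ Nat.card f2.ker := by
      let F : (H.E O ⊓ H.Q : Subgroup G) → f2.ker := fun x =>
        ⟨⟨x, (Subgroup.mem_inf.1 x.2).1⟩, P_of_mem_Q H.toCent _ (Subgroup.mem_inf.1 x.2).2⟩
      apply Nat.card_le_card_of_injective F
      intro x y hxy
      apply Subtype.ext
      exact congrArg (fun w : f2.ker => ((w : H.E O) : G)) hxy
    rw [H.A_card O hO] at h2
    have h3 := Subgroup.card_le_of_le hr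
    refine h3.trans ?_
    by_contra h4
    have h5 : 2 ^ 4 + 1 ≤ Nat.card f2.range := by omega
    have h6 := Nat.mul_le_mul h2 h5
    have h7 : (2 : ℕ) ^ 11 < 2 ^ 7 * (2 ^ 4 + 1) := by norm_num
    omega
  have h32 := card_range_fg H p
  have : (2 : ℕ) ^ 4 < 2 ^ 5 := by norm_num
  omega

end pair

end Cfsg.Agent.J4Type.FusionMain
end

-- part: J4Type/FusionCount
section
/-!
# `|z^{N_G(E)}| = 1771` (R07 J4 type, helper180)
-/

set_option autoImplicit false
set_option linter.unusedSectionVars false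

open scoped Pointwise

namespace Cfsg.Agent.J4Type.FusionCount

open Cfsg Cfsg.Agent.J4Type Cfsg.Agent.Co2Type.Quad Cfsg.Agent.J4Type.FusionOne
  Cfsg.Agent.J4Type.FusionCent Cfsg.Agent.J4Type.FusionHex Cfsg.Agent.LargeExtra.Base
  Cfsg.Agent.J4Type.FusionMain

/-! ### conjugation orbits of a subgroup -/

section orbit

variable {G : Type*} [Group G]

/-- the conjugates of `t` under `N` -/
def cls (N : Subgroup G) (t : G) : Set G := {a | ∃ n ∈ N, n * t * n⁻¹ = a}

theorem card_cls_mul [Finite G] (N : Subgroup G) (t : G) :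
    (cls N t).ncard * Nat.card (N ⊓ Subgroup.centralizer {t} : Subgroup G) = Nat.card N := by
  let _ : MulAction N G := MulAction.compHom G ((MulAut.conj : G →* MulAut G).comp N.subtype)
  have hs : ∀ (n : N) (x : G), n • x = (n : G) * x * (n : G)⁻¹ := fun _ _ => rfl
  have h1 := Nat.card_congr (MulAction.orbitProdStabilizerEquivGroup N t)
  rw [Nat.card_prod] at h1
  have h2 : MulAction.orbit N t = cls N t := by
    ext a
    constructor
    · rintro ⟨n, rfl⟩
      exact ⟨n, n.2, rfl⟩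
    · rintro ⟨n, hn, rfl⟩
      exact ⟨⟨n, hn⟩, rfl⟩
  have h3 : Nat.card (MulAction.stabilizer N t) =
      Nat.card (N ⊓ Subgroup.centralizer {t} : Subgroup G) := by
    apply Nat.card_congr
    refine ⟨fun x => ⟨x, Subgroup.mem_inf.2 ⟨(x : N).2, ?_⟩⟩,
      fun x => ⟨⟨x, (Subgroup.mem_inf.1 x.2).1⟩, ?_⟩, fun x => rfl, fun x => rfl⟩
    · rw [Subgroup.mem_centralizer_singleton_iff]
      have := MulAction.mem_stabilizer_iff.1 x.2
      rw [hs] at this
      exact mul_inv_eq_iff_eq_mul.1 this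
    · rw [MulAction.mem_stabilizer_iff, hs]
      have := Subgroup.mem_centralizer_singleton_iff.1 (Subgroup.mem_inf.1 x.2).2
      exact mul_inv_eq_iff_eq_mul.2 this
  rw [h2, h3] at h1
  exact h1

theorem prime_not_dvd [Finite G] {p : ℕ} [hp : Fact p.Prime] (hp2 : p ≠ 2)
    (hpn : ∀ i, 1 ≤ i → i ≤ 11 → ¬ p ∣ 2 ^ i - 1) (N E : Subgroup G)
    (hE : Nat.card E = 2 ^ 11) (hN : ∀ n ∈ N, ∀ a ∈ E, n * a * n⁻¹ ∈ E) {z : G} (hz : z ∈ E) :
    ¬ p ∣ (cls N z).ncard := by
  classical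
  obtain ⟨S⟩ : Nonempty (Sylow p N) := inferInstance
  -- `S` acts on `E`
  let _ : MulAction S E :=
    { smul := fun s a => ⟨((s : N) : G) * a * ((s : N) : G)⁻¹, hN _ (s : N).2 a a.2⟩
      one_smul := fun a => Subtype.ext (by
        show (1 : G) * a * (1 : G)⁻¹ = a
        simp)
      mul_smul := fun s s' a => Subtype.ext (by
        show ((s : N) : G) * ((s' : N) : G) * a * (((s : N) : G) * ((s' : N) : G))⁻¹ =
          ((s : N) : G) * (((s' : N) : G) * a * ((s' : N) : G)⁻¹) * ((s : N) : G)⁻¹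
        group) }
  have hsm : ∀ (s : S) (a : E), ((s • a : E) : G) = ((s : N) : G) * a * ((s : N) : G)⁻¹ :=
    fun _ _ => rfl
  have hmod := S.isPGroup'.card_modEq_card_fixedPoints E
  -- the fixed points form a subgroup
  let F : Subgroup E :=
    { carrier := MulAction.fixedPoints S E
      one_mem' := fun s => Subtype.ext (by
        show ((s : N) : G) * (1 : G) * ((s : N) : G)⁻¹ = 1
        simp)
      mul_mem' := fun {a b} ha hb s => Subtype.ext (by
        have h1 : ((s : N) : G) * a * ((s : N) : G)⁻¹ = a := congrArg Subtype.val (ha s)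
        have h2 : ((s : N) : G) * b * ((s : N) : G)⁻¹ = b := congrArg Subtype.val (hb s)
        show ((s : N) : G) * ((a : G) * b) * ((s : N) : G)⁻¹ = a * b
        calc ((s : N) : G) * ((a : G) * b) * ((s : N) : G)⁻¹ =
            (((s : N) : G) * a * ((s : N) : G)⁻¹) * (((s : N) : G) * b * ((s : N) : G)⁻¹) := by group
          _ = a * b := by rw [h1, h2])
      inv_mem' := fun {a} ha s => Subtype.ext (by
        have h1 : ((s : N) : G) * a * ((s : N) : G)⁻¹ = a := congrArg Subtype.val (ha s)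
        show ((s : N) : G) * (a : G)⁻¹ * ((s : N) : G)⁻¹ = (a : G)⁻¹
        calc ((s : N) : G) * (a : G)⁻¹ * ((s : N) : G)⁻¹ = (((s : N) : G) * a * ((s : N) : G)⁻¹)⁻¹ := by
              group
          _ = _ := by rw [h1]) }
  have hF : Nat.card (MulAction.fixedPoints S E) = Nat.card F := rfl
  have hdvd : Nat.card F ∣ 2 ^ 11 := by rw [← hE]; exact Subgroup.card_subgroup_dvd_card F
  obtain ⟨j, hj, hFj⟩ := (Nat.dvd_prime_pow Nat.prime_two).1 hdvd
  rw [hE, hF, hFj] at hmod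
  have hj11 : j = 11 := by
    by_contra hne
    have hlt : j < 11 := lt_of_le_of_ne hj hne
    have h1 : p ∣ 2 ^ 11 - 2 ^ j := (Nat.modEq_iff_dvd' (Nat.pow_le_pow_right (by norm_num) hj)).1 hmod.symm
    have h2 : 2 ^ 11 - 2 ^ j = 2 ^ j * (2 ^ (11 - j) - 1) := by
      rw [Nat.mul_sub, ← pow_add, mul_one]
      congr 2
      omega
    rw [h2] at h1
    rcases (Nat.Prime.dvd_mul hp.out).1 h1 with h3 | h3
    · have h4 := hp.out.dvd_of_dvd_pow h3
      exact hp2 ((Nat.prime_dvd_prime_iff_eq hp.out Nat.prime_two).1 h4)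
    · exact hpn (11 - j) (by omega) (by omega) h3
  have hFtop : F = ⊤ := by
    apply Subgroup.eq_top_of_card_eq
    rw [hFj, hj11, hE]
  -- so `S` centralises `z`
  have hSz : ∀ s : S, ((s : N) : G) * z * ((s : N) : G)⁻¹ = z := by
    intro s
    have : (⟨z, hz⟩ : E) ∈ F := by rw [hFtop]; exact Subgroup.mem_top _
    exact congrArg Subtype.val (this s)
  -- order comparison
  intro hdiv
  have h1 := card_cls_mul N z
  have hSle : (S : Subgroup N).map N.subtype ≤ N ⊓ Subgroup.centralizer {z} := by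
    rintro _ ⟨s, hs, rfl⟩
    refine Subgroup.mem_inf.2 ⟨s.2, Subgroup.mem_centralizer_singleton_iff.2 ?_⟩
    exact mul_inv_eq_iff_eq_mul.1 (hSz ⟨s, hs⟩)
  have h2 := Subgroup.card_dvd_of_le hSle
  rw [Subgroup.card_map_of_injective N.subtype_injective] at h2
  have h3 := (S : Subgroup N).card_mul_index
  have h4 : ¬ p ∣ (S : Subgroup N).index := S.not_dvd_index
  obtain ⟨k, hk⟩ := h2
  obtain ⟨m, hm⟩ := hdiv
  apply h4
  refine ⟨m * k, ?_⟩
  have h5 : Nat.card (S : Subgroup N) * (S : Subgroup N).index =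
      Nat.card (S : Subgroup N) * (p * (m * k)) := by
    rw [h3, ← h1, hk, hm]; ring
  exact Nat.eq_of_mul_eq_mul_left Nat.card_pos h5

end orbit

variable {G : Type*} [Group G]

/-- the five nontrivial orbits of `N_C(E)` on `E = E hex0` -/
structure OrbData (H : Hex G) where
  S : Fin 5 → Set G
  card : ∀ i, (S i).ncard = (![36, 90, 240, 240, 1440] : Fin 5 → ℕ) i
  disj : ∀ i j, i ≠ j → Disjoint (S i) (S j)
  sub : ∀ i, S i ⊆ H.E hex0
  one_notMem : ∀ i, (1 : G) ∉ S i
  z_notMem : ∀ i, H.z ∉ S i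
  cover : ∀ a ∈ H.E hex0, a = 1 ∨ a = H.z ∨ ∃ i, a ∈ S i
  trans : ∀ i, ∀ a ∈ S i, ∀ b ∈ S i, ∃ c ∈ Subgroup.centralizer ({H.z} : Set G),
    c ∈ Subgroup.normalizer (H.E hex0 : Set G) ∧ c * a * c⁻¹ = b
  inv : ∀ i, ∀ c ∈ Subgroup.centralizer ({H.z} : Set G),
    c ∈ Subgroup.normalizer (H.E hex0 : Set G) → ∀ a ∈ S i, c * a * c⁻¹ ∈ S i
  Q0 : ∀ a ∈ S 0, a ∈ H.Q
  Q1 : ∀ a ∈ S 1, a ∈ H.Q
  Q2 : ∀ i, i ≠ 0 → i ≠ 1 → ∀ a ∈ S i, a ∉ H.Q

variable (H : Hex G)

theorem isHex0 : IsHex hex0 := HexMax.hex0_isHex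

/-- `N_C(E)` -/
def N0 : Subgroup G :=
  Subgroup.centralizer ({H.z} : Set G) ⊓ Subgroup.normalizer (H.E hex0 : Set G)

theorem mem_N0_of (c : Subgroup.centralizer ({H.z} : Set G)) (hc : H.P c • hex0 = hex0) :
    (c : G) ∈ N0 H := by
  refine Subgroup.mem_inf.2 ⟨c.2, ?_⟩
  rw [Subgroup.mem_normalizer_iff]
  intro a
  have h1 := H.E_conj hex0 isHex0 c a
  rw [hc] at h1
  exact h1

theorem five_dvd [Finite G] : 5 ∣ Nat.card (N0 H) := by
  have : Fact (Nat.Prime 5) := ⟨by norm_num⟩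
  obtain ⟨g, hg, hg0, hg5, hg1⟩ := FusionM24.exists_order_five
  rw [← H.P_range] at hg
  obtain ⟨c, hc⟩ := hg
  have hcN : (c : G) ∈ N0 H := mem_N0_of H c (by rw [hc]; exact hg0)
  let f : N0 H →* Equiv.Perm GolayPt := H.P.comp (Subgroup.inclusion inf_le_left)
  have h1 : orderOf (f ⟨c, hcN⟩) = 5 := by
    have hf : f ⟨c, hcN⟩ = g := hc
    rw [hf]
    exact orderOf_eq_prime hg5 hg1
  calc 5 = orderOf (f ⟨c, hcN⟩) := h1.symm
    _ ∣ orderOf (⟨c, hcN⟩ : N0 H) := orderOf_map_dvd f _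
    _ ∣ Nat.card (N0 H) := orderOf_dvd_natCard _

theorem factElem : FactElem := by
  intro B hB hB2 hc
  obtain ⟨O, hO, -, b, hb, b', hb', h1, h2, h3, h4, h5⟩ := FusionFact.fix_hex B hB hB2.1 hc
  exact ⟨O, hO, b, hb, b', hb', h1, h2, h3, fun p hp => ⟨h4 p hp, h5 p hp⟩⟩

theorem factEA [Finite G] : FactEA G := fun H _ hF hz hc => FusionEA.ea_unique H hF hz hc

variable [Finite G]

/-- **Step 1 + 2**: a conjugate of `z` in `E ∩ Q` -/
theorem exists_conj_in (hZ : ∃ t, IsConj H.z t ∧ t * H.z = H.z * t ∧ t ≠ H.z) :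
    ∃ g : G, g * H.z * g⁻¹ ∈ H.Q ∧ g * H.z * g⁻¹ ≠ H.z ∧ g * H.z * g⁻¹ ∈ H.E hex0 := by
  obtain ⟨t, htQ, ht, htne⟩ := FusionHex.exists_conj H FusionFact.fact_inv FusionFact.fact_comm hZ
  obtain ⟨g, rfl⟩ := isConj_iff.1 ht
  have p := pair_of_conj (large H.toCent) htQ htne
  obtain ⟨O, hO, htO⟩ := FusionMain.exists_hex H factElem p
  obtain ⟨c, -, hc⟩ := FusionConj.exists_C_smul H hO isHex0
  have hcz : (c : G) * H.z = H.z * c := Subgroup.mem_centralizer_singleton_iff.1 c.2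
  have e : (c : G) * g * H.z * ((c : G) * g)⁻¹ = (c : G) * (g * H.z * g⁻¹) * (c : G)⁻¹ := by group
  refine ⟨c * g, ?_, ?_, ?_⟩
  · rw [e]; exact H.Q_conj _ hcz _ htQ
  · rw [e]
    intro h1
    apply htne
    calc g * H.z * g⁻¹ = (c : G)⁻¹ * ((c : G) * (g * H.z * g⁻¹) * (c : G)⁻¹) * c := by group
      _ = (c : G)⁻¹ * (H.z * c) := by rw [h1]; group
      _ = H.z := by rw [← hcz]; group
  · rw [e, ← hc]
    exact (H.E_conj O hO c _).1 htO

variable (D : OrbData H)

/-- elements of the 36-orbit are not conjugate to `z` -/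
theorem not_isConj {a : G} (ha : a ∈ D.S 0) : ¬ IsConj H.z a := by
  intro hc
  obtain ⟨g, rfl⟩ := isConj_iff.1 hc
  have hne : g * H.z * g⁻¹ ≠ H.z := fun h => D.z_notMem 0 (h ▸ ha)
  have p := pair_of_conj (large H.toCent) (D.Q0 _ ha) hne
  have hcls : cls (N0 H) (g * H.z * g⁻¹) = D.S 0 := by
    ext b
    constructor
    · rintro ⟨n, hn, rfl⟩
      exact D.inv 0 n (Subgroup.mem_inf.1 hn).1 (Subgroup.mem_inf.1 hn).2 _ ha
    · intro hb
      obtain ⟨c, h1, h2, h3⟩ := D.trans 0 _ ha b hb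
      exact ⟨c, Subgroup.mem_inf.2 ⟨h1, h2⟩, h3⟩
  have h1 := card_cls_mul (N0 H) (g * H.z * g⁻¹)
  rw [hcls, D.card 0] at h1
  have h1' : 36 * Nat.card (N0 H ⊓ Subgroup.centralizer {g * H.z * g⁻¹} : Subgroup G) =
      Nat.card (N0 H) := h1
  have h2 := five_dvd H
  rw [← h1'] at h2
  have h3 : 5 ∣ Nat.card (N0 H ⊓ Subgroup.centralizer {g * H.z * g⁻¹} : Subgroup G) :=
    (Nat.Coprime.dvd_mul_left (by norm_num)).1 h2
  have : Fact (Nat.Prime 5) := ⟨by norm_num⟩
  obtain ⟨x, hx⟩ := exists_prime_orderOf_dvd_card' 5 h3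
  have hx0 := Subgroup.mem_inf.1 x.2
  have hxN := Subgroup.mem_inf.1 hx0.1
  have hx5 : (x : G) ^ 5 = 1 := by
    have := pow_orderOf_eq_one x
    rw [hx] at this
    exact congrArg Subtype.val this
  have hx1 := no_five H factEA p isHex0 (D.sub 0 ha) ⟨x, hxN.1⟩
    (Subgroup.mem_centralizer_singleton_iff.1 hx0.2)
    (fun a ha => (Subgroup.mem_normalizer_iff.1 hxN.2 a).1 ha) hx5
  have : x = 1 := Subtype.ext hx1
  rw [this, orderOf_one] at hx
  exact absurd hx (by norm_num)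

/-- the conjugates of `z` under `N_G(E)` -/
abbrev Om : Set G := cls (Subgroup.normalizer (H.E hex0 : Set G)) H.z

theorem Om_sub {a : G} (ha : a ∈ Om H) : a ∈ H.E hex0 ∧ a ≠ 1 := by
  obtain ⟨n, hn, rfl⟩ := ha
  refine ⟨(Subgroup.mem_normalizer_iff.1 hn _).1 (H.z_mem_E _ isHex0), ?_⟩
  intro h
  apply (large H.toCent).z_ne
  calc H.z = n⁻¹ * (n * H.z * n⁻¹) * n := by group
    _ = 1 := by rw [h]; group

theorem z_mem_Om : H.z ∈ Om H := ⟨1, one_mem _, by group⟩

theorem isConj_of_Om {a : G} (ha : a ∈ Om H) : IsConj H.z a := by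
  obtain ⟨n, -, rfl⟩ := ha
  exact isConj_iff.2 ⟨n, rfl⟩

theorem Om_trans {i : Fin 5} {a : G} (ha : a ∈ Om H) (hai : a ∈ D.S i) : D.S i ⊆ Om H := by
  intro b hb
  obtain ⟨c, hc1, hc2, hc3⟩ := D.trans i a hai b hb
  obtain ⟨n, hn, rfl⟩ := ha
  refine ⟨c * n, Subgroup.mul_mem _ hc2 hn, ?_⟩
  rw [← hc3]; group

theorem Om_inter (i : Fin 5) : (Om H ∩ D.S i).ncard = 0 ∨
    (D.S i ⊆ Om H ∧ (Om H ∩ D.S i).ncard = (![36, 90, 240, 240, 1440] : Fin 5 → ℕ) i) := by
  by_cases h : ∃ a, a ∈ Om H ∩ D.S i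
  · right
    obtain ⟨a, ha, hai⟩ := h
    have h1 := Om_trans H D ha hai
    refine ⟨h1, ?_⟩
    rw [Set.inter_eq_right.2 h1, D.card]
  · left
    have : Om H ∩ D.S i = ∅ := Set.eq_empty_of_forall_notMem fun a ha => h ⟨a, ha⟩
    rw [this, Set.ncard_empty]

theorem Om_one (hZ : ∃ t, IsConj H.z t ∧ t * H.z = H.z * t ∧ t ≠ H.z) : D.S 1 ⊆ Om H := by
  obtain ⟨g, hQ, hne, hE⟩ := exists_conj_in H hZ
  have p := pair_of_conj (large H.toCent) hQ hne
  obtain ⟨n, hn, hn'⟩ := exists_norm_conj H factEA p isHex0 hE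
  have hmem : g * H.z * g⁻¹ ∈ Om H := ⟨n, Subgroup.mem_normalizer_iff.2 hn, hn'⟩
  rcases D.cover _ hE with h1 | h1 | ⟨i, hi⟩
  · exact absurd h1 (Om_sub H hmem).2
  · exact absurd h1 hne
  · have hi1 : i = 1 := by
      by_contra h2
      have h0 : i ≠ 0 := by
        rintro rfl
        exact not_isConj H D hi (isConj_iff.2 ⟨g, rfl⟩)
      exact D.Q2 i h0 h2 _ hi hQ
    subst hi1
    exact Om_trans H D hmem hi

theorem ncard_Om : (Om H).ncard = 1 + (Om H ∩ D.S 0).ncard + (Om H ∩ D.S 1).ncard +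
    (Om H ∩ D.S 2).ncard + (Om H ∩ D.S 3).ncard + (Om H ∩ D.S 4).ncard := by
  have hdis : ∀ i j, i ≠ j → Disjoint (Om H ∩ D.S i) (Om H ∩ D.S j) := fun i j hij =>
    (D.disj i j hij).mono Set.inter_subset_right Set.inter_subset_right
  have hz : ∀ i, Disjoint ({H.z} : Set G) (Om H ∩ D.S i) := fun i => by
    rw [Set.disjoint_singleton_left]
    exact fun h => D.z_notMem i h.2
  have hcov : Om H = ((((({H.z} ∪ (Om H ∩ D.S 0)) ∪ (Om H ∩ D.S 1)) ∪ (Om H ∩ D.S 2)) ∪
      (Om H ∩ D.S 3)) ∪ (Om H ∩ D.S 4)) := by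
    ext a
    constructor
    · intro ha
      obtain ⟨h1, h2⟩ := Om_sub H ha
      rcases D.cover a h1 with h3 | h3 | ⟨i, hi⟩
      · exact absurd h3 h2
      · simp [h3]
      · fin_cases i
        · exact Or.inl (Or.inl (Or.inl (Or.inl (Or.inr ⟨ha, hi⟩))))
        · exact Or.inl (Or.inl (Or.inl (Or.inr ⟨ha, hi⟩)))
        · exact Or.inl (Or.inl (Or.inr ⟨ha, hi⟩))
        · exact Or.inl (Or.inr ⟨ha, hi⟩)
        · exact Or.inr ⟨ha, hi⟩
    · rintro (((((h | h) | h) | h) | h) | h)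
      · rw [Set.mem_singleton_iff.1 h]; exact z_mem_Om H
      · exact h.1
      · exact h.1
      · exact h.1
      · exact h.1
      · exact h.1
  conv_lhs => rw [hcov]
  rw [Set.ncard_union_eq, Set.ncard_union_eq, Set.ncard_union_eq, Set.ncard_union_eq,
    Set.ncard_union_eq, Set.ncard_singleton]
  · exact hz 0
  · exact Set.disjoint_union_left.2 ⟨hz 1, hdis 0 1 (by decide)⟩
  · exact Set.disjoint_union_left.2 ⟨Set.disjoint_union_left.2 ⟨hz 2, hdis 0 2 (by decide)⟩,
      hdis 1 2 (by decide)⟩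
  · exact Set.disjoint_union_left.2 ⟨Set.disjoint_union_left.2 ⟨Set.disjoint_union_left.2
      ⟨hz 3, hdis 0 3 (by decide)⟩, hdis 1 3 (by decide)⟩, hdis 2 3 (by decide)⟩
  · exact Set.disjoint_union_left.2 ⟨Set.disjoint_union_left.2 ⟨Set.disjoint_union_left.2
      ⟨Set.disjoint_union_left.2 ⟨hz 4, hdis 0 4 (by decide)⟩, hdis 1 4 (by decide)⟩,
      hdis 2 4 (by decide)⟩, hdis 3 4 (by decide)⟩

theorem Om_prime {p : ℕ} (hp : p.Prime) (hp2 : p ≠ 2)
    (hpn : ∀ i, 1 ≤ i → i ≤ 11 → ¬ p ∣ 2 ^ i - 1) : ¬ p ∣ (Om H).ncard := by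
  have : Fact p.Prime := ⟨hp⟩
  exact prime_not_dvd hp2 hpn _ (H.E hex0) (H.E_card _ isHex0)
    (fun n hn a ha => (Subgroup.mem_normalizer_iff.1 hn a).1 ha) (H.z_mem_E _ isHex0)

/-- **`z` has exactly 1771 conjugates under `N_G(E)`**: the 90-orbit, one of the two 240-orbits and the 1440-orbit. -/
theorem main (hZ : ∃ t, IsConj H.z t ∧ t * H.z = H.z * t ∧ t ≠ H.z) :
    (Om H).ncard = 1771 ∧ D.S 1 ⊆ Om H ∧ D.S 4 ⊆ Om H ∧ Disjoint (Om H) (D.S 0) ∧
      ((D.S 2 ⊆ Om H ∧ Disjoint (Om H) (D.S 3)) ∨ (D.S 3 ⊆ Om H ∧ Disjoint (Om H) (D.S 2))) := by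
  have h0 : (Om H ∩ D.S 0).ncard = 0 := by
    have : Om H ∩ D.S 0 = ∅ := Set.eq_empty_of_forall_notMem fun a ha =>
      not_isConj H D ha.2 (isConj_of_Om H ha.1)
    rw [this, Set.ncard_empty]
  have h1 := Om_one H D hZ
  have h1' : (Om H ∩ D.S 1).ncard = 90 := by
    rw [Set.inter_eq_right.2 h1, D.card]; rfl
  have hc := ncard_Om H D
  rw [h0, h1'] at hc
  have dis : ∀ i, (Om H ∩ D.S i).ncard = 0 → Disjoint (Om H) (D.S i) := by
    intro i h
    rw [Set.disjoint_iff_inter_eq_empty]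
    exact (Set.ncard_eq_zero (Set.toFinite _)).1 h
  have P13 := Om_prime H (p := 13) (by norm_num) (by norm_num)
    (by intro i h1 h2; interval_cases i <;> norm_num)
  have P331 := Om_prime H (p := 331) (by norm_num) (by norm_num)
    (by intro i h1 h2; interval_cases i <;> norm_num)
  have P571 := Om_prime H (p := 571) (by norm_num) (by norm_num)
    (by intro i h1 h2; interval_cases i <;> norm_num)
  have P1531 := Om_prime H (p := 1531) (by norm_num) (by norm_num)
    (by intro i h1 h2; interval_cases i <;> norm_num)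
  have P2011 := Om_prime H (p := 2011) (by norm_num) (by norm_num)
    (by intro i h1 h2; interval_cases i <;> norm_num)
  have k2 : (Om H ∩ D.S 2).ncard = 0 ∨ (D.S 2 ⊆ Om H ∧ (Om H ∩ D.S 2).ncard = 240) :=
    Om_inter H D 2
  have k3 : (Om H ∩ D.S 3).ncard = 0 ∨ (D.S 3 ⊆ Om H ∧ (Om H ∩ D.S 3).ncard = 240) :=
    Om_inter H D 3
  have k4 : (Om H ∩ D.S 4).ncard = 0 ∨ (D.S 4 ⊆ Om H ∧ (Om H ∩ D.S 4).ncard = 1440) :=
    Om_inter H D 4
  rcases k2 with e2 | ⟨s2, e2⟩ <;> rcases k3 with e3 | ⟨s3, e3⟩ <;>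
    rcases k4 with e4 | ⟨s4, e4⟩ <;> rw [e2, e3, e4] at hc
  · exact absurd (hc ▸ (by norm_num : 13 ∣ 1 + 0 + 90 + 0 + 0 + 0)) P13
  · exact absurd (hc ▸ (by norm_num : 1531 ∣ 1 + 0 + 90 + 0 + 0 + 1440)) P1531
  · exact absurd (hc ▸ (by norm_num : 331 ∣ 1 + 0 + 90 + 0 + 240 + 0)) P331
  · exact ⟨hc, h1, s4, dis 0 h0, Or.inr ⟨s3, dis 2 e2⟩⟩
  · exact absurd (hc ▸ (by norm_num : 331 ∣ 1 + 0 + 90 + 240 + 0 + 0)) P331
  · exact ⟨hc, h1, s4, dis 0 h0, Or.inl ⟨s2, dis 3 e3⟩⟩
  · exact absurd (hc ▸ (by norm_num : 571 ∣ 1 + 0 + 90 + 240 + 240 + 0)) P571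
  · exact absurd (hc ▸ (by norm_num : 2011 ∣ 1 + 0 + 90 + 240 + 240 + 1440)) P2011

/-- the elements of `E` not conjugate to `z` under `N_G(E)` are the 36-orbit and one 240-orbit -/
theorem compl_eq (hZ : ∃ t, IsConj H.z t ∧ t * H.z = H.z * t ∧ t ≠ H.z) :
    (∀ a ∈ H.E hex0, a ≠ 1 → (a ∉ Om H ↔ a ∈ D.S 0 ∨ a ∈ D.S 2)) ∨
      (∀ a ∈ H.E hex0, a ≠ 1 → (a ∉ Om H ↔ a ∈ D.S 0 ∨ a ∈ D.S 3)) := by
  obtain ⟨-, h1, h4, h0, h23⟩ := main H D hZ
  have dis : ∀ {i : Fin 5}, Disjoint (Om H) (D.S i) → ∀ a ∈ D.S i, a ∉ Om H :=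
    fun h a ha ha' => Set.disjoint_left.1 h ha' ha
  rcases h23 with ⟨h2, h3⟩ | ⟨h3, h2⟩
  · right
    intro a ha ha1
    constructor
    · intro hna
      rcases D.cover a ha with h5 | h5 | ⟨i, hi⟩
      · exact absurd h5 ha1
      · exact absurd (h5 ▸ z_mem_Om H) hna
      · fin_cases i
        · exact Or.inl hi
        · exact absurd (h1 hi) hna
        · exact absurd (h2 hi) hna
        · exact Or.inr hi
        · exact absurd (h4 hi) hna
    · rintro (h5 | h5)
      · exact dis h0 a h5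
      · exact dis h3 a h5
  · left
    intro a ha ha1
    constructor
    · intro hna
      rcases D.cover a ha with h5 | h5 | ⟨i, hi⟩
      · exact absurd h5 ha1
      · exact absurd (h5 ▸ z_mem_Om H) hna
      · fin_cases i
        · exact Or.inl hi
        · exact absurd (h1 hi) hna
        · exact Or.inr hi
        · exact absurd (h3 hi) hna
        · exact absurd (h4 hi) hna
    · rintro (h5 | h5)
      · exact dis h0 a h5
      · exact dis h2 a h5

end Cfsg.Agent.J4Type.FusionCount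
end

-- part: J4Type/DData
section
/-!
# Interface: the elements of `E` not conjugate to `z` under `N_G(E)`

`DData H` : coordinates of `E = E hex0` in which the elements not conjugate to `z` under `N_G(E)`
are the 36 elements `z^t w(i,x)` and the 240 elements `z^(N x + N y) w(i,x) w(j,y) f_ij`.
-/

set_option autoImplicit false

namespace Cfsg.Agent.J4Type

open Cfsg VCoord HexPerms ECoord EElems
open SporadicA.FieldFour (F4)

/-- The input: coordinates of `E` and the list of the elements not conjugate to `z`. -/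
structure DData {G : Type*} [Group G] (H : Hex G) where
  C : ECoord H
  F : FSys H
  al : ZMod 2
  be : ZMod 2
  tri : ∀ i j k : Fin 6, i ≠ j → i ≠ k → j ≠ k →
    F.f (mo i j) * F.f (mo j k) * F.f (mo i k) = zp H.z al
  hex : F.f (mo 0 1) * F.f (mo 2 3) * F.f (mo 4 5) = zp H.z be
  hD : ∀ a ∈ H.E hex0, a ≠ 1 →
    ((∃ n ∈ Subgroup.normalizer (H.E hex0 : Set G), n * H.z * n⁻¹ = a) ↔
      ¬ ((∃ t i x, x ≠ 0 ∧ a = el C F t (sc x (hv i)) 0) ∨
        (∃ i j x y, i ≠ j ∧
          a = el C F (nm x + nm y) (sc x (hv i) + sc y (hv j)) (mo i j))))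

end Cfsg.Agent.J4Type
end

-- part: J4Type/Frame
section
/-!
# Abstract frames for the 6-dimensional module (J4 type recognition)

`V` is a vector space over the field `F4` with four elements, `s`, `t` two linear maps of order
three with `s t = ω t s`.  Every subspace invariant under `s` and `t` has order `1`, `64` or `4096`
when `|V| = 4096`.
-/

set_option autoImplicit false

namespace Cfsg.Agent.J4Type.Frame

open Cfsg.Agent.SporadicA.FieldFour
open Cfsg.Agent.SporadicA.FieldFour.F4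

/-- Conjugation of `F4`. -/
def conj : F4 → F4
  | F4.z => F4.z
  | F4.o => F4.o
  | F4.w => F4.v
  | F4.v => F4.w

/-- The trace-like form on `F4`: `0, 1 ↦ 0` and `ω, ω² ↦ 1`. -/
def tr : F4 → ZMod 2
  | F4.z => 0
  | F4.o => 0
  | F4.w => 1
  | F4.v => 1

theorem conj_conj : ∀ a : F4, conj (conj a) = a := by decide
theorem conj_mul : ∀ a b : F4, conj (a * b) = conj a * conj b := by decide
theorem conj_add : ∀ a b : F4, conj (a + b) = conj a + conj b := by decide
theorem tr_add : ∀ a b : F4, tr (a + b) = tr a + tr b := by decide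
theorem tr_conj : ∀ a : F4, tr (conj a) = tr a := by decide
theorem add_self_F4 : ∀ a : F4, a + a = 0 := by decide
theorem one_eq : (1 : F4) = F4.o := rfl
theorem zero_eq : (0 : F4) = F4.z := rfl
theorem sum_eq : (1 : F4) + F4.w + F4.v = 0 := by decide
theorem eq_zero_of_tr : ∀ a : F4, tr a = 0 → tr (a * F4.v) = 0 → a = 0 := by decide

variable {V : Type*} [AddCommGroup V] [Module F4 V]

theorem add_self (v : V) : v + v = 0 := by
  have h : ((1 : F4) + 1) • v = 0 := by
    rw [show (1 : F4) + 1 = 0 from by decide, zero_smul]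
  rwa [add_smul, one_smul] at h

theorem neg_eq (v : V) : -v = v := by
  rw [neg_eq_iff_add_eq_zero]; exact add_self v

theorem eq_of_add_eq_zero {u v : V} (h : u + v = 0) : u = v := by
  rw [← neg_eq v]; exact eq_neg_of_add_eq_zero_left h

/-- A pair of operators generating an extraspecial group of order 27. -/
structure TP (V : Type*) [AddCommGroup V] [Module F4 V] where
  s : V →ₗ[F4] V
  t : V →ₗ[F4] V
  s3 : ∀ v, s (s (s v)) = v
  t3 : ∀ v, t (t (t v)) = v
  st : ∀ v, s (t v) = F4.w • t (s v)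

namespace TP

variable (T : TP V)

/-- Invariant subgroups. -/
def Inv (U : AddSubgroup V) : Prop := (∀ v ∈ U, T.s v ∈ U) ∧ (∀ v ∈ U, T.t v ∈ U)

theorem w_mem {U : AddSubgroup V} (hU : T.Inv U) {v : V} (hv : v ∈ U) : F4.w • v ∈ U := by
  -- ω v = s t (s² t² v)
  have h1 : T.t (T.t v) ∈ U := hU.2 _ (hU.2 _ hv)
  have h2 : T.s (T.s (T.t (T.t v))) ∈ U := hU.1 _ (hU.1 _ h1)
  have h3 : T.s (T.t (T.s (T.s (T.t (T.t v))))) ∈ U := hU.1 _ (hU.2 _ h2)
  rw [T.st, T.s3, T.t3] at h3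
  exact h3

theorem smul_mem {U : AddSubgroup V} (hU : T.Inv U) {v : V} (hv : v ∈ U) (a : F4) : a • v ∈ U := by
  have hw := T.w_mem hU hv
  cases a with
  | z => have : (F4.z : F4) • v = 0 := zero_smul F4 v
         rw [this]; exact U.zero_mem
  | o => have : (F4.o : F4) • v = v := one_smul F4 v
         rw [this]; exact hv
  | w => exact hw
  | v => have h := T.w_mem hU hw
         rw [smul_smul] at h
         exact h

theorem smul_mem_iff {U : AddSubgroup V} (hU : T.Inv U) {v : V} {a : F4} (ha : a ≠ 0) :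
    a • v ∈ U ↔ v ∈ U := by
  constructor
  · intro h
    have := T.smul_mem hU h a⁻¹
    rwa [smul_smul, inv_mul_cancel₀ ha, one_smul] at this
  · intro h; exact T.smul_mem hU h a

theorem s_mem_iff {U : AddSubgroup V} (hU : T.Inv U) {v : V} : T.s v ∈ U ↔ v ∈ U := by
  constructor
  · intro h
    have := hU.1 _ (hU.1 _ h)
    rwa [T.s3] at this
  · intro h; exact hU.1 _ h

theorem t_mem_iff {U : AddSubgroup V} (hU : T.Inv U) {v : V} : T.t v ∈ U ↔ v ∈ U := by
  constructor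
  · intro h
    have := hU.2 _ (hU.2 _ h)
    rwa [T.t3] at this
  · intro h; exact hU.2 _ h

/-- The projections to the eigenspaces of `s`: `proj k v` has eigenvalue `ω^k`. -/
def proj (k : Fin 3) (v : V) : V :=
  match k with
  | 0 => v + T.s v + T.s (T.s v)
  | 1 => v + F4.v • T.s v + F4.w • T.s (T.s v)
  | 2 => v + F4.w • T.s v + F4.v • T.s (T.s v)

/-- The eigenvalue. -/
def ev : Fin 3 → F4
  | 0 => F4.o
  | 1 => F4.w
  | 2 => F4.v

theorem s_proj (k : Fin 3) (v : V) : T.s (T.proj k v) = ev k • T.proj k v := by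
  match k with
  | 0 =>
    simp only [proj, ev, map_add, T.s3]
    rw [show (F4.o : F4) = 1 from rfl, one_smul]; abel
  | 1 =>
    simp only [proj, ev, map_add, map_smul, T.s3, smul_add, smul_smul]
    rw [show (F4.w * F4.v : F4) = 1 from rfl, show (F4.w * F4.w : F4) = F4.v from rfl, one_smul]
    abel
  | 2 =>
    simp only [proj, ev, map_add, map_smul, T.s3, smul_add, smul_smul]
    rw [show (F4.v * F4.w : F4) = 1 from rfl, show (F4.v * F4.v : F4) = F4.w from rfl, one_smul]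
    abel

theorem sum_proj (v : V) : T.proj 0 v + T.proj 1 v + T.proj 2 v = v := by
  simp only [proj]
  have e1 : T.s v + F4.v • T.s v + F4.w • T.s v = 0 := by
    have : ((1 : F4) + F4.v + F4.w) • T.s v = 0 := by
      rw [show (1 : F4) + F4.v + F4.w = 0 from by decide, zero_smul]
    rwa [add_smul, add_smul, one_smul] at this
  have e2 : T.s (T.s v) + F4.w • T.s (T.s v) + F4.v • T.s (T.s v) = 0 := by
    have : ((1 : F4) + F4.w + F4.v) • T.s (T.s v) = 0 := by
      rw [show (1 : F4) + F4.w + F4.v = 0 from by decide, zero_smul]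
    rwa [add_smul, add_smul, one_smul] at this
  calc v + T.s v + T.s (T.s v) + (v + F4.v • T.s v + F4.w • T.s (T.s v)) +
        (v + F4.w • T.s v + F4.v • T.s (T.s v))
      = (v + v) + v + (T.s v + F4.v • T.s v + F4.w • T.s v) +
        (T.s (T.s v) + F4.w • T.s (T.s v) + F4.v • T.s (T.s v)) := by abel
    _ = v := by rw [e1, e2, add_self, zero_add, add_zero, add_zero]

theorem proj_add (k : Fin 3) (u v : V) : T.proj k (u + v) = T.proj k u + T.proj k v := by
  match k with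
  | 0 => simp only [proj, map_add]; abel
  | 1 => simp only [proj, map_add, smul_add]; abel
  | 2 => simp only [proj, map_add, smul_add]; abel

theorem proj_mem {U : AddSubgroup V} (hU : T.Inv U) {v : V} (hv : v ∈ U) (k : Fin 3) :
    T.proj k v ∈ U := by
  have h1 := hU.1 _ hv
  have h2 := hU.1 _ h1
  match k with
  | 0 => exact U.add_mem (U.add_mem hv h1) h2
  | 1 => exact U.add_mem (U.add_mem hv (T.smul_mem hU h1 _)) (T.smul_mem hU h2 _)
  | 2 => exact U.add_mem (U.add_mem hv (T.smul_mem hU h1 _)) (T.smul_mem hU h2 _)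

/-- Projection of an eigenvector. -/
theorem proj_eig {v : V} {j : Fin 3} (hv : T.s v = ev j • v) (k : Fin 3) :
    T.proj k v = if k = j then v else 0 := by
  have h2 : T.s (T.s v) = (ev j * ev j) • v := by rw [hv, map_smul, hv, smul_smul]
  have key : ∀ a b : F4, v + a • T.s v + b • T.s (T.s v) = (1 + a * ev j + b * (ev j * ev j)) • v := by
    intro a b
    rw [h2, hv, smul_smul, smul_smul, add_smul, add_smul, one_smul]
  have h0 : T.proj 0 v = (1 + 1 * ev j + 1 * (ev j * ev j)) • v := by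
    rw [← key 1 1, one_smul, one_smul]; rfl
  have h1 : T.proj 1 v = (1 + F4.v * ev j + F4.w * (ev j * ev j)) • v := by
    rw [← key]; rfl
  have h3 : T.proj 2 v = (1 + F4.w * ev j + F4.v * (ev j * ev j)) • v := by
    rw [← key]; rfl
  fin_cases k <;> fin_cases j <;>
    first
      | (simp only [Fin.zero_eta, Fin.mk_one, Fin.reduceFinMk] at *
         first
          | (rw [h0, show ((1 : F4) + 1 * ev 0 + 1 * (ev 0 * ev 0)) = 1 from by decide]; simp)
          | (rw [h0, show ((1 : F4) + 1 * ev 1 + 1 * (ev 1 * ev 1)) = 0 from by decide]; simp)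
          | (rw [h0, show ((1 : F4) + 1 * ev 2 + 1 * (ev 2 * ev 2)) = 0 from by decide]; simp)
          | (rw [h1, show ((1 : F4) + F4.v * ev 0 + F4.w * (ev 0 * ev 0)) = 0 from by decide]; simp)
          | (rw [h1, show ((1 : F4) + F4.v * ev 1 + F4.w * (ev 1 * ev 1)) = 1 from by decide]; simp)
          | (rw [h1, show ((1 : F4) + F4.v * ev 2 + F4.w * (ev 2 * ev 2)) = 0 from by decide]; simp)
          | (rw [h3, show ((1 : F4) + F4.w * ev 0 + F4.v * (ev 0 * ev 0)) = 0 from by decide]; simp)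
          | (rw [h3, show ((1 : F4) + F4.w * ev 1 + F4.v * (ev 1 * ev 1)) = 0 from by decide]; simp)
          | (rw [h3, show ((1 : F4) + F4.w * ev 2 + F4.v * (ev 2 * ev 2)) = 1 from by decide]; simp))

/-- The frame map attached to a vector. -/
def psi (e : V) : (Fin 3 → F4) →ₗ[F4] V where
  toFun a := a 0 • e + a 1 • T.t e + a 2 • T.t (T.t e)
  map_add' a c := by simp only [Pi.add_apply, add_smul]; abel
  map_smul' r a := by
    simp only [Pi.smul_apply, smul_eq_mul, RingHom.id_apply, smul_add, smul_smul]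

theorem psi_apply (e : V) (a : Fin 3 → F4) :
    T.psi e a = a 0 • e + a 1 • T.t e + a 2 • T.t (T.t e) := rfl

theorem s_e1 {e : V} (he : T.s e = e) : T.s (T.t e) = F4.w • T.t e := by
  rw [T.st, he]

theorem s_e2 {e : V} (he : T.s e = e) : T.s (T.t (T.t e)) = F4.v • T.t (T.t e) := by
  rw [T.st, T.s_e1 he, map_smul, smul_smul]; rfl

theorem s_smul_e0 {e : V} (he : T.s e = e) (a : F4) : T.s (a • e) = ev 0 • (a • e) := by
  rw [map_smul, he]; exact (one_smul F4 _).symm

theorem s_smul_e1 {e : V} (he : T.s e = e) (a : F4) : T.s (a • T.t e) = ev 1 • (a • T.t e) := by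
  rw [map_smul, T.s_e1 he, smul_comm]; rfl

theorem s_smul_e2 {e : V} (he : T.s e = e) (a : F4) :
    T.s (a • T.t (T.t e)) = ev 2 • (a • T.t (T.t e)) := by
  rw [map_smul, T.s_e2 he, smul_comm]; rfl

theorem proj_psi {e : V} (he : T.s e = e) (a : Fin 3 → F4) :
    T.proj 0 (T.psi e a) = a 0 • e ∧ T.proj 1 (T.psi e a) = a 1 • T.t e ∧
      T.proj 2 (T.psi e a) = a 2 • T.t (T.t e) := by
  have h0 := T.s_smul_e0 he (a 0)
  have h1 := T.s_smul_e1 he (a 1)
  have h2 := T.s_smul_e2 he (a 2)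
  refine ⟨?_, ?_, ?_⟩
  · rw [psi_apply, proj_add, proj_add, proj_eig T h0, proj_eig T h1, proj_eig T h2]; simp
  · rw [psi_apply, proj_add, proj_add, proj_eig T h0, proj_eig T h1, proj_eig T h2]; simp
  · rw [psi_apply, proj_add, proj_add, proj_eig T h0, proj_eig T h1, proj_eig T h2]; simp

theorem psi_mem {U : AddSubgroup V} (hU : T.Inv U) {e : V} (he : e ∈ U) (a : Fin 3 → F4) :
    T.psi e a ∈ U := by
  rw [psi_apply]
  exact U.add_mem (U.add_mem (T.smul_mem hU he _) (T.smul_mem hU (hU.2 _ he) _))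
    (T.smul_mem hU (hU.2 _ (hU.2 _ he)) _)

theorem psi_eq_zero_of_mem {U : AddSubgroup V} (hU : T.Inv U) {e : V} (he : T.s e = e)
    (heU : e ∉ U) {a : Fin 3 → F4} (h : T.psi e a ∈ U) : a = 0 := by
  obtain ⟨h0, h1, h2⟩ := T.proj_psi he a
  have g0 := T.proj_mem hU h 0
  have g1 := T.proj_mem hU h 1
  have g2 := T.proj_mem hU h 2
  rw [h0] at g0; rw [h1] at g1; rw [h2] at g2
  have z0 : a 0 = 0 := by
    by_contra hne; exact heU ((T.smul_mem_iff hU hne).1 g0)
  have z1 : a 1 = 0 := by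
    by_contra hne; exact heU ((T.t_mem_iff hU).1 ((T.smul_mem_iff hU hne).1 g1))
  have z2 : a 2 = 0 := by
    by_contra hne
    exact heU ((T.t_mem_iff hU).1 ((T.t_mem_iff hU).1 ((T.smul_mem_iff hU hne).1 g2)))
  funext i
  fin_cases i
  · exact z0
  · exact z1
  · exact z2

theorem inv_bot : T.Inv (⊥ : AddSubgroup V) := by
  constructor
  · intro v hv; rw [AddSubgroup.mem_bot] at hv ⊢; rw [hv, map_zero]
  · intro v hv; rw [AddSubgroup.mem_bot] at hv ⊢; rw [hv, map_zero]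

theorem inv_top : T.Inv (⊤ : AddSubgroup V) := ⟨fun _ _ => trivial, fun _ _ => trivial⟩

theorem inv_inf {U U' : AddSubgroup V} (hU : T.Inv U) (hU' : T.Inv U') : T.Inv (U ⊓ U') :=
  ⟨fun v hv => ⟨hU.1 v hv.1, hU'.1 v hv.2⟩, fun v hv => ⟨hU.2 v hv.1, hU'.2 v hv.2⟩⟩

theorem exists_fix {U U' : AddSubgroup V} (hU : T.Inv U) (hU' : T.Inv U') {v : V}
    (hv : v ∈ U') (hvU : v ∉ U) : ∃ e ∈ U', e ∉ U ∧ T.s e = e := by
  by_cases h0 : T.proj 0 v ∈ U
  · by_cases h1 : T.proj 1 v ∈ U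
    · by_cases h2 : T.proj 2 v ∈ U
      · exact absurd (by
          rw [← T.sum_proj v]
          exact U.add_mem (U.add_mem h0 h1) h2) hvU
      · refine ⟨T.t (T.proj 2 v), hU'.2 _ (T.proj_mem hU' hv 2),
          fun h => h2 ((T.t_mem_iff hU).1 h), ?_⟩
        rw [T.st, T.s_proj, map_smul, smul_smul]
        exact one_smul F4 _
    · refine ⟨T.t (T.t (T.proj 1 v)), hU'.2 _ (hU'.2 _ (T.proj_mem hU' hv 1)),
        fun h => h1 ((T.t_mem_iff hU).1 ((T.t_mem_iff hU).1 h)), ?_⟩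
      rw [T.st, T.st, T.s_proj, map_smul, map_smul, map_smul, smul_smul, smul_smul]
      exact one_smul F4 _
  · refine ⟨T.proj 0 v, T.proj_mem hU' hv 0, h0, ?_⟩
    rw [T.s_proj]
    exact one_smul F4 _

theorem card_F43 : Nat.card (Fin 3 → F4) = 64 := by
  rw [Nat.card_eq_fintype_card, Fintype.card_fun, F4.card_eq, Fintype.card_fin]
  norm_num

theorem card_mul_le [Finite V] {U : AddSubgroup V} (hU : T.Inv U) {e : V} (he : T.s e = e)
    (heU : e ∉ U) : 64 * Nat.card U ≤ Nat.card V := by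
  have hinj : Function.Injective (fun p : (Fin 3 → F4) × U => T.psi e p.1 + (p.2 : V)) := by
    rintro ⟨a, u⟩ ⟨a', u'⟩ h
    simp only at h
    have h1 : T.psi e (a - a') ∈ U := by
      rw [map_sub]
      have : T.psi e a - T.psi e a' = (u' : V) - u := by
        rw [sub_eq_sub_iff_add_eq_add, h]; abel
      rw [this]
      exact U.sub_mem u'.2 u.2
    have h2 := T.psi_eq_zero_of_mem hU he heU h1
    have h3 : a = a' := sub_eq_zero.1 h2
    subst h3
    have h4 : (u : V) = u' := add_left_cancel h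
    exact Prod.ext rfl (Subtype.ext h4)
  have := Nat.card_le_card_of_injective _ hinj
  rwa [Nat.card_prod, card_F43] at this

theorem le_card [Finite V] {U : AddSubgroup V} (hU : T.Inv U) (h : U ≠ ⊥) : 64 ≤ Nat.card U := by
  obtain ⟨v, hv, hv0⟩ := (AddSubgroup.ne_bot_iff_exists_ne_zero.1 h : ∃ a : U, a ≠ 0) |>.elim
    (fun a ha => (⟨a, a.2, fun h0 => ha (Subtype.ext h0)⟩ : ∃ v, v ∈ U ∧ v ≠ 0))
  obtain ⟨e, heU, he0, hes⟩ := T.exists_fix T.inv_bot hU hv
    (fun h => hv0 (AddSubgroup.mem_bot.1 h))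
  have hinj : Function.Injective (fun a : Fin 3 → F4 => (⟨T.psi e a, T.psi_mem hU heU a⟩ : U)) := by
    intro a a' h
    have h1 : T.psi e a = T.psi e a' := congrArg Subtype.val h
    have h2 : T.psi e (a - a') ∈ (⊥ : AddSubgroup V) := by
      rw [map_sub, h1, sub_self]; exact AddSubgroup.zero_mem _
    exact sub_eq_zero.1 (T.psi_eq_zero_of_mem T.inv_bot hes he0 h2)
  have := Nat.card_le_card_of_injective _ hinj
  rwa [card_F43] at this

theorem card_eq [Finite V] (hV : Nat.card V = 4096) {U : AddSubgroup V} (hU : T.Inv U)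
    (h : U ≠ ⊥) (h' : U ≠ ⊤) : Nat.card U = 64 := by
  apply le_antisymm _ (T.le_card hU h)
  obtain ⟨v, hv⟩ : ∃ v, v ∉ U := by
    by_contra hc
    push Not at hc
    exact h' (eq_top_iff.2 fun v _ => hc v)
  obtain ⟨e, -, heU, hes⟩ := T.exists_fix hU T.inv_top (v := v) trivial hv
  have := T.card_mul_le hU hes heU
  rw [hV] at this
  omega

theorem eq_of_le [Finite V] (hV : Nat.card V = 4096) {U U' : AddSubgroup V} (hU : T.Inv U)
    (hU' : T.Inv U') (h : U ≠ ⊥) (h' : U' ≠ ⊤) (hle : U ≤ U') : U = U' := by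
  have h1 : U ≠ ⊤ := fun h2 => h' (top_le_iff.1 (h2 ▸ hle))
  have h3 : U' ≠ ⊥ := fun h2 => h (le_bot_iff.1 (h2 ▸ hle))
  have c1 := T.card_eq hV hU h h1
  have c2 := T.card_eq hV hU' h3 h'
  exact AddSubgroup.eq_of_le_of_card_ge hle (by rw [c1, c2])

end TP

end Cfsg.Agent.J4Type.Frame
end

-- part: J4Type/FrameForm
section
/-!
# Totally singular subspaces fixed by elementary abelian 2-groups (J4 type recognition)
-/

set_option autoImplicit false

namespace Cfsg.Agent.J4Type.FrameForm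

open Cfsg.Agent.SporadicA.FieldFour
open Cfsg.Agent.J4Type.Frame

variable {V : Type*} [AddCommGroup V] [Module F4 V]

/-- A quadratic form over the field with two elements, invariant under a pair `T`. -/
structure Frm (T : TP V) where
  b : V → V → ZMod 2
  q : V → ZMod 2
  b_add : ∀ u v w, b (u + v) w = b u w + b v w
  b_comm : ∀ u v, b u v = b v u
  b_nondeg : ∀ v, (∀ w, b v w = 0) → v = 0
  q_add : ∀ u v, q (u + v) = q u + q v + b u v
  b_w : ∀ u v, b (F4.w • u) (F4.w • v) = b u v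
  q_w : ∀ v, q (F4.w • v) = q v
  b_s : ∀ u v, b (T.s u) (T.s v) = b u v
  b_t : ∀ u v, b (T.t u) (T.t v) = b u v

namespace Frm

variable {T : TP V} (B : Frm T)

theorem b_add_right (u v w : V) : B.b u (v + w) = B.b u v + B.b u w := by
  rw [B.b_comm, B.b_add, B.b_comm v, B.b_comm w]

theorem b_zero_left (v : V) : B.b 0 v = 0 := by
  have := B.b_add 0 0 v
  rw [add_zero] at this
  exact left_eq_add.1 this

theorem b_zero_right (v : V) : B.b v 0 = 0 := by rw [B.b_comm, b_zero_left]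

theorem q_zero : B.q 0 = 0 := by
  have := B.q_add 0 0
  rw [add_zero, B.b_zero_left, add_zero] at this
  exact left_eq_add.1 this

/-- The subgroup of vectors fixed by all members of a list. -/
def fixS (l : List (V →ₗ[F4] V)) : AddSubgroup V where
  carrier := {v | ∀ x ∈ l, x v = v}
  zero_mem' := fun x _ => map_zero x
  add_mem' := by
    intro u v hu hv x hx
    rw [map_add, hu x hx, hv x hx]
  neg_mem' := by
    intro v hv x hx
    rw [map_neg, hv x hx]

theorem mem_fixS {l : List (V →ₗ[F4] V)} {v : V} : v ∈ fixS l ↔ ∀ x ∈ l, x v = v := Iff.rfl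

/-- The orthogonal complement of a subgroup. -/
def perp (U : AddSubgroup V) : AddSubgroup V where
  carrier := {v | ∀ u ∈ U, B.b v u = 0}
  zero_mem' := fun u _ => B.b_zero_left u
  add_mem' := by
    intro u v hu hv x hx
    rw [B.b_add, hu x hx, hv x hx, add_zero]
  neg_mem' := by
    intro v hv x hx
    rw [neg_eq]; exact hv x hx

theorem mem_perp {U : AddSubgroup V} {v : V} : v ∈ B.perp U ↔ ∀ u ∈ U, B.b v u = 0 := Iff.rfl

theorem inv_perp {U : AddSubgroup V} (hU : T.Inv U) : T.Inv (B.perp U) := by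
  constructor
  · intro v hv u hu
    have h := hv (T.s (T.s u)) (hU.1 _ (hU.1 _ hu))
    rwa [← B.b_s, T.s3] at h
  · intro v hv u hu
    have h := hv (T.t (T.t u)) (hU.2 _ (hU.2 _ hu))
    rwa [← B.b_t, T.t3] at h

/-- A nonzero vector can be replaced by one fixed by a list of commuting involutions. -/
theorem exists_fixed (l : List (V →ₗ[F4] V)) (h2 : ∀ x ∈ l, ∀ v, x (x v) = v)
    (hc : ∀ x ∈ l, ∀ y ∈ l, ∀ v, x (y v) = y (x v)) (K : AddSubgroup V)
    (hK : ∀ x ∈ l, ∀ v ∈ K, x v ∈ K) (hne : K ≠ ⊥) :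
    ∃ v ∈ K, v ≠ 0 ∧ ∀ x ∈ l, x v = v := by
  induction l with
  | nil =>
    obtain ⟨⟨v, hv⟩, hv0⟩ := AddSubgroup.ne_bot_iff_exists_ne_zero.1 hne
    exact ⟨v, hv, fun h => hv0 (Subtype.ext h), fun x hx => absurd hx List.not_mem_nil⟩
  | cons y l ih =>
    obtain ⟨v, hv, hv0, hfix⟩ := ih (fun x hx => h2 x (List.mem_cons_of_mem _ hx))
      (fun x hx z hz => hc x (List.mem_cons_of_mem _ hx) z (List.mem_cons_of_mem _ hz))
      (fun x hx => hK x (List.mem_cons_of_mem _ hx))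
    by_cases hy : y v = v
    · refine ⟨v, hv, hv0, ?_⟩
      intro x hx
      rcases List.mem_cons.1 hx with rfl | hx
      · exact hy
      · exact hfix x hx
    · refine ⟨v + y v, K.add_mem hv (hK y List.mem_cons_self v hv), ?_, ?_⟩
      · intro h
        exact hy (eq_of_add_eq_zero h).symm
      · intro x hx
        rcases List.mem_cons.1 hx with rfl | hx
        · rw [map_add, h2 x List.mem_cons_self, add_comm]
        · rw [map_add, hfix x hx, hc x (List.mem_cons_of_mem _ hx) y List.mem_cons_self,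
            hfix x hx]

/-- The main statement on the fixed space of an elementary abelian group normalised by `T`. -/
theorem fixS_props [Finite V] (hV : Nat.card V = 4096) (l : List (V →ₗ[F4] V))
    (h2 : ∀ x ∈ l, ∀ v, x (x v) = v)
    (hc : ∀ x ∈ l, ∀ y ∈ l, ∀ v, x (y v) = y (x v))
    (hb : ∀ x ∈ l, ∀ u v, B.b (x u) (x v) = B.b u v)
    (hne : ∃ x ∈ l, ∃ v, x v ≠ v) (hI : T.Inv (fixS l)) :
    fixS l ≠ ⊥ ∧ fixS l ≠ ⊤ ∧ Nat.card (fixS l) = 64 ∧
      (∀ u ∈ fixS l, ∀ v ∈ fixS l, B.b u v = 0) ∧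
      (∀ x ∈ l, ∀ v, x v + v ∈ fixS l) ∧ (∀ v ∈ fixS l, B.q v = 0) := by
  haveI : Nontrivial V := by
    obtain ⟨x, -, v, hv⟩ := hne
    exact ⟨x v, v, hv⟩
  have hFbot : fixS l ≠ ⊥ := by
    intro h
    obtain ⟨v, -, hv0, hv⟩ := exists_fixed l h2 hc (⊤ : AddSubgroup V) (fun _ _ _ _ => trivial)
      (by
        intro h
        obtain ⟨u, hu⟩ := exists_ne (0 : V)
        have hm : u ∈ (⊤ : AddSubgroup V) := trivial
        rw [h] at hm
        exact hu (AddSubgroup.mem_bot.1 hm))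
    have : v ∈ fixS l := hv
    rw [h] at this
    exact hv0 (AddSubgroup.mem_bot.1 this)
  have hFtop : fixS l ≠ ⊤ := by
    intro h
    obtain ⟨x, hx, v, hv⟩ := hne
    have : v ∈ fixS l := by rw [h]; trivial
    exact hv (this x hx)
  set K := B.perp (fixS l) with hKdef
  have hKI : T.Inv K := B.inv_perp hI
  have hmem : ∀ x ∈ l, ∀ v, x v + v ∈ K := by
    intro x hx v f hf
    have h1 : B.b (x v) f = B.b v f := by
      conv_lhs => rw [← hf x hx]
      exact hb x hx v f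
    rw [B.b_add, h1]
    exact CharTwo.add_self_eq_zero _
  have hKbot : K ≠ ⊥ := by
    intro h
    obtain ⟨x, hx, v, hv⟩ := hne
    have := hmem x hx v
    rw [h, AddSubgroup.mem_bot] at this
    exact hv (eq_of_add_eq_zero this)
  have hKtop : K ≠ ⊤ := by
    intro h
    apply hFbot
    rw [eq_bot_iff]
    intro f hf
    rw [AddSubgroup.mem_bot]
    apply B.b_nondeg
    intro w
    have : w ∈ K := by rw [h]; trivial
    rw [B.b_comm]
    exact this f hf
  have hKinv : ∀ x ∈ l, ∀ v ∈ K, x v ∈ K := by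
    intro x hx v hv f hf
    have := hb x hx v f
    rw [hf x hx] at this
    rw [this]; exact hv f hf
  obtain ⟨k, hkK, hk0, hkf⟩ := exists_fixed l h2 hc K hKinv hKbot
  have hinf : K ⊓ fixS l ≠ ⊥ := by
    intro h
    have : k ∈ K ⊓ fixS l := ⟨hkK, hkf⟩
    rw [h] at this
    exact hk0 (AddSubgroup.mem_bot.1 this)
  have e1 : K ⊓ fixS l = K := T.eq_of_le hV (T.inv_inf hKI hI) hKI hinf hKtop inf_le_left
  have e2 : K ⊓ fixS l = fixS l := T.eq_of_le hV (T.inv_inf hKI hI) hI hinf hFtop inf_le_right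
  have e3 : K = fixS l := by rw [← e1, e2]
  have hiso : ∀ u ∈ fixS l, ∀ v ∈ fixS l, B.b u v = 0 := by
    intro u hu v hv
    rw [← e3] at hu
    exact hu v hv
  refine ⟨hFbot, hFtop, T.card_eq hV hI hFbot hFtop, hiso, ?_, ?_⟩
  · intro x hx v
    rw [← e3]; exact hmem x hx v
  · intro v hv
    have hw : F4.w • v ∈ fixS l := T.w_mem hI hv
    have hvv : F4.v • v = v + F4.w • v := by
      have h : ((1 : F4) + F4.w) • v = F4.v • v := by
        rw [show (1 : F4) + F4.w = F4.v from by decide]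
      rw [← h, add_smul, one_smul]
    have h1 : B.q (F4.v • v) = B.q v := by
      have : F4.v • v = F4.w • (F4.w • v) := by rw [smul_smul]; rfl
      rw [this, B.q_w, B.q_w]
    rw [hvv, B.q_add, B.q_w, hiso v hv _ hw, add_zero] at h1
    have : B.q v + B.q v = 0 := CharTwo.add_self_eq_zero _
    rw [this] at h1
    exact h1.symm

end Frm

end Cfsg.Agent.J4Type.FrameForm
end

-- part: J4Type/FrameBasis
section
/-!
# Adapted bases (J4 type recognition)
-/

set_option autoImplicit false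

namespace Cfsg.Agent.J4Type.FrameBasis

open Cfsg.Agent.SporadicA.FieldFour
open Cfsg.Agent.J4Type.Frame
open Cfsg.Agent.J4Type.FrameForm
open Cfsg.Agent.J4Type.Frame.TP (ev)

variable {V : Type*} [AddCommGroup V] [Module F4 V] {T : TP V}

/-- A basis adapted to two complementary totally singular subspaces and to the pair `T`. -/
structure Fr (B : Frm T) where
  e : Fin 3 → V
  f : Fin 3 → V
  lam : F4
  kap : F4
  lam_ne : lam ≠ 0
  kap_ne : kap ≠ 0
  se : ∀ i, T.s (e i) = (lam * ev i) • e i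
  sf : ∀ i, T.s (f i) = (lam * ev i) • f i
  te : ∀ i, T.t (e i) = kap • e (i + 1)
  tf : ∀ i, T.t (f i) = kap • f (i + 1)
  ef : ∀ (i j : Fin 3) (a c : F4), B.b (a • e i) (c • f j) = if i = j then tr (a * conj c) else 0
  ee : ∀ (i j : Fin 3) (a c : F4), B.b (a • e i) (c • e j) = 0
  ff : ∀ (i j : Fin 3) (a c : F4), B.b (a • f i) (c • f j) = 0
  qe : ∀ (i : Fin 3) (a : F4), B.q (a • e i) = 0
  qf : ∀ (i : Fin 3) (a : F4), B.q (a • f i) = 0

namespace Fr

variable {B : Frm T} (F : Fr B)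

/-- Linear combinations of the first half of the basis. -/
def E (a : Fin 3 → F4) : V := a 0 • F.e 0 + a 1 • F.e 1 + a 2 • F.e 2

/-- Linear combinations of the second half of the basis. -/
def G (c : Fin 3 → F4) : V := c 0 • F.f 0 + c 1 • F.f 1 + c 2 • F.f 2

theorem E_add (a a' : Fin 3 → F4) : F.E (a + a') = F.E a + F.E a' := by
  simp only [E, Pi.add_apply, add_smul]; abel

theorem G_add (a a' : Fin 3 → F4) : F.G (a + a') = F.G a + F.G a' := by
  simp only [G, Pi.add_apply, add_smul]; abel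

theorem E_smul (r : F4) (a : Fin 3 → F4) : F.E (r • a) = r • F.E a := by
  simp only [E, Pi.smul_apply, smul_eq_mul, smul_add, smul_smul]

theorem G_smul (r : F4) (a : Fin 3 → F4) : F.G (r • a) = r • F.G a := by
  simp only [G, Pi.smul_apply, smul_eq_mul, smul_add, smul_smul]

theorem E_zero : F.E 0 = 0 := by simp [E]

theorem G_zero : F.G 0 = 0 := by simp [G]

theorem b_E_f (a : Fin 3 → F4) (j : Fin 3) (c : F4) :
    B.b (F.E a) (c • F.f j) = tr (a j * conj c) := by
  unfold E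
  rw [B.b_add, B.b_add, F.ef, F.ef, F.ef]
  fin_cases j <;> simp

theorem b_G_e (a : Fin 3 → F4) (j : Fin 3) (c : F4) :
    B.b (F.G a) (c • F.e j) = tr (a j * conj c) := by
  unfold G
  have h : ∀ x y : F4, tr (x * conj y) = tr (y * conj x) := by decide
  rw [B.b_add, B.b_add, B.b_comm (a 0 • F.f 0), B.b_comm (a 1 • F.f 1), B.b_comm (a 2 • F.f 2),
    F.ef, F.ef, F.ef, h (a j) c]
  fin_cases j <;> simp

theorem b_E_e (a : Fin 3 → F4) (j : Fin 3) (c : F4) : B.b (F.E a) (c • F.e j) = 0 := by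
  unfold E
  rw [B.b_add, B.b_add, F.ee, F.ee, F.ee]; simp

theorem b_G_f (a : Fin 3 → F4) (j : Fin 3) (c : F4) : B.b (F.G a) (c • F.f j) = 0 := by
  unfold G
  rw [B.b_add, B.b_add, F.ff, F.ff, F.ff]; simp

theorem b_E_G (a c : Fin 3 → F4) : B.b (F.E a) (F.G c) =
    tr (a 0 * conj (c 0)) + tr (a 1 * conj (c 1)) + tr (a 2 * conj (c 2)) := by
  conv_lhs => rw [G]
  rw [B.b_add_right, B.b_add_right, F.b_E_f, F.b_E_f, F.b_E_f]

theorem b_E_E (a c : Fin 3 → F4) : B.b (F.E a) (F.E c) = 0 := by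
  conv_lhs => rw [E, E]
  rw [B.b_add_right, B.b_add_right]
  have h := F.b_E_e a
  unfold E at h
  rw [h, h, h]; simp

theorem b_G_G (a c : Fin 3 → F4) : B.b (F.G a) (F.G c) = 0 := by
  conv_lhs => rw [G, G]
  rw [B.b_add_right, B.b_add_right]
  have h := F.b_G_f a
  unfold G at h
  rw [h, h, h]; simp

theorem q_E (a : Fin 3 → F4) : B.q (F.E a) = 0 := by
  unfold E
  rw [B.q_add, B.q_add, F.qe, F.qe, F.qe, F.ee, B.b_add, F.ee, F.ee]; simp

theorem q_G (a : Fin 3 → F4) : B.q (F.G a) = 0 := by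
  unfold G
  rw [B.q_add, B.q_add, F.qf, F.qf, F.qf, F.ff, B.b_add, F.ff, F.ff]; simp

/-- The coordinate map. -/
def phi (p : (Fin 3 → F4) × (Fin 3 → F4)) : V := F.E p.1 + F.G p.2

theorem phi_add (p p' : (Fin 3 → F4) × (Fin 3 → F4)) : F.phi (p + p') = F.phi p + F.phi p' := by
  simp only [phi, Prod.fst_add, Prod.snd_add, E_add, G_add]; abel

theorem phi_smul (r : F4) (p : (Fin 3 → F4) × (Fin 3 → F4)) : F.phi (r • p) = r • F.phi p := by
  simp only [phi, Prod.smul_fst, Prod.smul_snd, E_smul, G_smul, smul_add]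

theorem q_phi (p : (Fin 3 → F4) × (Fin 3 → F4)) : B.q (F.phi p) =
    tr (p.1 0 * conj (p.2 0)) + tr (p.1 1 * conj (p.2 1)) + tr (p.1 2 * conj (p.2 2)) := by
  unfold phi
  rw [B.q_add, F.q_E, F.q_G, F.b_E_G]; simp

theorem phi_eq_zero {p : (Fin 3 → F4) × (Fin 3 → F4)} (h : F.phi p = 0) : p = 0 := by
  have h1 : ∀ (j : Fin 3) (c : F4), tr (p.1 j * conj c) = 0 := by
    intro j c
    have h0 : B.b (F.phi p) (c • F.f j) = B.b (F.E p.1) (c • F.f j) + B.b (F.G p.2) (c • F.f j) :=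
      B.b_add _ _ _
    rw [h, B.b_zero_left, F.b_E_f, F.b_G_f, add_zero] at h0
    exact h0.symm
  have h2 : ∀ (j : Fin 3) (c : F4), tr (p.2 j * conj c) = 0 := by
    intro j c
    have h0 : B.b (F.phi p) (c • F.e j) = B.b (F.E p.1) (c • F.e j) + B.b (F.G p.2) (c • F.e j) :=
      B.b_add _ _ _
    rw [h, B.b_zero_left, F.b_E_e, F.b_G_e, zero_add] at h0
    exact h0.symm
  have key : ∀ x : F4, (∀ c : F4, tr (x * conj c) = 0) → x = 0 := by decide
  apply Prod.ext
  · funext j; exact key _ (h1 j)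
  · funext j; exact key _ (h2 j)

theorem phi_injective : Function.Injective F.phi := by
  intro p p' h
  have h1 : F.phi (p + p') = 0 := by
    rw [phi_add, h]; exact add_self _
  have h2 := F.phi_eq_zero h1
  have h3 : ∀ x y : F4, x + y = 0 → x = y := by decide
  apply Prod.ext
  · funext j
    have := congrFun (congrArg Prod.fst h2) j
    exact h3 _ _ this
  · funext j
    have := congrFun (congrArg Prod.snd h2) j
    exact h3 _ _ this

theorem phi_bijective [Finite V] (hV : Nat.card V = 4096) : Function.Bijective F.phi := by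
  have hc : Nat.card ((Fin 3 → F4) × (Fin 3 → F4)) = Nat.card V := by
    rw [Nat.card_prod, TP.card_F43, hV]
  exact (Nat.bijective_iff_injective_and_card F.phi).2 ⟨F.phi_injective, hc⟩

/-- Matrices of unipotent operators acting trivially on the first half. -/
def IsM (x : V →ₗ[F4] V) (m : Fin 3 → Fin 3 → F4) : Prop :=
  (∀ i, x (F.e i) = F.e i) ∧ ∀ i, x (F.f i) = F.f i + F.E (m i)

/-- Matrices of unipotent operators acting trivially on the second half. -/
def IsM' (x : V →ₗ[F4] V) (m : Fin 3 → Fin 3 → F4) : Prop :=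
  (∀ i, x (F.f i) = F.f i) ∧ ∀ i, x (F.e i) = F.e i + F.G (m i)

/-- Exchange of the two halves. -/
def swap : Fr B where
  e := F.f
  f := F.e
  lam := F.lam
  kap := F.kap
  lam_ne := F.lam_ne
  kap_ne := F.kap_ne
  se := F.sf
  sf := F.se
  te := F.tf
  tf := F.te
  ef := by
    intro i j a c
    rw [B.b_comm, F.ef]
    have h : ∀ x y : F4, tr (x * conj y) = tr (y * conj x) := by decide
    by_cases hij : i = j
    · rw [if_pos hij, if_pos hij.symm, h]
    · rw [if_neg hij, if_neg (fun h => hij h.symm)]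
  ee := F.ff
  ff := F.ee
  qe := F.qf
  qf := F.qe

theorem isM'_iff {x : V →ₗ[F4] V} {m : Fin 3 → Fin 3 → F4} : F.IsM' x m ↔ F.swap.IsM x m :=
  Iff.rfl

theorem E_inj {a a' : Fin 3 → F4} (h : F.E a = F.E a') : a = a' := by
  have h1 : F.phi (a, 0) = F.phi (a', 0) := by simp [phi, G_zero, h]
  exact congrArg Prod.fst (F.phi_injective h1)

theorem IsM.unique {F : Fr B} {x : V →ₗ[F4] V} {m m' : Fin 3 → Fin 3 → F4} (h : F.IsM x m)
    (h' : F.IsM x m') : m = m' := by
  funext i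
  have h1 := (h.2 i).symm.trans (h'.2 i)
  exact F.E_inj (add_left_cancel h1)

theorem IsM.E {F : Fr B} {x : V →ₗ[F4] V} {m : Fin 3 → Fin 3 → F4} (h : F.IsM x m)
    (a : Fin 3 → F4) : x (F.E a) = F.E a := by
  unfold Fr.E
  simp only [map_add, map_smul, h.1]

theorem IsM.G {F : Fr B} {x : V →ₗ[F4] V} {m : Fin 3 → Fin 3 → F4} (h : F.IsM x m)
    (c : Fin 3 → F4) : x (F.G c) = F.G c + F.E (fun j => c 0 * m 0 j + c 1 * m 1 j + c 2 * m 2 j) := by
  unfold Fr.G
  simp only [map_add, map_smul, h.2, Fr.E, smul_add, smul_smul, add_smul]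
  abel

theorem IsM.phi {F : Fr B} {x : V →ₗ[F4] V} {m : Fin 3 → Fin 3 → F4} (h : F.IsM x m)
    (a c : Fin 3 → F4) : x (F.phi (a, c)) =
      F.phi (a + (fun j => c 0 * m 0 j + c 1 * m 1 j + c 2 * m 2 j), c) := by
  unfold Fr.phi
  rw [map_add, h.E, h.G, E_add]
  abel

theorem IsM.one : F.IsM LinearMap.id (fun _ _ => 0) := by
  refine ⟨fun _ => rfl, fun i => ?_⟩
  have : F.E (fun _ => 0) = 0 := F.E_zero
  rw [this, add_zero]; rfl

theorem IsM.comp {F : Fr B} {x y : V →ₗ[F4] V} {m m' : Fin 3 → Fin 3 → F4} (h : F.IsM x m)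
    (h' : F.IsM y m') : F.IsM (x ∘ₗ y) (m + m') := by
  refine ⟨fun i => ?_, fun i => ?_⟩
  · rw [LinearMap.comp_apply, h'.1, h.1]
  · rw [LinearMap.comp_apply, h'.2, map_add, h.2, h.E, Pi.add_apply, E_add]
    abel

/-- Hermitian property of the matrix of an isometry. -/
theorem IsM.herm {F : Fr B} {x : V →ₗ[F4] V} {m : Fin 3 → Fin 3 → F4} (h : F.IsM x m)
    (hb : ∀ u v, B.b (x u) (x v) = B.b u v) (i j : Fin 3) : m j i = conj (m i j) := by
  have key : ∀ x y : F4, (∀ c : F4, tr (x * conj c) = tr (c * y)) → y = conj x := by decide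
  apply key
  intro c
  have h1 := hb (F.f i) (c • F.f j)
  rw [h.2, map_smul, h.2, smul_add, B.b_add, B.b_add_right, B.b_add_right, F.b_E_f,
    ← F.E_smul, F.b_E_E, add_zero] at h1
  have h2 : B.b (F.f i) (F.E (c • m j)) = tr (c * m j i) := by
    have := F.b_E_f (c • m j) i 1
    rw [one_smul] at this
    rw [B.b_comm, this]
    simp [conj, one_eq]
    have : ∀ x : F4, x * F4.o = x := by decide
    rw [this]
  rw [h2] at h1
  have h3 : ∀ x y z : ZMod 2, x + y + z = x → z = y := by decide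
  exact h3 _ _ _ h1

end Fr

end Cfsg.Agent.J4Type.FrameBasis
end

-- part: J4Type/FrameExist
section
/-!
# Existence of adapted bases (J4 type recognition)
-/

set_option autoImplicit false

namespace Cfsg.Agent.J4Type.FrameExist

open Cfsg.Agent.SporadicA.FieldFour
open Cfsg.Agent.J4Type.Frame
open Cfsg.Agent.J4Type.FrameForm
open Cfsg.Agent.J4Type.FrameBasis
open Cfsg.Agent.J4Type.Frame.TP (ev)

variable {V : Type*} [AddCommGroup V] [Module F4 V] {T : TP V}

theorem b_smul_smul (B : Frm T) {a : F4} (ha : a ≠ 0) (u v : V) :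
    B.b (a • u) (a • v) = B.b u v := by
  cases a with
  | z => exact absurd rfl ha
  | o => have h : ∀ x : V, (F4.o : F4) • x = x := fun x => one_smul F4 x
         rw [h, h]
  | w => exact B.b_w u v
  | v =>
    have h : ∀ x : V, (F4.v : F4) • x = F4.w • (F4.w • x) := fun x => by rw [smul_smul]; rfl
    rw [h, h, B.b_w, B.b_w]

/-- Eigenvectors for distinct eigenvalues are orthogonal. -/
theorem b_eig (B : Frm T) {i j : Fin 3} (hij : i ≠ j) {u v : V} (hu : T.s u = ev i • u)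
    (hv : T.s v = ev j • v) : B.b u v = 0 := by
  have hev : ∀ k : Fin 3, ev k ≠ 0 := by decide
  -- for every eigenvector `v'` of value `ev j`
  have key : ∀ v' : V, T.s v' = ev j • v' → B.b u v' = B.b u ((ev j * (ev i)⁻¹) • v') := by
    intro v' hv'
    have h1 := B.b_s u v'
    rw [hu, hv'] at h1
    rw [← h1]
    have h2 : ev j • v' = ev i • ((ev j * (ev i)⁻¹) • v') := by
      rw [smul_smul, mul_comm (ev i), mul_assoc, inv_mul_cancel₀ (hev i), mul_one]
    rw [h2, b_smul_smul B (hev i)]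
  set r := ev j * (ev i)⁻¹ with hr
  have hr1 : r ≠ 1 := by
    rw [hr]; clear key hu hv
    revert i j; decide
  have hr0 : r ≠ 0 := mul_ne_zero (hev j) (inv_ne_zero (hev i))
  have e1 := key v hv
  have e2 := key (r • v) (by rw [map_smul, hv, smul_comm])
  rw [smul_smul] at e2
  have e3 : v = r • v + (r * r) • v := by
    have : ∀ r : F4, r ≠ 1 → r ≠ 0 → r + r * r = 1 := by decide
    rw [← add_smul, this r hr1 hr0, one_smul]
  have e4 : B.b u v = B.b u (r • v) + B.b u ((r * r) • v) := by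
    rw [← B.b_add_right, ← e3]
  rw [← e2] at e4
  rw [e4]
  exact CharTwo.add_self_eq_zero _

theorem psi_bij [Finite V] (hV : Nat.card V = 4096) {W W' : AddSubgroup V} (hW : T.Inv W)
    (hW' : T.Inv W') (hdis : W ⊓ W' = ⊥) {e f : V} (he : e ∈ W) (hf : f ∈ W') (he0 : e ≠ 0)
    (hf0 : f ≠ 0) (hse : T.s e = e) (hsf : T.s f = f) :
    Function.Bijective (fun p : (Fin 3 → F4) × (Fin 3 → F4) => T.psi e p.1 + T.psi f p.2) := by
  have hc : Nat.card ((Fin 3 → F4) × (Fin 3 → F4)) = Nat.card V := by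
    rw [Nat.card_prod, TP.card_F43, hV]
  refine (Nat.bijective_iff_injective_and_card _).2 ⟨?_, hc⟩
  have hz : ∀ (g : V), g ≠ 0 → T.s g = g → ∀ a, T.psi g a = 0 → a = 0 := by
    intro g hg hsg a ha
    exact T.psi_eq_zero_of_mem T.inv_bot hsg (fun h => hg (AddSubgroup.mem_bot.1 h))
      (by rw [ha]; exact AddSubgroup.zero_mem _)
  rintro ⟨a, c⟩ ⟨a', c'⟩ h
  simp only at h
  have h1 : T.psi e (a - a') = T.psi f (c' - c) := by
    rw [map_sub, map_sub, sub_eq_sub_iff_add_eq_add, h]; abel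
  have m1 : T.psi e (a - a') ∈ W ⊓ W' := by
    refine ⟨T.psi_mem hW he _, ?_⟩
    rw [h1]; exact T.psi_mem hW' hf _
  rw [hdis, AddSubgroup.mem_bot] at m1
  have m2 : T.psi f (c' - c) = 0 := by rw [← h1, m1]
  have z1 := hz e he0 hse _ m1
  have z2 := hz f hf0 hsf _ m2
  exact Prod.ext (sub_eq_zero.1 z1) (sub_eq_zero.1 z2).symm

/-- The powers of `t` applied to a vector. -/
def tpow (T : TP V) (e : V) : Fin 3 → V
  | 0 => e
  | 1 => T.t e
  | 2 => T.t (T.t e)

theorem psi_eq (e : V) (a : Fin 3 → F4) :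
    T.psi e a = a 0 • tpow T e 0 + a 1 • tpow T e 1 + a 2 • tpow T e 2 := rfl

theorem s_tpow {e : V} (he : T.s e = e) (i : Fin 3) : T.s (tpow T e i) = ev i • tpow T e i := by
  match i with
  | 0 => change T.s e = _; rw [he]; exact (one_smul F4 _).symm
  | 1 => exact T.s_e1 he
  | 2 => exact T.s_e2 he

theorem t_tpow {e : V} (i : Fin 3) : T.t (tpow T e i) = tpow T e (i + 1) := by
  match i with
  | 0 => rfl
  | 1 => rfl
  | 2 => exact T.t3 e

theorem b_tpow (B : Frm T) (e f : V) (i : Fin 3) (a c : F4) :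
    B.b (a • tpow T e i) (c • tpow T f i) = B.b (a • e) (c • f) := by
  match i with
  | 0 => rfl
  | 1 =>
    change B.b (a • T.t e) (c • T.t f) = _
    rw [← map_smul, ← map_smul, B.b_t]
  | 2 =>
    have h : ∀ (a : F4) (g : V), a • T.t (T.t g) = T.t (T.t (a • g)) := fun a g => by
      rw [map_smul, map_smul]
    change B.b (a • T.t (T.t e)) (c • T.t (T.t f)) = _
    rw [h, h, B.b_t, B.b_t]

theorem tpow_mem {U : AddSubgroup V} (hU : T.Inv U) {e : V} (he : e ∈ U) (i : Fin 3) :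
    tpow T e i ∈ U := by
  match i with
  | 0 => exact he
  | 1 => exact hU.2 _ he
  | 2 => exact hU.2 _ (hU.2 _ he)

theorem exists_fr [Finite V] (hV : Nat.card V = 4096) (B : Frm T) {W W' : AddSubgroup V}
    (hW : T.Inv W) (hW' : T.Inv W') (hWb : W ≠ ⊥) (hWb' : W' ≠ ⊥)
    (hiso : ∀ u ∈ W, ∀ v ∈ W, B.b u v = 0) (hq : ∀ v ∈ W, B.q v = 0)
    (hiso' : ∀ u ∈ W', ∀ v ∈ W', B.b u v = 0) (hq' : ∀ v ∈ W', B.q v = 0)
    (hdis : W ⊓ W' = ⊥) :
    ∃ F : Fr B, (∀ i, F.e i ∈ W) ∧ (∀ i, F.f i ∈ W') := by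
  obtain ⟨⟨v, hv⟩, hv0⟩ := AddSubgroup.ne_bot_iff_exists_ne_zero.1 hWb
  obtain ⟨⟨v', hv'⟩, hv0'⟩ := AddSubgroup.ne_bot_iff_exists_ne_zero.1 hWb'
  obtain ⟨e, heW, heb, hse⟩ := T.exists_fix T.inv_bot hW hv
    (fun h => hv0 (Subtype.ext (AddSubgroup.mem_bot.1 h)))
  obtain ⟨f0, hfW, hfb, hsf0⟩ := T.exists_fix T.inv_bot hW' hv'
    (fun h => hv0' (Subtype.ext (AddSubgroup.mem_bot.1 h)))
  have he0 : e ≠ 0 := fun h => heb (by rw [h]; exact AddSubgroup.zero_mem _)
  have hf0 : f0 ≠ 0 := fun h => hfb (by rw [h]; exact AddSubgroup.zero_mem _)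
  have hbij := psi_bij hV hW hW' hdis heW hfW he0 hf0 hse hsf0
  have hs0 : ∀ {g : V}, T.s g = g → T.s g = ev 0 • g := by
    intro g hg; rw [hg]; exact (one_smul F4 _).symm
  -- some multiple of `f0` is not orthogonal to `e`
  have hne : ∃ c : F4, B.b e (c • f0) ≠ 0 := by
    by_contra hc
    push Not at hc
    apply he0
    apply B.b_nondeg
    intro x
    obtain ⟨⟨a, c⟩, rfl⟩ := hbij.2 x
    simp only
    rw [B.b_add_right, hiso e heW _ (T.psi_mem hW heW a), zero_add, TP.psi_apply,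
      B.b_add_right, B.b_add_right, hc,
      b_eig B (by decide : (0 : Fin 3) ≠ 1) (hs0 hse) (T.s_smul_e1 hsf0 _),
      b_eig B (by decide : (0 : Fin 3) ≠ 2) (hs0 hse) (T.s_smul_e2 hsf0 _)]
    rfl
  -- normalise
  obtain ⟨r, hr0, hr1, hr2⟩ : ∃ r : F4, r ≠ 0 ∧ B.b e (r • f0) = 0 ∧ B.b e ((F4.w * r) • f0) = 1 := by
    have hv : B.b e (F4.v • f0) = B.b e f0 + B.b e (F4.w • f0) := by
      have : (F4.v : F4) = 1 + F4.w := by decide
      rw [this, add_smul, one_smul, B.b_add_right]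
    have ho : (F4.o : F4) • f0 = f0 := one_smul F4 _
    obtain ⟨c, hc⟩ := hne
    have h01 : ∀ x : ZMod 2, x = 0 ∨ x = 1 := by decide
    rcases h01 (B.b e f0) with h0 | h0 <;> rcases h01 (B.b e (F4.w • f0)) with h1 | h1
    · exfalso
      rw [h0, h1, add_zero] at hv
      apply hc
      cases c with
      | z => have : (F4.z : F4) • f0 = 0 := zero_smul F4 _
             rw [this, B.b_zero_right]
      | o => rw [ho, h0]
      | w => exact h1
      | v => exact hv
    · exact ⟨1, one_ne_zero, by rw [one_smul, h0], by rw [mul_one, h1]⟩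
    · refine ⟨F4.w, by decide, h1, ?_⟩
      rw [show F4.w * F4.w = F4.v from rfl, hv, h0, h1]; rfl
    · refine ⟨F4.v, by decide, ?_, ?_⟩
      · rw [hv, h0, h1]; rfl
      · rw [show F4.w * F4.v = F4.o from rfl, ho, h0]
  set f := r • f0 with hf
  have hfW' : f ∈ W' := T.smul_mem hW' hfW r
  have hsf : T.s f = f := by rw [hf, map_smul, hsf0]
  have hf00 : f ≠ 0 := smul_ne_zero hr0 hf0
  have hef1 : ∀ c : F4, B.b e (c • f) = tr c := by
    intro c
    have hw : B.b e (F4.w • f) = 1 := by rw [hf, smul_smul]; exact hr2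
    cases c with
    | z => have : (F4.z : F4) • f = 0 := zero_smul F4 _
           rw [this, B.b_zero_right]; rfl
    | o => have : (F4.o : F4) • f = f := one_smul F4 _
           rw [this]; exact hr1
    | w => exact hw
    | v =>
      have h : (F4.v : F4) = 1 + F4.w := by decide
      rw [h, add_smul, one_smul, B.b_add_right, hr1, hw]; rfl
  have hef : ∀ a c : F4, B.b (a • e) (c • f) = tr (a * conj c) := by
    intro a c
    by_cases ha : a = 0
    · rw [ha, zero_smul, B.b_zero_left, zero_mul]; rfl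
    · have h1 : c • f = a • ((a⁻¹ * c) • f) := by
        rw [smul_smul a (a⁻¹ * c) f, ← mul_assoc, mul_inv_cancel₀ ha, one_mul]
      rw [h1, b_smul_smul B ha, hef1]
      have : ∀ a c : F4, a ≠ 0 → tr (a⁻¹ * c) = tr (a * conj c) := by decide
      exact this a c ha
  have hsm : ∀ {g : V} {i : Fin 3}, T.s g = ev i • g → ∀ a : F4, T.s (a • g) = ev i • (a • g) := by
    intro g i hg a
    rw [map_smul, hg, smul_comm]
  refine ⟨{ e := tpow T e, f := tpow T f, lam := 1, kap := 1, lam_ne := one_ne_zero,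
            kap_ne := one_ne_zero, se := ?_, sf := ?_, te := ?_, tf := ?_, ef := ?_, ee := ?_,
            ff := ?_, qe := ?_, qf := ?_ }, fun i => tpow_mem hW heW i, fun i => tpow_mem hW' hfW' i⟩
  · intro i; rw [one_mul]; exact s_tpow hse i
  · intro i; rw [one_mul]; exact s_tpow hsf i
  · intro i; rw [one_smul]; exact t_tpow i
  · intro i; rw [one_smul]; exact t_tpow i
  · intro i j a c
    by_cases hij : i = j
    · subst hij
      rw [if_pos rfl, b_tpow, hef]
    · rw [if_neg hij]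
      exact b_eig B hij (hsm (s_tpow hse i) a) (hsm (s_tpow hsf j) c)
  · intro i j a c
    exact hiso _ (T.smul_mem hW (tpow_mem hW heW i) a) _ (T.smul_mem hW (tpow_mem hW heW j) c)
  · intro i j a c
    exact hiso' _ (T.smul_mem hW' (tpow_mem hW' hfW' i) a) _
      (T.smul_mem hW' (tpow_mem hW' hfW' j) c)
  · intro i a; exact hq _ (T.smul_mem hW (tpow_mem hW heW i) a)
  · intro i a; exact hq' _ (T.smul_mem hW' (tpow_mem hW' hfW' i) a)

/-- Reindexing a frame. -/
def shift {B : Frm T} (F : Fr B) (k : Fin 3) : Fr B where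
  e i := F.e (i + k)
  f i := F.f (i + k)
  lam := F.lam * ev k
  kap := F.kap
  lam_ne := mul_ne_zero F.lam_ne (by revert k; decide)
  kap_ne := F.kap_ne
  se i := by
    rw [F.se, mul_assoc F.lam, show ev (i + k) = ev k * ev i from by revert i k; decide]
  sf i := by
    rw [F.sf, mul_assoc F.lam, show ev (i + k) = ev k * ev i from by revert i k; decide]
  te i := by rw [F.te, show i + k + 1 = i + 1 + k from by revert i k; decide]
  tf i := by rw [F.tf, show i + k + 1 = i + 1 + k from by revert i k; decide]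
  ef i j a c := by
    rw [F.ef]
    have : (i + k = j + k) ↔ i = j := by revert i j k; decide
    by_cases h : i = j
    · rw [if_pos h, if_pos (this.2 h)]
    · rw [if_neg h, if_neg (fun h' => h (this.1 h'))]
  ee i j a c := F.ee _ _ a c
  ff i j a c := F.ff _ _ a c
  qe i a := F.qe _ a
  qf i a := F.qf _ a

/-- Rescaling a frame by the powers of a scalar. -/
def scale {B : Frm T} (F : Fr B) (μ : F4) (hμ : μ ≠ 0) : Fr B where
  e i := (![1, μ, μ * μ] i : F4) • F.e i
  f i := (![1, μ, μ * μ] i : F4) • F.f i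
  lam := F.lam
  kap := F.kap * μ⁻¹
  lam_ne := F.lam_ne
  kap_ne := mul_ne_zero F.kap_ne (inv_ne_zero hμ)
  se i := by rw [map_smul, F.se, smul_comm]
  sf i := by rw [map_smul, F.sf, smul_comm]
  te i := by
    rw [map_smul, F.te, smul_smul, smul_smul]
    congr 1
    have : ∀ (κ μ : F4) (i : Fin 3), μ ≠ 0 → ![1, μ, μ * μ] i * κ = κ * μ⁻¹ * ![1, μ, μ * μ] (i + 1) := by
      decide
    exact this _ _ _ hμ
  tf i := by
    rw [map_smul, F.tf, smul_smul, smul_smul]
    congr 1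
    have : ∀ (κ μ : F4) (i : Fin 3), μ ≠ 0 → ![1, μ, μ * μ] i * κ = κ * μ⁻¹ * ![1, μ, μ * μ] (i + 1) := by
      decide
    exact this _ _ _ hμ
  ef i j a c := by
    rw [smul_smul, smul_smul, F.ef]
    by_cases h : i = j
    · subst h
      rw [if_pos rfl, if_pos rfl]
      have : ∀ (μ a c : F4) (i : Fin 3), μ ≠ 0 →
          tr (a * ![1, μ, μ * μ] i * conj (c * ![1, μ, μ * μ] i)) = tr (a * conj c) := by
        decide
      exact this _ _ _ _ hμ
    · rw [if_neg h, if_neg h]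
  ee i j a c := by rw [smul_smul, smul_smul, F.ee]
  ff i j a c := by rw [smul_smul, smul_smul, F.ff]
  qe i a := by rw [smul_smul, F.qe]
  qf i a := by rw [smul_smul, F.qf]

end Cfsg.Agent.J4Type.FrameExist
end

-- part: J4Type/FrameOps
section
/-!
# Matrices of the operators in an adapted basis (J4 type recognition)
-/

set_option autoImplicit false

namespace Cfsg.Agent.J4Type.FrameOps

open Cfsg.Agent.SporadicA.FieldFour
open Cfsg.Agent.J4Type.Frame
open Cfsg.Agent.J4Type.FrameForm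
open Cfsg.Agent.J4Type.FrameBasis
open Cfsg.Agent.J4Type.FrameExist
open Cfsg.Agent.J4Type.Frame.TP (ev)

variable {V : Type*} [AddCommGroup V] [Module F4 V] {T : TP V} {B : Frm T}

theorem ev_ne (i : Fin 3) : ev i ≠ 0 := by revert i; decide

theorem exists_E [Finite V] (hV : Nat.card V = 4096) (F : Fr B) {w : V}
    (h : ∀ (j : Fin 3) (c : F4), B.b w (c • F.e j) = 0) : ∃ a, w = F.E a := by
  obtain ⟨⟨a, c⟩, rfl⟩ := (F.phi_bijective hV).2 w
  refine ⟨a, ?_⟩
  have h1 : ∀ (j : Fin 3) (x : F4), tr (c j * conj x) = 0 := by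
    intro j x
    have h0 : B.b (F.phi (a, c)) (x • F.e j) = B.b (F.E a) (x • F.e j) + B.b (F.G c) (x • F.e j) :=
      B.b_add _ _ _
    rw [h, F.b_E_e, F.b_G_e, zero_add] at h0
    exact h0.symm
  have key : ∀ x : F4, (∀ c : F4, tr (x * conj c) = 0) → x = 0 := by decide
  have hc : c = 0 := by funext j; exact key _ (h1 j)
  rw [hc]
  simp [Fr.phi, Fr.G_zero]

theorem exists_isM [Finite V] (hV : Nat.card V = 4096) (F : Fr B) {x : V →ₗ[F4] V}
    (hx : ∀ i, x (F.e i) = F.e i) (hb : ∀ u v, B.b (x u) (x v) = B.b u v) :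
    ∃ m, F.IsM x m := by
  have h : ∀ i, ∃ a, x (F.f i) = F.f i + F.E a := by
    intro i
    have : ∃ a, x (F.f i) + F.f i = F.E a := by
      apply exists_E hV F
      intro j c
      have h1 := hb (F.f i) (c • F.e j)
      rw [map_smul, hx] at h1
      rw [B.b_add, h1]
      exact CharTwo.add_self_eq_zero _
    obtain ⟨a, ha⟩ := this
    refine ⟨a, ?_⟩
    rw [← ha]
    calc x (F.f i) = x (F.f i) + (F.f i + F.f i) := by rw [add_self, add_zero]
      _ = F.f i + (x (F.f i) + F.f i) := by abel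
  choose m hm using h
  exact ⟨m, hx, hm⟩

theorem s_E (F : Fr B) (a : Fin 3 → F4) : T.s (F.E a) = F.E (fun j => F.lam * ev j * a j) := by
  unfold Fr.E
  simp only [map_add, map_smul, F.se, smul_smul]
  simp only [mul_comm]

theorem t_E (F : Fr B) (a : Fin 3 → F4) : T.t (F.E a) = F.E (fun j => F.kap * a (j - 1)) := by
  unfold Fr.E
  simp only [map_add, map_smul, F.te, smul_smul]
  rw [show (0 : Fin 3) - 1 = 2 from rfl, show (1 : Fin 3) - 1 = 0 from rfl,
    show (2 : Fin 3) - 1 = 1 from rfl, show (0 : Fin 3) + 1 = 1 from rfl,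
    show (1 : Fin 3) + 1 = 2 from rfl, show (2 : Fin 3) + 1 = 0 from rfl,
    mul_comm (a 0), mul_comm (a 1), mul_comm (a 2)]
  abel

theorem conj_s {F : Fr B} {x x' : V →ₗ[F4] V} {m : Fin 3 → Fin 3 → F4} (h : F.IsM x m)
    (hx : ∀ v, x' (T.s v) = T.s (x v)) : F.IsM x' (fun i j => (ev i)⁻¹ * ev j * m i j) := by
  have hl : ∀ i, F.lam * ev i ≠ 0 := fun i => mul_ne_zero F.lam_ne (ev_ne i)
  have e1 : ∀ i, F.e i = (F.lam * ev i)⁻¹ • T.s (F.e i) := by
    intro i; rw [F.se, smul_smul, inv_mul_cancel₀ (hl i), one_smul]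
  have e2 : ∀ i, F.f i = (F.lam * ev i)⁻¹ • T.s (F.f i) := by
    intro i; rw [F.sf, smul_smul, inv_mul_cancel₀ (hl i), one_smul]
  refine ⟨fun i => ?_, fun i => ?_⟩
  · conv_lhs => rw [e1 i]
    rw [map_smul, hx, h.1, ← e1 i]
  · conv_lhs => rw [e2 i]
    rw [map_smul, hx, h.2, map_add, smul_add, ← e2 i, s_E, ← F.E_smul]
    congr 2
    funext j
    simp only [Pi.smul_apply, smul_eq_mul]
    have := F.lam_ne
    have h2 := ev_ne i
    field_simp

theorem conj_t {F : Fr B} {x x' : V →ₗ[F4] V} {m : Fin 3 → Fin 3 → F4} (h : F.IsM x m)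
    (hx : ∀ v, x' (T.t v) = T.t (x v)) : F.IsM x' (fun i j => m (i - 1) (j - 1)) := by
  have e1 : ∀ i, F.e i = F.kap⁻¹ • T.t (F.e (i - 1)) := by
    intro i; rw [F.te, smul_smul, inv_mul_cancel₀ F.kap_ne, one_smul, sub_add_cancel]
  have e2 : ∀ i, F.f i = F.kap⁻¹ • T.t (F.f (i - 1)) := by
    intro i; rw [F.tf, smul_smul, inv_mul_cancel₀ F.kap_ne, one_smul, sub_add_cancel]
  refine ⟨fun i => ?_, fun i => ?_⟩
  · conv_lhs => rw [e1 i]
    rw [map_smul, hx, h.1, ← e1 i]
  · conv_lhs => rw [e2 i]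
    rw [map_smul, hx, h.2, map_add, smul_add, ← e2 i, t_E, ← F.E_smul]
    congr 2
    funext j
    simp only [Pi.smul_apply, smul_eq_mul]
    rw [← mul_assoc, inv_mul_cancel₀ F.kap_ne, one_mul]

theorem isM_shift {F : Fr B} {x : V →ₗ[F4] V} {m : Fin 3 → Fin 3 → F4} (h : F.IsM x m)
    (k : Fin 3) : (shift F k).IsM x (fun i j => m (i + k) (j + k)) := by
  refine ⟨fun i => h.1 _, fun i => ?_⟩
  change x (F.f (i + k)) = F.f (i + k) + _
  rw [h.2]
  congr 1
  change F.E (m (i + k)) = m (i + k) (0 + k) • F.e (0 + k) + m (i + k) (1 + k) • F.e (1 + k) +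
    m (i + k) (2 + k) • F.e (2 + k)
  unfold Fr.E
  match k with
  | 0 => rfl
  | 1 =>
    rw [show (0 : Fin 3) + 1 = 1 from rfl, show (1 : Fin 3) + 1 = 2 from rfl,
      show (2 : Fin 3) + 1 = 0 from rfl]
    abel
  | 2 =>
    rw [show (0 : Fin 3) + 2 = 2 from rfl, show (1 : Fin 3) + 2 = 0 from rfl,
      show (2 : Fin 3) + 2 = 1 from rfl]
    abel

theorem isM_scale {F : Fr B} {x : V →ₗ[F4] V} {m : Fin 3 → Fin 3 → F4} (h : F.IsM x m)
    (μ : F4) (hμ : μ ≠ 0) : (scale F μ hμ).IsM x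
      (fun i j => ![1, μ, μ * μ] i * m i j * (![1, μ, μ * μ] j)⁻¹) := by
  have hne : ∀ i : Fin 3, (![1, μ, μ * μ] i : F4) ≠ 0 := by
    intro i; revert μ; revert i; decide
  refine ⟨fun i => ?_, fun i => ?_⟩
  · change x ((![1, μ, μ * μ] i : F4) • F.e i) = _
    rw [map_smul, h.1]; rfl
  · change x ((![1, μ, μ * μ] i : F4) • F.f i) = (![1, μ, μ * μ] i : F4) • F.f i + _
    rw [map_smul, h.2, smul_add]
    congr 1
    rw [← F.E_smul]
    change _ = (![1, μ, μ * μ] i * m i 0 * (![1, μ, μ * μ] 0)⁻¹) • ((![1, μ, μ * μ] 0 : F4) • F.e 0)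
      + (![1, μ, μ * μ] i * m i 1 * (![1, μ, μ * μ] 1)⁻¹) • ((![1, μ, μ * μ] 1 : F4) • F.e 1)
      + (![1, μ, μ * μ] i * m i 2 * (![1, μ, μ * μ] 2)⁻¹) • ((![1, μ, μ * μ] 2 : F4) • F.e 2)
    rw [smul_smul, smul_smul, smul_smul, inv_mul_cancel_right₀ (hne 0),
      inv_mul_cancel_right₀ (hne 1), inv_mul_cancel_right₀ (hne 2)]
    rfl

/-- The matrix of `a`: a diagonal matrix with exactly one zero. -/
theorem diag_pattern {F : Fr B} {a a1 a2 : V →ₗ[F4] V} {m : Fin 3 → Fin 3 → F4}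
    (h : F.IsM a m) (hb : ∀ u v, B.b (a u) (a v) = B.b u v)
    (hs : ∀ v, a (T.s v) = T.s (a v)) (h1 : ∀ v, a1 (T.t v) = T.t (a v))
    (h2 : ∀ v, a2 (T.t v) = T.t (a1 v)) (h3 : ∀ v, a (a1 (a2 v)) = v) (hne : ∃ v, a v ≠ v)
    [Finite V] (hV : Nat.card V = 4096) :
    ∃ k : Fin 3, ∀ i j, m i j = if i = j ∧ i ≠ k then 1 else 0 := by
  have e1 : ∀ i j, m i j = (ev i)⁻¹ * ev j * m i j := fun i j =>
    congrFun (congrFun (h.unique (conj_s h hs)) i) j
  have hoff : ∀ i j, i ≠ j → m i j = 0 := by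
    intro i j hij
    have := e1 i j
    have key : ∀ (i j : Fin 3) (x : F4), i ≠ j → x = (ev i)⁻¹ * ev j * x → x = 0 := by decide
    exact key i j _ hij this
  have k1 := conj_t h h1
  have k2 := conj_t k1 h2
  have k3 := (h.comp (k1.comp k2))
  have k4 : F.IsM (a ∘ₗ (a1 ∘ₗ a2)) (fun _ _ => 0) := by
    have : a ∘ₗ (a1 ∘ₗ a2) = LinearMap.id := LinearMap.ext h3
    rw [this]; exact Fr.IsM.one F
  have k5 := k3.unique k4
  have hsum : m 0 0 + (m 2 2 + m 1 1) = 0 := congrFun (congrFun k5 0) 0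
  have hd : ∀ i, m i i = conj (m i i) := fun i => h.herm hb i i
  have h01 : ∀ x : F4, x = conj x → x = 0 ∨ x = 1 := by decide
  have hnz : ¬ (m 0 0 = 0 ∧ m 1 1 = 0 ∧ m 2 2 = 0) := by
    rintro ⟨z0, z1, z2⟩
    have hm : m = fun _ _ => 0 := by
      funext i j
      by_cases hij : i = j
      · subst hij; fin_cases i
        · exact z0
        · exact z1
        · exact z2
      · exact hoff i j hij
    obtain ⟨v, hv⟩ := hne
    apply hv
    obtain ⟨⟨p, c⟩, rfl⟩ := (F.phi_bijective hV).2 v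
    rw [hm] at h
    rw [h.phi]
    congr 1
    apply Prod.ext
    · funext j; simp
    · rfl
  have hf := h01 _ (hd 0)
  have hg := h01 _ (hd 1)
  have hh := h01 _ (hd 2)
  have hcase : ∃ k : Fin 3, ∀ i, m i i = if i ≠ k then 1 else 0 := by
    rcases hf with hf | hf <;> rcases hg with hg | hg <;> rcases hh with hh | hh
    · exact absurd ⟨hf, hg, hh⟩ hnz
    · rw [hf, hg, hh] at hsum; exact absurd hsum (by decide)
    · rw [hf, hg, hh] at hsum; exact absurd hsum (by decide)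
    · exact ⟨0, fun i => by fin_cases i <;> simp [hf, hg, hh]⟩
    · rw [hf, hg, hh] at hsum; exact absurd hsum (by decide)
    · exact ⟨1, fun i => by fin_cases i <;> simp [hf, hg, hh]⟩
    · exact ⟨2, fun i => by fin_cases i <;> simp [hf, hg, hh]⟩
    · rw [hf, hg, hh] at hsum; exact absurd hsum (by decide)
  obtain ⟨k, hk⟩ := hcase
  refine ⟨k, fun i j => ?_⟩
  by_cases hij : i = j
  · subst hij
    rw [hk i]
    by_cases hik : i ≠ k
    · rw [if_pos hik, if_pos ⟨rfl, hik⟩]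
    · rw [if_neg hik, if_neg (fun h' => hik h'.2)]
  · rw [hoff i j hij, if_neg (fun h' => hij h'.1)]

/-- The matrix of an operator whose product with its two `s`-conjugates is `1` has zero diagonal. -/
theorem diag_zero {F : Fr B} {a a1 a2 : V →ₗ[F4] V} {m : Fin 3 → Fin 3 → F4}
    (h : F.IsM a m) (h1 : ∀ v, a1 (T.s v) = T.s (a v))
    (h2 : ∀ v, a2 (T.s v) = T.s (a1 v)) (h3 : ∀ v, a (a1 (a2 v)) = v) (i : Fin 3) :
    m i i = 0 := by
  have k1 := conj_s h h1
  have k2 := conj_s k1 h2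
  have k3 := (h.comp (k1.comp k2))
  have k4 : F.IsM (a ∘ₗ (a1 ∘ₗ a2)) (fun _ _ => 0) := by
    have : a ∘ₗ (a1 ∘ₗ a2) = LinearMap.id := LinearMap.ext h3
    rw [this]; exact Fr.IsM.one F
  have k5 := k3.unique k4
  have hsum : m i i + ((ev i)⁻¹ * ev i * m i i + (ev i)⁻¹ * ev i * ((ev i)⁻¹ * ev i * m i i)) = 0 :=
    congrFun (congrFun k5 i) i
  have key : ∀ (i : Fin 3) (x : F4),
      x + ((ev i)⁻¹ * ev i * x + (ev i)⁻¹ * ev i * ((ev i)⁻¹ * ev i * x)) = 0 → x = 0 := by decide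
  exact key i _ hsum

/-- The three matrices of the operators `a`, `b` after normalisation. -/
def mA : Fin 3 → Fin 3 → F4 := fun i j => if i = j ∧ i ≠ 2 then 1 else 0
def mB : Fin 3 → Fin 3 → F4 := fun i j => if i = j then 0 else 1

theorem circ_matrix {F : Fr B} {b b1 b2 : V →ₗ[F4] V} {m : Fin 3 → Fin 3 → F4}
    (h : F.IsM b m) (hb : ∀ u v, B.b (b u) (b v) = B.b u v)
    (ht : ∀ v, b (T.t v) = T.t (b v)) (h1 : ∀ v, b1 (T.s v) = T.s (b v))
    (h2 : ∀ v, b2 (T.s v) = T.s (b1 v)) (h3 : ∀ v, b (b1 (b2 v)) = v) (hne : ∃ v, b v ≠ v)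
    [Finite V] (hV : Nat.card V = 4096) :
    ∃ μ : F4, μ ≠ 0 ∧ m = ![![0, μ, conj μ], ![conj μ, 0, μ], ![μ, conj μ, 0]] := by
  have hd := diag_zero h h1 h2 h3
  have e1 : ∀ i j, m i j = m (i - 1) (j - 1) := fun i j =>
    congrFun (congrFun (h.unique (conj_t h ht)) i) j
  have h10 := h.herm hb 0 1
  have h21 := h.herm hb 1 2
  have h02 := h.herm hb 2 0
  have h12 : m 1 2 = m 0 1 := e1 1 2
  have h20 : m 2 0 = m 1 2 := e1 2 0
  have hm : m = ![![0, m 0 1, conj (m 0 1)], ![conj (m 0 1), 0, m 0 1], ![m 0 1, conj (m 0 1), 0]] := by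
    funext i j
    fin_cases i <;> fin_cases j
    · exact hd 0
    · rfl
    · change m 0 2 = conj (m 0 1); rw [h02, h20, h12]
    · exact h10
    · exact hd 1
    · exact h12
    · change m 2 0 = m 0 1; rw [h20, h12]
    · change m 2 1 = conj (m 0 1); rw [h21, h12]
    · exact hd 2
  refine ⟨m 0 1, ?_, hm⟩
  intro h0
  obtain ⟨v, hv⟩ := hne
  apply hv
  obtain ⟨⟨p, c⟩, rfl⟩ := (F.phi_bijective hV).2 v
  have hm0 : m = fun _ _ => 0 := by
    rw [hm, h0]
    funext i j
    fin_cases i <;> fin_cases j <;> rfl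
  rw [hm0] at h
  rw [h.phi]
  congr 1
  apply Prod.ext
  · funext j; simp
  · rfl

/-- Existence of a frame in which `a` and `b` have the standard matrices. -/
theorem exists_normal [Finite V] (hV : Nat.card V = 4096) (F : Fr B)
    {a a1 a2 b b1 b2 : V →ₗ[F4] V}
    (hae : ∀ i, a (F.e i) = F.e i) (hbe : ∀ i, b (F.e i) = F.e i)
    (hab : ∀ u v, B.b (a u) (a v) = B.b u v) (hbb : ∀ u v, B.b (b u) (b v) = B.b u v)
    (has : ∀ v, a (T.s v) = T.s (a v)) (ha1 : ∀ v, a1 (T.t v) = T.t (a v))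
    (ha2 : ∀ v, a2 (T.t v) = T.t (a1 v)) (ha3 : ∀ v, a (a1 (a2 v)) = v) (hane : ∃ v, a v ≠ v)
    (hbt : ∀ v, b (T.t v) = T.t (b v)) (hb1 : ∀ v, b1 (T.s v) = T.s (b v))
    (hb2 : ∀ v, b2 (T.s v) = T.s (b1 v)) (hb3 : ∀ v, b (b1 (b2 v)) = v)
    (hbne : ∃ v, b v ≠ v) :
    ∃ F' : Fr B, F'.IsM a mA ∧ F'.IsM b mB ∧
      (∀ i, ∃ (c : F4) (j : Fin 3), F'.e i = c • F.e j) ∧
      (∀ i, ∃ (c : F4) (j : Fin 3), F'.f i = c • F.f j) := by
  obtain ⟨m, hm⟩ := exists_isM hV F hae hab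
  obtain ⟨k, hk⟩ := diag_pattern hm hab has ha1 ha2 ha3 hane hV
  set F1 := shift F (k + 1) with hF1
  have ha' : F1.IsM a mA := by
    have h := isM_shift hm (k + 1)
    have : (fun i j => m (i + (k + 1)) (j + (k + 1))) = mA := by
      funext i j
      rw [hk]
      have key : ∀ i j k : Fin 3, (if i + (k + 1) = j + (k + 1) ∧ i + (k + 1) ≠ k then (1 : F4)
          else 0) = mA i j := by decide
      exact key i j k
    rw [this] at h; exact h
  have hbe1 : ∀ i, b (F1.e i) = F1.e i := fun i => hbe _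
  obtain ⟨n, hn⟩ := exists_isM hV F1 hbe1 hbb
  obtain ⟨μ, hμ, hnm⟩ := circ_matrix hn hbb hbt hb1 hb2 hb3 hbne hV
  refine ⟨scale F1 μ hμ, ?_, ?_, ?_, ?_⟩
  · have h := isM_scale ha' μ hμ
    have : (fun i j => ![1, μ, μ * μ] i * mA i j * (![1, μ, μ * μ] j)⁻¹) = mA := by
      funext i j
      have key : ∀ (μ : F4) (i j : Fin 3), μ ≠ 0 →
          ![1, μ, μ * μ] i * mA i j * (![1, μ, μ * μ] j)⁻¹ = mA i j := by decide
      exact key μ i j hμ
    rw [this] at h; exact h
  · have h := isM_scale hn μ hμ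
    rw [hnm] at h
    have : (fun i j => ![1, μ, μ * μ] i *
        ((![![0, μ, conj μ], ![conj μ, 0, μ], ![μ, conj μ, 0]] : Fin 3 → Fin 3 → F4) i j) *
        (![1, μ, μ * μ] j)⁻¹) = mB := by
      funext i j
      have key : ∀ (μ : F4) (i j : Fin 3), μ ≠ 0 → ![1, μ, μ * μ] i *
        ((![![0, μ, conj μ], ![conj μ, 0, μ], ![μ, conj μ, 0]] : Fin 3 → Fin 3 → F4) i j) *
        (![1, μ, μ * μ] j)⁻¹ = mB i j := by decide
      exact key μ i j hμ
    rw [this] at h; exact h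
  · intro i; exact ⟨_, _, rfl⟩
  · intro i; exact ⟨_, _, rfl⟩

end Cfsg.Agent.J4Type.FrameOps
end

-- part: J4Type/FrameOps2
section
/-!
# Matrices of the remaining operators in an adapted basis (J4 type recognition)
-/

set_option autoImplicit false

namespace Cfsg.Agent.J4Type.FrameOps2

open Cfsg.Agent.SporadicA.FieldFour
open Cfsg.Agent.J4Type.Frame
open Cfsg.Agent.J4Type.FrameForm
open Cfsg.Agent.J4Type.FrameBasis
open Cfsg.Agent.J4Type.FrameExist
open Cfsg.Agent.J4Type.FrameOps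
open Cfsg.Agent.J4Type.Frame.TP (ev)

variable {V : Type*} [AddCommGroup V] [Module F4 V] {T : TP V} {B : Frm T}

theorem E_eq_zero (F : Fr B) {a : Fin 3 → F4} (h : F.E a = 0) : a = 0 :=
  F.E_inj (by rw [h, F.E_zero])

theorem G_inj (F : Fr B) {a a' : Fin 3 → F4} (h : F.G a = F.G a') : a = a' :=
  F.swap.E_inj h

theorem E_single (F : Fr B) (x : F4) (j : Fin 3) : F.E (fun k => if k = j then x else 0) = x • F.e j := by
  unfold Fr.E
  fin_cases j <;> simp

theorem G_single (F : Fr B) (x : F4) (j : Fin 3) : F.G (fun k => if k = j then x else 0) = x • F.f j := by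
  unfold Fr.G
  fin_cases j <;> simp

/-- An operator (linear or semilinear) commuting with `a` and preserving the second half fixes the
last line. -/
theorem line_two {F : Fr B} {a : V →ₗ[F4] V} (ha : F.IsM a mA) {c : Fin 3 → F4}
    (h : a (F.G c) = F.G c) : F.G c = c 2 • F.f 2 := by
  rw [ha.G] at h
  have h1 : F.E (fun j => c 0 * mA 0 j + c 1 * mA 1 j + c 2 * mA 2 j) = 0 := add_eq_left.1 h
  have h2 := E_eq_zero F h1
  have h0 := congrFun h2 0
  have h3 := congrFun h2 1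
  have e0 : c 0 = 0 := by
    have : c 0 * mA 0 0 + c 1 * mA 1 0 + c 2 * mA 2 0 = c 0 := by
      rw [show mA 0 0 = 1 from rfl, show mA 1 0 = 0 from rfl, show mA 2 0 = 0 from rfl]
      ring
    rw [← this]; exact h0
  have e1 : c 1 = 0 := by
    have : c 0 * mA 0 1 + c 1 * mA 1 1 + c 2 * mA 2 1 = c 1 := by
      rw [show mA 0 1 = 0 from rfl, show mA 1 1 = 1 from rfl, show mA 2 1 = 0 from rfl]
      ring
    rw [← this]; exact h3
  unfold Fr.G
  rw [e0, e1, zero_smul, zero_smul, zero_add, zero_add]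

theorem f_ne (F : Fr B) (i : Fin 3) : F.f i ≠ 0 := by
  intro h
  have := F.ef i i F4.w 1
  rw [h, smul_zero, B.b_zero_right, if_pos rfl] at this
  exact absurd this (by decide)

theorem e_ne (F : Fr B) (i : Fin 3) : F.e i ≠ 0 := f_ne F.swap i

theorem smul_f_inj (F : Fr B) {i : Fin 3} {x y : F4} (h : x • F.f i = y • F.f i) : x = y := by
  by_contra hne
  have h1 : (x - y) • F.f i = 0 := by rw [sub_smul, h, sub_self]
  have h2 := congrArg (fun v => (x - y)⁻¹ • v) h1
  simp only [smul_smul, smul_zero] at h2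
  rw [inv_mul_cancel₀ (sub_ne_zero.2 hne), one_smul] at h2
  exact f_ne F i h2

theorem G_s (F : Fr B) (a : Fin 3 → F4) : T.s (F.G a) = F.G (fun j => F.lam * ev j * a j) :=
  s_E F.swap a

/-- Analysis of the involution `u`. -/
theorem u_matrix {F : Fr B} {a b b1 u : V →ₗ[F4] V} (ha : F.IsM a mA) (hbm : F.IsM b mB)
    (hb1 : ∀ v, b1 (T.s v) = T.s (b v))
    (hus : ∃ r : F4, ∀ v, u (T.s v) = r • T.s (T.s (u v)))
    (huE : ∀ i, ∃ x, u (F.e i) = F.E x) (huG : ∀ i, ∃ x, u (F.f i) = F.G x)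
    (hiso : ∀ x y, B.b (u x) (u y) = B.b x y) (hu2 : ∀ v, u (u v) = v)
    (hua : ∀ v, u (a v) = a (u v)) (hub : ∀ v, u (b v) = b1 (u v)) :
    (u (F.e 0) = F4.v • F.e 1 ∧ u (F.e 1) = F4.w • F.e 0 ∧ u (F.e 2) = F.e 2) ∧
      (u (F.f 0) = F4.v • F.f 1 ∧ u (F.f 1) = F4.w • F.f 0 ∧ u (F.f 2) = F.f 2) := by
  obtain ⟨r, hr⟩ := hus
  obtain ⟨c, hc⟩ := huG 2
  have hf2 : a (F.f 2) = F.f 2 := by
    rw [ha.2]
    have : F.E (mA 2) = 0 := by
      have : mA 2 = 0 := by funext j; revert j; decide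
      rw [this, F.E_zero]
    rw [this, add_zero]
  have h1 : a (F.G c) = F.G c := by rw [← hc, ← hua, hf2]
  have h2 := line_two ha h1
  rw [h2] at hc
  have hc0 : c 2 ≠ 0 := by
    intro h0
    rw [h0, zero_smul] at hc
    have := hu2 (F.f 2)
    rw [hc, map_zero] at this
    exact f_ne F 2 this.symm
  -- the scalar relation
  have hrl : r * F.lam = F4.w := by
    have h3 := hr (F.f 2)
    rw [F.sf, map_smul, hc, map_smul, F.sf, map_smul, map_smul, F.sf, smul_smul, smul_smul,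
      smul_smul, smul_smul] at h3
    have h4 := smul_f_inj F h3
    have key : ∀ l r x : F4, l ≠ 0 → x ≠ 0 →
        l * ev 2 * x = r * x * (l * ev 2) * (l * ev 2) → r * l = F4.w := by decide
    exact key _ _ _ F.lam_ne hc0 h4
  have hE : ∀ i (x : Fin 3 → F4), u (F.e i) = F.E x → ∀ j, x j ≠ 0 → ev i = F4.w * (ev j * ev j) := by
    intro i x hx j hxj
    have h3 := hr (F.e i)
    rw [F.se, map_smul, hx, s_E, s_E, ← F.E_smul, ← F.E_smul] at h3
    have h4 := congrFun (F.E_inj h3) j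
    simp only [Pi.smul_apply, smul_eq_mul] at h4
    have key : ∀ l r y e e' : F4, l ≠ 0 → y ≠ 0 → r * l = F4.w →
        l * e * y = r * (l * e' * (l * e' * y)) → e = F4.w * (e' * e') := by decide
    exact key _ _ _ _ _ F.lam_ne hxj hrl h4
  have hG : ∀ i (x : Fin 3 → F4), u (F.f i) = F.G x → ∀ j, x j ≠ 0 → ev i = F4.w * (ev j * ev j) := by
    intro i x hx j hxj
    have h3 := hr (F.f i)
    rw [F.sf, map_smul, hx, G_s, G_s, ← F.G_smul, ← F.G_smul] at h3
    have h4 := congrFun (G_inj F h3) j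
    simp only [Pi.smul_apply, smul_eq_mul] at h4
    have key : ∀ l r y e e' : F4, l ≠ 0 → y ≠ 0 → r * l = F4.w →
        l * e * y = r * (l * e' * (l * e' * y)) → e = F4.w * (e' * e') := by decide
    exact key _ _ _ _ _ F.lam_ne hxj hrl h4
  have hsig : ∀ i j : Fin 3, ev i = F4.w * (ev j * ev j) → j = 1 - i := by decide
  have hEm : ∀ i, ∃ y : F4, u (F.e i) = y • F.e (1 - i) := by
    intro i
    obtain ⟨x, hx⟩ := huE i
    refine ⟨x (1 - i), ?_⟩
    rw [hx, ← E_single]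
    congr 1
    funext j
    by_cases hj : j = 1 - i
    · rw [if_pos hj, hj]
    · rw [if_neg hj]
      by_contra hne
      exact hj (hsig _ _ (hE i x hx j hne))
  have hGm : ∀ i, ∃ y : F4, u (F.f i) = y • F.f (1 - i) := by
    intro i
    obtain ⟨x, hx⟩ := huG i
    refine ⟨x (1 - i), ?_⟩
    rw [hx, ← G_single]
    congr 1
    funext j
    by_cases hj : j = 1 - i
    · rw [if_pos hj, hj]
    · rw [if_neg hj]
      by_contra hne
      exact hj (hsig _ _ (hG i x hx j hne))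
  obtain ⟨y0, hy0⟩ := hEm 0
  obtain ⟨y1, hy1⟩ := hEm 1
  obtain ⟨y2, hy2⟩ := hEm 2
  obtain ⟨z0, hz0⟩ := hGm 0
  obtain ⟨z1, hz1⟩ := hGm 1
  obtain ⟨z2, hz2⟩ := hGm 2
  rw [show (1 : Fin 3) - 0 = 1 from rfl] at hy0 hz0
  rw [show (1 : Fin 3) - 1 = 0 from rfl] at hy1 hz1
  rw [show (1 : Fin 3) - 2 = 2 from rfl] at hy2 hz2
  have q2 : y2 = 1 := by
    have := hu2 (F.e 2)
    rw [hy2, map_smul, hy2, smul_smul] at this
    have h3 : (y2 * y2) • F.e 2 = (1 : F4) • F.e 2 := by rw [this, one_smul]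
    have h4 := smul_f_inj F.swap (i := 2) h3
    have key : ∀ x : F4, x * x = 1 → x = 1 := by decide
    exact key _ h4
  have p2 : z2 = 1 := by
    have := hu2 (F.f 2)
    rw [hz2, map_smul, hz2, smul_smul] at this
    have h3 : (z2 * z2) • F.f 2 = (1 : F4) • F.f 2 := by rw [this, one_smul]
    have h4 := smul_f_inj F h3
    have key : ∀ x : F4, x * x = 1 → x = 1 := by decide
    exact key _ h4
  rw [q2, one_smul] at hy2
  rw [p2, one_smul] at hz2
  -- the relation with `b`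
  have hbs := conj_s hbm hb1
  have h5 := hub (F.f 2)
  have hb2 : b (F.f 2) = F.f 2 + (F.e 0 + F.e 1) := by
    rw [hbm.2]
    congr 1
    unfold Fr.E
    rw [show mB 2 0 = 1 from rfl, show mB 2 1 = 1 from rfl, show mB 2 2 = 0 from rfl]
    simp
  have hbs2 : b1 (F.f 2) = F.f 2 + (F4.w • F.e 0 + F4.v • F.e 1) := by
    rw [hbs.2]
    congr 1
    unfold Fr.E
    simp only
    rw [show (ev 2)⁻¹ * ev 0 * mB 2 0 = F4.w from rfl,
      show (ev 2)⁻¹ * ev 1 * mB 2 1 = F4.v from rfl,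
      show (ev 2)⁻¹ * ev 2 * mB 2 2 = 0 from rfl]
    simp
  rw [hb2, map_add, map_add, hz2, hbs2, hy0, hy1] at h5
  have h6 : y0 • F.e 1 + y1 • F.e 0 = F4.w • F.e 0 + F4.v • F.e 1 := add_left_cancel h5
  have h7 : F.E ![y1, y0, 0] = F.E ![F4.w, F4.v, 0] := by
    unfold Fr.E
    simp only [Matrix.cons_val_zero, Matrix.cons_val_one, Matrix.cons_val, zero_smul, add_zero]
    rw [← h6]; abel
  have h8 := F.E_inj h7
  have hy1' : y1 = F4.w := congrFun h8 0
  have hy0' : y0 = F4.v := congrFun h8 1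
  subst hy1' hy0'
  have hz0' : z0 = F4.v := by
    have key : ∀ z : F4, (∀ a c : F4, tr ((a * F4.v) * conj (c * z)) = tr (a * conj c)) → z = F4.v := by
      decide
    apply key
    intro x y
    have := hiso (x • F.e 0) (y • F.f 0)
    rw [map_smul, map_smul, hy0, hz0, smul_smul, smul_smul, F.ef, F.ef, if_pos rfl, if_pos rfl] at this
    exact this
  have hz1' : z1 = F4.w := by
    have key : ∀ z : F4, (∀ a c : F4, tr ((a * F4.w) * conj (c * z)) = tr (a * conj c)) → z = F4.w := by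
      decide
    apply key
    intro x y
    have := hiso (x • F.e 1) (y • F.f 1)
    rw [map_smul, map_smul, hy1, hz1, smul_smul, smul_smul, F.ef, F.ef, if_pos rfl, if_pos rfl] at this
    exact this
  subst hz0' hz1'
  exact ⟨⟨hy0, hy1, hy2⟩, hz0, hz1, hz2⟩

/-- The matrices of `c` and `d`. -/
def mC : Fin 3 → Fin 3 → F4 := ![![.z, .v, .v], ![.w, .z, .o], ![.w, .o, .z]]
def mD : Fin 3 → Fin 3 → F4 := ![![.z, .v, .o], ![.w, .z, .w], ![.o, .v, .z]]

theorem ne_id_of_zero {F : Fr B} {x : V →ₗ[F4] V} {m : Fin 3 → Fin 3 → F4} (h : F.IsM' x m)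
    (hm : m = fun _ _ => 0) [Finite V] (hV : Nat.card V = 4096) (v : V) : x v = v := by
  obtain ⟨⟨p, c⟩, rfl⟩ := (F.swap.phi_bijective hV).2 v
  rw [hm] at h
  have h' : F.swap.IsM x (fun _ _ => 0) := h
  rw [Fr.IsM.phi h']
  congr 1
  apply Prod.ext
  · funext j; simp
  · rfl

theorem c_matrix {F : Fr B} {c c1 c2 u : V →ₗ[F4] V}
    (hcf : ∀ i, c (F.f i) = F.f i) (hb : ∀ x y, B.b (c x) (c y) = B.b x y)
    (hst : ∀ v, c (T.s (T.t v)) = T.s (T.t (c v)))
    (h1 : ∀ v, c1 (T.s v) = T.s (c v)) (h2 : ∀ v, c2 (T.s v) = T.s (c1 v))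
    (h3 : ∀ v, c (c1 (c2 v)) = v) (hne : ∃ v, c v ≠ v)
    (hu2 : u (F.e 2) = F.e 2) (hf0 : u (F.f 0) = F4.v • F.f 1) (hf1 : u (F.f 1) = F4.w • F.f 0)
    (hf2 : u (F.f 2) = F.f 2) (huc : ∀ v, u (c v) = c (u v))
    [Finite V] (hV : Nat.card V = 4096) : F.IsM' c mC := by
  obtain ⟨n, hn⟩ := exists_isM hV F.swap hcf hb
  have hd := diag_zero hn h1 h2 h3
  have hc1 : ∀ v, (T.t ∘ₗ c ∘ₗ T.t ∘ₗ T.t) (T.t v) = T.t (c v) := by
    intro v; simp only [LinearMap.comp_apply, T.t3]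
  have k1 := conj_t hn hc1
  have hc2 : ∀ v, c (T.s v) = T.s ((T.t ∘ₗ c ∘ₗ T.t ∘ₗ T.t) v) := by
    intro v
    simp only [LinearMap.comp_apply]
    rw [← hst (T.t (T.t v)), T.t3]
  have k2 := conj_s k1 hc2
  have e1 : ∀ i j, n i j = (ev i)⁻¹ * ev j * n (i - 1) (j - 1) := fun i j =>
    congrFun (congrFun (hn.unique k2) i) j
  have h10 := hn.herm hb 0 1
  have h21 := hn.herm hb 1 2
  have h02 := hn.herm hb 2 0
  have h12 : n 1 2 = F4.w * n 0 1 := e1 1 2
  have h20 : n 2 0 = F4.w * n 1 2 := e1 2 0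
  -- the relation with `u`
  have h4 := huc (F.e 2)
  have hce : c (F.e 2) = F.e 2 + F.G (n 2) := hn.2 2
  rw [hu2, hce, map_add, hu2] at h4
  have h5 : u (F.G (n 2)) = F.G (n 2) := add_left_cancel h4
  have h6 : F.G ![F4.w * n 2 1, F4.v * n 2 0, n 2 2] = F.G (n 2) := by
    rw [← h5]
    unfold Fr.G
    simp only [map_add, map_smul, hf0, hf1, hf2, smul_smul, Matrix.cons_val_zero,
      Matrix.cons_val_one, Matrix.cons_val]
    rw [mul_comm F4.w, mul_comm F4.v]
    abel
  have h7 := G_inj F h6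
  have h8 : F4.w * n 2 1 = n 2 0 := congrFun h7 0
  rw [h20, h12, h21, h12] at h8
  have hX : n 0 1 = F4.v := by
    have key : ∀ x : F4, x ≠ 0 → F4.w * conj (F4.w * x) = F4.w * (F4.w * x) → x = F4.v := by decide
    refine key _ ?_ h8
    intro h0
    obtain ⟨v, hv⟩ := hne
    apply hv
    refine ne_id_of_zero (F := F) hn ?_ hV v
    funext i j
    fin_cases i <;> fin_cases j
    · exact hd 0
    · exact h0
    · change n 0 2 = 0; rw [h02, h20, h12, h0]; rfl
    · change n 1 0 = 0; rw [h10, h0]; rfl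
    · exact hd 1
    · change n 1 2 = 0; rw [h12, h0]; rfl
    · change n 2 0 = 0; rw [h20, h12, h0]; rfl
    · change n 2 1 = 0; rw [h21, h12, h0]; rfl
    · exact hd 2
  have hnm : n = mC := by
    funext i j
    fin_cases i <;> fin_cases j
    · exact hd 0
    · exact hX
    · change n 0 2 = _; rw [h02, h20, h12, hX]; rfl
    · change n 1 0 = _; rw [h10, hX]; rfl
    · exact hd 1
    · change n 1 2 = _; rw [h12, hX]; rfl
    · change n 2 0 = _; rw [h20, h12, hX]; rfl
    · change n 2 1 = _; rw [h21, h12, hX]; rfl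
    · exact hd 2
  rw [← hnm]; exact hn

theorem d_matrix {F : Fr B} {c c1 c2 u : V →ₗ[F4] V}
    (hcf : ∀ i, c (F.f i) = F.f i) (hb : ∀ x y, B.b (c x) (c y) = B.b x y)
    (hst : ∀ v, c (T.s (T.t (T.t v))) = T.s (T.t (T.t (c v))))
    (h1 : ∀ v, c1 (T.s v) = T.s (c v)) (h2 : ∀ v, c2 (T.s v) = T.s (c1 v))
    (h3 : ∀ v, c (c1 (c2 v)) = v) (hne : ∃ v, c v ≠ v)
    (hu2 : u (F.e 2) = F.e 2) (hf0 : u (F.f 0) = F4.v • F.f 1) (hf1 : u (F.f 1) = F4.w • F.f 0)
    (hf2 : u (F.f 2) = F.f 2) (huc : ∀ v, u (c v) = c (u v))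
    [Finite V] (hV : Nat.card V = 4096) : F.IsM' c mD := by
  obtain ⟨n, hn⟩ := exists_isM hV F.swap hcf hb
  have hd := diag_zero hn h1 h2 h3
  have hc1 : ∀ v, (T.t ∘ₗ c ∘ₗ T.t ∘ₗ T.t) (T.t v) = T.t (c v) := by
    intro v; simp only [LinearMap.comp_apply, T.t3]
  have k1 := conj_t hn hc1
  have hc1' : ∀ v, (T.t ∘ₗ T.t ∘ₗ c ∘ₗ T.t) (T.t v) = T.t ((T.t ∘ₗ c ∘ₗ T.t ∘ₗ T.t) v) := by
    intro v; simp only [LinearMap.comp_apply]
  have k1' := conj_t k1 hc1'
  have hc2 : ∀ v, c (T.s v) = T.s ((T.t ∘ₗ T.t ∘ₗ c ∘ₗ T.t) v) := by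
    intro v
    simp only [LinearMap.comp_apply]
    rw [← hst (T.t v), T.t3]
  have k2 := conj_s k1' hc2
  have e1 : ∀ i j, n i j = (ev i)⁻¹ * ev j * n (i - 1 - 1) (j - 1 - 1) := fun i j =>
    congrFun (congrFun (hn.unique k2) i) j
  have h10 := hn.herm hb 0 1
  have h21 := hn.herm hb 1 2
  have h02 := hn.herm hb 2 0
  have h01 : n 0 1 = F4.w * n 1 2 := e1 0 1
  have h12 : n 1 2 = F4.w * n 2 0 := e1 1 2
  -- the relation with `u`
  have h4 := huc (F.e 2)
  have hce : c (F.e 2) = F.e 2 + F.G (n 2) := hn.2 2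
  rw [hu2, hce, map_add, hu2] at h4
  have h5 : u (F.G (n 2)) = F.G (n 2) := add_left_cancel h4
  have h6 : F.G ![F4.w * n 2 1, F4.v * n 2 0, n 2 2] = F.G (n 2) := by
    rw [← h5]
    unfold Fr.G
    simp only [map_add, map_smul, hf0, hf1, hf2, smul_smul, Matrix.cons_val_zero,
      Matrix.cons_val_one, Matrix.cons_val]
    rw [mul_comm F4.w, mul_comm F4.v]
    abel
  have h7 := G_inj F h6
  have h8 : F4.w * n 2 1 = n 2 0 := congrFun h7 0
  rw [h21, h12] at h8
  have hX : n 2 0 = F4.o := by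
    have key : ∀ x : F4, x ≠ 0 → F4.w * conj (F4.w * x) = x → x = F4.o := by decide
    refine key _ ?_ h8
    intro h0
    obtain ⟨v, hv⟩ := hne
    apply hv
    refine ne_id_of_zero (F := F) hn ?_ hV v
    funext i j
    fin_cases i <;> fin_cases j
    · exact hd 0
    · change n 0 1 = 0; rw [h01, h12, h0]; rfl
    · change n 0 2 = 0; rw [h02, h0]; rfl
    · change n 1 0 = 0; rw [h10, h01, h12, h0]; rfl
    · exact hd 1
    · change n 1 2 = 0; rw [h12, h0]; rfl
    · exact h0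
    · change n 2 1 = 0; rw [h21, h12, h0]; rfl
    · exact hd 2
  have hnm : n = mD := by
    funext i j
    fin_cases i <;> fin_cases j
    · exact hd 0
    · change n 0 1 = _; rw [h01, h12, hX]; rfl
    · change n 0 2 = _; rw [h02, hX]; rfl
    · change n 1 0 = _; rw [h10, h01, h12, hX]; rfl
    · exact hd 1
    · change n 1 2 = _; rw [h12, hX]; rfl
    · exact hX
    · change n 2 1 = _; rw [h21, h12, hX]; rfl
    · exact hd 2
  rw [← hnm]; exact hn

end Cfsg.Agent.J4Type.FrameOps2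
end

-- part: J4Type/FrameRels
section
/-!
# Relations between the seven permutations used to determine `Q/⟨z⟩` (J4 type recognition)

`s, t` generate an elementary abelian group of order 9, `u` inverts it, `a, b` (`c, d`) generate
with it the pointwise stabiliser of a hexad (of another hexad disjoint from the first).
-/

set_option autoImplicit false

namespace Cfsg.Agent.J4Type.FrameRels

/-- The relations. -/
structure Rels {Γ : Type*} [Group Γ] (s t a b c d u : Γ) : Prop where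
  s3 : s * s * s = 1
  t3 : t * t * t = 1
  st : s * t = t * s
  s1 : s ≠ 1
  t1 : t ≠ 1
  ts : t ≠ s
  tss : t ≠ s * s
  u2 : u * u = 1
  us : u * s = s * s * u
  ut : u * t = t * t * u
  ua : u * a = a * u
  ub : u * b = s * b * s * s * u
  uc : u * c = c * u
  ud : u * d = d * u
  a2 : a * a = 1
  sa : s * a = a * s
  atr : a * (t * a * t * t) * (t * t * a * t) = 1
  b2 : b * b = 1
  tb : t * b = b * t
  btr : b * (s * b * s * s) * (s * s * b * s) = 1
  aa : a * (t * a * t * t) = (t * a * t * t) * a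
  ab : a * b = b * a
  ab' : a * (s * b * s * s) = (s * b * s * s) * a
  a'b : (t * a * t * t) * b = b * (t * a * t * t)
  a'b' : (t * a * t * t) * (s * b * s * s) = (s * b * s * s) * (t * a * t * t)
  bb : b * (s * b * s * s) = (s * b * s * s) * b
  c2 : c * c = 1
  stc : s * t * c = c * s * t
  ctr : c * (s * c * s * s) * (s * s * c * s) = 1
  d2 : d * d = 1
  std : s * t * t * d = d * s * t * t
  dtr : d * (s * d * s * s) * (s * s * d * s) = 1
  cc : c * (s * c * s * s) = (s * c * s * s) * c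
  cd : c * d = d * c
  cd' : c * (s * d * s * s) = (s * d * s * s) * c
  c'd : (s * c * s * s) * d = d * (s * c * s * s)
  c'd' : (s * c * s * s) * (s * d * s * s) = (s * d * s * s) * (s * c * s * s)
  dd : d * (s * d * s * s) = (s * d * s * s) * d
  ac : a * c ≠ c * a

end Cfsg.Agent.J4Type.FrameRels
end

-- part: J4Type/FramePR
section
/-!
# Projective actions with kernel of order three (J4 type recognition)
-/

set_option autoImplicit false

namespace Cfsg.Agent.J4Type.FramePR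

open Cfsg.Agent.SporadicA.FieldFour
open Cfsg.Agent.J4Type.Frame
open Cfsg.Agent.J4Type.FrameForm
open Cfsg.Agent.J4Type.FrameRels

/-- A projective action of `Γ` on `V`: `L p x` means that `x` is a lift of `p`.  The lifts of the
identity form a group `⟨ρ⟩` of order three. -/
structure PR (Γ V : Type*) [Group Γ] [AddCommGroup V] [Module (ZMod 2) V] where
  In : Subgroup Γ
  L : Γ → (V ≃ₗ[ZMod 2] V) → Prop
  ρ : V ≃ₗ[ZMod 2] V
  q : V → ZMod 2
  b : V → V → ZMod 2
  mul : ∀ {p p' x x'}, L p x → L p' x' → L (p * p') (x * x')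
  inv : ∀ {p x}, L p x → L p⁻¹ x⁻¹
  one : ∀ x, L 1 x ↔ x = 1 ∨ x = ρ ∨ x = ρ * ρ
  inj : ∀ {p p' x}, L p x → L p' x → p = p'
  ex : ∀ p ∈ In, ∃ x, L p x
  comm : ∀ p ∈ In, ∀ x, L p x → x * ρ = ρ * x
  q_L : ∀ {p x}, L p x → ∀ v, q (x v) = q v
  q_add : ∀ u v, q (u + v) = q u + q v + b u v
  b_add : ∀ u v w, b (u + v) w = b u w + b v w
  b_comm : ∀ u v, b u v = b v u
  b_nondeg : ∀ v, (∀ w, b v w = 0) → v = 0
  sum : ∀ v, v + ρ v + ρ (ρ v) = 0

namespace PR

variable {Γ V : Type*} [Group Γ] [AddCommGroup V] [Module (ZMod 2) V] (P : PR Γ V)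

theorem two (v : V) : v + v = 0 := by
  have h : ((1 : ZMod 2) + 1) • v = 0 := by
    rw [show (1 : ZMod 2) + 1 = 0 from by decide, zero_smul]
  rwa [add_smul, one_smul] at h

theorem eq_of_add {u v : V} (h : u + v = 0) : u = v := by
  have h1 := two v
  rw [← h1] at h
  exact add_right_cancel h

theorem rho3 : P.ρ * P.ρ * P.ρ = 1 := by
  apply LinearEquiv.ext
  intro v
  change P.ρ (P.ρ (P.ρ v)) = v
  have h1 := P.sum v
  have h2 := P.sum (P.ρ v)
  have h3 : v + P.ρ (P.ρ (P.ρ v)) = 0 := by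
    have : v + P.ρ (P.ρ (P.ρ v)) = (v + P.ρ v + P.ρ (P.ρ v)) + (P.ρ v + P.ρ (P.ρ v) + P.ρ (P.ρ (P.ρ v))) := by
      have e1 := two (P.ρ v)
      have e2 := two (P.ρ (P.ρ v))
      calc v + P.ρ (P.ρ (P.ρ v)) = v + (P.ρ v + P.ρ v) + (P.ρ (P.ρ v) + P.ρ (P.ρ v)) +
            P.ρ (P.ρ (P.ρ v)) := by rw [e1, e2, add_zero, add_zero]
        _ = _ := by abel
    rw [this, h1, h2, add_zero]
  exact (eq_of_add h3).symm

theorem one_one : P.L 1 1 := (P.one 1).2 (Or.inl rfl)

theorem b_L {p : Γ} {x : V ≃ₗ[ZMod 2] V} (h : P.L p x) (u v : V) : P.b (x u) (x v) = P.b u v := by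
  have h1 := P.q_add u v
  have h2 := P.q_add (x u) (x v)
  rw [← map_add, P.q_L h, P.q_L h, P.q_L h, h1] at h2
  exact (add_left_cancel h2).symm

theorem K_comm {k x : V ≃ₗ[ZMod 2] V} {p : Γ} (hp : p ∈ P.In) (hk : P.L 1 k) (hx : P.L p x) :
    k * x = x * k := by
  have h := P.comm p hp x hx
  rcases (P.one k).1 hk with rfl | rfl | rfl
  · rw [one_mul, mul_one]
  · exact h.symm
  · rw [mul_assoc, ← h, ← mul_assoc, ← h, mul_assoc]

theorem K_cube {k : V ≃ₗ[ZMod 2] V} (hk : P.L 1 k) : k * k * k = 1 := by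
  rcases (P.one k).1 hk with rfl | rfl | rfl
  · simp
  · exact P.rho3
  · have h := P.rho3
    calc P.ρ * P.ρ * (P.ρ * P.ρ) * (P.ρ * P.ρ) = (P.ρ * P.ρ * P.ρ) * (P.ρ * P.ρ * P.ρ) := by group
      _ = 1 := by rw [h, one_mul]

theorem K_one_of_sq {k : V ≃ₗ[ZMod 2] V} (hk : P.L 1 k) (h : k * k = 1) : k = 1 := by
  have := P.K_cube hk
  rwa [h, one_mul] at this

theorem lift_eq {p : Γ} {x y : V ≃ₗ[ZMod 2] V} (hx : P.L p x) (hy : P.L p y) :
    ∃ k, P.L 1 k ∧ y = k * x := by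
  refine ⟨y * x⁻¹, ?_, by group⟩
  have := P.mul hy (P.inv hx)
  rwa [mul_inv_cancel] at this

theorem inv_unique {p : Γ} (hp : p ∈ P.In) {x y : V ≃ₗ[ZMod 2] V} (hx : P.L p x) (hx2 : x * x = 1)
    (hy : P.L p y) (hy2 : y * y = 1) : x = y := by
  obtain ⟨k, hk, rfl⟩ := P.lift_eq hx hy
  have h : k * k = 1 := by
    have : k * x * (k * x) = k * k * (x * x) := by
      rw [mul_assoc, ← mul_assoc x, ← P.K_comm hp hk hx]; group
    rwa [this, hx2, mul_one] at hy2
  rw [P.K_one_of_sq hk h, one_mul]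

theorem inv_exists {p : Γ} (hp : p ∈ P.In) (hp2 : p * p = 1) :
    ∃ y, P.L p y ∧ y * y = 1 := by
  obtain ⟨x, hx⟩ := P.ex p hp
  refine ⟨x * x * x, ?_, ?_⟩
  · have := P.mul (P.mul hx hx) hx
    rwa [hp2, one_mul] at this
  · have h := P.mul hx hx
    rw [hp2] at h
    have := P.K_cube h
    calc x * x * x * (x * x * x) = (x * x) * (x * x) * (x * x) := by group
      _ = 1 := this

theorem inv_conj {p p' g : Γ} (hp' : p' ∈ P.In) {x y y' : V ≃ₗ[ZMod 2] V}
    (hx : P.L g x) (hg : g * p = p' * g) (hy : P.L p y) (hy2 : y * y = 1) (hy' : P.L p' y')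
    (hy2' : y' * y' = 1) : x * y = y' * x := by
  have h1 := P.mul (P.mul hx hy) (P.inv hx)
  rw [hg, mul_inv_cancel_right] at h1
  have h2 : x * y * x⁻¹ * (x * y * x⁻¹) = 1 := by
    calc x * y * x⁻¹ * (x * y * x⁻¹) = x * (y * y) * x⁻¹ := by group
      _ = 1 := by rw [hy2]; group
  have h3 := P.inv_unique hp' h1 h2 hy' hy2'
  rw [← h3]; group

theorem inv_mul3 {p p' p'' : Γ} (hp'' : p'' ∈ P.In) {y y' y'' : V ≃ₗ[ZMod 2] V}
    (h1 : p * p' * p'' = 1) (hyy : y * y' = y' * y)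
    (hy : P.L p y) (hy2 : y * y = 1) (hy' : P.L p' y') (hy2' : y' * y' = 1)
    (hy'' : P.L p'' y'') (hy2'' : y'' * y'' = 1) : y * y' * y'' = 1 := by
  have hk := P.mul (P.mul hy hy') hy''
  rw [h1] at hk
  set k := y * y' * y'' with hkd
  have e1 : y * y' = k * y'' := by rw [hkd, mul_assoc, hy2'', mul_one]
  have e2 : y * y' * (y * y') = 1 := by
    calc y * y' * (y * y') = y * y' * (y' * y) := by rw [← hyy]
      _ = y * (y' * y') * y := by group
      _ = 1 := by rw [hy2', mul_one, hy2]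
  rw [e1] at e2
  have e3 : k * y'' * (k * y'') = k * k * (y'' * y'') := by
    rw [mul_assoc, ← mul_assoc y'', ← P.K_comm hp'' hk hy'']; group
  rw [e3, hy2'', mul_one] at e2
  exact P.K_one_of_sq hk e2

/-- An element of order three inverted by an involution has a lift of order three. -/
theorem order_three {s u : Γ} (hs : s ∈ P.In) (hu : u ∈ P.In) (hs3 : s * s * s = 1)
    (hus : u * s = s * s * u) {x : V ≃ₗ[ZMod 2] V} (hx : P.L s x) : x * x * x = 1 := by
  obtain ⟨y, hy⟩ := P.ex u hu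
  -- `x ^ 3` is a lift of the identity
  have h1 := P.mul (P.mul hx hx) hx
  rw [hs3] at h1
  -- `y x y⁻¹` is a lift of `s s = s⁻¹`
  have h2 := P.mul (P.mul hy hx) (P.inv hy)
  rw [hus, mul_inv_cancel_right] at h2
  have h3 := P.mul hx hx
  obtain ⟨k, hk, hkk⟩ := P.lift_eq h3 h2
  -- cubes
  have hc : P.L s x → k * x = x * k := P.K_comm hs hk
  have e1 : y * x * y⁻¹ * (y * x * y⁻¹) * (y * x * y⁻¹) = x * x * x := by
    calc y * x * y⁻¹ * (y * x * y⁻¹) * (y * x * y⁻¹) = y * (x * x * x) * y⁻¹ := by group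
      _ = x * x * x := by rw [← P.K_comm hu h1 hy]; group
  rw [hkk] at e1
  have e2 : k * (x * x) * (k * (x * x)) * (k * (x * x)) = k * k * k * ((x * x * x) * (x * x * x)) := by
    have c1 := hc hx
    have c2 : x * x * k = k * (x * x) := by rw [mul_assoc, ← c1, ← mul_assoc, ← c1, mul_assoc]
    calc k * (x * x) * (k * (x * x)) * (k * (x * x))
        = k * (x * x * k) * (x * x) * (k * (x * x)) := by group
      _ = k * (k * (x * x)) * (x * x) * (k * (x * x)) := by rw [c2]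
      _ = k * k * (x * x) * (x * x * k) * (x * x) := by group
      _ = k * k * (x * x) * (k * (x * x)) * (x * x) := by rw [c2]
      _ = k * k * (x * x * k) * (x * x) * (x * x) := by group
      _ = k * k * (k * (x * x)) * (x * x) * (x * x) := by rw [c2]
      _ = _ := by group
  rw [e2, P.K_cube hk, one_mul] at e1
  exact mul_eq_right.1 e1

end PR

/-- The vector space structure over `F4` given by an operator of order three. -/
@[reducible] def modF4 {V : Type*} [AddCommGroup V] [Module (ZMod 2) V] (ω : V ≃ₗ[ZMod 2] V)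
    (hs : ∀ v, v + ω v + ω (ω v) = 0) : Module F4 V :=
  have h2 : ∀ v : V, v + v = 0 := PR.two
  have h3 : ∀ v, ω (ω (ω v)) = v := by
    intro v
    have h1 := hs v
    have h2' := hs (ω v)
    have h4 : v + ω (ω (ω v)) = 0 := by
      calc v + ω (ω (ω v)) = v + (ω v + ω v) + (ω (ω v) + ω (ω v)) + ω (ω (ω v)) := by
            rw [h2, h2, add_zero, add_zero]
        _ = (v + ω v + ω (ω v)) + (ω v + ω (ω v) + ω (ω (ω v))) := by abel
        _ = 0 := by rw [h1, h2', add_zero]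
    exact (PR.eq_of_add h4).symm
  have e1 : ∀ v, v + ω v = ω (ω v) := fun v => PR.eq_of_add (hs v)
  have e2 : ∀ v, v + ω (ω v) = ω v := fun v => by
    apply PR.eq_of_add
    rw [add_assoc, add_comm (ω (ω v)), ← add_assoc]; exact hs v
  have e3 : ∀ v, ω v + ω (ω v) = v := fun v => by
    apply PR.eq_of_add
    rw [add_comm, ← add_assoc]; exact hs v
  { smul := fun r v => match r with
      | F4.z => 0
      | F4.o => v
      | F4.w => ω v
      | F4.v => ω (ω v)
    one_smul := fun v => rfl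
    mul_smul := by
      intro r r' v
      cases r <;> cases r'
      · rfl
      · rfl
      · rfl
      · rfl
      · rfl
      · rfl
      · rfl
      · rfl
      · exact (map_zero ω).symm
      · rfl
      · rfl
      · exact (h3 v).symm
      · change (0 : V) = ω (ω 0); rw [map_zero, map_zero]
      · rfl
      · exact (h3 v).symm
      · change ω v = ω (ω (ω (ω v))); rw [h3]
    smul_zero := by
      intro r
      cases r
      · rfl
      · rfl
      · exact map_zero ω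
      · change ω (ω 0) = 0; rw [map_zero, map_zero]
    smul_add := by
      intro r u v
      cases r
      · exact (add_zero 0).symm
      · rfl
      · exact map_add ω u v
      · change ω (ω (u + v)) = ω (ω u) + ω (ω v); rw [map_add, map_add]
    add_smul := by
      intro r r' v
      cases r <;> cases r'
      · exact (add_zero 0).symm
      · exact (zero_add v).symm
      · exact (zero_add (ω v)).symm
      · exact (zero_add (ω (ω v))).symm
      · exact (add_zero v).symm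
      · exact (h2 v).symm
      · exact (e1 v).symm
      · exact (e2 v).symm
      · exact (add_zero (ω v)).symm
      · change ω (ω v) = ω v + v; rw [add_comm]; exact (e1 v).symm
      · exact (h2 _).symm
      · exact (e3 v).symm
      · exact (add_zero (ω (ω v))).symm
      · change ω v = ω (ω v) + v; rw [add_comm]; exact (e2 v).symm
      · change v = ω (ω v) + ω v; rw [add_comm]; exact (e3 v).symm
      · exact (h2 _).symm
    zero_smul := fun v => rfl }

end Cfsg.Agent.J4Type.FramePR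
end
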