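import Cfsg.Prelude.Def_Sporadic_a
import Cfsg.Prelude.Def_SporadicCombinatorics
set_option linter.all false

/-!
# The common interface of the proof of S1670 / S1646 (groups of type J4)

Four structures, each one extending the one before:

* `Cent`  : the involution centraliser `C = C_G(z)`, `Q = O_2(C)` extraspecial of order `2^13`,
  `ρ` of order 3 with `C_Q(ρ) = ⟨z⟩`, and the homomorphism `P` of `C` onto the stabiliser of
  `{none, some 0}` in `M24` (the group `M22:2`) with kernel `Q⟨ρ⟩`.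
* `Hex`   : the 77 hexads (octads through `none` and `some 0`) and the elementary abelian
  subgroups `E O` of order `2^11`.
* `Frame` : `N_G(E)/E = M24` acting on `E = E hex0` as on the even cocode.
* `Compl` : a complement `φ : M24 →* N_G(E)`, chosen such that the sextet group of `S₀`
  normalises `E hex1`.
-/

set_option autoImplicit false

open scoped Pointwise

namespace Cfsg.Agent.J4Type

open Cfsg

/-! ### Explicit combinatorial constants -/

/-- point number `i` of the 24 points (`23` is the extra point) -/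
def gp (i : ℕ) : GolayPt := if i = 23 then none else some (i : ZMod 23)

/-- a set of points given by numbers -/
def gset (l : List ℕ) : Finset GolayPt := (l.map gp).toFinset

/-- the two base points of the group `M22:2 = C/N` -/
def base : Finset GolayPt := {none, some 0}

/-- `M22:2` : the stabiliser of the two base points in `M24` -/
def M22d : Subgroup (Equiv.Perm GolayPt) :=
  M24 ⊓ MulAction.stabilizer (Equiv.Perm GolayPt) base

/-- hexads are (represented by) the octads through both base points -/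
def IsHex (O : Finset GolayPt) : Prop := O ∈ octads ∧ base ⊆ O

/-- two disjoint hexads (their octads meet exactly in the base points) -/
def hex0 : Finset GolayPt := gset [0, 2, 4, 5, 6, 10, 11, 23]
def hex1 : Finset GolayPt := gset [0, 3, 8, 14, 15, 18, 20, 23]

/-- the six points of the hexad `hex1` : they label the hyperoval `w₀=(1,0,0), w₁=(0,1,0),
w₂=(0,0,1), w₃=(1,1,1), w₄=(1,ω,ω²), w₅=(1,ω²,ω)` of `W = A(hex0)/⟨z⟩` -/
def hp : Fin 6 → GolayPt := ![gp 3, gp 8, gp 14, gp 15, gp 18, gp 20]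

/-- the MOG labelling of the 24 points : `mog i c`, `i` = column, `c = 0,1,ω,ω²` -/
def mogTable : Fin 6 → Fin 4 → ℕ :=
  ![![23, 0, 1, 2], ![3, 5, 14, 17], ![4, 13, 16, 22], ![12, 18, 8, 11], ![7, 6, 21, 19],
    ![10, 15, 9, 20]]

def mog (i : Fin 6) (c : Fin 4) : GolayPt := gp (mogTable i c)

/-- the six tetrads of the sextet `S₀` attached to `z` -/
def tet (i : Fin 6) : Finset GolayPt := Finset.univ.image (mog i)

/-- the sextet attached to `z` -/
def S0 : Finset (Finset GolayPt) := Finset.univ.image tet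

/-- `S` is a word of the Golay code -/
def IsCode (S : Finset GolayPt) : Prop := S ∈ supports (golayCode : Set (GolayPt → ZMod 2))

/-- elementary abelian 2-subgroup, elementwise -/
def IsElem2 {G : Type*} [Group G] (A : Subgroup G) : Prop :=
  (∀ a ∈ A, a * a = 1) ∧ ∀ a ∈ A, ∀ b ∈ A, a * b = b * a

/-! ### Level 1 : the centraliser -/

/-- Output of part (a1). -/
structure Cent (G : Type*) [Group G] where
  z : G
  z_order : orderOf z = 2
  Q : Subgroup G
  Q_le : Q ≤ Subgroup.centralizer ({z} : Set G)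
  Q_conj : ∀ c : G, c * z = z * c → ∀ q ∈ Q, c * q * c⁻¹ ∈ Q
  Q_card : Nat.card Q = 2 ^ 13
  z_mem_Q : z ∈ Q
  Q_sq : ∀ q ∈ Q, q * q = 1 ∨ q * q = z
  Q_comm : ∀ a ∈ Q, ∀ b ∈ Q, a * b = b * a ∨ a * b = z * (b * a)
  Q_cent : ∀ c : G, (∀ q ∈ Q, c * q = q * c) → c = 1 ∨ c = z
  ρ : G
  ρ_order : orderOf ρ = 3
  ρ_comm : ρ * z = z * ρ
  ρ_fix : ∀ q ∈ Q, ρ * q = q * ρ → q = 1 ∨ q = z
  P : Subgroup.centralizer ({z} : Set G) →* Equiv.Perm GolayPt
  P_ker : ∀ c : Subgroup.centralizer ({z} : Set G),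
    P c = 1 ↔ ∃ q ∈ Q, ∃ i : ℕ, (c : G) = q * ρ ^ i
  P_range : P.range = M22d
  /-- inner elements centralise `ρ` modulo `Q` -/
  P_inner : ∀ c : Subgroup.centralizer ({z} : Set G), P c none = none →
    ∃ q ∈ Q, (c : G) * ρ * (c : G)⁻¹ = q * ρ

/-! ### Level 2 : hexads -/

/-- Output of part (a2).  `E O` is only meaningful for hexads `O`. -/
structure Hex (G : Type*) [Group G] extends Cent G where
  /-- outer elements invert `ρ` modulo `Q` -/
  P_outer : ∀ c : Subgroup.centralizer ({z} : Set G), P c none ≠ none →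
    ∃ q ∈ Q, (c : G) * ρ * (c : G)⁻¹ = q * ρ⁻¹
  E : Finset GolayPt → Subgroup G
  E_elem : ∀ O, IsHex O → IsElem2 (E O)
  E_card : ∀ O, IsHex O → Nat.card (E O) = 2 ^ 11
  z_mem_E : ∀ O, IsHex O → z ∈ E O
  E_conj : ∀ O, IsHex O → ∀ (c : Subgroup.centralizer ({z} : Set G)) (a : G),
    a ∈ E O ↔ (c : G) * a * (c : G)⁻¹ ∈ E (P c • O)
  /-- `P` maps `E O` onto the pointwise stabiliser of the octad `O` in `M24` (order 16) -/
  E_map : ∀ O, IsHex O → ∀ g : Equiv.Perm GolayPt,
    (∃ a : Subgroup.centralizer ({z} : Set G), (a : G) ∈ E O ∧ P a = g) ↔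
      g ∈ M24 ∧ ∀ p ∈ O, g p = p
  A_card : ∀ O, IsHex O → Nat.card (E O ⊓ Q : Subgroup G) = 2 ^ 7
  /-- `C_G(A(O)) = E(O)` for `A(O) = E(O) ∩ Q` -/
  A_cent : ∀ O, IsHex O → ∀ g : G, (∀ a ∈ E O, a ∈ Q → g * a = a * g) → g ∈ E O
  E_inf : ∀ O O', IsHex O → IsHex O' → O ≠ O' → E O ⊓ E O' ≤ Q
  /-- disjoint hexads -/
  E_inf_two : ∀ O O', IsHex O → IsHex O' → (O ∩ O').card = 2 → Nat.card (E O ⊓ E O' : Subgroup G) = 2
  /-- meeting hexads -/
  E_inf_eight : ∀ O O', IsHex O → IsHex O' → (O ∩ O').card = 4 →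
    Nat.card (E O ⊓ E O' : Subgroup G) = 8
  /-- `C_E(ρ)` has order `2^5` (note that `ρ` normalises every `E O`, by `E_conj`) -/
  F_card : ∀ O, IsHex O → Nat.card (E O ⊓ Subgroup.centralizer ({ρ} : Set G) : Subgroup G) = 2 ^ 5
  /-- for an involution `a` of `E(O)` outside `Q`: `C_V(a)` has dimension 8 over `F_2` -/
  V_dim : ∀ O, IsHex O → ∀ a ∈ E O, a ∉ Q →
    Nat.card {q : G // q ∈ Q ∧ (a * q = q * a ∨ a * q = z * (q * a))} = 2 ^ 9
  /-- `C_V(a) ∩ C_V(b) = A(O)/z` for `a, b` independent in `E(O)/A(O)` -/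
  V_inf : ∀ O, IsHex O → ∀ a ∈ E O, ∀ b ∈ E O, a ∉ Q → b ∉ Q → a * b ∉ Q → ∀ q ∈ Q,
    (a * q = q * a ∨ a * q = z * (q * a)) → (b * q = q * b ∨ b * q = z * (q * b)) → q ∈ E O

/-! ### Level 3 : the normaliser of `E = E hex0` -/

/-- Output of parts (b) and (c). -/
structure Frame (G : Type*) [Group G] extends Hex G where
  /-- the cocode element of an even set of points -/
  ε : Finset GolayPt → G
  ε_mem : ∀ S, Even S.card → ε S ∈ E hex0
  ε_mul : ∀ S T, Even S.card → Even T.card → ε (symmDiff S T) = ε S * ε T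
  ε_ker : ∀ S, Even S.card → (ε S = 1 ↔ IsCode S)
  ε_surj : ∀ a ∈ E hex0, ∃ S, Even S.card ∧ ε S = a
  π : Subgroup.normalizer (E hex0 : Set G) →* M24
  π_smul : ∀ (n : Subgroup.normalizer (E hex0 : Set G)) (S : Finset GolayPt), Even S.card →
    (n : G) * ε S * (n : G)⁻¹ = ε ((π n : Equiv.Perm GolayPt) • S)
  π_ker : ∀ n : Subgroup.normalizer (E hex0 : Set G), π n = 1 ↔ (n : G) ∈ E hex0
  π_surj : Function.Surjective π
  /-- `z` is the sextet `S₀` -/
  ε_tet : ∀ i, ε (tet i) = z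
  /-- `A = E ∩ Q` -/
  A_iff : ∀ S, Even S.card → (ε S ∈ Q ↔ (∀ i, Even (S ∩ tet i).card) ∨ ∀ i, Odd (S ∩ tet i).card)
  /-- the involution of `C/N` induced by a duad across the tetrads `i`, `j` exchanges the points
  `i`, `j` of `hex1` -/
  P_ε : ∀ (a : Subgroup.centralizer ({z} : Set G)) (i j : Fin 6), i ≠ j → ∀ p ∈ tet i, ∀ q ∈ tet j,
    (a : G) = ε {p, q} → P a (hp i) = hp j
  /-- `ρ` (which normalises `E`) fixes the tetrads and the points `mog i 0` -/
  ρ_tet : ∀ n : Subgroup.normalizer (E hex0 : Set G), (n : G) = ρ → ∀ i,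
    (π n : Equiv.Perm GolayPt) (mog i 0) = mog i 0 ∧ (π n : Equiv.Perm GolayPt) • tet i = tet i
  /-- duads are not conjugate to `z` -/
  duad_not_conj : ∀ p q : GolayPt, p ≠ q → ¬ IsConj z (ε {p, q})
  /-- every conjugate of `E` containing `z` is one of the 77 groups `E(O)` -/
  E_unique : ∀ g : G, g⁻¹ * z * g ∈ E hex0 →
    ∃ O, IsHex O ∧ ∀ a : G, g⁻¹ * a * g ∈ E hex0 ↔ a ∈ E O

/-! ### Level 4 : the complement -/

/-- Output of part (d). -/
structure Compl (G : Type*) [Group G] extends Frame G where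
  φ : M24 →* G
  φ_mem : ∀ g, φ g ∈ Subgroup.normalizer (E hex0 : Set G)
  π_φ : ∀ g, π ⟨φ g, φ_mem g⟩ = g
  /-- the sextet group of `S₀` fixes the hexad `hex1` -/
  φ_hex1 : ∀ (g : M24) (c : Subgroup.centralizer ({z} : Set G)), (g : Equiv.Perm GolayPt) • S0 = S0 →
    (c : G) = φ g → P c • hex1 = hex1
  /-- `O_2` of the sextet group is contained in `Q` and in `E hex1` -/
  φ_Q : ∀ g : M24, (∀ i, (g : Equiv.Perm GolayPt) • tet i = tet i) → g * g = 1 →
    φ g ∈ Q ∧ φ g ∈ E hex1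
  φ_ρ : ∃ g : M24, φ g = ρ

end Cfsg.Agent.J4Type
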