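import Cfsg.Agent.J4Type.CocodeExt
import Cfsg.Agent.J4Type.Setup
import Cfsg.Agent.J4Type.HexMax
set_option linter.all false

-- part: J4Type/SplitData
section
/-!
Explicit elements of the sextet group of `M24`, in the labelling of `Setup` (columns = tetrads of
the sextet `S0`), and the hypotheses of the splitting theorem (part (d)).
-/

set_option autoImplicit false

namespace Cfsg.Agent.J4Type.SplitData

open Cfsg Cfsg.Agent.SporadicA.GolayBase Cfsg.Agent.SporadicA.GolayPerm
open Cfsg.Agent.J4Type.CocodeMask Cfsg.Agent.J4Type.CocodeExt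

/-- `(i, x) ↦ (i, ω x)` -/
def Tρ : ℕ := 973047580892981701841065988820402241
/-- a semilinear monomial map inducing the transposition `(0 1)` of the columns, an involution -/
def Ts : ℕ := 146261786287366217854178837448604197
/-- a semilinear monomial map inducing the cycle `(0 1 2 3 4 5)` of the columns -/
def Tt : ℕ := 139260912721925278443297473353103909
/-- the inverse of `Tt` -/
def Tt' : ℕ := 422612348023553412542878578516928143
/-- the translation by the hexacode word `(0, 0, 1, 1, ω, ω²)` -/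
def Tr : ℕ := 976448692869377735270425038196672544

noncomputable def ρ0 : M24 := mk Tρ (by decide +kernel)
noncomputable def s0 : M24 := mk Ts (by decide +kernel)
noncomputable def t0 : M24 := mk Tt (by decide +kernel)
noncomputable def r0 : M24 := mk Tr (by decide +kernel)

theorem tab_ρ : IsTab ρ0 Tρ := isTab_mk _ _
theorem tab_s : IsTab s0 Ts := isTab_mk _ _
theorem tab_t : IsTab t0 Tt := isTab_mk _ _
theorem tab_r : IsTab r0 Tr := isTab_mk _ _

theorem tab_t' : IsTab t0⁻¹ Tt' := by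
  have h : IsTab (mk Tt' (by decide +kernel)) Tt' := isTab_mk _ _
  rw [tab_t.inv_eq h (by decide +kernel)]
  exact h

/-- the mask of the sextet `S0` (the central involution `z`) -/
def zm : ℕ := 3489

theorem ev_zm : ev zm = true := by decide +kernel

/-- the column (tetrad of `S0`) of the point of index `i` -/
def col (i : ℕ) : ℕ := (colPack >>> (3 * i)) % 8
where
  /-- packed table of the columns -/
  colPack : ℕ := 190865548615175152128

/-- The hypotheses of the splitting theorem. `f : N → M24` is the extension by the even cocode,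
`Y` is a subgroup mapping onto `3.S6` (generated by `s0`, `t0`) and meeting the cocode in `⟨z⟩`,
`R` is a complement of the cocode in the preimage of `2^6`. -/
structure Input {N : Type*} [Group N] (f : N →* M24) (c : ℕ → N) (Y R : Subgroup N) (ρ : N) :
    Prop where
  ext : Ext f c
  ρ_mem : ρ ∈ Y
  ρ_cube : ρ * ρ * ρ = 1
  f_ρ : f ρ = ρ0
  Y_ker : ∀ y ∈ Y, f y = 1 → y = 1 ∨ y = c zm
  z_mem : c zm ∈ Y
  s_mem : ∃ y ∈ Y, f y = s0
  t_mem : ∃ y ∈ Y, f y = t0
  Y_inv : ∀ y ∈ Y, f y * ρ0 = ρ0 * f y → f y * f y = 1 → y * y = 1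
  R_ker : ∀ r ∈ R, f r = 1 → r = 1
  R_card : Nat.card R = 64
  R_col : ∀ r ∈ R, ∀ p : GolayPt, col (idx ((f r : Equiv.Perm GolayPt) p)) = col (idx p)
  R_r0 : ∃ r ∈ R, f r = r0
  R_conj : ∀ y ∈ Y, ∀ r ∈ R, y * r * y⁻¹ ∈ R

end Cfsg.Agent.J4Type.SplitData
end

-- part: J4Type/FrameDefs
section
/-!
# From `Frame` to the input of the splitting theorem: definitions (R07 (d), helper856)

For `F : Frame G`:
* `NE F` : the normaliser of `E hex0`, `F.π : NE F →* M24`;
* `c F s` : the element of `NE F` with mask `s`, `(c F s : G) = F.ε (fin (s <<< 12))`;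
* `YG F`, `Y F` : the elements of `C` fixing `hex1` and normalising `⟨ρ⟩`;
* `RG F`, `R F` : the elements `a` of `E hex1 ∩ Q` with `a a^ρ a^(ρ²) = 1`;
* `rho F : NE F`.
-/

set_option autoImplicit false

namespace Cfsg.Agent.J4Type.FrameDefs

open Cfsg Cfsg.Agent.SporadicA.GolayBase Cfsg.Agent.SporadicA.GolayPerm
open Cfsg.Agent.J4Type.CocodeMask Cfsg.Agent.J4Type.CocodeExt Cfsg.Agent.J4Type.HexMax
open Cfsg.Agent.J4Type.DuadStab (card_symmDiff_parity)
open scoped Pointwise

section Cent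

variable {G : Type*} [Group G] (X : Cent G)

theorem zC {q : G} (hq : q ∈ X.Q) : q ∈ Subgroup.centralizer ({X.z} : Set G) := X.Q_le hq

theorem ρC : X.ρ ∈ Subgroup.centralizer ({X.z} : Set G) :=
  Subgroup.mem_centralizer_singleton_iff.2 X.ρ_comm

theorem P_Q {q : G} (hq : q ∈ X.Q) : X.P ⟨q, zC X hq⟩ = 1 :=
  (X.P_ker _).2 ⟨q, hq, 0, by rw [pow_zero, mul_one]⟩

theorem P_ρ : X.P ⟨X.ρ, ρC X⟩ = 1 :=
  (X.P_ker _).2 ⟨1, X.Q.one_mem, 1, by rw [pow_one, one_mul]⟩

theorem ρ_cube : X.ρ * X.ρ * X.ρ = 1 := by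
  have h := pow_orderOf_eq_one X.ρ
  rw [X.ρ_order, pow_succ, pow_two] at h
  exact h

theorem zz : X.z * X.z = 1 := by
  have h := pow_orderOf_eq_one X.z
  rw [X.z_order, pow_two] at h
  exact h

theorem z_ne : X.z ≠ 1 := by
  intro h
  have := X.z_order
  rw [h, orderOf_one] at this
  omega

end Cent

section Hex

variable {G : Type*} [Group G] (H : Hex G)

theorem Q_E {q : G} (hq : q ∈ H.Q) {O : Finset GolayPt} (hO : IsHex O) (a : G) :
    a ∈ H.E O ↔ q * a * q⁻¹ ∈ H.E O := by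
  have h := H.E_conj O hO ⟨q, zC H.toCent hq⟩ a
  rw [P_Q H.toCent hq, one_smul] at h
  exact h

theorem ρ_E {O : Finset GolayPt} (hO : IsHex O) (a : G) : a ∈ H.E O ↔ H.ρ * a * H.ρ⁻¹ ∈ H.E O := by
  have h := H.E_conj O hO ⟨H.ρ, ρC H.toCent⟩ a
  rw [P_ρ H.toCent, one_smul] at h
  exact h

theorem ρ_Q {a : G} (ha : a ∈ H.Q) : H.ρ * a * H.ρ⁻¹ ∈ H.Q := H.Q_conj _ H.ρ_comm a ha

theorem Q_norm {q : G} (hq : q ∈ H.Q) : q ∈ Subgroup.normalizer (H.E hex0 : Set G) :=
  Subgroup.mem_normalizer_iff.2 fun a => Q_E H hq hex0_isHex a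

theorem ρ_norm : H.ρ ∈ Subgroup.normalizer (H.E hex0 : Set G) :=
  Subgroup.mem_normalizer_iff.2 fun a => ρ_E H hex0_isHex a

/-- the norm -/
def nm (a : G) : G := a * (H.ρ * a * H.ρ⁻¹) * (H.ρ * (H.ρ * a * H.ρ⁻¹) * H.ρ⁻¹)

theorem nm_mul {a b : G} (ha : a ∈ H.E hex1) (hb : b ∈ H.E hex1) :
    nm H (a * b) = nm H a * nm H b := by
  have hc := (H.E_elem hex1 hex1_isHex).2
  have ha1 := (ρ_E H hex1_isHex a).1 ha
  have ha2 := (ρ_E H hex1_isHex _).1 ha1
  have hb1 := (ρ_E H hex1_isHex b).1 hb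
  have hb2 := (ρ_E H hex1_isHex _).1 hb1
  have e1 : H.ρ * (a * b) * H.ρ⁻¹ = (H.ρ * a * H.ρ⁻¹) * (H.ρ * b * H.ρ⁻¹) := by group
  unfold nm
  rw [e1]
  set a1 := H.ρ * a * H.ρ⁻¹
  set b1 := H.ρ * b * H.ρ⁻¹
  have e2 : H.ρ * (a1 * b1) * H.ρ⁻¹ = (H.ρ * a1 * H.ρ⁻¹) * (H.ρ * b1 * H.ρ⁻¹) := by group
  rw [e2]
  set a2 := H.ρ * a1 * H.ρ⁻¹
  set b2 := H.ρ * b1 * H.ρ⁻¹
  calc a * b * (a1 * b1) * (a2 * b2) = a * (b * a1) * b1 * (a2 * b2) := by group
    _ = a * (a1 * b) * b1 * (a2 * b2) := by rw [hc b hb a1 ha1]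
    _ = a * a1 * (b * (b1 * a2)) * b2 := by group
    _ = a * a1 * (b * (a2 * b1)) * b2 := by rw [hc b1 hb1 a2 ha2]
    _ = a * a1 * (b * a2) * b1 * b2 := by group
    _ = a * a1 * (a2 * b) * b1 * b2 := by rw [hc b hb a2 ha2]
    _ = a * a1 * a2 * (b * b1 * b2) := by group

/-- The elements of norm 1 of `E hex1 ∩ Q`. -/
def RG : Subgroup G where
  carrier := {a | a ∈ H.E hex1 ∧ a ∈ H.Q ∧ nm H a = 1}
  mul_mem' := by
    rintro a b ⟨h1, h2, h3⟩ ⟨h4, h5, h6⟩
    exact ⟨mul_mem h1 h4, mul_mem h2 h5, by rw [nm_mul H h1 h4, h3, h6, mul_one]⟩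
  one_mem' := ⟨one_mem _, one_mem _, by simp [nm]⟩
  inv_mem' := by
    rintro a ⟨h1, h2, h3⟩
    have h4 : a⁻¹ = a := inv_eq_of_mul_eq_one_left ((H.E_elem hex1 hex1_isHex).1 a h1)
    rw [h4]
    exact ⟨h1, h2, h3⟩

theorem mem_RG {a : G} : a ∈ RG H ↔ a ∈ H.E hex1 ∧ a ∈ H.Q ∧ nm H a = 1 := Iff.rfl

/-- The elements of `C` fixing `hex1` and normalising `⟨ρ⟩`. -/
def YG : Subgroup G where
  carrier := {y | ∃ h : y ∈ Subgroup.centralizer ({H.z} : Set G), H.P ⟨y, h⟩ • hex1 = hex1 ∧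
    (y * H.ρ * y⁻¹ = H.ρ ∨ y * H.ρ * y⁻¹ = H.ρ⁻¹)}
  mul_mem' := by
    rintro a b ⟨h1, h2, h3⟩ ⟨h4, h5, h6⟩
    refine ⟨mul_mem h1 h4, ?_, ?_⟩
    · have : (⟨a * b, mul_mem h1 h4⟩ : Subgroup.centralizer ({H.z} : Set G)) = ⟨a, h1⟩ * ⟨b, h4⟩ := rfl
      rw [this, map_mul, mul_smul, h5, h2]
    · have e1 : a * b * H.ρ * (a * b)⁻¹ = a * (b * H.ρ * b⁻¹) * a⁻¹ := by group
      have e2 : a * H.ρ⁻¹ * a⁻¹ = (a * H.ρ * a⁻¹)⁻¹ := by group
      rw [e1]
      rcases h6 with h6 | h6 <;> rcases h3 with h3 | h3 <;> rw [h6]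
      · left; exact h3
      · right; exact h3
      · right; rw [e2, h3]
      · left; rw [e2, h3, inv_inv]
  one_mem' := ⟨one_mem _, by
    have : (⟨1, one_mem _⟩ : Subgroup.centralizer ({H.z} : Set G)) = 1 := rfl
    rw [this, map_one, one_smul], by left; group⟩
  inv_mem' := by
    rintro a ⟨h1, h2, h3⟩
    refine ⟨inv_mem h1, ?_, ?_⟩
    · have : (⟨a⁻¹, inv_mem h1⟩ : Subgroup.centralizer ({H.z} : Set G)) = (⟨a, h1⟩)⁻¹ := rfl
      rw [this, map_inv, inv_smul_eq_iff, h2]
    · rcases h3 with h3 | h3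
      · left
        rw [inv_inv]
        have : a⁻¹ * (a * H.ρ * a⁻¹) * a = H.ρ := by group
        rwa [h3] at this
      · right
        rw [inv_inv]
        have h4 : a⁻¹ * (a * H.ρ * a⁻¹)⁻¹ * a = H.ρ⁻¹ := by group
        rw [h3, inv_inv] at h4
        exact h4

theorem mem_YG {y : G} : y ∈ YG H ↔ ∃ h : y ∈ Subgroup.centralizer ({H.z} : Set G),
    H.P ⟨y, h⟩ • hex1 = hex1 ∧ (y * H.ρ * y⁻¹ = H.ρ ∨ y * H.ρ * y⁻¹ = H.ρ⁻¹) := Iff.rfl

theorem RG_le : RG H ≤ Subgroup.normalizer (H.E hex0 : Set G) := fun _ hr => Q_norm H hr.2.1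

end Hex

variable {G : Type*} [Group G] (F : Frame G)

/-- the normaliser of `E hex0` -/
abbrev NE : Subgroup G := Subgroup.normalizer (F.E hex0 : Set G)

/-- `E hex0` as a subgroup of its normaliser -/
abbrev EN : Subgroup (NE F) := (F.E hex0).subgroupOf (NE F)

theorem E_le : F.E hex0 ≤ NE F := Subgroup.le_normalizer

/-- `ρ` as an element of the normaliser -/
def rho : NE F := ⟨F.ρ, ρ_norm F.toHex⟩

/-- `Y` -/
def Y : Subgroup (NE F) := (YG F.toHex).subgroupOf (NE F)

/-- `R` -/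
def R : Subgroup (NE F) := (RG F.toHex).subgroupOf (NE F)

theorem mem_Y {n : NE F} : n ∈ Y F ↔ (n : G) ∈ YG F.toHex := Subgroup.mem_subgroupOf

theorem mem_R {n : NE F} : n ∈ R F ↔ (n : G) ∈ RG F.toHex := Subgroup.mem_subgroupOf

theorem π_ker' (n : NE F) : F.π n = 1 ↔ n ∈ EN F := (F.π_ker n).trans Subgroup.mem_subgroupOf.symm

instance EN_normal : (EN F).Normal := by
  have : EN F = F.π.ker := by
    ext n
    rw [MonoidHom.mem_ker, π_ker']
  rw [this]; infer_instance

instance EN_comm : IsMulCommutative (EN F) :=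
  ⟨⟨fun a b => Subtype.ext (Subtype.ext ((F.E_elem hex0 hex0_isHex).2 _ a.2 _ b.2))⟩⟩

/-! ### the elements `c F s` -/

/-- the base point `none` is used as origin -/
theorem even_symm (i : GolayPt) : Even (symmDiff {i} {(none : GolayPt)} : Finset GolayPt).card := by
  classical
  by_cases h : i = none
  · rw [h, symmDiff_self]; simp
  · have : (symmDiff {i} {(none : GolayPt)} : Finset GolayPt) = {i, none} := by
      ext x
      simp only [Finset.mem_symmDiff, Finset.mem_singleton, Finset.mem_insert]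
      constructor
      · rintro (⟨h1, _⟩ | ⟨h1, _⟩)
        · exact Or.inl h1
        · exact Or.inr h1
      · rintro (rfl | rfl)
        · exact Or.inl ⟨rfl, h⟩
        · exact Or.inr ⟨rfl, fun h2 => h h2.symm⟩
    rw [this, Finset.card_pair h]
    exact even_two

theorem even_symmDiff {S T : Finset GolayPt} (hS : Even S.card) (hT : Even T.card) :
    Even (symmDiff S T).card := by
  rw [Nat.even_iff] at *
  rw [card_symmDiff_parity]
  omega

/-- the point functions of the cocode -/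
def e (i : GolayPt) : EN F :=
  ⟨⟨F.ε (symmDiff {i} {none}), E_le F (F.ε_mem _ (even_symm i))⟩, F.ε_mem _ (even_symm i)⟩

theorem e_coe (i : GolayPt) : ((e F i : NE F) : G) = F.ε (symmDiff {i} {none}) := rfl

theorem ε_empty : F.ε ∅ = 1 := by
  have h := F.ε_mul ∅ ∅ (by simp) (by simp)
  rw [symmDiff_self] at h
  exact left_eq_mul.1 h

theorem ε_sq {S : Finset GolayPt} (hS : Even S.card) : F.ε S * F.ε S = 1 := by
  have h := F.ε_mul S S hS hS
  rw [symmDiff_self] at h
  rw [← h]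
  exact ε_empty F

open scoped IsMulCommutative in
theorem prod_e (S : Finset GolayPt) :
    (((∏ i ∈ S, e F i : EN F) : NE F) : G) = F.ε (if Even S.card then S else symmDiff S {none}) := by
  classical
  induction S using Finset.induction_on with
  | empty => simp [ε_empty]
  | insert a S ha ih =>
    rw [Finset.prod_insert ha, Subgroup.coe_mul, Subgroup.coe_mul, ih, e_coe]
    have h1 : symmDiff {a} S = insert a S := by
      ext x
      simp only [Finset.mem_symmDiff, Finset.mem_singleton, Finset.mem_insert]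
      constructor
      · rintro (⟨h1, _⟩ | ⟨h1, _⟩)
        · exact Or.inl h1
        · exact Or.inr h1
      · rintro (rfl | h)
        · exact Or.inl ⟨rfl, ha⟩
        · exact Or.inr ⟨h, fun h2 => ha (h2 ▸ h)⟩
    by_cases hS : Even S.card
    · have hS' : ¬ Even (insert a S).card := by
        rw [Finset.card_insert_of_notMem ha, Nat.even_add_one, not_not]; exact hS
      rw [if_pos hS, if_neg hS', ← F.ε_mul _ _ (even_symm a) hS, ← h1]
      congr 1
      rw [symmDiff_right_comm]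
    · have hS' : Even (insert a S).card := by
        rw [Finset.card_insert_of_notMem ha, Nat.even_add_one]; exact hS
      have h3 : Even (symmDiff S {(none : GolayPt)}).card := by
        rw [Nat.even_iff] at *
        rw [card_symmDiff_parity, Finset.card_singleton]
        omega
      rw [if_neg hS, if_pos hS', ← F.ε_mul _ _ (even_symm a) h3, ← h1]
      congr 1
      rw [symmDiff_comm S {none}, symmDiff_assoc, symmDiff_symmDiff_cancel_left]

open scoped IsMulCommutative in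
theorem isCocode : DuadStab.IsCocode (e F) where
  sq := by
    intro i
    apply Subtype.ext
    apply Subtype.ext
    exact ε_sq F (even_symm i)
  ker := by
    intro S hS
    have h1 := prod_e F S
    rw [if_pos hS] at h1
    have h2 := F.ε_ker S hS
    rw [← h1] at h2
    rw [← OneMemClass.coe_eq_one, ← OneMemClass.coe_eq_one]
    exact h2

open scoped IsMulCommutative in
/-- the element with mask `s` -/
def c (s : ℕ) : NE F := ((cm (e F) s : EN F) : NE F)

open scoped IsMulCommutative in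
theorem c_coe {s : ℕ} (hs : ev s = true) : (c F s : G) = F.ε (fin (s <<< 12)) := by
  unfold c
  rw [← prod_fin_high, prod_e, if_pos ((ev_iff_card ((ev_iff s).1 hs).1).1 hs)]

theorem pair_eq (i j : GolayPt) : symmDiff (symmDiff {i} {none}) (symmDiff {j} {(none : GolayPt)}) =
    (symmDiff {i} {j} : Finset GolayPt) := by
  rw [symmDiff_comm ({j} : Finset GolayPt) {none}, symmDiff_assoc, symmDiff_symmDiff_cancel_left]

theorem even_pair (i j : GolayPt) : Even (symmDiff {i} {j} : Finset GolayPt).card := by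
  rw [Nat.even_iff, card_symmDiff_parity, Finset.card_singleton, Finset.card_singleton]

theorem smul_symmDiff (g : Equiv.Perm GolayPt) (i j : GolayPt) :
    g • (symmDiff {i} {j} : Finset GolayPt) = symmDiff {g i} {g j} := by
  ext x
  rw [← Finset.inv_smul_mem_iff]
  simp only [Finset.mem_symmDiff, Finset.mem_singleton, Equiv.Perm.smul_def]
  have h : ∀ y, g⁻¹ x = y ↔ x = g y := fun y => by
    rw [Equiv.Perm.inv_eq_iff_eq]
  simp only [h]

/-- `NE F` is an extension of `M24` by the even cocode -/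
theorem ext : Ext F.π (c F) := by
  refine ext_of_isCocode F.π_surj (π_ker' F) (isCocode F) ?_ ?_
  · rintro ⟨⟨a, ha1⟩, ha2⟩
    obtain ⟨S, hS, h⟩ := F.ε_surj a ha2
    refine ⟨S, hS, ?_⟩
    apply Subtype.ext
    apply Subtype.ext
    rw [prod_e, if_pos hS]
    exact h.symm
  · intro n i j
    apply Subtype.ext
    apply Subtype.ext
    rw [MulAut.conjNormal_apply]
    show (n : G) * (F.ε (symmDiff {i} {none}) * F.ε (symmDiff {j} {none})) * (n : G)⁻¹ =
      F.ε (symmDiff {(F.π n : Equiv.Perm GolayPt) i} {none}) *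
        F.ε (symmDiff {(F.π n : Equiv.Perm GolayPt) j} {none})
    rw [← F.ε_mul _ _ (even_symm _) (even_symm _), ← F.ε_mul _ _ (even_symm _) (even_symm _),
      pair_eq, pair_eq, F.π_smul n _ (even_pair i j), smul_symmDiff]

end Cfsg.Agent.J4Type.FrameDefs
end
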