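import Cfsg.Agent.J4Type.FrameDefs
import Cfsg.Agent.J4Type.FusionCent
import Cfsg.Agent.J4Type.FusionConj
import Cfsg.Agent.J4Type.FusionM22
import Cfsg.Agent.J4Type.InvFix
import Cfsg.Agent.J4Type.Setup
import Cfsg.Agent.J4Type.CocodeMask
import Cfsg.Agent.SporadicStructure.M24Frame
import Cfsg.Agent.S0381
import Cfsg.Agent.S1604
import Cfsg.Agent.J4Type.NormE
set_option linter.all false

-- part: J4Type/FrameR
section
/-!
# The subgroup `R` (R07 (d), helper856)

`R_ker`, `R_card`, `R_conj`.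
-/

set_option autoImplicit false

namespace Cfsg.Agent.J4Type.FrameR

open Cfsg Cfsg.Agent.J4Type.HexMax Cfsg.Agent.J4Type.FrameDefs
open scoped Pointwise

section

variable {G : Type*} [Group G] (H : Hex G)

theorem ρ_z : H.ρ * H.z * H.ρ⁻¹ = H.z := by rw [H.ρ_comm, mul_inv_cancel_right]

theorem nm_z : nm H H.z = H.z := by
  unfold nm
  rw [ρ_z, ρ_z, zz H.toCent, one_mul]

theorem hex01_card : (hex0 ∩ hex1).card = 2 := by decide +kernel

theorem inf_eq {a : G} (h0 : a ∈ H.E hex0) (h1 : a ∈ H.E hex1) : a = 1 ∨ a = H.z := by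
  have hc := H.E_inf_two hex0 hex1 hex0_isHex hex1_isHex hex01_card
  obtain ⟨x, y, hxy, huniv⟩ := Nat.card_eq_two_iff.1 hc
  have hall : ∀ w : (H.E hex0 ⊓ H.E hex1 : Subgroup G), w = x ∨ w = y := by
    intro w
    have : w ∈ ({x, y} : Set _) := by rw [huniv]; trivial
    simpa using this
  have hz : H.z ∈ (H.E hex0 ⊓ H.E hex1 : Subgroup G) :=
    ⟨H.z_mem_E _ hex0_isHex, H.z_mem_E _ hex1_isHex⟩
  have hz1 : (⟨H.z, hz⟩ : (H.E hex0 ⊓ H.E hex1 : Subgroup G)) ≠ 1 := fun h =>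
    z_ne H.toCent (congrArg Subtype.val h)
  have ha : a ∈ (H.E hex0 ⊓ H.E hex1 : Subgroup G) := ⟨h0, h1⟩
  by_cases h : a = 1
  · exact Or.inl h
  · right
    have ha1 : (⟨a, ha⟩ : (H.E hex0 ⊓ H.E hex1 : Subgroup G)) ≠ 1 := fun h' =>
      h (congrArg Subtype.val h')
    have : (⟨a, ha⟩ : (H.E hex0 ⊓ H.E hex1 : Subgroup G)) = ⟨H.z, hz⟩ := by
      rcases hall ⟨a, ha⟩ with h2 | h2 <;> rcases hall ⟨H.z, hz⟩ with h3 | h3 <;>
        rcases hall 1 with h4 | h4
      · rw [h2, h3]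
      · rw [h2, h3]
      · exact absurd (h2.trans h4.symm) ha1
      · exact absurd (h3.trans h4.symm) hz1
      · exact absurd (h3.trans h4.symm) hz1
      · exact absurd (h2.trans h4.symm) ha1
      · rw [h2, h3]
      · rw [h2, h3]
    exact congrArg Subtype.val this

/-- norms of elements of `E hex1 ∩ Q` are in `⟨z⟩` -/
theorem nm_mem {a : G} (h1 : a ∈ H.E hex1) (hQ : a ∈ H.Q) : nm H a = 1 ∨ nm H a = H.z := by
  have hc := (H.E_elem hex1 hex1_isHex).2
  have ha1 := (ρ_E H hex1_isHex a).1 h1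
  have ha2 := (ρ_E H hex1_isHex _).1 ha1
  have hq1 := ρ_Q H hQ
  have hq2 := ρ_Q H hq1
  have hmem : nm H a ∈ H.Q := mul_mem (mul_mem hQ hq1) hq2
  apply H.ρ_fix _ hmem
  rw [← mul_inv_eq_iff_eq_mul]
  unfold nm
  set a1 := H.ρ * a * H.ρ⁻¹ with ha1'
  set a2 := H.ρ * a1 * H.ρ⁻¹ with ha2'
  have e1 : H.ρ * (a * a1 * a2) * H.ρ⁻¹ = a1 * a2 * (H.ρ * a2 * H.ρ⁻¹) := by
    rw [ha2', ha1']; group
  have e2 : H.ρ * a2 * H.ρ⁻¹ = a := by
    have h3 := ρ_cube H.toCent
    have h4 : H.ρ⁻¹ * H.ρ⁻¹ * H.ρ⁻¹ = 1 := by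
      have := congrArg (·⁻¹) h3
      simpa [mul_assoc] using this
    have e3 : H.ρ * a2 * H.ρ⁻¹ = (H.ρ * H.ρ * H.ρ) * a * (H.ρ⁻¹ * H.ρ⁻¹ * H.ρ⁻¹) := by
      rw [ha2', ha1']; group
    rw [e3, h3, h4, one_mul, mul_one]
  rw [e1, e2]
  calc a1 * a2 * a = a1 * (a2 * a) := mul_assoc _ _ _
    _ = a1 * (a * a2) := by rw [hc a2 ha2 a h1]
    _ = (a1 * a) * a2 := (mul_assoc _ _ _).symm
    _ = a * a1 * a2 := by rw [hc a1 ha1 a h1]

/-- the subgroup `E hex1 ∩ Q` -/
def A1 : Subgroup G := H.E hex1 ⊓ H.Q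

/-- the norm as a homomorphism on `E hex1 ∩ Q` -/
def nmHom : (A1 H) →* G where
  toFun a := nm H a
  map_one' := by simp [nm]
  map_mul' a b := nm_mul H a.2.1 b.2.1

theorem RG_card : Nat.card (RG H) = 64 := by
  have h1 : Nat.card (A1 H) = 2 ^ 7 := H.A_card hex1 hex1_isHex
  have hfin : Finite (A1 H) := Nat.finite_of_card_ne_zero (by rw [h1]; norm_num)
  have h2 : Nat.card (nmHom H).range = 2 := by
    have h3 : (nmHom H).range = Subgroup.zpowers H.z := by
      apply le_antisymm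
      · rintro _ ⟨a, rfl⟩
        rcases nm_mem H a.2.1 a.2.2 with h | h
        · show nm H a ∈ _
          rw [h]; exact one_mem _
        · show nm H a ∈ _
          rw [h]; exact Subgroup.mem_zpowers _
      · rw [Subgroup.zpowers_le]
        exact ⟨⟨H.z, H.z_mem_E _ hex1_isHex, H.z_mem_Q⟩, nm_z H⟩
    rw [h3, Nat.card_zpowers, H.z_order]
  have h4 : Nat.card (nmHom H).ker = 64 := by
    have h5 := Subgroup.card_mul_index (nmHom H).ker
    rw [Subgroup.index_ker, h2, h1] at h5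
    omega
  rw [← h4]
  refine Nat.card_congr ⟨fun r => ⟨⟨r, r.2.1, r.2.2.1⟩, r.2.2.2⟩, fun a => ⟨a, a.1.2.1, a.1.2.2, a.2⟩,
    fun _ => rfl, fun _ => rfl⟩

theorem z_notMem_RG : H.z ∉ RG H := by
  intro h
  have := h.2.2
  rw [nm_z] at this
  exact z_ne H.toCent this

theorem nm_conj {y a : G} (hy : y ∈ YG H) (ha : a ∈ H.E hex1) :
    nm H (y * a * y⁻¹) = y * nm H a * y⁻¹ := by
  have hc := (H.E_elem hex1 hex1_isHex).2
  have ha1 := (ρ_E H hex1_isHex a).1 ha
  have ha2 := (ρ_E H hex1_isHex _).1 ha1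
  obtain ⟨_, _, h⟩ := hy
  unfold nm
  rcases h with h | h
  · have h' : H.ρ * y = y * H.ρ := by
      rw [mul_inv_eq_iff_eq_mul] at h; exact h.symm
    have e1 : H.ρ * (y * a * y⁻¹) * H.ρ⁻¹ = y * (H.ρ * a * H.ρ⁻¹) * y⁻¹ := by
      calc H.ρ * (y * a * y⁻¹) * H.ρ⁻¹ = (H.ρ * y) * a * (H.ρ * y)⁻¹ := by group
        _ = (y * H.ρ) * a * (y * H.ρ)⁻¹ := by rw [h']
        _ = _ := by group
    rw [e1]
    set a1 := H.ρ * a * H.ρ⁻¹
    have e2 : H.ρ * (y * a1 * y⁻¹) * H.ρ⁻¹ = y * (H.ρ * a1 * H.ρ⁻¹) * y⁻¹ := by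
      calc H.ρ * (y * a1 * y⁻¹) * H.ρ⁻¹ = (H.ρ * y) * a1 * (H.ρ * y)⁻¹ := by group
        _ = (y * H.ρ) * a1 * (y * H.ρ)⁻¹ := by rw [h']
        _ = _ := by group
    rw [e2]; group
  · have h' : H.ρ * y = y * H.ρ⁻¹ := by
      have h3 : y * H.ρ⁻¹ * y⁻¹ = H.ρ := by
        have h4 : y * H.ρ⁻¹ * y⁻¹ = (y * H.ρ * y⁻¹)⁻¹ := by group
        rw [h4, h, inv_inv]
      rw [mul_inv_eq_iff_eq_mul] at h3
      exact h3.symm
    have e1 : ∀ x : G, H.ρ * (y * x * y⁻¹) * H.ρ⁻¹ = y * (H.ρ⁻¹ * x * H.ρ) * y⁻¹ := fun x => by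
      calc H.ρ * (y * x * y⁻¹) * H.ρ⁻¹ = (H.ρ * y) * x * (H.ρ * y)⁻¹ := by group
        _ = (y * H.ρ⁻¹) * x * (y * H.ρ⁻¹)⁻¹ := by rw [h']
        _ = _ := by group
    rw [e1, e1]
    have h3 : H.ρ⁻¹ = H.ρ * H.ρ := by
      rw [inv_eq_iff_mul_eq_one, ← mul_assoc]; exact ρ_cube H.toCent
    have h3' : H.ρ = H.ρ⁻¹ * H.ρ⁻¹ := by
      have := congrArg (·⁻¹) h3
      simpa using this
    have e2 : H.ρ⁻¹ * a * H.ρ = H.ρ * (H.ρ * a * H.ρ⁻¹) * H.ρ⁻¹ := by
      calc H.ρ⁻¹ * a * H.ρ = (H.ρ * H.ρ) * a * (H.ρ⁻¹ * H.ρ⁻¹) := by rw [← h3, ← h3']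
        _ = _ := by group
    have e3 : H.ρ⁻¹ * (H.ρ⁻¹ * a * H.ρ) * H.ρ = H.ρ * a * H.ρ⁻¹ := by
      calc H.ρ⁻¹ * (H.ρ⁻¹ * a * H.ρ) * H.ρ = (H.ρ⁻¹ * H.ρ⁻¹) * a * (H.ρ * H.ρ) := by group
        _ = _ := by rw [← h3', ← h3]
    rw [e3, e2]
    set a1 := H.ρ * a * H.ρ⁻¹
    set a2 := H.ρ * a1 * H.ρ⁻¹
    have e4 : y * a * y⁻¹ * (y * a2 * y⁻¹) * (y * a1 * y⁻¹) = y * (a * (a2 * a1)) * y⁻¹ := by group
    rw [e4, hc a2 ha2 a1 ha1, mul_assoc a a1 a2]

theorem RG_conj {y r : G} (hy : y ∈ YG H) (hr : r ∈ RG H) : y * r * y⁻¹ ∈ RG H := by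
  obtain ⟨hC, hP, hρ⟩ := hy
  refine ⟨?_, ?_, ?_⟩
  · have h := (H.E_conj hex1 hex1_isHex ⟨y, hC⟩ r).1 hr.1
    rw [hP] at h
    exact h
  · exact H.Q_conj y (Subgroup.mem_centralizer_singleton_iff.1 hC) r hr.2.1
  · rw [nm_conj H ⟨hC, hP, hρ⟩ hr.1, hr.2.2, mul_one, mul_inv_cancel]

end

variable {G : Type*} [Group G] (F : Frame G)

theorem R_card : Nat.card (R F) = 64 := by
  rw [← RG_card F.toHex]
  exact Nat.card_congr (Subgroup.subgroupOfEquivOfLe (RG_le F.toHex)).toEquiv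

theorem R_ker : ∀ r ∈ R F, F.π r = 1 → r = 1 := by
  intro r hr h
  rw [F.π_ker] at h
  rw [mem_R] at hr
  rcases inf_eq F.toHex h hr.1 with h1 | h1
  · exact Subtype.ext h1
  · rw [h1] at hr
    exact absurd hr (z_notMem_RG F.toHex)

theorem R_conj : ∀ y ∈ Y F, ∀ r ∈ R F, y * r * y⁻¹ ∈ R F := by
  intro y hy r hr
  rw [mem_Y] at hy
  rw [mem_R] at hr ⊢
  exact RG_conj F.toHex hy hr

end Cfsg.Agent.J4Type.FrameR
end

-- part: J4Type/FrameYInv
section
/-!
# R07 (J4 type), part (d): the field `Y_inv` of `SplitData.Input`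

`C_{E(O)}(ρ)` is mapped by `P` onto the pointwise stabiliser of the octad `O`; hence an element
`y` of the centraliser of `z` and `ρ` with `y ^ 2 ∈ {1, z}` satisfies `y ^ 2 = 1`.
-/

set_option autoImplicit false

open scoped Pointwise

namespace Cfsg.Agent.J4Type.FrameYInv

open Cfsg Cfsg.Agent.J4Type Cfsg.Agent.J4Type.FusionCent

variable {G : Type*} [Group G] (H : Hex G)

theorem E_le_cent {O : Finset GolayPt} (hO : IsHex O) :
    H.E O ≤ Subgroup.centralizer ({H.z} : Set G) := fun a ha =>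
  Subgroup.mem_centralizer_singleton_iff.2 ((H.E_elem O hO).2 a ha H.z (H.z_mem_E O hO))

/-- the restriction of `P` to `C_{E(O)}(ρ)` -/
def θ {O : Finset GolayPt} (hO : IsHex O) :
    (H.E O ⊓ Subgroup.centralizer ({H.ρ} : Set G) : Subgroup G) →* Equiv.Perm GolayPt :=
  H.P.comp (Subgroup.inclusion (inf_le_left.trans (E_le_cent H hO)))

theorem ker_θ {O : Finset GolayPt} (hO : IsHex O)
    {a : (H.E O ⊓ Subgroup.centralizer ({H.ρ} : Set G) : Subgroup G)} (ha : a ∈ (θ H hO).ker) :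
    (a : G) = 1 ∨ (a : G) = H.z := by
  obtain ⟨a, haE, haρ⟩ := a
  have h1 : H.P ⟨a, E_le_cent H hO haE⟩ = 1 := ha
  have h2 : (a : G) ∈ H.Q := by
    refine mem_Q_of_pow H.toCent ⟨a, E_le_cent H hO haE⟩ h1 (n := 2) (by norm_num) ?_
    rw [pow_two]
    simp only
    rw [(H.E_elem O hO).1 a haE]
    exact H.Q.one_mem
  exact H.ρ_fix a h2 (Subgroup.mem_centralizer_singleton_iff.1 haρ).symm

theorem card_ker_θ [Finite G] {O : Finset GolayPt} (hO : IsHex O) :
    Nat.card (θ H hO).ker ≤ 2 := by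
  classical
  have h1 : Nat.card (θ H hO).ker ≤ Nat.card ({1, H.z} : Set G) := by
    refine Nat.card_le_card_of_injective
      (fun a : (θ H hO).ker => (⟨((a : (H.E O ⊓ Subgroup.centralizer ({H.ρ} : Set G) :
        Subgroup G)) : G), ?_⟩ : ({1, H.z} : Set G))) ?_
    · rcases ker_θ H hO a.2 with h | h
      · rw [h]; exact Set.mem_insert _ _
      · rw [h]; exact Set.mem_insert_of_mem _ rfl
    · intro a b hab
      have h2 := congrArg Subtype.val hab
      exact Subtype.ext (Subtype.ext h2)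
  refine h1.trans ?_
  rw [Nat.card_coe_set_eq]
  exact Set.ncard_insert_le _ _ |>.trans (by rw [Set.ncard_singleton])

/-- the pointwise stabiliser of `O` in `M24` -/
def K (O : Finset GolayPt) : Subgroup (Equiv.Perm GolayPt) :=
  (fixingSubgroup M24 (O : Set GolayPt)).map M24.subtype

theorem mem_K {O : Finset GolayPt} {g : Equiv.Perm GolayPt} :
    g ∈ K O ↔ g ∈ M24 ∧ ∀ p ∈ O, g p = p := by
  constructor
  · rintro ⟨g, hg, rfl⟩
    refine ⟨g.2, fun p hp => ?_⟩
    exact (mem_fixingSubgroup_iff M24).1 hg p hp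
  · rintro ⟨hg, hp⟩
    exact ⟨⟨g, hg⟩, (mem_fixingSubgroup_iff M24).2 fun p hpO => hp p hpO, rfl⟩

theorem card_K {O : Finset GolayPt} (hO : IsHex O) : Nat.card (K O) = 16 := by
  rw [K, Subgroup.card_map_of_injective (Subgroup.subtype_injective _)]
  exact InvFix.card_fix_octad hO.1

/-- `C_{E(O)}(ρ)` is mapped onto the pointwise stabiliser of `O` -/
theorem exists_F [Finite G] {O : Finset GolayPt} (hO : IsHex O) {g : Equiv.Perm GolayPt}
    (hg : g ∈ M24) (hfix : ∀ p ∈ O, g p = p) :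
    ∃ a : Subgroup.centralizer ({H.z} : Set G), (a : G) ∈ H.E O ∧
      (a : G) * H.ρ = H.ρ * (a : G) ∧ H.P a = g := by
  have hle : (θ H hO).range ≤ K O := by
    rintro _ ⟨a, rfl⟩
    rw [mem_K]
    exact (H.E_map O hO _).1 ⟨⟨a, E_le_cent H hO a.2.1⟩, a.2.1, rfl⟩
  have h1 : Nat.card (θ H hO).ker * Nat.card (θ H hO).range = 2 ^ 5 := by
    rw [← Subgroup.index_ker, Subgroup.card_mul_index, H.F_card O hO]
  have h2 := card_ker_θ H hO
  have h3 : Nat.card (K O) ≤ Nat.card (θ H hO).range := by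
    rw [card_K hO]
    nlinarith
  have h4 : (θ H hO).range = K O := Subgroup.eq_of_le_of_card_ge hle h3
  have h5 : g ∈ (θ H hO).range := by
    rw [h4, mem_K]
    exact ⟨hg, hfix⟩
  obtain ⟨a, ha⟩ := h5
  exact ⟨⟨a, E_le_cent H hO a.2.1⟩, a.2.1, Subgroup.mem_centralizer_singleton_iff.1 a.2.2, ha⟩

/-- an element of the kernel of `P` commuting with `ρ` -/
theorem eq_of_P_eq_one {c : Subgroup.centralizer ({H.z} : Set G)} (hc : H.P c = 1)
    (hρ : (c : G) * H.ρ = H.ρ * (c : G)) :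
    ∃ q : G, (q = 1 ∨ q = H.z) ∧ ∃ i : ℕ, (c : G) = q * H.ρ ^ i := by
  obtain ⟨q, hq, i, hqi⟩ := (H.P_ker c).1 hc
  refine ⟨q, H.ρ_fix q hq ?_, i, hqi⟩
  have h1 : q = (c : G) * (H.ρ ^ i)⁻¹ := by rw [hqi]; group
  have h2 : Commute H.ρ (c : G) := hρ.symm
  have h3 : Commute H.ρ ((c : G) * (H.ρ ^ i)⁻¹) :=
    h2.mul_right ((Commute.refl H.ρ).pow_right i).inv_right
  rw [h1]
  exact h3.eq

theorem z_sq : H.z * H.z = 1 := (large H.toCent).z_sq

theorem z_ne_one : H.z ≠ 1 := (large H.toCent).z_ne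

theorem ρ_pow_ne_z (i : ℕ) : H.ρ ^ i ≠ H.z := by
  intro h
  have h1 := ρ_pow_eq_one H.toCent (i := i) (by rw [h]; exact H.z_mem_Q)
  exact z_ne_one H (h.symm.trans h1)

/-- an element centralising `ρ` is inner -/
theorem inner_of_comm {c : Subgroup.centralizer ({H.z} : Set G)}
    (hρ : (c : G) * H.ρ = H.ρ * (c : G)) : H.P c none = none := by
  by_contra hne
  obtain ⟨q, hq, h1⟩ := H.P_outer c hne
  rw [hρ, mul_inv_cancel_right] at h1
  have h2 : H.ρ ^ 2 = q := by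
    rw [pow_two]
    nth_rw 1 [h1]
    group
  have h3 : H.ρ ^ 2 = 1 := ρ_pow_eq_one H.toCent (by rw [h2]; exact hq)
  have h4 := orderOf_dvd_of_pow_eq_one h3
  rw [H.ρ_order] at h4
  exact absurd h4 (by norm_num)

/-- involutions of `M22` fix a hexad pointwise -/
theorem factInv {g : Equiv.Perm GolayPt} (hg : g ∈ M24) (hgg : g * g = 1) (h0 : g none = none)
    (h1 : g (some 0) = some 0) : ∃ O, IsHex O ∧ ∀ p ∈ O, g p = p := by
  by_cases hg1 : g = 1
  · exact ⟨hex0, FusionConj.isHex_hex0, fun p _ => by rw [hg1]; rfl⟩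
  · have h2 := FusionM22.card_fix hg hgg hg1 h0
    obtain ⟨o, ho, hso, hfix⟩ := InvFix.involution_fix (u := ⟨g, hg⟩)
      (by rw [pow_two]; exact Subtype.ext hgg) (fun h => hg1 (congrArg Subtype.val h))
      (s := Finset.univ.filter fun p : GolayPt => g p = p) (by rw [h2]; norm_num)
      (fun p hp => (Finset.mem_filter.1 hp).2)
    refine ⟨o, ⟨ho, ?_⟩, fun p hp => (hfix p).2 hp⟩
    intro p hp
    rw [base, Finset.mem_insert, Finset.mem_singleton] at hp
    rcases hp with rfl | rfl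
    · exact (hfix _).1 h0
    · exact (hfix _).1 h1

/-- an element commuting with `z` and `ρ` does not have square `z` -/
theorem sq_ne_z [Finite G] {c : Subgroup.centralizer ({H.z} : Set G)}
    (hρ : (c : G) * H.ρ = H.ρ * (c : G)) : (c : G) * (c : G) ≠ H.z := by
  intro hz
  have hin := inner_of_comm H hρ
  have hPz : H.P (c * c) = 1 := by
    apply P_of_mem_Q H.toCent
    show (c : G) * (c : G) ∈ H.Q
    rw [hz]
    exact H.z_mem_Q
  rw [map_mul] at hPz
  obtain ⟨hM, h0⟩ := mem_M22d (P_mem H.toCent c)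
  have h0 : H.P c (some 0) = some 0 := by
    rcases h0 with h | h
    · exact h.2
    · rw [hin] at h; simp at h
  obtain ⟨O, hO, hfix⟩ := factInv hM hPz hin h0
  obtain ⟨a, haE, haρ, haP⟩ := exists_F H hO hM hfix
  have ha1 : (a : G) * a = 1 := (H.E_elem O hO).1 a haE
  have h1 : H.P (a⁻¹ * c) = 1 := by rw [map_mul, map_inv, haP, inv_mul_cancel]
  have hcomm : ((a⁻¹ * c : Subgroup.centralizer ({H.z} : Set G)) : G) * H.ρ =
      H.ρ * ((a⁻¹ * c : Subgroup.centralizer ({H.z} : Set G)) : G) := by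
    have h2 : Commute H.ρ (a : G) := haρ.symm
    have h3 : Commute H.ρ (c : G) := hρ.symm
    exact (h2.inv_right.mul_right h3).symm.eq
  obtain ⟨q, hq, i, hqi⟩ := eq_of_P_eq_one H h1 hcomm
  have hc : (c : G) = a * (q * H.ρ ^ i) := by
    rw [← hqi]
    show (c : G) = a * ((a : G)⁻¹ * c)
    group
  have hqq : q * q = 1 := by
    rcases hq with rfl | rfl
    · simp
    · exact z_sq H
  have hqa : Commute q (a : G) := by
    rcases hq with rfl | rfl
    · exact Commute.one_left _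
    · exact (Subgroup.mem_centralizer_singleton_iff.1 a.2).symm
  have hqρ : Commute q (H.ρ ^ i) := by
    rcases hq with rfl | rfl
    · exact Commute.one_left _
    · exact (show Commute H.z H.ρ from H.ρ_comm.symm).pow_right i
  have haρi : Commute (a : G) (H.ρ ^ i) := (show Commute (a : G) H.ρ from haρ).pow_right i
  have h5 : (c : G) * c = H.ρ ^ (i + i) := by
    rw [hc, pow_add]
    calc (a : G) * (q * H.ρ ^ i) * (a * (q * H.ρ ^ i))
        = a * (q * (H.ρ ^ i * a)) * (q * H.ρ ^ i) := by group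
      _ = a * (q * (a * H.ρ ^ i)) * (q * H.ρ ^ i) := by rw [haρi.eq]
      _ = a * (q * a) * (H.ρ ^ i * q) * H.ρ ^ i := by group
      _ = a * (a * q) * (q * H.ρ ^ i) * H.ρ ^ i := by rw [hqa.eq, hqρ.eq]
      _ = (a * a) * (q * q) * (H.ρ ^ i * H.ρ ^ i) := by group
      _ = H.ρ ^ i * H.ρ ^ i := by rw [ha1, hqq]; group
  rw [hz] at h5
  exact ρ_pow_ne_z H _ h5.symm

/-! ### The field `Y_inv` -/

section Frame

variable (F : Frame G)

open FrameDefs

/-- an element of `Y` whose image commutes with the image of `ρ` centralises `ρ` -/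
theorem comm_of_Y {y : NE F} (hy : y ∈ Y F)
    (hc : F.π y * F.π (rho F) = F.π (rho F) * F.π y) : (y : G) * F.ρ = F.ρ * (y : G) := by
  obtain ⟨h1, h2, h3⟩ := (mem_YG F.toHex).1 ((mem_Y F).1 hy)
  rcases h3 with h3 | h3
  · exact mul_inv_eq_iff_eq_mul.1 h3
  · exfalso
    have h4 : y * rho F * y⁻¹ = (rho F)⁻¹ := Subtype.ext h3
    have h5 : F.π (rho F) = (F.π (rho F))⁻¹ := by
      calc F.π (rho F) = F.π y * F.π (rho F) * (F.π y)⁻¹ := by rw [hc, mul_inv_cancel_right]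
        _ = F.π (y * rho F * y⁻¹) := by rw [map_mul, map_mul, map_inv]
        _ = (F.π (rho F))⁻¹ := by rw [h4, map_inv]
    have h6 : F.π (rho F * rho F) = 1 := by
      rw [map_mul]
      nth_rw 1 [h5]
      rw [inv_mul_cancel]
    have h7 : F.ρ * F.ρ ∈ F.E hex0 := (F.π_ker _).1 h6
    have h8 := (F.E_elem hex0 FusionConj.isHex_hex0).1 _ h7
    have h9 : F.ρ ^ 4 = 1 := by
      have : F.ρ ^ 4 = F.ρ * F.ρ * (F.ρ * F.ρ) := by rw [pow_succ, pow_succ, pow_two]; group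
      rw [this, h8]
    have h10 := orderOf_dvd_of_pow_eq_one h9
    rw [F.ρ_order] at h10
    exact absurd h10 (by norm_num)

/-- the field `Y_inv` of `SplitData.Input` (for `g = ρ0`, `f = π`); the hypothesis `hk` comes
from `Y_ker` -/
theorem Y_inv [Finite G] {g : M24} (hg : F.π (rho F) = g ∨ F.π (rho F) = g⁻¹) {y : NE F}
    (hy : y ∈ Y F) (hk : y * y = 1 ∨ ((y * y : NE F) : G) = F.z)
    (hc : F.π y * g = g * F.π y) : y * y = 1 := by
  have h0 : F.π y * F.π (rho F) = F.π (rho F) * F.π y := by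
    rcases hg with hg | hg
    · rw [hg, hc]
    · rw [hg]
      exact (show Commute (F.π y) g from hc).inv_right.eq
  have h1 := comm_of_Y F hy h0
  rcases hk with hk | hk
  · exact hk
  · obtain ⟨h2, -⟩ := (mem_YG F.toHex).1 ((mem_Y F).1 hy)
    exact absurd hk (sq_ne_z F.toHex (c := ⟨(y : G), h2⟩) h1)

end Frame

end Cfsg.Agent.J4Type.FrameYInv
end

-- part: J4Type/OctHex0
section
/-!
# J₄ type: the pointwise stabiliser of `hex0` (R07)

* `fix_hex1` : an element of `M24` fixing `hex0` pointwise and `hex1` is trivial;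
* `exists_move` : the pointwise stabiliser of `hex0` is transitive on the 16 hexads meeting `hex0`
  in the two base points only.
-/

set_option autoImplicit false

namespace Cfsg.Agent.J4Type.OctHex0

open Cfsg Cfsg.Agent.SporadicA.GolayBase Cfsg.Agent.SporadicA.GolayPerm
open Cfsg.Agent.J4Type.CocodeMask Cfsg.Agent.SporadicStructure
open scoped Pointwise

/-- The elements of the pointwise stabiliser of `hex0`, by the image of the point `1`. -/
def tabs : List ℕ :=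
  [0, 984818244535754528103549039458486304, 0, 967739223789245171407146504132003936, 0, 0, 0,
   978241746458226444833005867658250464, 983553042649537266979977019204733184,
   959823939071994704882402347086186784, 0, 0, 974394222122509349096603230276913536,
   976539006901119804582877792120867232, 971700361611140356443901154824849856,
   980747918883362939279568022996060640, 972388651884523380316328689283009024,
   965094429999691373696704173595626016, 981940260449521198767676458684353088,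
   975141542956546445243913353447475808, 979236149903553240597937305795791488,
   965823287528192349793434105431984800, 957028651706772161000819827381930688, 0]

def tb (i : ℕ) : ℕ := tabs.getD i 0

/-- index lists of the two hexads -/
def l0 : List ℕ := [0, 2, 4, 5, 6, 10, 11, 23]
def l1 : List ℕ := [0, 3, 8, 14, 15, 18, 20, 23]

theorem tb_spec : ∀ i < 24, i ∉ l0 → (isPerm (tb i) && isAut (tb i)) = true ∧
    (∀ j ∈ l0, papp (tb i) j = j) ∧ papp (tb i) 1 = i ∧
    (i ≠ 1 → ∃ k ∈ l1, papp (tb i) k ∉ l1) := by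
  decide +kernel

theorem mem_hex0 (p : GolayPt) : p ∈ hex0 ↔ idx p ∈ l0 := by revert p; decide +kernel

theorem mem_hex1 (p : GolayPt) : p ∈ hex1 ↔ idx p ∈ l1 := by revert p; decide +kernel

theorem hex0_mem : hex0 ∈ octads := by
  have h : hex0 = fin 8391797 := by decide +kernel
  rw [h]
  exact M24Frame.fin_mem_octads_of_isOct (by decide +kernel)

theorem hex1_mem : hex1 ∈ octads := by
  have h : hex1 = fin 9748745 := by decide +kernel
  rw [h]
  exact M24Frame.fin_mem_octads_of_isOct (by decide +kernel)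

theorem isHex0 : IsHex hex0 := ⟨hex0_mem, by decide +kernel⟩

theorem isHex1 : IsHex hex1 := ⟨hex1_mem, by decide +kernel⟩

theorem hex0_inter_hex1 : (hex0 ∩ hex1).card = 2 := by decide +kernel

/-- An element of `M24` fixing `hex0` pointwise and mapping `hex1` to itself is trivial. -/
theorem fix_hex1 {g : Equiv.Perm GolayPt} (hg : g ∈ M24) (h0 : ∀ p ∈ hex0, g p = p)
    (h1 : g • hex1 = hex1) : g = 1 := by
  have hp : gp 1 ∉ hex0 := by decide +kernel
  have hq : g (gp 1) ∉ hex0 := by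
    intro h
    have h2 := h0 _ h
    exact hp (g.injective h2 ▸ h)
  set i := idx (g (gp 1)) with hi
  have hil : i ∉ l0 := fun h => hq ((mem_hex0 _).2 h)
  obtain ⟨hT, hfix, hone, hmove⟩ := tb_spec i (idx_lt _) hil
  have htab : IsTab (mk (tb i) hT) (tb i) := isTab_mk _ _
  set k : M24 := mk (tb i) hT with hk
  have hk0 : ∀ p ∈ hex0, (k : Equiv.Perm GolayPt) p = p := by
    intro p hp
    apply idx_injective
    rw [htab p]
    exact hfix _ ((mem_hex0 p).1 hp)
  have hk1 : (k : Equiv.Perm GolayPt) (gp 1) = g (gp 1) := by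
    apply idx_injective
    rw [htab, ← hi]
    exact hone
  have hgk : (k : Equiv.Perm GolayPt)⁻¹ * g = 1 := by
    apply M24Frame.eq_one_of_fix_frame (mul_mem (inv_mem k.2) hg) hex0_mem
      (s := hex0) (Finset.Subset.refl _) (by rw [octad_card hex0_mem]; norm_num) ?_ hp ?_
    · intro z hz
      rw [Equiv.Perm.mul_apply, h0 z hz]
      exact M24Frame.inv_apply_eq' (hk0 z hz)
    · rw [Equiv.Perm.mul_apply]
      exact M24Frame.inv_apply_eq' hk1
  have hgk' : g = (k : Equiv.Perm GolayPt) := (inv_mul_eq_one.1 hgk).symm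
  by_cases hi1 : i = 1
  · have h2 : g (gp 1) = gp 1 := by
      apply idx_injective
      rw [← hi, hi1]
      decide +kernel
    exact M24Frame.eq_one_of_fix_frame hg hex0_mem (s := hex0) (Finset.Subset.refl _)
      (by rw [octad_card hex0_mem]; norm_num) h0 hp h2
  · exfalso
    obtain ⟨j, hj, hj'⟩ := hmove hi1
    have hj24 : j < 24 := (by decide : ∀ j ∈ l1, j < 24) j hj
    have h2 : pt j ∈ hex1 := (mem_hex1 _).2 (by rw [idx_pt hj24]; exact hj)
    have h3 : g (pt j) ∈ hex1 := by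
      have := Finset.smul_mem_smul_finset (a := g) h2
      rwa [h1] at this
    rw [mem_hex1, hgk', htab, idx_pt hj24] at h3
    exact hj' h3

/-- The pointwise stabiliser of `hex0` is transitive on the hexads meeting it in two points. -/
theorem exists_move {O : Finset GolayPt} (hO : IsHex O) (h2 : (hex0 ∩ O).card = 2) :
    ∃ g ∈ M24, (∀ p ∈ hex0, g p = p) ∧ g • O = hex1 := by
  classical
  set K : Subgroup (Equiv.Perm GolayPt) :=
    M24 ⊓ fixingSubgroup (Equiv.Perm GolayPt) (hex0 : Set GolayPt) with hK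
  have hKc : Nat.card K = 16 := (Cfsg.Agent.S0381.result hex0 hex0_mem).1
  have hKfix : ∀ g ∈ K, ∀ p ∈ hex0, g p = p := fun g hg p hp =>
    (mem_fixingSubgroup_iff _).1 hg.2 p hp
  set X : Set (Finset GolayPt) := {x | x ∈ octads ∧ none ∈ x ∧ some 0 ∈ x ∧ (hex0 ∩ x).card = 2}
    with hX
  have hbase : ∀ x : Finset GolayPt, (none ∈ x ∧ some 0 ∈ x) ↔ base ⊆ x := by
    intro x
    rw [base, Finset.insert_subset_iff, Finset.singleton_subset_iff]
  have h0b := (hbase hex0).2 isHex0.2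
  have h1b := (hbase hex1).2 isHex1.2
  have hXc : X.ncard = 16 :=
    (Cfsg.Agent.S1604.result none (some 0) (by simp) hex0 hex1 hex1 hex0_mem hex1_mem hex1_mem
      ⟨h0b.1, h1b.1, h1b.1⟩ ⟨h0b.2, h1b.2, h1b.2⟩ rfl).1
  have hXf : X.Finite := Set.toFinite X
  have hmap : ∀ g : K, (g : Equiv.Perm GolayPt) • hex1 ∈ X := by
    intro g
    have hg := hKfix _ g.2
    have h3 : (g : Equiv.Perm GolayPt) • hex0 = hex0 := by
      ext x
      rw [Finset.mem_smul_finset]
      constructor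
      · rintro ⟨y, hy, rfl⟩
        rw [Equiv.Perm.smul_def, hg y hy]
        exact hy
      · intro hx
        exact ⟨x, hx, hg x hx⟩
    refine ⟨(smul_mem_octads g.2.1).2 hex1_mem, ?_, ?_, ?_⟩
    · have := Finset.smul_mem_smul_finset (a := (g : Equiv.Perm GolayPt)) h1b.1
      rwa [Equiv.Perm.smul_def, hg _ h0b.1] at this
    · have := Finset.smul_mem_smul_finset (a := (g : Equiv.Perm GolayPt)) h1b.2
      rwa [Equiv.Perm.smul_def, hg _ h0b.2] at this
    · rw [← hex0_inter_hex1]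
      conv_lhs => rw [← h3]
      rw [← Finset.smul_finset_inter, Finset.card_smul_finset]
  let f : K → X := fun g => ⟨(g : Equiv.Perm GolayPt) • hex1, hmap g⟩
  have hfin : Finite X := hXf
  have hinj : Function.Injective f := by
    intro g h hgh
    have h3 : (g : Equiv.Perm GolayPt) • hex1 = (h : Equiv.Perm GolayPt) • hex1 :=
      congrArg Subtype.val hgh
    apply Subtype.ext
    have h4 : (h : Equiv.Perm GolayPt)⁻¹ * g = 1 := by
      apply fix_hex1 (mul_mem (inv_mem h.2.1) g.2.1)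
      · intro p hp
        rw [Equiv.Perm.mul_apply, hKfix _ g.2 p hp]
        exact M24Frame.inv_apply_eq' (hKfix _ h.2 p hp)
      · rw [mul_smul, h3, inv_smul_smul]
    exact (inv_mul_eq_one.1 h4).symm
  have hcard : Nat.card K = Nat.card X := by
    rw [hKc, Nat.card_coe_set_eq, hXc]
  have hbij := (Nat.bijective_iff_injective_and_card f).2 ⟨hinj, hcard⟩
  have hOX : O ∈ X := ⟨hO.1, ((hbase O).2 hO.2).1, ((hbase O).2 hO.2).2, h2⟩
  obtain ⟨g, hg⟩ := hbij.2 ⟨O, hOX⟩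
  have h3 : (g : Equiv.Perm GolayPt) • hex1 = O := congrArg Subtype.val hg
  refine ⟨(g : Equiv.Perm GolayPt)⁻¹, inv_mem g.2.1, fun p hp => ?_, ?_⟩
  · exact M24Frame.inv_apply_eq' (hKfix _ g.2 p hp)
  · rw [← h3, inv_smul_smul]

end Cfsg.Agent.J4Type.OctHex0
end

-- part: J4Type/FrameY
section
/-!
# J₄ type: the subgroup `Y` of `N_G(E)` (R07)

Elements of `N_G(E hex0)` commuting with `z`, normalising `⟨ρ⟩` and fixing `hex1`:
* `eq_of_E` : those in `E hex0` are `1` and `z`;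
* `exists_Y` : every `g : M24` fixing the sextet of `z` and normalising `⟨π ρ⟩` is the image of
  such an element;
* `π_ρ` : `π ρ = ρ0` or `ρ0⁻¹`.
-/

set_option autoImplicit false

namespace Cfsg.Agent.J4Type.FrameY

open Cfsg Cfsg.Agent.J4Type Cfsg.Agent.J4Type.OctHex0
open Cfsg.Agent.SporadicA.GolayBase
open Cfsg.Agent.SporadicA.GolayPerm hiding pcomp
open Cfsg.Agent.J4Type.CocodeMask Cfsg.Agent.J4Type.SplitData
open scoped Pointwise

variable {G : Type*} [Group G]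

section hex

variable (H : Hex G)

/-- `ρ` as an element of the centraliser -/
def ρC : Subgroup.centralizer ({H.z} : Set G) := ⟨H.ρ, NormE.ρ_mem H.toCent⟩

theorem P_ρ : H.P (ρC H) = 1 :=
  (H.P_ker _).2 ⟨1, H.Q.one_mem, 1, by rw [one_mul, pow_one]; rfl⟩

variable {O : Finset GolayPt}

theorem ρ_mem_N (hO : IsHex O) : H.ρ ∈ Subgroup.normalizer (H.E O : Set G) :=
  (NormE.mem_normalizer_iff H hO (ρC H)).2 (by rw [P_ρ, one_smul])

theorem ρ_sq_ne : H.ρ * H.ρ ≠ 1 := by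
  intro h
  have h1 := orderOf_dvd_of_pow_eq_one (x := H.ρ) (n := 2) (by rw [pow_two]; exact h)
  rw [H.ρ_order] at h1
  omega

theorem ρ_notMem_E (hO : IsHex O) : H.ρ ∉ H.E O := fun h => ρ_sq_ne H ((H.E_elem O hO).1 _ h)

theorem E_le (hO : IsHex O) {a : G} (ha : a ∈ H.E O) : a ∈ Subgroup.centralizer ({H.z} : Set G) := by
  rw [Subgroup.mem_centralizer_singleton_iff]
  exact (H.E_elem O hO).2 a ha H.z (H.z_mem_E O hO)

/-- an element commuting with `ρ` and squaring to one in the kernel of `P` -/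
theorem eq_of_P {a : G} (hc : a ∈ Subgroup.centralizer ({H.z} : Set G)) (ha : a * a = 1)
    (hρ : a * H.ρ = H.ρ * a) (hP : H.P ⟨a, hc⟩ = 1) : a = 1 ∨ a = H.z := by
  obtain ⟨q, hq, i, hi⟩ := (H.P_ker _).1 hP
  have hi' : a = q * H.ρ ^ i := hi
  have hqe : q = a * (H.ρ ^ i)⁻¹ := by rw [hi', mul_inv_cancel_right]
  have hcom : Commute a H.ρ := hρ
  have hqρ : H.ρ * q = q * H.ρ := by
    rw [hqe]
    have h1 : Commute H.ρ a := hcom.symm
    have h2 : Commute H.ρ (H.ρ ^ i)⁻¹ := ((Commute.refl H.ρ).pow_right i).inv_right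
    exact (h1.mul_right h2).eq
  have hz : H.z * H.z = 1 := NormE.z_sq H.toCent
  have hq1 := H.ρ_fix q hq hqρ
  have hqq : q * q = 1 := by
    rcases hq1 with h | h <;> rw [h]
    · exact one_mul 1
    · exact hz
  have hρi : H.ρ ^ i * H.ρ ^ i = 1 := by
    have h1 : Commute q (H.ρ ^ i) := by
      have : Commute q H.ρ := hqρ.symm
      exact this.pow_right i
    have h2 : a * a = (q * q) * (H.ρ ^ i * H.ρ ^ i) := by
      rw [hi', mul_assoc, ← mul_assoc (H.ρ ^ i) q, ← h1.eq, mul_assoc q (H.ρ ^ i), mul_assoc]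
    rw [ha, hqq, one_mul] at h2
    exact h2.symm
  have hρ1 : H.ρ ^ i = 1 := by
    have h3 : (H.ρ ^ i) ^ 3 = 1 := by
      rw [← pow_mul, mul_comm, pow_mul, NormE.ρ_pow_three H.toCent, one_pow]
    rw [pow_succ, pow_two, hρi, one_mul] at h3
    exact h3
  rw [hρ1, mul_one] at hi'
  rw [hi']
  exact hq1

/-- The fixed points of `ρ` in `E O` map onto the pointwise stabiliser of `O`. -/
theorem exists_lift (hO : IsHex O) {g : Equiv.Perm GolayPt} (hg : g ∈ M24) (hfix : ∀ p ∈ O, g p = p) :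
    ∃ v ∈ H.E O, v * H.ρ = H.ρ * v ∧ ∀ hc : v ∈ Subgroup.centralizer ({H.z} : Set G),
      H.P ⟨v, hc⟩ = g := by
  set Fr : Subgroup G := H.E O ⊓ Subgroup.centralizer ({H.ρ} : Set G) with hFr
  have hle : Fr ≤ Subgroup.centralizer ({H.z} : Set G) := fun a ha => E_le H hO ha.1
  set K : Subgroup (Equiv.Perm GolayPt) :=
    M24 ⊓ fixingSubgroup (Equiv.Perm GolayPt) (O : Set GolayPt) with hK
  have hKc : Nat.card K = 16 := (Cfsg.Agent.S0381.result O hO.1).1
  let f : Fr →* Equiv.Perm GolayPt := H.P.comp (Subgroup.inclusion hle)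
  have hrange : f.range ≤ K := by
    rintro _ ⟨a, rfl⟩
    have h1 := (H.E_map O hO (f a)).1 ⟨Subgroup.inclusion hle a, a.2.1, rfl⟩
    exact ⟨h1.1, (mem_fixingSubgroup_iff _).2 fun p hp => h1.2 p hp⟩
  have hker : Nat.card f.ker ≤ 2 := by
    have h1 : f.ker.map Fr.subtype ≤ Subgroup.zpowers H.z := by
      rintro _ ⟨a, ha, rfl⟩
      have h2 := eq_of_P H (hle a.2) ((H.E_elem O hO).1 _ a.2.1)
        (Subgroup.mem_centralizer_singleton_iff.1 a.2.2) ha
      rcases h2 with h | h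
      · rw [Subgroup.subtype_apply, h]; exact Subgroup.one_mem _
      · rw [Subgroup.subtype_apply, h]; exact Subgroup.mem_zpowers _
    have h2 : Nat.card (Subgroup.zpowers H.z) = 2 := by rw [Nat.card_zpowers, H.z_order]
    have hfin : Finite (Subgroup.zpowers H.z) := Nat.finite_of_card_ne_zero (by rw [h2]; norm_num)
    have h3 := Subgroup.card_le_of_le h1
    rwa [h2, Subgroup.card_map_of_injective Fr.subtype_injective] at h3
  have hcard := Subgroup.card_mul_index f.ker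
  rw [Subgroup.index_ker, H.F_card O hO] at hcard
  have hKe : f.range = K := by
    apply Subgroup.eq_of_le_of_card_ge hrange
    rw [hKc]
    by_contra hcon
    have h4 : Nat.card f.range ≤ 15 := by omega
    have h5 : Nat.card f.ker * Nat.card f.range ≤ 2 * 15 := Nat.mul_le_mul hker h4
    omega
  have hgK : g ∈ f.range := by
    rw [hKe]
    exact ⟨hg, (mem_fixingSubgroup_iff _).2 fun p hp => hfix p hp⟩
  obtain ⟨v, hv⟩ := hgK
  exact ⟨v, v.2.1, Subgroup.mem_centralizer_singleton_iff.1 v.2.2, fun _ => hv⟩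

/-- Elements of `E hex0` commuting with `ρ` and fixing `hex1`. -/
theorem eq_of_E {a : G} (ha : a ∈ H.E hex0) (hρ : a * H.ρ = H.ρ * a)
    (h1 : ∀ hc : a ∈ Subgroup.centralizer ({H.z} : Set G), H.P ⟨a, hc⟩ • hex1 = hex1) :
    a = 1 ∨ a = H.z := by
  have hc := E_le H isHex0 ha
  apply eq_of_P H hc ((H.E_elem _ isHex0).1 a ha) hρ
  obtain ⟨h2, h3⟩ := (H.E_map hex0 isHex0 (H.P ⟨a, hc⟩)).1 ⟨⟨a, hc⟩, ha, rfl⟩
  exact fix_hex1 h2 h3 (h1 hc)

/-- Coprime action: two elements of order 3 in `E⟨ρ⟩` with the same image are conjugate. -/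
theorem adjust (hO : IsHex O) {n e r : G} (hr3 : r ^ 3 = 1) (hr : r ∈ Subgroup.normalizer (H.E O : Set G))
    (he : e ∈ H.E O) (hn : n * H.ρ * n⁻¹ = e * r) :
    (r * e * r⁻¹ * n) * H.ρ * (r * e * r⁻¹ * n)⁻¹ = r := by
  have hm : ∀ a ∈ H.E O, r * a * r⁻¹ ∈ H.E O := fun a ha =>
    (Subgroup.mem_normalizer_iff.1 hr a).1 ha
  have hsq := (H.E_elem O hO).1
  have hcm := (H.E_elem O hO).2
  have h1 := hm e he
  have h2 := hm _ h1
  have h3 : (e * r) ^ 3 = 1 := by
    rw [← hn, conj_pow, NormE.ρ_pow_three H.toCent, mul_one, mul_inv_cancel]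
  have h4 : e * (r * e * r⁻¹) * (r * (r * e * r⁻¹) * r⁻¹) = 1 := by
    have : e * (r * e * r⁻¹) * (r * (r * e * r⁻¹) * r⁻¹) = (e * r) ^ 3 * (r ^ 3)⁻¹ := by
      simp only [pow_succ, pow_zero, one_mul]
      group
    rw [this, h3, hr3, inv_one, one_mul]
  set e' := r * e * r⁻¹ with he'
  have h5 : e'⁻¹ = e' := inv_eq_of_mul_eq_one_right (hsq _ h1)
  calc e' * n * H.ρ * (e' * n)⁻¹ = e' * (n * H.ρ * n⁻¹) * e'⁻¹ := by group
    _ = e' * e * (r * e' * r⁻¹) * r := by rw [hn, h5]; group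
    _ = e * e' * (r * e' * r⁻¹) * r := by rw [hcm e' h1 e he]
    _ = r := by rw [h4, one_mul]

end hex

theorem inter_smul {g : Equiv.Perm GolayPt} (h : g • hex0 = hex0) :
    (hex0 ∩ g • hex1).card = 2 := by
  conv_lhs => rw [← h]
  rw [← Finset.smul_finset_inter, Finset.card_smul_finset, hex0_inter_hex1]

section frame

variable (F : Frame G)

/-- `ρ` as an element of the normaliser -/
def ρN : Subgroup.normalizer (F.E hex0 : Set G) := ⟨F.ρ, ρ_mem_N F.toHex isHex0⟩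

theorem even_tet (i : Fin 6) : Even (tet i).card := by revert i; decide +kernel

theorem exists_Y (g : M24) (hz : ∃ j, (g : Equiv.Perm GolayPt) • tet 0 = tet j)
    (hρ : g * F.π (ρN F) * g⁻¹ = F.π (ρN F) ∨ g * F.π (ρN F) * g⁻¹ = (F.π (ρN F))⁻¹) :
    ∃ n : Subgroup.normalizer (F.E hex0 : Set G), F.π n = g ∧ (n : G) * F.z = F.z * n ∧
      (∀ hc : (n : G) ∈ Subgroup.centralizer ({F.z} : Set G), F.P ⟨n, hc⟩ • hex1 = hex1) ∧
      ((n : G) * F.ρ * (n : G)⁻¹ = F.ρ ∨ (n : G) * F.ρ * (n : G)⁻¹ = F.ρ⁻¹) := by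
  obtain ⟨n0, hn0⟩ := F.π_surj g
  obtain ⟨j, hj⟩ := hz
  have hz0 : (n0 : G) * F.z * (n0 : G)⁻¹ = F.z := by
    have h1 := F.π_smul n0 (tet 0) (even_tet 0)
    rwa [hn0, hj, F.ε_tet, F.ε_tet] at h1
  -- the image of `ρ`
  have hr : ∃ r : Subgroup.normalizer (F.E hex0 : Set G), ((r : G) = F.ρ ∨ (r : G) = F.ρ⁻¹) ∧
      F.π (n0 * ρN F * n0⁻¹ * r⁻¹) = 1 := by
    rcases hρ with h | h
    · refine ⟨ρN F, Or.inl rfl, ?_⟩
      rw [map_mul, map_mul, map_mul, map_inv, map_inv, hn0, h, mul_inv_cancel]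
    · refine ⟨(ρN F)⁻¹, Or.inr rfl, ?_⟩
      rw [map_mul, map_mul, map_mul, map_inv, map_inv, map_inv, hn0, h, mul_inv_cancel]
  obtain ⟨r, hr, hre⟩ := hr
  have he := (F.π_ker _).1 hre
  have hr3 : (r : G) ^ 3 = 1 := by
    rcases hr with h | h <;> rw [h]
    · exact NormE.ρ_pow_three F.toCent
    · rw [inv_pow, NormE.ρ_pow_three F.toCent, inv_one]
  have hn : (n0 : G) * F.ρ * (n0 : G)⁻¹ = (n0 * F.ρ * (n0 : G)⁻¹ * (r : G)⁻¹) * r := by group
  have hadj := adjust F.toHex isHex0 hr3 r.2 he hn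
  set e : G := ((n0 * ρN F * n0⁻¹ * r⁻¹ : Subgroup.normalizer (F.E hex0 : Set G)) : G) with hedef
  change ((r : G) * e * (r : G)⁻¹ * n0) * F.ρ * ((r : G) * e * (r : G)⁻¹ * n0)⁻¹ = r at hadj
  have he' : (r : G) * e * (r : G)⁻¹ ∈ F.E hex0 := (Subgroup.mem_normalizer_iff.1 r.2 e).1 he
  set e' : G := (r : G) * e * (r : G)⁻¹ with he'def
  have hEN : F.E hex0 ≤ Subgroup.normalizer (F.E hex0 : Set G) := Subgroup.le_normalizer
  set n1 : Subgroup.normalizer (F.E hex0 : Set G) := ⟨e', hEN he'⟩ * n0 with hn1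
  have hn1G : (n1 : G) = e' * n0 := rfl
  have hn1z : (n1 : G) * F.z = F.z * n1 := by
    have h1 : (n0 : G) * F.z = F.z * n0 := by rw [← mul_inv_eq_iff_eq_mul]; exact hz0
    have h2 := Subgroup.mem_centralizer_singleton_iff.1 (E_le F.toHex isHex0 he')
    rw [hn1G, mul_assoc, h1, ← mul_assoc, h2, mul_assoc]
  have hn1c : (n1 : G) ∈ Subgroup.centralizer ({F.z} : Set G) :=
    Subgroup.mem_centralizer_singleton_iff.2 hn1z
  have hP0 : F.P ⟨n1, hn1c⟩ • hex0 = hex0 :=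
    (NormE.mem_normalizer_iff F.toHex isHex0 ⟨n1, hn1c⟩).1 n1.2
  have hP1 : IsHex (F.P ⟨n1, hn1c⟩ • hex1) := NormE.isHex_P_smul F.toHex _ isHex1
  have hint : (hex0 ∩ F.P ⟨n1, hn1c⟩ • hex1).card = 2 := inter_smul hP0
  obtain ⟨g', hg', hfix, hmove⟩ := exists_move hP1 hint
  obtain ⟨v, hv, hvρ, hvP⟩ := exists_lift F.toHex isHex0 hg' hfix
  refine ⟨⟨v, hEN hv⟩ * n1, ?_, ?_, ?_, ?_⟩
  · rw [map_mul, hn1, map_mul, hn0, (F.π_ker ⟨v, hEN hv⟩).2 hv, (F.π_ker ⟨e', hEN he'⟩).2 he',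
      one_mul, one_mul]
  · have h2 := Subgroup.mem_centralizer_singleton_iff.1 (E_le F.toHex isHex0 hv)
    show v * n1 * F.z = F.z * (v * n1)
    rw [mul_assoc, hn1z, ← mul_assoc, h2, mul_assoc]
  · intro hc
    have h1 : (⟨((⟨v, hEN hv⟩ * n1 : Subgroup.normalizer (F.E hex0 : Set G)) : G), hc⟩ :
        Subgroup.centralizer ({F.z} : Set G)) = ⟨v, E_le F.toHex isHex0 hv⟩ * ⟨n1, hn1c⟩ := rfl
    rw [h1, map_mul, mul_smul, hvP, hmove]
  · have h1 : ((⟨v, hEN hv⟩ * n1 : Subgroup.normalizer (F.E hex0 : Set G)) : G) * F.ρ *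
        ((⟨v, hEN hv⟩ * n1 : Subgroup.normalizer (F.E hex0 : Set G)) : G)⁻¹ =
        v * ((e' * n0) * F.ρ * (e' * n0)⁻¹) * v⁻¹ := by
      show v * n1 * F.ρ * (v * n1)⁻¹ = _
      rw [hn1G]
      group
    rw [h1, hadj]
    have hvc : Commute v F.ρ := hvρ
    rcases hr with h | h
    · left
      rw [h, hvρ, mul_inv_cancel_right]
    · right
      rw [h, hvc.inv_right.eq, mul_inv_cancel_right]

/-- An element of `M24` fixing the points `mog i 0` and `mog 0 1` is trivial. -/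
theorem rigid {h : M24} (h0 : ∀ i, (h : Equiv.Perm GolayPt) (mog i 0) = mog i 0)
    (h1 : (h : Equiv.Perm GolayPt) (mog 0 1) = mog 0 1) : h = 1 := by
  apply Subtype.ext
  have hO : (gset [0, 1, 2, 3, 4, 7, 10, 12]) ∈ octads := by
    have h : gset [0, 1, 2, 3, 4, 7, 10, 12] = fin 5279 := by decide +kernel
    rw [h]
    exact SporadicStructure.M24Frame.fin_mem_octads_of_isOct (by decide +kernel)
  refine SporadicStructure.M24Frame.eq_one_of_fix_frame h.2 hO
    (s := {mog 1 0, mog 2 0, mog 3 0, mog 4 0, mog 5 0, mog 0 1}) (by decide +kernel)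
    (by decide +kernel) ?_ (p := mog 0 0) (by decide +kernel) (h0 0)
  intro z hz
  simp only [Finset.mem_insert, Finset.mem_singleton] at hz
  rcases hz with rfl | rfl | rfl | rfl | rfl | rfl
  · exact h0 1
  · exact h0 2
  · exact h0 3
  · exact h0 4
  · exact h0 5
  · exact h1

theorem apply_tab {g : M24} {P : ℕ} (hg : IsTab g P) {p q : GolayPt}
    (h : papp P (idx p) = idx q) : (g : Equiv.Perm GolayPt) p = q :=
  idx_injective ((hg p).trans h)

theorem ρ0_fix (i : Fin 6) : (ρ0 : Equiv.Perm GolayPt) (mog i 0) = mog i 0 :=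
  apply_tab tab_ρ (by revert i; decide +kernel)

/-- `π ρ` is `ρ0` or its inverse. -/
theorem π_ρ : F.π (ρN F) = ρ0 ∨ F.π (ρN F) = ρ0⁻¹ := by
  obtain ⟨h0, ht⟩ : (∀ i, (F.π (ρN F) : Equiv.Perm GolayPt) (mog i 0) = mog i 0) ∧
      (F.π (ρN F) : Equiv.Perm GolayPt) • tet 0 = tet 0 :=
    ⟨fun i => (F.ρ_tet (ρN F) rfl i).1, (F.ρ_tet (ρN F) rfl 0).2⟩
  set g := F.π (ρN F) with hg
  have hq : (g : Equiv.Perm GolayPt) (mog 0 1) ∈ tet 0 := by
    rw [← ht]
    exact Finset.smul_mem_smul_finset (a := (g : Equiv.Perm GolayPt)) (by decide +kernel)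
  have hq0 : (g : Equiv.Perm GolayPt) (mog 0 1) ≠ mog 0 0 := by
    intro h
    rw [← h0 0] at h
    exact absurd ((g : Equiv.Perm GolayPt).injective h) (by decide +kernel)
  have hcases : ∀ q : GolayPt, q ∈ tet 0 → q ≠ mog 0 0 → q = mog 0 1 ∨
      q = mog 0 2 ∨ q = mog 0 3 := by decide +kernel
  have hinv : ∀ (a : M24) (p q : GolayPt), (a : Equiv.Perm GolayPt) p = q →
      ((a⁻¹ : M24) : Equiv.Perm GolayPt) q = p := by
    intro a p q h
    exact SporadicStructure.M24Frame.inv_apply_eq' h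
  have e1 : (ρ0 : Equiv.Perm GolayPt) (mog 0 1) = mog 0 2 := apply_tab tab_ρ (by decide +kernel)
  have e2 : (ρ0 : Equiv.Perm GolayPt) (mog 0 3) = mog 0 1 := apply_tab tab_ρ (by decide +kernel)
  rcases hcases _ hq hq0 with h | h | h
  · exfalso
    have h1 := rigid h0 h
    exact ρ_notMem_E F.toHex isHex0 ((F.π_ker (ρN F)).1 h1)
  · left
    have h1 : ρ0⁻¹ * g = 1 := by
      apply rigid
      · intro i
        show ((ρ0⁻¹ : M24) : Equiv.Perm GolayPt) ((g : Equiv.Perm GolayPt) (mog i 0)) = _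
        rw [h0 i]
        exact hinv _ _ _ (ρ0_fix i)
      · show ((ρ0⁻¹ : M24) : Equiv.Perm GolayPt) ((g : Equiv.Perm GolayPt) (mog 0 1)) = _
        rw [h]
        exact hinv _ _ _ e1
    exact (inv_mul_eq_one.1 h1).symm
  · right
    have h1 : ρ0 * g = 1 := by
      apply rigid
      · intro i
        show (ρ0 : Equiv.Perm GolayPt) ((g : Equiv.Perm GolayPt) (mog i 0)) = _
        rw [h0 i]
        exact ρ0_fix i
      · show (ρ0 : Equiv.Perm GolayPt) ((g : Equiv.Perm GolayPt) (mog 0 1)) = _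
        rw [h]
        exact e2
    exact eq_inv_of_mul_eq_one_right h1

/-! ### The generators `s0`, `t0` -/

theorem pi_norm {g : M24} (h : g * ρ0 * g⁻¹ = ρ0 ∨ g * ρ0 * g⁻¹ = ρ0⁻¹) :
    g * F.π (ρN F) * g⁻¹ = F.π (ρN F) ∨ g * F.π (ρN F) * g⁻¹ = (F.π (ρN F))⁻¹ := by
  have h2 : g * ρ0⁻¹ * g⁻¹ = (g * ρ0 * g⁻¹)⁻¹ := by group
  rcases π_ρ F with h1 | h1 <;> rw [h1]
  · exact h
  · rw [h2]
    rcases h with h | h <;> rw [h]
    · exact Or.inl rfl
    · exact Or.inr rfl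

/-- the inverse of `Tρ` -/
def Tρ' : ℕ := pcomp Tρ Tρ

theorem tab_ρ' : IsTab ρ0⁻¹ Tρ' := by
  have h : ρ0⁻¹ = ρ0 * ρ0 := by
    rw [inv_eq_iff_mul_eq_one]
    exact ((tab_ρ.mul (tab_ρ.mul tab_ρ)).eq (by
      have h1 : pcomp Tρ (pcomp Tρ Tρ) = pone := by decide +kernel
      rw [h1]
      exact isTab_one))
  rw [h]
  exact tab_ρ.mul tab_ρ

theorem norm_of_tab {g : M24} {P : ℕ} (hg : IsTab g P)
    (h : pcomp P Tρ = pcomp Tρ P ∨ pcomp P Tρ = pcomp Tρ' P) :
    g * ρ0 * g⁻¹ = ρ0 ∨ g * ρ0 * g⁻¹ = ρ0⁻¹ := by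
  rcases h with h | h
  · left
    rw [mul_inv_eq_iff_eq_mul]
    have h1 := hg.mul tab_ρ
    rw [h] at h1
    exact h1.eq (tab_ρ.mul hg)
  · right
    rw [mul_inv_eq_iff_eq_mul]
    have h1 := hg.mul tab_ρ
    rw [h] at h1
    exact h1.eq (tab_ρ'.mul hg)

/-- tetrads by indices -/
theorem smul_tet {g : M24} {P : ℕ} (hg : IsTab g P) (i j : Fin 6)
    (h : ∀ c : Fin 4, ∃ d : Fin 4, papp P (idx (mog i c)) = idx (mog j d)) :
    (g : Equiv.Perm GolayPt) • tet i = tet j := by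
  have hc : ∀ k, (tet k).card = 4 := by decide +kernel
  apply Finset.eq_of_subset_of_card_le
  · intro x hx
    obtain ⟨y, hy, rfl⟩ := Finset.mem_smul_finset.1 hx
    obtain ⟨c, -, rfl⟩ := Finset.mem_image.1 hy
    obtain ⟨d, hd⟩ := h c
    rw [Equiv.Perm.smul_def, apply_tab hg hd]
    exact Finset.mem_image.2 ⟨d, Finset.mem_univ _, rfl⟩
  · rw [Finset.card_smul_finset, hc, hc]

theorem s0_norm : s0 * ρ0 * s0⁻¹ = ρ0 ∨ s0 * ρ0 * s0⁻¹ = ρ0⁻¹ :=
  norm_of_tab tab_s (by decide +kernel)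

theorem t0_norm : t0 * ρ0 * t0⁻¹ = ρ0 ∨ t0 * ρ0 * t0⁻¹ = ρ0⁻¹ :=
  norm_of_tab tab_t (by decide +kernel)

theorem s0_tet : (s0 : Equiv.Perm GolayPt) • tet 0 = tet 1 :=
  smul_tet tab_s 0 1 (by decide +kernel)

theorem t0_tet : (t0 : Equiv.Perm GolayPt) • tet 0 = tet 1 :=
  smul_tet tab_t 0 1 (by decide +kernel)

theorem exists_s : ∃ n : Subgroup.normalizer (F.E hex0 : Set G), F.π n = s0 ∧
    (n : G) * F.z = F.z * n ∧
    (∀ hc : (n : G) ∈ Subgroup.centralizer ({F.z} : Set G), F.P ⟨n, hc⟩ • hex1 = hex1) ∧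
    ((n : G) * F.ρ * (n : G)⁻¹ = F.ρ ∨ (n : G) * F.ρ * (n : G)⁻¹ = F.ρ⁻¹) :=
  exists_Y F s0 ⟨1, s0_tet⟩ (pi_norm F s0_norm)

theorem exists_t : ∃ n : Subgroup.normalizer (F.E hex0 : Set G), F.π n = t0 ∧
    (n : G) * F.z = F.z * n ∧
    (∀ hc : (n : G) ∈ Subgroup.centralizer ({F.z} : Set G), F.P ⟨n, hc⟩ • hex1 = hex1) ∧
    ((n : G) * F.ρ * (n : G)⁻¹ = F.ρ ∨ (n : G) * F.ρ * (n : G)⁻¹ = F.ρ⁻¹) :=
  exists_Y F t0 ⟨1, t0_tet⟩ (pi_norm F t0_norm)

end frame

end Cfsg.Agent.J4Type.FrameY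
end

-- part: J4Type/FrameRr0
section
/-!
# The elements of `R` are the column translations (R07 (d), helper523)

* `R_col` : `π r` fixes the columns for `r ∈ R`;
* `exists_Tr` : `π r` acts on each column as a translation of `F_4`;
* `eq_one` : an element of `M24` acting as a translation on each column and fixing three of the
  points `mog i 0` is trivial;
* `R_r0` : `r0 ∈ π R`.
-/

set_option autoImplicit false

namespace Cfsg.Agent.J4Type.FrameRr0

open Cfsg Cfsg.Agent.SporadicA.GolayBase Cfsg.Agent.SporadicA.GolayPerm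
open Cfsg.Agent.J4Type.CocodeMask Cfsg.Agent.J4Type.CocodeExt Cfsg.Agent.J4Type.SplitData
open Cfsg.Agent.J4Type.FrameDefs Cfsg.Agent.J4Type.HexMax
open Cfsg.Agent.J4Type.DuadStab (card_symmDiff_parity)
open scoped Pointwise

/-! ### Columns and rows -/

/-- the column of a point -/
def cl (p : GolayPt) : Fin 6 := ⟨col (idx p) % 6, Nat.mod_lt _ (by norm_num)⟩

/-- the row of a point -/
def row (p : GolayPt) : Fin 4 :=
  ⟨(65826359743545 >>> (2 * idx p)) % 4, Nat.mod_lt _ (by norm_num)⟩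

theorem col_eq : ∀ p : GolayPt, col (idx p) = (cl p : ℕ) := by decide +kernel

theorem mog_cl_row : ∀ p : GolayPt, mog (cl p) (row p) = p := by decide +kernel

theorem cl_mog : ∀ (i : Fin 6) (x : Fin 4), cl (mog i x) = i := by decide +kernel

theorem row_mog : ∀ (i : Fin 6) (x : Fin 4), row (mog i x) = x := by decide +kernel

theorem mog_inj {i : Fin 6} {x y : Fin 4} : mog i x = mog i y ↔ x = y :=
  ⟨fun h => by rw [← row_mog i x, h, row_mog], fun h => by rw [h]⟩

theorem mem_tet {p : GolayPt} {i : Fin 6} : p ∈ tet i ↔ cl p = i := by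
  unfold tet
  rw [Finset.mem_image]
  constructor
  · rintro ⟨x, -, rfl⟩
    exact cl_mog i x
  · rintro rfl
    exact ⟨row p, Finset.mem_univ _, mog_cl_row p⟩

theorem card_tet (i : Fin 6) : (tet i).card = 4 := by
  unfold tet
  rw [Finset.card_image_of_injective _ fun x y h => mog_inj.1 h]
  rfl

theorem comb : ∀ a b c d : Fin 6, a ≠ c → b ≠ a → b ≠ c →
    ¬ ((∀ i : Fin 6, ((if a = i then 1 else 0) + (if b = i then 1 else 0) +
        ((if c = i then 1 else 0) + (if d = i then 1 else 0))) % 2 = 0) ∨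
      (∀ i : Fin 6, ((if a = i then 1 else 0) + (if b = i then 1 else 0) +
        ((if c = i then 1 else 0) + (if d = i then 1 else 0))) % 2 = 1)) := by
  decide +kernel

theorem card_inter_pair (p q : GolayPt) (i : Fin 6) :
    (symmDiff {p} {q} ∩ tet i : Finset GolayPt).card % 2 =
      ((if cl p = i then 1 else 0) + (if cl q = i then 1 else 0)) % 2 := by
  have h : (symmDiff {p} {q} ∩ tet i : Finset GolayPt) = symmDiff ({p} ∩ tet i) ({q} ∩ tet i) :=
    inf_symmDiff_distrib_right _ _ _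
  have h1 : ∀ p : GolayPt, ({p} ∩ tet i : Finset GolayPt).card = if cl p = i then 1 else 0 := by
    intro p
    by_cases hp : p ∈ tet i
    · rw [Finset.singleton_inter_of_mem hp, Finset.card_singleton, if_pos (mem_tet.1 hp)]
    · rw [Finset.singleton_inter_of_notMem hp, Finset.card_empty,
        if_neg fun h => hp (mem_tet.2 h)]
  rw [h, card_symmDiff_parity, h1, h1]

theorem card_inter_four (p q r s : GolayPt) (i : Fin 6) :
    (symmDiff (symmDiff {p} {q}) (symmDiff {r} {s}) ∩ tet i : Finset GolayPt).card % 2 =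
      ((if cl p = i then 1 else 0) + (if cl q = i then 1 else 0) +
        ((if cl r = i then 1 else 0) + (if cl s = i then 1 else 0))) % 2 := by
  have h : (symmDiff (symmDiff {p} {q}) (symmDiff {r} {s}) ∩ tet i : Finset GolayPt) =
      symmDiff (symmDiff {p} {q} ∩ tet i) (symmDiff {r} {s} ∩ tet i) :=
    inf_symmDiff_distrib_right _ _ _
  rw [h, card_symmDiff_parity, Nat.add_mod, card_inter_pair, card_inter_pair, ← Nat.add_mod]

/-! ### Commutators -/

section

variable {G : Type*} [Group G] (F : Frame G)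

theorem comm_eq (r : NE F) {S : Finset GolayPt} (hS : Even S.card) :
    F.ε (symmDiff S ((F.π r : Equiv.Perm GolayPt) • S)) =
      F.ε S * ((r : G) * F.ε S * (r : G)⁻¹) := by
  have hS' : Even ((F.π r : Equiv.Perm GolayPt) • S).card := by
    rw [Finset.card_smul_finset]; exact hS
  rw [F.ε_mul _ _ hS hS', ← F.π_smul r S hS]

theorem comm_mem_Q {r : NE F} (hr : (r : G) ∈ F.Q) {S : Finset GolayPt} (hS : Even S.card) :
    F.ε (symmDiff S ((F.π r : Equiv.Perm GolayPt) • S)) ∈ F.Q := by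
  rw [comm_eq F r hS]
  have hz : F.ε S * F.z = F.z * F.ε S :=
    (F.E_elem hex0 hex0_isHex).2 _ (F.ε_mem S hS) _ (F.z_mem_E hex0 hex0_isHex)
  have h1 := F.Q_conj (F.ε S) hz _ hr
  have h2 : (F.ε S)⁻¹ = F.ε S := inv_eq_of_mul_eq_one_right (ε_sq F hS)
  rw [h2] at h1
  have h3 := F.Q.mul_mem h1 (F.Q.inv_mem hr)
  have h4 : F.ε S * ((r : G) * F.ε S * (r : G)⁻¹) = F.ε S * (r : G) * F.ε S * (r : G)⁻¹ := by group
  rw [h4]
  exact h3

/-- `R` fixes the columns. -/
theorem R_cl {r : NE F} (hr : r ∈ R F) (p : GolayPt) :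
    cl ((F.π r : Equiv.Perm GolayPt) p) = cl p := by
  by_contra hne
  obtain ⟨b, hb1, hb2⟩ : ∃ b : Fin 6, b ≠ cl p ∧ b ≠ cl ((F.π r : Equiv.Perm GolayPt) p) := by
    have h : ∀ a c : Fin 6, ∃ b, b ≠ a ∧ b ≠ c := by decide
    exact h _ _
  have hrQ : (r : G) ∈ F.Q := ((mem_R F).1 hr).2.1
  have h1 := comm_mem_Q F hrQ (even_pair p (mog b 0))
  rw [smul_symmDiff] at h1
  have h2 := (F.A_iff _ (even_symmDiff (even_pair _ _) (even_pair _ _))).1 h1
  apply comb (cl p) b (cl ((F.π r : Equiv.Perm GolayPt) p))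
    (cl ((F.π r : Equiv.Perm GolayPt) (mog b 0))) (fun h => hne h.symm) hb1 hb2
  have h3 : ∀ i, _ := fun i => card_inter_four p (mog b 0) ((F.π r : Equiv.Perm GolayPt) p)
    ((F.π r : Equiv.Perm GolayPt) (mog b 0)) i
  simp only [cl_mog] at h3
  rcases h2 with h2 | h2
  · left
    intro i
    rw [← h3 i]
    exact Nat.even_iff.1 (h2 i)
  · right
    intro i
    rw [← h3 i]
    exact Nat.odd_iff.1 (h2 i)

theorem R_col : ∀ r ∈ R F, ∀ p : GolayPt,
    col (idx ((F.π r : Equiv.Perm GolayPt) p)) = col (idx p) := by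
  intro r hr p
  rw [col_eq, col_eq, R_cl F hr]

/-! ### Translations -/

theorem eq_empty_of_isCode {S : Finset GolayPt} {i : Fin 6} (hS : S ⊆ tet i) (h : IsCode S) :
    S = ∅ := by
  have h1 := Finset.card_le_card hS
  rw [card_tet] at h1
  rw [← Finset.card_eq_zero]
  rcases card_of_mem_supports h with h | h | h | h | h <;> omega

/-- duads of a column go to themselves or to their complements in the column -/
theorem duad {r : NE F} (hr : r ∈ R F) (i : Fin 6) (x y : Fin 4) :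
    (symmDiff (symmDiff {mog i x} {mog i y})
        (symmDiff {(F.π r : Equiv.Perm GolayPt) (mog i x)}
          {(F.π r : Equiv.Perm GolayPt) (mog i y)}) : Finset GolayPt) = ∅ ∨
      (symmDiff (symmDiff {mog i x} {mog i y})
        (symmDiff {(F.π r : Equiv.Perm GolayPt) (mog i x)}
          {(F.π r : Equiv.Perm GolayPt) (mog i y)}) : Finset GolayPt) = tet i := by
  have hrQ : (r : G) ∈ F.Q := ((mem_R F).1 hr).2.1
  have hS := even_pair (mog i x) (mog i y)
  have h1 : F.ε (symmDiff {mog i x} {mog i y}) ∈ F.Q := by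
    rw [F.A_iff _ hS]
    left
    intro j
    rw [Nat.even_iff, card_inter_pair, cl_mog, cl_mog]
    split_ifs <;> rfl
  have h2 := comm_eq F r hS
  rw [smul_symmDiff] at h2
  set S : Finset GolayPt := symmDiff {mog i x} {mog i y} with hSdef
  set T : Finset GolayPt := symmDiff {(F.π r : Equiv.Perm GolayPt) (mog i x)}
    {(F.π r : Equiv.Perm GolayPt) (mog i y)} with hTdef
  have hT : Even T.card := even_pair _ _
  have hsub : symmDiff S T ⊆ tet i := by
    intro p hp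
    rw [mem_tet]
    simp only [hSdef, hTdef, Finset.mem_symmDiff, Finset.mem_singleton] at hp
    rcases hp with ⟨⟨rfl, -⟩ | ⟨rfl, -⟩, -⟩ | ⟨⟨rfl, -⟩ | ⟨rfl, -⟩, -⟩
    · exact cl_mog _ _
    · exact cl_mog _ _
    · rw [R_cl F hr, cl_mog]
    · rw [R_cl F hr, cl_mog]
  have hST := even_symmDiff hS hT
  have htet : Even (tet i).card := by rw [card_tet]; exact ⟨2, rfl⟩
  rcases F.Q_comm _ hrQ _ h1 with h3 | h3
  · left
    apply eq_empty_of_isCode hsub
    rw [← F.ε_ker _ hST, h2, h3, mul_inv_cancel_right]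
    exact ε_sq F hS
  · right
    have h4 : F.ε (symmDiff S T) = F.z := by
      have hz : F.ε S * F.z = F.z * F.ε S :=
        (F.E_elem hex0 hex0_isHex).2 _ (F.ε_mem S hS) _ (F.z_mem_E hex0 hex0_isHex)
      rw [h2, h3]
      calc F.ε S * (F.z * (F.ε S * (r : G)) * (r : G)⁻¹) = F.ε S * F.z * F.ε S := by group
        _ = F.z * (F.ε S * F.ε S) := by rw [hz]; group
        _ = F.z := by rw [ε_sq F hS, mul_one]
    have h5 : F.ε (symmDiff (symmDiff S T) (tet i)) = 1 := by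
      rw [F.ε_mul _ _ hST htet, h4, F.ε_tet]
      exact zz F.toCent
    have h6 : symmDiff (symmDiff S T) (tet i) = ∅ := by
      apply eq_empty_of_isCode (i := i)
      · intro p hp
        rw [Finset.mem_symmDiff] at hp
        rcases hp with ⟨h, -⟩ | ⟨h, -⟩
        · exact hsub h
        · exact h
      · exact (F.ε_ker _ (even_symmDiff hST htet)).1 h5
    exact symmDiff_eq_bot.1 h6

/-- membership in the symmetric difference of two duads of a column -/
def W (x y a b w : Fin 4) : Bool :=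
  (decide (w = x) ^^ decide (w = y)) ^^ (decide (w = a) ^^ decide (w = b))

theorem prop4 (p q r s : Prop) [Decidable p] [Decidable q] [Decidable r] [Decidable s] :
    (((p ∧ ¬q ∨ q ∧ ¬p) ∧ ¬(r ∧ ¬s ∨ s ∧ ¬r)) ∨ ((r ∧ ¬s ∨ s ∧ ¬r) ∧ ¬(p ∧ ¬q ∨ q ∧ ¬p))) ↔
      ((decide p ^^ decide q) ^^ (decide r ^^ decide s)) = true := by
  by_cases p <;> by_cases q <;> by_cases r <;> by_cases s <;> simp [*]

theorem mem_iff_W (i : Fin 6) (x y a b w : Fin 4) :
    mog i w ∈ (symmDiff (symmDiff {mog i x} {mog i y}) (symmDiff {mog i a} {mog i b}) :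
      Finset GolayPt) ↔ W x y a b w = true := by
  simp only [Finset.mem_symmDiff, Finset.mem_singleton, mog_inj, W]
  exact prop4 _ _ _ _

theorem W_spec : ∀ s0 s1 s2 s3 : Fin 4,
    (∀ x y : Fin 4, x ≠ y →
      (∀ w, W x y (![s0, s1, s2, s3] x) (![s0, s1, s2, s3] y) w = false) ∨
      (∀ w, W x y (![s0, s1, s2, s3] x) (![s0, s1, s2, s3] y) w = true)) →
    ∀ x, ![s0, s1, s2, s3] x = x ^^^ s0 := by
  decide +kernel

/-- acting on the columns as the translations by the coordinates of `h` -/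
def Tr (g : Equiv.Perm GolayPt) (h : Fin 6 → Fin 4) : Prop :=
  ∀ (i : Fin 6) (x : Fin 4), g (mog i x) = mog i (x ^^^ h i)

theorem xor_assoc4 : ∀ a b c : Fin 4, (a ^^^ b) ^^^ c = a ^^^ (b ^^^ c) := by decide

theorem Tr.mul {g g' : Equiv.Perm GolayPt} {h h' : Fin 6 → Fin 4} (hg : Tr g h) (hg' : Tr g' h') :
    Tr (g * g') (fun i => h' i ^^^ h i) := by
  intro i x
  rw [Equiv.Perm.mul_apply, hg', hg, xor_assoc4]

theorem exists_Tr {r : NE F} (hr : r ∈ R F) :
    Tr (F.π r : Equiv.Perm GolayPt) (fun i => row ((F.π r : Equiv.Perm GolayPt) (mog i 0))) := by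
  intro i x
  set g := (F.π r : Equiv.Perm GolayPt) with hg
  have h1 : ∀ x, g (mog i x) = mog i (row (g (mog i x))) := by
    intro x
    conv_lhs => rw [← mog_cl_row (g (mog i x))]
    rw [R_cl F hr, cl_mog]
  have h2 : (fun x => row (g (mog i x))) = ![row (g (mog i 0)), row (g (mog i 1)),
      row (g (mog i 2)), row (g (mog i 3))] := by
    funext x
    fin_cases x <;> rfl
  have h3 := W_spec (row (g (mog i 0))) (row (g (mog i 1))) (row (g (mog i 2))) (row (g (mog i 3)))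
  rw [← h2] at h3
  have h4 := h3 ?_ x
  · rw [h1 x]
    exact congrArg (mog i) h4
  · intro x y _
    rcases duad F hr i x y with h5 | h5
    · left
      intro w
      rw [← hg, h1 x, h1 y] at h5
      have h6 := mem_iff_W i x y (row (g (mog i x))) (row (g (mog i y))) w
      rw [h5] at h6
      by_contra hne
      rw [Bool.not_eq_false] at hne
      exact absurd (h6.2 hne) (Finset.notMem_empty _)
    · right
      intro w
      rw [← hg, h1 x, h1 y] at h5
      have h6 := mem_iff_W i x y (row (g (mog i x))) (row (g (mog i y))) w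
      rw [h5, mem_tet, cl_mog] at h6
      exact h6.1 rfl

/-! ### The tables -/

/-- the translation by `(0,0,0,a,b,c)` -/
def T (a b c : Fin 4) : ℕ :=
  pack ((List.range 24).map fun n => (843072092996674255455723835326792727 >>>
    (5 * (4 * (col n) + (((65826359743545 >>> (2 * n)) % 4) ^^^
      ((64 * (a : ℕ) + 256 * (b : ℕ) + 1024 * (c : ℕ)) >>> (2 * col n)) % 4)))) % 32)

theorem T_spec : ∀ a b c : Fin 4, isPerm (T a b c) = true ∧
    (isAut (T a b c) = true → a = 0 ∧ b = 0 ∧ c = 0) := by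
  decide +kernel

theorem T_app : ∀ (a b c : Fin 4) (i : Fin 6) (x : Fin 4), papp (T a b c) (idx (mog i x)) =
    idx (mog i (x ^^^ (![0, 0, 0, a, b, c] i))) := by
  decide +kernel

theorem eq_one {g : Equiv.Perm GolayPt} (hg : g ∈ M24) {h : Fin 6 → Fin 4} (ht : Tr g h)
    (h0 : h 0 = 0) (h1 : h 1 = 0) (h2 : h 2 = 0) : g = 1 := by
  have hh : h = ![0, 0, 0, h 3, h 4, h 5] := by
    funext i
    fin_cases i
    · exact h0
    · exact h1
    · exact h2
    · rfl
    · rfl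
    · rfl
  obtain ⟨hP, hA⟩ := T_spec (h 3) (h 4) (h 5)
  have hgP : g = permOf (T (h 3) (h 4) (h 5)) hP := by
    apply Equiv.ext
    intro p
    apply idx_injective
    rw [idx_permOf]
    conv_lhs => rw [← mog_cl_row p]
    conv_rhs => rw [← mog_cl_row p]
    rw [T_app, ht, ← hh]
  obtain ⟨h3, h4, h5⟩ := hA (isAut_of_mem_M24 hP (hgP ▸ hg))
  apply Equiv.ext
  intro p
  have h6 : h (cl p) = 0 := by
    have : ∀ i, h i = 0 := by
      intro i
      rw [hh, h3, h4, h5]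
      fin_cases i <;> rfl
    exact this _
  have h7 : ∀ x : Fin 4, x ^^^ 0 = x := by decide
  have h8 := ht (cl p) (row p)
  rw [h6, h7, mog_cl_row] at h8
  rw [h8]
  rfl

theorem Tr_r0 : Tr (r0 : Equiv.Perm GolayPt) ![0, 0, 1, 1, 2, 3] := by
  intro i x
  apply idx_injective
  rw [tab_r]
  have h : ∀ (i : Fin 6) (x : Fin 4), papp SplitData.Tr (idx (mog i x)) =
    idx (mog i (x ^^^ (![0, 0, 1, 1, 2, 3] i))) := by decide +kernel
  exact h i x

theorem xor_self4 : ∀ a : Fin 4, a ^^^ a = 0 := by decide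

/-- elements of `M24` acting by translations on the columns are determined by three coordinates,
and are involutions -/
theorem eq_of_Tr {g g' : M24} {h h' : Fin 6 → Fin 4} (ht : Tr (g : Equiv.Perm GolayPt) h)
    (ht' : Tr (g' : Equiv.Perm GolayPt) h') (h0 : h 0 = h' 0) (h1 : h 1 = h' 1)
    (h2 : h 2 = h' 2) : g = g' := by
  have e1 : g * g' = 1 := by
    apply Subtype.ext
    exact eq_one (g * g').2 (ht.mul ht') (by simp only [h0, xor_self4])
      (by simp only [h1, xor_self4]) (by simp only [h2, xor_self4])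
  have e2 : g' * g' = 1 := by
    apply Subtype.ext
    exact eq_one (g' * g').2 (ht'.mul ht') (by simp only [xor_self4])
      (by simp only [xor_self4]) (by simp only [xor_self4])
  exact mul_right_cancel (e1.trans e2.symm)

/-- `r0 ∈ π R` -/
theorem R_r0 (hker : ∀ r ∈ R F, F.π r = 1 → r = 1) (hcard : Nat.card (R F) = 64) :
    ∃ r ∈ R F, F.π r = r0 := by
  let φ : R F → Fin 4 × Fin 4 × Fin 4 := fun r =>
    (row ((F.π (r : NE F) : Equiv.Perm GolayPt) (mog 0 0)),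
      row ((F.π (r : NE F) : Equiv.Perm GolayPt) (mog 1 0)),
      row ((F.π (r : NE F) : Equiv.Perm GolayPt) (mog 2 0)))
  have hφ : Function.Injective φ := by
    rintro ⟨r, hr⟩ ⟨r', hr'⟩ h
    have h1 := congrArg Prod.fst h
    have h2 := congrArg (fun x => x.2.1) h
    have h3 := congrArg (fun x => x.2.2) h
    have h4 : F.π r = F.π r' := eq_of_Tr (exists_Tr F hr) (exists_Tr F hr') h1 h2 h3
    have h5 : r * r'⁻¹ = 1 :=
      hker _ (mul_mem hr (inv_mem hr')) (by rw [map_mul, map_inv, h4, mul_inv_cancel])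
    exact Subtype.ext (mul_inv_eq_one.1 h5)
  have hφ' : Function.Bijective φ := by
    apply hφ.bijective_of_nat_card_le
    rw [hcard, Nat.card_eq_fintype_card]
    rfl
  obtain ⟨⟨r, hr⟩, h⟩ := hφ'.2 (0, 0, 1)
  refine ⟨r, hr, ?_⟩
  have h1 := congrArg Prod.fst h
  have h2 := congrArg (fun x => x.2.1) h
  have h3 := congrArg (fun x => x.2.2) h
  exact eq_of_Tr (exists_Tr F hr) Tr_r0 h1 h2 h3

end

end Cfsg.Agent.J4Type.FrameRr0
end

-- part: J4Type/FrameInput
section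
/-!
# J₄ type: `Frame` gives the input of the splitting theorem (R07 (d))
-/

set_option autoImplicit false

namespace Cfsg.Agent.J4Type.FrameInput

open Cfsg Cfsg.Agent.SporadicA.GolayBase
open Cfsg.Agent.SporadicA.GolayPerm hiding pcomp
open Cfsg.Agent.J4Type.CocodeMask Cfsg.Agent.J4Type.CocodeExt Cfsg.Agent.J4Type.SplitData
open Cfsg.Agent.J4Type.FrameDefs
open scoped Pointwise

variable {G : Type*} [Group G] (F : Frame G)

theorem ρN_eq : FrameY.ρN F = rho F := rfl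

/-- `z` in the normaliser -/
theorem c_zm : (c F zm : G) = F.z := by
  rw [c_coe F ev_zm]
  have h1 : Even (fin (zm <<< 12)).card := by decide +kernel
  have h2 : Even (tet 0).card := FrameY.even_tet 0
  have h3 : IsCode (symmDiff (fin (zm <<< 12)) (tet 0)) := by
    have h : symmDiff (fin (zm <<< 12)) (tet 0) = fin 5902343 := by decide +kernel
    rw [h]
    exact (fin_mem_supports_iff (by norm_num)).2 (by decide +kernel)
  have h4 : F.ε (symmDiff (fin (zm <<< 12)) (tet 0)) = 1 := by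
    refine (F.ε_ker _ ?_).2 h3
    decide +kernel
  rw [F.ε_mul _ _ h1 h2, F.ε_tet] at h4
  have h5 : F.z * F.z = 1 := NormE.z_sq F.toCent
  rw [← h5] at h4
  exact mul_right_cancel h4

theorem Y_ker : ∀ y ∈ Y F, F.π y = 1 → y = 1 ∨ y = c F zm := by
  intro y hy h1
  obtain ⟨hC, hP, hρ⟩ := (mem_YG F.toHex).1 ((mem_Y F).1 hy)
  have hE : (y : G) ∈ F.E hex0 := (F.π_ker y).1 h1
  have hcomm : (y : G) * F.ρ = F.ρ * y := by
    rcases hρ with h | h
    · exact mul_inv_eq_iff_eq_mul.1 h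
    · exfalso
      have h2 : (y : G) * F.ρ * (y : G)⁻¹ * F.ρ⁻¹ ∈ F.E hex0 := by
        have h3 := (ρ_E F.toHex HexMax.hex0_isHex _).1 (inv_mem hE)
        have h4 := mul_mem hE h3
        have h5 : (y : G) * (F.ρ * (y : G)⁻¹ * F.ρ⁻¹) = (y : G) * F.ρ * (y : G)⁻¹ * F.ρ⁻¹ := by group
        rwa [h5] at h4
      rw [h] at h2
      have h6 : F.ρ⁻¹ * F.ρ⁻¹ = F.ρ := by
        rw [← mul_inv_rev, inv_eq_iff_mul_eq_one]
        exact ρ_cube F.toCent
      rw [h6] at h2
      exact FrameY.ρ_notMem_E F.toHex HexMax.hex0_isHex h2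
  rcases FrameY.eq_of_E F.toHex hE hcomm (fun _ => hP) with h | h
  · exact Or.inl (Subtype.ext h)
  · exact Or.inr (Subtype.ext (h.trans (c_zm F).symm))

theorem z_mem : c F zm ∈ Y F := by
  rw [mem_Y, c_zm, mem_YG]
  refine ⟨zC F.toCent F.z_mem_Q, ?_, Or.inl ?_⟩
  · rw [P_Q F.toCent F.z_mem_Q, one_smul]
  · rw [← F.ρ_comm, mul_inv_cancel_right]

theorem rho_mem : rho F ∈ Y F := by
  rw [mem_Y, mem_YG]
  refine ⟨ρC F.toCent, ?_, Or.inl ?_⟩
  · have h := P_ρ F.toCent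
    show F.P ⟨F.ρ, _⟩ • hex1 = hex1
    rw [h, one_smul]
  · show F.ρ * F.ρ * F.ρ⁻¹ = F.ρ
    rw [mul_inv_cancel_right]

theorem mem_Y_of {n : NE F} (hz : (n : G) * F.z = F.z * n)
    (h1 : ∀ hc : (n : G) ∈ Subgroup.centralizer ({F.z} : Set G), F.P ⟨n, hc⟩ • hex1 = hex1)
    (h2 : (n : G) * F.ρ * (n : G)⁻¹ = F.ρ ∨ (n : G) * F.ρ * (n : G)⁻¹ = F.ρ⁻¹) : n ∈ Y F := by
  rw [mem_Y, mem_YG]
  exact ⟨Subgroup.mem_centralizer_singleton_iff.2 hz, h1 _, h2⟩

theorem s_mem : ∃ y ∈ Y F, F.π y = s0 := by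
  obtain ⟨n, h1, h2, h3, h4⟩ := FrameY.exists_s F
  exact ⟨n, mem_Y_of F h2 h3 h4, h1⟩

theorem t_mem : ∃ y ∈ Y F, F.π y = t0 := by
  obtain ⟨n, h1, h2, h3, h4⟩ := FrameY.exists_t F
  exact ⟨n, mem_Y_of F h2 h3 h4, h1⟩

theorem Y_inv [Finite G] : ∀ y ∈ Y F, F.π y * ρ0 = ρ0 * F.π y → F.π y * F.π y = 1 → y * y = 1 := by
  intro y hy hc h1
  have h2 : F.π (rho F) = ρ0 ∨ F.π (rho F) = ρ0⁻¹ := FrameY.π_ρ F
  refine FrameYInv.Y_inv F h2 hy ?_ hc
  rcases Y_ker F (y * y) (mul_mem hy hy) (by rw [map_mul]; exact h1) with h | h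
  · exact Or.inl h
  · right
    rw [h]
    exact c_zm F

theorem exists_input_aux [Finite G]
    (R_col : ∀ r ∈ R F, ∀ p : GolayPt, col (idx ((F.π r : Equiv.Perm GolayPt) p)) = col (idx p))
    (R_r0 : ∃ r ∈ R F, F.π r = r0) :
    ∃ r : NE F, ((r : G) = F.ρ ∨ (r : G) = F.ρ⁻¹) ∧ Input F.π (c F) (Y F) (R F) r := by
  have key : ∀ r : NE F, r ∈ Y F → r * r * r = 1 → F.π r = ρ0 → Input F.π (c F) (Y F) (R F) r :=
    fun r h1 h2 h3 =>
    { ext := FrameDefs.ext F
      ρ_mem := h1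
      ρ_cube := h2
      f_ρ := h3
      Y_ker := Y_ker F
      z_mem := z_mem F
      s_mem := s_mem F
      t_mem := t_mem F
      Y_inv := Y_inv F
      R_ker := FrameR.R_ker F
      R_card := FrameR.R_card F
      R_col := R_col
      R_r0 := R_r0
      R_conj := FrameR.R_conj F }
  have h3 : rho F * rho F * rho F = 1 := Subtype.ext (ρ_cube F.toCent)
  rcases FrameY.π_ρ F with h | h
  · exact ⟨rho F, Or.inl rfl, key _ (rho_mem F) h3 h⟩
  · refine ⟨(rho F)⁻¹, Or.inr rfl, key _ (inv_mem (rho_mem F)) ?_ ?_⟩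
    · rw [← mul_inv_rev, ← mul_inv_rev, ← mul_assoc, h3, inv_one]
    · rw [map_inv]
      have h' : F.π (rho F) = ρ0⁻¹ := h
      rw [h', inv_inv]

/-- **Input of the splitting theorem.** -/
theorem exists_input [Finite G] :
    ∃ r : NE F, ((r : G) = F.ρ ∨ (r : G) = F.ρ⁻¹) ∧ Input F.π (c F) (Y F) (R F) r :=
  exists_input_aux F (FrameRr0.R_col F) (FrameRr0.R_r0 F (FrameR.R_ker F) (FrameR.R_card F))

end Cfsg.Agent.J4Type.FrameInput
end
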