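import Cfsg.Agent.J4Type.VCoord
import Cfsg.Agent.J4Type.CocodeMask
set_option linter.all false

/-!
# Coordinates of `Q/⟨z⟩` for a `Cent` (interface between helper494's `Coords` and `PreHexOf`)

`CentCoords H` : a homomorphism `co` of `Q` onto `F₄³ × F₄³` with kernel `⟨z⟩`, under which the
squaring map is `Tr (∑ aₖ c̄ₖ)`, `ρ` is a scalar, and the elements of `C_G(z)` over six explicit
permutations of `M22` are scalar multiples of explicit matrices.
-/

set_option autoImplicit false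

namespace Cfsg.Agent.J4Type

open Cfsg SporadicA.FieldFour VCoord

/-- `F₄³ × F₄³` -/
abbrev V6 : Type := F43 × F43

/-- scalar multiple on `F₄³ × F₄³` -/
def scm (γ : F4) (v : V6) : V6 := (sc γ v.1, sc γ v.2)

namespace CentCoords

/-! ### Packed tables of six permutations of `M22` -/

/-- `b₀₁` : fixes `hex0` pointwise, exchanges the points `hp 0 = 3`, `hp 1 = 8` -/
def Tb01 : ℕ := 976539006901119804582877792120867232
/-- `b₄₅` : fixes `hex0` pointwise, exchanges the points `hp 4 = 18`, `hp 5 = 20` -/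
def Tb45 : ℕ := 957028651706772161000819827381930688
/-- `s` : `15 → 18 → 20 → 15`, fixes the points 3, 8, 14 -/
def Ts : ℕ := 957349525958347821168537851598581024
/-- `s'` : `3 → 8 → 14 → 3`, fixes the points 15, 18, 20 -/
def Ts' : ℕ := 976664715245223361850675386607999392
/-- `c₁` : fixes `hex1` pointwise, exchanges 4 and 10 -/
def Tc1 : ℕ := 971025651370656697506717674321852064
/-- `c₂` : fixes `hex1` pointwise, exchanges 2 and 6 -/
def Tc2 : ℕ := 977881343727247884959580225012865152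

/-! ### The linear maps -/

/-- `diag (1, ω, ω²)` -/
def Dg (a : F43) : F43 := ![a 0, .w * a 1, .v * a 2]
/-- the shift `e₀ → e₁ → e₂ → e₀` -/
def Sh (a : F43) : F43 := ![a 2, a 0, a 1]
/-- the form of `b₀₁` -/
def B01 (c : F43) : F43 := ![c 0, c 1, .z]
/-- the form of `b₄₅` -/
def B45 (c : F43) : F43 := ![c 1 + c 2, c 0 + c 2, c 0 + c 1]
/-- the form of `c₁` -/
def C1 (a : F43) : F43 := ![.v * a 1 + .v * a 2, .w * a 0 + a 2, .w * a 0 + a 1]
/-- the form of `c₂` -/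
def C2 (a : F43) : F43 := ![.v * a 1 + a 2, .w * a 0 + .w * a 2, a 0 + .v * a 1]

def MDg (v : V6) : V6 := (Dg v.1, Dg v.2)
def MSh (v : V6) : V6 := (Sh v.1, Sh v.2)
def MB01 (v : V6) : V6 := (v.1 + B01 v.2, v.2)
def MB45 (v : V6) : V6 := (v.1 + B45 v.2, v.2)
def MC1 (v : V6) : V6 := (v.1, v.2 + C1 v.1)
def MC2 (v : V6) : V6 := (v.1, v.2 + C2 v.1)

/-- every element of `C_G(z)` over the permutation `p` acts on `Q/⟨z⟩` as a scalar multiple of
`M` -/
def Lin {G : Type*} [Group G] (H : Cent G) (co : G → V6) (p : Equiv.Perm GolayPt)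
    (M : V6 → V6) : Prop :=
  ∀ c : Subgroup.centralizer ({H.z} : Set G), H.P c = p →
    ∃ γ : F4, γ ≠ 0 ∧ ∀ q ∈ H.Q, co ((c : G) * q * (c : G)⁻¹) = scm γ (M (co q))

end CentCoords

open CentCoords CocodeMask

/-- Coordinates of `Q/⟨z⟩`. -/
structure CentCoords {G : Type*} [Group G] (H : Cent G) where
  co : G → V6
  co_mul : ∀ q ∈ H.Q, ∀ r ∈ H.Q, co (q * r) = co q + co r
  co_z : co H.z = 0
  co_ker : ∀ q ∈ H.Q, co q = 0 → q = 1 ∨ q = H.z
  co_surj : ∀ v, ∃ q ∈ H.Q, co q = v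
  co_sq : ∀ q ∈ H.Q, q * q = 1 ↔ tr (hp3 (co q).1 (co q).2) = 0
  om : F4
  om_ne_zero : om ≠ 0
  om_ne_one : om ≠ 1
  co_rho : ∀ q ∈ H.Q, co (H.ρ * q * H.ρ⁻¹) = scm om (co q)
  lin_s : ∀ p : M24, IsTab p Ts → Lin H co p MDg
  lin_s' : ∀ p : M24, IsTab p Ts' → Lin H co p MSh
  lin_b01 : ∀ p : M24, IsTab p Tb01 → Lin H co p MB01
  lin_b45 : ∀ p : M24, IsTab p Tb45 → Lin H co p MB45
  lin_c1 : ∀ p : M24, IsTab p Tc1 → Lin H co p MC1
  lin_c2 : ∀ p : M24, IsTab p Tc2 → Lin H co p MC2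

end Cfsg.Agent.J4Type
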