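import Cfsg.Agent.J4Type.CocodeExt
set_option linter.all false

/-!
The action of `M24` on the masks of points modulo the Golay code; twisting by an outer derivation.
-/

set_option autoImplicit false

namespace Cfsg.Agent.J4Type.CocodeAct

open Cfsg Cfsg.Agent.SporadicA.GolayBase
open Cfsg.Agent.J4Type.CocodeMask Cfsg.Agent.J4Type.CocodeExt
open Cfsg.Agent.J4Type.DuadStab

/-- the words modulo the code -/
abbrev Quo : Type := Multiplicative ((GolayPt → ZMod 2) ⧸ golayCode)

/-- the image of a point -/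
def eQ (p : GolayPt) : Quo := Multiplicative.ofAdd (golayCode.mkQ (Pi.single p 1))

theorem isCocode_eQ : IsCocode eQ := by
  classical
  refine ⟨fun i => ?_, fun S _ => ?_⟩
  · have h : (Pi.single i 1 : GolayPt → ZMod 2) + Pi.single i 1 = 0 := by
      rw [← Pi.single_add, show (1 : ZMod 2) + 1 = 0 from by decide, Pi.single_zero]
    show Multiplicative.ofAdd (golayCode.mkQ (Pi.single i 1) + golayCode.mkQ (Pi.single i 1)) = 1
    rw [← map_add, h, map_zero]
    rfl
  · have h1 : ∏ i ∈ S, eQ i = Multiplicative.ofAdd (golayCode.mkQ (∑ i ∈ S, Pi.single i 1)) := by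
      rw [map_sum]
      exact (ofAdd_sum S _).symm
    have h2 : (∑ i ∈ S, Pi.single i 1 : GolayPt → ZMod 2) = fun p => if p ∈ S then 1 else 0 := by
      funext p
      rw [Finset.sum_apply]
      simp only [Pi.single_apply]
      rw [Finset.sum_ite_eq S p]
    rw [h1, h2]
    constructor
    · intro h
      have h3 : (fun p => if p ∈ S then 1 else 0 : GolayPt → ZMod 2) ∈ golayCode := by
        rw [← Submodule.ker_mkQ golayCode]
        exact Multiplicative.ofAdd.injective h
      refine ⟨_, h3, ?_⟩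
      ext p
      simp [support₂]
    · rintro ⟨w, hw, rfl⟩
      have h3 : (fun p => if p ∈ support₂ w then 1 else 0 : GolayPt → ZMod 2) = w := by
        funext p
        rcases (by decide : ∀ x : ZMod 2, x = 0 ∨ x = 1) (w p) with h | h
        · simp [support₂, h]
        · simp [support₂, h]
      rw [h3]
      have h4 : golayCode.mkQ w = 0 := by
        rw [← LinearMap.mem_ker, Submodule.ker_mkQ]
        exact hw
      rw [h4]
      rfl

open scoped Pointwise in
/-- An element of `M24` composed with a presentation of the cocode. -/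
theorem isCocode_comp {A : Type*} [CommGroup A] {e : GolayPt → A} (he : IsCocode e) (g : M24) :
    IsCocode fun p => e ((g : Equiv.Perm GolayPt) p) := by
  classical
  refine ⟨fun i => he.sq _, fun S hS => ?_⟩
  have h0 : S.map (g : Equiv.Perm GolayPt).toEmbedding = (g : Equiv.Perm GolayPt) • S := by
    rw [Finset.map_eq_image]
    rfl
  have h1 : ∏ i ∈ S, e ((g : Equiv.Perm GolayPt) i) =
      ∏ i ∈ S.map (g : Equiv.Perm GolayPt).toEmbedding, e i := by
    rw [Finset.prod_map]
    rfl
  rw [h1, he.ker _ (by rwa [Finset.card_map]), h0, SporadicA.GolayPerm.smul_mem_supports g.2]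

theorem act_st (g : M24) (p : GolayPt) :
    act g (st (idx p)) = st (idx ((g : Equiv.Perm GolayPt) p)) := by
  have he := isCocode_eQ
  have hg := isCocode_comp he g
  have h1 : cm eQ (act g (st (idx p))) = eQ ((g : Equiv.Perm GolayPt) p) := by
    rw [cm_st hg p]
    unfold act
    rw [map_lin (cm eQ) (cm_xor he.sq)]
    simp only [← cm_st he]
    rfl
  have h2 := cm_st he ((g : Equiv.Perm GolayPt) p)
  have h3 : cm eQ (act g (st (idx p)) ^^^ st (idx ((g : Equiv.Perm GolayPt) p))) = 1 := by
    rw [cm_xor he.sq, h1, ← h2, he.sq]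
  have h4 : ev (act g (st (idx p)) ^^^ st (idx ((g : Equiv.Perm GolayPt) p))) = true := by
    rw [ev_iff]
    refine ⟨Nat.xor_lt_two_pow (n := 12) (lin_lt (fun i => st_lt _) _) (st_lt _), ?_⟩
    rw [par_xor, par_st _ (idx_lt _)]
    unfold act
    rw [par_lin _ (fun i _ => par_st _ (idx_lt _)), par_st _ (idx_lt _)]
    rfl
  exact Nat.xor_eq_zero_iff.1 (cm_eq_one he h4 h3)

/-- the mask of a duad -/
def du (p q : GolayPt) : ℕ := st (idx p) ^^^ st (idx q)

theorem ev_du (p q : GolayPt) : ev (du p q) = true := by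
  rw [ev_iff]
  refine ⟨Nat.xor_lt_two_pow (n := 12) (st_lt _) (st_lt _), ?_⟩
  unfold du
  rw [par_xor, par_st _ (idx_lt _), par_st _ (idx_lt _)]
  rfl

theorem act_du (g : M24) (p q : GolayPt) :
    act g (du p q) = du ((g : Equiv.Perm GolayPt) p) ((g : Equiv.Perm GolayPt) q) := by
  unfold du
  rw [act_xor, act_st, act_st]

theorem du_du (p q r : GolayPt) : du p q ^^^ du q r = du p r := by
  unfold du
  rw [Nat.xor_assoc, ← Nat.xor_assoc (st (idx q)), Nat.xor_self, Nat.zero_xor]

theorem du_self (p : GolayPt) : du p p = 0 := Nat.xor_self _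

section twist

variable {N : Type*} [Group N] {f : N →* M24} {c : ℕ → N} (H : Ext f c)

include H

/-- Twisting a section by the outer derivation of a point. -/
theorem exists_twist (p : GolayPt) {φ : M24 →* N} (hφ : ∀ g, f (φ g) = g) :
    ∃ ψ : M24 →* N, (∀ g, f (ψ g) = g) ∧
      ∀ g : M24, ψ g = c (du p ((g : Equiv.Perm GolayPt) p)) * φ g := by
  refine ⟨MonoidHom.mk' (fun g : M24 => c (du p ((g : Equiv.Perm GolayPt) p)) * φ g) ?_, ?_, ?_⟩
  · intro g h
    show c (du p (((g * h : M24) : Equiv.Perm GolayPt) p)) * φ (g * h) =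
      (c (du p ((g : Equiv.Perm GolayPt) p)) * φ g) * (c (du p ((h : Equiv.Perm GolayPt) p)) * φ h)
    have h1 := H.mul_c (φ g) (ev_du p ((h : Equiv.Perm GolayPt) p))
    have h2 : c (du p (((g * h : M24) : Equiv.Perm GolayPt) p)) =
        c (du p ((g : Equiv.Perm GolayPt) p)) *
          c (act (f (φ g)) (du p ((h : Equiv.Perm GolayPt) p))) := by
      rw [hφ, act_du, ← H.xor _ _ (ev_du _ _) (ev_du _ _), du_du]
      rfl
    rw [h2, map_mul]
    calc c (du p ((g : Equiv.Perm GolayPt) p)) *
          c (act (f (φ g)) (du p ((h : Equiv.Perm GolayPt) p))) * (φ g * φ h)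
        = c (du p ((g : Equiv.Perm GolayPt) p)) *
          (c (act (f (φ g)) (du p ((h : Equiv.Perm GolayPt) p))) * φ g) * φ h := by group
      _ = c (du p ((g : Equiv.Perm GolayPt) p)) *
          (φ g * c (du p ((h : Equiv.Perm GolayPt) p))) * φ h := by rw [h1]
      _ = _ := by group
  · intro g
    show f (c (du p ((g : Equiv.Perm GolayPt) p)) * φ g) = g
    rw [map_mul, H.map_c (ev_du _ _), one_mul, hφ]
  · intro g
    rfl

/-- Conjugating a section by an element of the cocode. -/
theorem exists_conj {v : ℕ} (hv : ev v = true) {φ : M24 →* N} (hφ : ∀ g, f (φ g) = g) :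
    ∃ ψ : M24 →* N, (∀ g, f (ψ g) = g) ∧ ∀ g : M24, ψ g = c (v ^^^ act g v) * φ g := by
  refine ⟨(MulAut.conj (c v)).toMonoidHom.comp φ, fun g => ?_, fun g => ?_⟩
  · show f (c v * φ g * (c v)⁻¹) = g
    rw [map_mul, map_mul, map_inv, H.map_c hv, hφ, one_mul, inv_one, mul_one]
  · show c v * φ g * (c v)⁻¹ = _
    rw [H.inv hv, mul_assoc, H.mul_c _ hv, hφ, H.xor _ _ hv (ev_act _ hv), mul_assoc]

end twist

end Cfsg.Agent.J4Type.CocodeAct
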