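import Cfsg.Agent.J4Type.FrameDefs
import Cfsg.Agent.Solvable.Gaschutz
import Cfsg.Agent.S0364
import Cfsg.Agent.J4Type.CocodeAct
import Cfsg.Agent.J4Type.Setup
import Cfsg.Agent.SporadicStructure.M24Frame
import Cfsg.Agent.S0363
import Cfsg.Agent.J4Type.FrameInput
import Cfsg.Agent.J4Type.CentCoords
import Cfsg.Agent.J4Type.HexMax
import Cfsg.Agent.J4Type.HexStab
import Cfsg.Agent.J4Type.OctadFixTrans
import Cfsg.Agent.J4Type.FusionConj
import Cfsg.Agent.Lib.ClassTwoDuality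
set_option linter.all false

-- part: J4Type/Split
section
/-!
Part (d): the extension by the even cocode splits (Gaschütz, from a Sylow 2-subgroup).
-/

set_option autoImplicit false

namespace Cfsg.Agent.J4Type.Split

open Cfsg Cfsg.Agent.SporadicA.GolayBase
open Cfsg.Agent.J4Type.CocodeMask Cfsg.Agent.J4Type.CocodeExt Cfsg.Agent.J4Type.SplitData

/-! ### Words in `s0`, `t0` -/

/-- the letters `s0, t0, t0⁻¹` -/
noncomputable def letter : ℕ → M24
  | 0 => s0
  | 1 => t0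
  | _ => t0⁻¹

/-- tables of the letters -/
def letterT : ℕ → ℕ
  | 0 => Ts
  | 1 => Tt
  | _ => Tt'

theorem tab_letter (n : ℕ) : IsTab (letter n) (letterT n) := by
  match n with
  | 0 => exact tab_s
  | 1 => exact tab_t
  | n + 2 => exact tab_t'

/-- the value of a word -/
noncomputable def wE : List ℕ → M24
  | [] => 1
  | a :: w => letter a * wE w

/-- the table of a word -/
def wT : List ℕ → ℕ
  | [] => pone
  | a :: w => pcomp (letterT a) (wT w)

theorem tab_w (w : List ℕ) : IsTab (wE w) (wT w) := by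
  induction w with
  | nil => exact isTab_one
  | cons a w ih => exact (tab_letter a).mul ih

theorem wE_mul_eq {u v w : List ℕ} (h : pcomp (wT u) (wT v) = wT w) : wE u * wE v = wE w :=
  ((tab_w u).mul (tab_w v)).eq (by rw [h]; exact tab_w w)

/-- `(0 2)(1 3)` -/
def wj : List ℕ := [1, 1, 1, 0, 1, 0, 2, 2, 0, 1, 0, 1]
/-- conjugates `s0` to an involution inducing `(4 5)` -/
def wl3 : List ℕ := [1, 1, 0, 1, 1]
def wl3' : List ℕ := [2, 2, 0, 2, 2]
/-- conjugates `j k3` to `k1 k2 k3` -/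
def wl : List ℕ := [2, 0, 2]
def wk2 : List ℕ := wj ++ 0 :: wj
def wk3 : List ℕ := wl3 ++ 0 :: wl3'

theorem wE_append (u v : List ℕ) : wE (u ++ v) = wE u * wE v := by
  induction u with
  | nil => exact (one_mul _).symm
  | cons a u ih => rw [List.cons_append, wE, ih, wE, mul_assoc]

theorem wj_sq : wE wj * wE wj = 1 := by
  rw [← wE_append]
  exact ((tab_w _).eq (by rw [show wT (wj ++ wj) = pone by decide +kernel]; exact isTab_one))

theorem wl3_inv : (wE wl3)⁻¹ = wE wl3' := (tab_w _).inv_eq (tab_w _) (by decide +kernel)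

/-- an element conjugating `s0` to `r0` -/
def Tm : ℕ := 518624387229737461226778840747551987

noncomputable def m0 : M24 := mk Tm (by decide +kernel)

theorem tab_m : IsTab m0 Tm := isTab_mk _ _

theorem m0_s0 : m0 * s0 = r0 * m0 :=
  (tab_m.mul tab_s).eq (by
    rw [show pcomp Tm Ts = pcomp Tr Tm by decide +kernel]
    exact tab_r.mul tab_m)

theorem check_z : allR 12 0 (fun a => !ev a || !Nat.beq (a ^^^ actT Tr a) (actT Tm zm)) = true := by
  decide +kernel

theorem not_z {a : ℕ} (ha : ev a = true) : a ^^^ actT Tr a ≠ actT Tm zm := by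
  intro h
  have h1 := allR_zero_spec check_z a ((ev_iff a).1 ha).1
  rw [ha, h, Bool.not_true, Bool.false_or, Bool.not_eq_true', Nat.beq_refl] at h1
  exact Bool.noConfusion h1

theorem sq_eq {g : M24} {P : ℕ} (hg : IsTab g P) (h : pcomp P P = pone) : g * g = 1 :=
  (hg.mul hg).eq (by rw [h]; exact isTab_one)

section main

variable {N : Type*} [Group N] {f : N →* M24} {c : ℕ → N} {Y R : Subgroup N} {ρ : N}
  (H : Input f c Y R ρ)

include H

theorem cz_ne : c zm ≠ 1 := by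
  intro h
  have := H.ext.inj zm ev_zm h
  exact absurd this (by decide)

theorem central_z {y : N} (hy : y ∈ Y) : y * c zm = c zm * y := by
  have h1 : y * c zm * y⁻¹ ∈ Y := Y.mul_mem (Y.mul_mem hy H.z_mem) (Y.inv_mem hy)
  have h2 : f (y * c zm * y⁻¹) = 1 := by
    rw [map_mul, map_mul, H.ext.map_c ev_zm, mul_one, map_inv, mul_inv_cancel]
  rcases H.Y_ker _ h1 h2 with h | h
  · exfalso
    apply cz_ne H
    have h3 : y * c zm = y := by rw [← mul_inv_eq_one]; exact h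
    exact mul_eq_left.1 h3
  · conv_rhs => rw [← h]
    rw [inv_mul_cancel_right]

theorem z_sq : c zm * c zm = 1 := H.ext.sq ev_zm

theorem eq_or {x y : N} (hx : x ∈ Y) (hy : y ∈ Y) (h : f x = f y) : x = y ∨ x = y * c zm := by
  have h1 : f (y⁻¹ * x) = 1 := by rw [map_mul, map_inv, h, inv_mul_cancel]
  rcases H.Y_ker _ (Y.mul_mem (Y.inv_mem hy) hx) h1 with h2 | h2
  · left
    rw [inv_mul_eq_one] at h2
    exact h2.symm
  · right
    rw [← h2, mul_inv_cancel_left]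

theorem word_mem (w : List ℕ) : ∃ y ∈ Y, f y = wE w := by
  induction w with
  | nil => exact ⟨1, Y.one_mem, map_one f⟩
  | cons a w ih =>
    obtain ⟨y, hy, h⟩ := ih
    have h1 : ∃ x ∈ Y, f x = letter a := by
      match a with
      | 0 => exact H.s_mem
      | 1 => exact H.t_mem
      | n + 2 =>
        obtain ⟨x, hx, h2⟩ := H.t_mem
        exact ⟨x⁻¹, Y.inv_mem hx, by rw [map_inv, h2]; rfl⟩
    obtain ⟨x, hx, h2⟩ := h1
    exact ⟨x * y, Y.mul_mem hx hy, by rw [map_mul, h2, h]; rfl⟩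

/-- Elements of `Y` mapping to `s0` are involutions. -/
theorem sq_of_s0 {K : N} (hK : K ∈ Y) (h : f K = s0) : K * K = 1 := by
  have h0 : f (K * K) = 1 := by rw [map_mul, h]; exact sq_eq tab_s (by decide +kernel)
  rcases H.Y_ker _ (Y.mul_mem hK hK) h0 with h1 | h1
  · exact h1
  exfalso
  obtain ⟨n, hn⟩ := H.ext.surj m0
  obtain ⟨u, hu, hur⟩ := H.R_r0
  have hu2 : u * u = 1 := by
    apply H.R_ker _ (R.mul_mem hu hu)
    rw [map_mul, hur]
    exact sq_eq tab_r (by decide +kernel)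
  have h2 : f (n * K * n⁻¹) = f u := by
    rw [map_mul, map_mul, hn, h, hur, m0_s0, map_inv, hn, mul_inv_cancel_right]
  obtain ⟨a, ha, h3⟩ := H.ext.exists_mul' h2
  have h4 : n * (K * K) * n⁻¹ = c (a ^^^ act r0 a) := by
    have : n * (K * K) * n⁻¹ = (n * K * n⁻¹) * (n * K * n⁻¹) := by group
    rw [this, h3, H.ext.xor a _ ha (ev_act _ ha), ← hur, ← H.ext.conj u a ha]
    calc c a * u * (c a * u) = c a * (u * c a * u⁻¹) * (u * u) := by group
      _ = _ := by rw [hu2, mul_one]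
  rw [h1, H.ext.conj n zm ev_zm, hn] at h4
  have h5 := H.ext.injOn (ev_act _ ev_zm) (ev_xor ha (ev_act _ ha)) h4
  rw [act_eq tab_m, act_eq tab_r] at h5
  exact not_z ha h5.symm

theorem sq_mul_z {x : N} (hx : x ∈ Y) (h : x * x = 1) : (x * c zm) * (x * c zm) = 1 := by
  calc x * c zm * (x * c zm) = x * (c zm * x) * c zm := by group
    _ = x * (x * c zm) * c zm := by rw [central_z H hx]
    _ = x * x * (c zm * c zm) := by group
    _ = 1 := by rw [h, z_sq H, one_mul]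

omit H in
/-- Commuting of involutions with involutory product. -/
theorem comm_of_sq {x y : N} (hx : x * x = 1) (hy : y * y = 1) (hxy : (x * y) * (x * y) = 1) :
    x * y = y * x := by
  have h1 : (x * y)⁻¹ = x * y := inv_eq_of_mul_eq_one_right hxy
  rw [← h1, mul_inv_rev, inv_eq_of_mul_eq_one_right hx, inv_eq_of_mul_eq_one_right hy]

omit H in
theorem sq_conj {x y : N} (hx : x * x = 1) : (y * x * y⁻¹) * (y * x * y⁻¹) = 1 := by
  have : (y * x * y⁻¹) * (y * x * y⁻¹) = y * (x * x) * y⁻¹ := by group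
  rw [this, hx, mul_one, mul_inv_cancel]

theorem sq_of_word {y : N} (hy : y ∈ Y) {w : List ℕ} (h : f y = wE w)
    (h1 : pcomp (wT w) Tρ = pcomp Tρ (wT w)) (h2 : pcomp (wT w) (wT w) = pone) : y * y = 1 := by
  apply H.Y_inv y hy
  · rw [h]
    exact ((tab_w w).mul tab_ρ).eq (by rw [h1]; exact tab_ρ.mul (tab_w w))
  · rw [h]
    exact sq_eq (tab_w w) h2

/-- Elements of `Y` generating a group `2 × D8`. -/
theorem exists_gens : ∃ K1 ∈ Y, ∃ K2 ∈ Y, ∃ K3 ∈ Y, ∃ J ∈ Y,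
    f K1 = wE [0] ∧ f K2 = wE wk2 ∧ f K3 = wE wk3 ∧ f J = wE wj ∧
    K1 * K1 = 1 ∧ K2 * K2 = 1 ∧ K3 * K3 = 1 ∧ J * J = 1 ∧ K1 * K2 = K2 * K1 ∧
    K1 * K3 = K3 * K1 ∧ K2 * K3 = K3 * K2 ∧ J * K1 = K2 * J ∧ J * K2 = K1 * J ∧
    J * K3 = K3 * J := by
  obtain ⟨K1, hK1, fK1⟩ := H.s_mem
  obtain ⟨J, hJ, fJ⟩ := word_mem H wj
  obtain ⟨L3, hL3, fL3⟩ := word_mem H wl3
  obtain ⟨L, hL, fL⟩ := word_mem H wl
  have k1 : K1 * K1 = 1 := sq_of_s0 H hK1 fK1
  have jj : J * J = 1 := sq_of_word H hJ fJ (by decide +kernel) (by decide +kernel)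
  have hJi : J⁻¹ = J := inv_eq_of_mul_eq_one_right jj
  obtain ⟨K2, eK2⟩ : ∃ K2, K2 = J * K1 * J⁻¹ := ⟨_, rfl⟩
  obtain ⟨K3, eK3⟩ : ∃ K3, K3 = L3 * K1 * L3⁻¹ := ⟨_, rfl⟩
  have hK2 : K2 ∈ Y := by
    rw [eK2]; exact Y.mul_mem (Y.mul_mem hJ hK1) (Y.inv_mem hJ)
  have fK2 : f K2 = wE wk2 := by
    rw [eK2, hJi, map_mul, map_mul, fJ, fK1, wk2, wE_append, mul_assoc]
    rfl
  have k2 : K2 * K2 = 1 := by rw [eK2]; exact sq_conj k1
  have hK3 : K3 ∈ Y := by
    rw [eK3]; exact Y.mul_mem (Y.mul_mem hL3 hK1) (Y.inv_mem hL3)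
  have fK3 : f K3 = wE wk3 := by
    rw [eK3, map_mul, map_mul, map_inv, fL3, fK1, wl3_inv, wk3, wE_append, mul_assoc]
    rfl
  have k3 : K3 * K3 = 1 := by rw [eK3]; exact sq_conj k1
  have fK1' : f K1 = wE [0] := by rw [fK1, wE, wE, mul_one]; rfl
  have c12 : K1 * K2 = K2 * K1 := by
    apply comm_of_sq k1 k2
    apply sq_of_word H (Y.mul_mem hK1 hK2) (w := [0] ++ wk2)
    · rw [map_mul, fK1', fK2, wE_append]
    · decide +kernel
    · decide +kernel
  have c13 : K1 * K3 = K3 * K1 := by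
    apply comm_of_sq k1 k3
    apply sq_of_word H (Y.mul_mem hK1 hK3) (w := [0] ++ wk3)
    · rw [map_mul, fK1', fK3, wE_append]
    · decide +kernel
    · decide +kernel
  have c23 : K2 * K3 = K3 * K2 := by
    apply comm_of_sq k2 k3
    apply sq_of_word H (Y.mul_mem hK2 hK3) (w := wk2 ++ wk3)
    · rw [map_mul, fK2, fK3, wE_append]
    · decide +kernel
    · decide +kernel
  have j1 : J * K1 = K2 * J := by rw [eK2, inv_mul_cancel_right]
  have j2 : J * K2 = K1 * J := by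
    rw [eK2, hJi]
    calc J * (J * K1 * J) = (J * J) * K1 * J := by group
      _ = K1 * J := by rw [jj, one_mul]
  have j3 : J * K3 = K3 * J := by
    apply comm_of_sq jj k3
    -- conjugate to `K1 K2 K3`
    have h1 : (K1 * K2 * K3) * (K1 * K2 * K3) = 1 := by
      calc (K1 * K2 * K3) * (K1 * K2 * K3) = K1 * K2 * (K3 * K1) * K2 * K3 := by group
        _ = K1 * K2 * K1 * (K3 * K2) * K3 := by rw [← c13]; group
        _ = K1 * (K2 * K1) * K2 * (K3 * K3) := by rw [← c23]; group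
        _ = (K1 * K1) * (K2 * K2) * (K3 * K3) := by rw [← c12]; group
        _ = 1 := by rw [k1, k2, k3, one_mul, one_mul]
    have h2 : f (L * (J * K3) * L⁻¹) = f (K1 * K2 * K3) := by
      have h3 : wE wl * (wE wj * wE wk3) = (wE [0] * wE wk2 * wE wk3) * wE wl := by
        rw [← wE_append, ← wE_append, ← wE_append, ← wE_append, ← wE_append]
        exact (tab_w _).eq (by
          rw [show wT (wl ++ (wj ++ wk3)) = wT ([0] ++ wk2 ++ wk3 ++ wl) by decide +kernel]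
          exact tab_w _)
      rw [map_mul, map_mul, map_mul, map_inv, fL, fJ, fK3, map_mul, map_mul, fK1', fK2, fK3, h3,
        mul_inv_cancel_right]
    have hx : L * (J * K3) * L⁻¹ ∈ Y :=
      Y.mul_mem (Y.mul_mem hL (Y.mul_mem hJ hK3)) (Y.inv_mem hL)
    have hy : K1 * K2 * K3 ∈ Y := Y.mul_mem (Y.mul_mem hK1 hK2) hK3
    have h4 : (L * (J * K3) * L⁻¹) * (L * (J * K3) * L⁻¹) = 1 := by
      rcases eq_or H hx hy h2 with h5 | h5
      · rw [h5]; exact h1
      · rw [h5]; exact sq_mul_z H hy h1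
    have h6 : J * K3 * (J * K3) = L⁻¹ * ((L * (J * K3) * L⁻¹) * (L * (J * K3) * L⁻¹)) * L := by
      group
    rw [h6, h4, mul_one, inv_mul_cancel]
  exact ⟨K1, hK1, K2, hK2, K3, hK3, J, hJ, fK1', fK2, fK3, fJ, k1, k2, k3, jj, c12, c13, c23,
    j1, j2, j3⟩

end main

end Cfsg.Agent.J4Type.Split
end

-- part: J4Type/Split2
section
/-!
Part (d): existence of a complement of the even cocode (Gaschütz).
-/

set_option autoImplicit false

namespace Cfsg.Agent.J4Type.Split2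

open Cfsg Cfsg.Agent.SporadicA.GolayBase
open Cfsg.Agent.J4Type.CocodeMask Cfsg.Agent.J4Type.CocodeExt Cfsg.Agent.J4Type.SplitData
open Cfsg.Agent.J4Type.Split
open Cfsg.Agent.SporadicA.GolayPerm (papp)

section gens

variable {N : Type*} [Group N]

/-- normal forms -/
def nf (K1 K2 K3 J : N) (k : ℕ) : N :=
  K1 ^ (k % 2) * K2 ^ (k / 2 % 2) * K3 ^ (k / 4 % 2) * J ^ (k / 8 % 2)

theorem exists_nf {K1 K2 K3 J : N} (k1 : K1 * K1 = 1) (k2 : K2 * K2 = 1) (k3 : K3 * K3 = 1)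
    (jj : J * J = 1) (c12 : K1 * K2 = K2 * K1) (c13 : K1 * K3 = K3 * K1)
    (c23 : K2 * K3 = K3 * K2) (j1 : J * K1 = K2 * J) (j2 : J * K2 = K1 * J)
    (j3 : J * K3 = K3 * J) {x : N} (hx : x ∈ Subgroup.closure ({K1, K2, K3, J} : Set N)) :
    ∃ k, k < 16 ∧ x = nf K1 K2 K3 J k := by
  have key : ∀ a b c d : ℕ, ∃ k, k < 16 ∧ K1 ^ a * K2 ^ b * K3 ^ c * J ^ d = nf K1 K2 K3 J k := by
    intro a b c d
    refine ⟨a % 2 + 2 * (b % 2) + 4 * (c % 2) + 8 * (d % 2), by omega, ?_⟩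
    have hp : ∀ {y : N}, y * y = 1 → ∀ n, y ^ n = y ^ (n % 2) := by
      intro y hy n
      conv_lhs => rw [← Nat.div_add_mod n 2]
      rw [pow_add, pow_mul, pow_two, hy, one_pow, one_mul]
    unfold nf
    rw [show (a % 2 + 2 * (b % 2) + 4 * (c % 2) + 8 * (d % 2)) % 2 = a % 2 by omega,
      show (a % 2 + 2 * (b % 2) + 4 * (c % 2) + 8 * (d % 2)) / 2 % 2 = b % 2 by omega,
      show (a % 2 + 2 * (b % 2) + 4 * (c % 2) + 8 * (d % 2)) / 4 % 2 = c % 2 by omega,
      show (a % 2 + 2 * (b % 2) + 4 * (c % 2) + 8 * (d % 2)) / 8 % 2 = d % 2 by omega,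
      ← hp k1, ← hp k2, ← hp k3, ← hp jj]
  have hcomm : ∀ {y w : N}, y * w = w * y → ∀ n, y * w ^ n = w ^ n * y := by
    intro y w h n
    exact (Commute.pow_right (show Commute y w from h) n)
  have hmul : ∀ g ∈ ({K1, K2, K3, J} : Set N), ∀ a b c d : ℕ, ∃ a' b' c' d' : ℕ,
      g * (K1 ^ a * K2 ^ b * K3 ^ c * J ^ d) = K1 ^ a' * K2 ^ b' * K3 ^ c' * J ^ d' := by
    intro g hg a b c d
    rcases hg with hg | hg | hg | hg
    · exact ⟨a + 1, b, c, d, by rw [hg, pow_succ']; group⟩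
    · refine ⟨a, b + 1, c, d, ?_⟩
      rw [hg]
      rw [pow_succ' K2 b]
      calc K2 * (K1 ^ a * K2 ^ b * K3 ^ c * J ^ d) = (K2 * K1 ^ a) * K2 ^ b * K3 ^ c * J ^ d := by
            group
        _ = _ := by rw [hcomm c12.symm]; group
    · refine ⟨a, b, c + 1, d, ?_⟩
      rw [hg]
      rw [pow_succ' K3 c]
      calc K3 * (K1 ^ a * K2 ^ b * K3 ^ c * J ^ d) = (K3 * K1 ^ a) * K2 ^ b * K3 ^ c * J ^ d := by
            group
        _ = K1 ^ a * (K3 * K2 ^ b) * K3 ^ c * J ^ d := by rw [hcomm c13.symm]; group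
        _ = _ := by rw [hcomm c23.symm]; group
    · refine ⟨b, a, c, d + 1, ?_⟩
      rw [Set.mem_singleton_iff.1 hg]
      have h1 : ∀ n, J * K1 ^ n = K2 ^ n * J := by
        intro n
        induction n with
        | zero => rw [pow_zero, pow_zero, one_mul, mul_one]
        | succ n ih => rw [pow_succ, ← mul_assoc, ih, mul_assoc, j1, ← mul_assoc, ← pow_succ]
      have h2 : ∀ n, J * K2 ^ n = K1 ^ n * J := by
        intro n
        induction n with
        | zero => rw [pow_zero, pow_zero, one_mul, mul_one]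
        | succ n ih => rw [pow_succ, ← mul_assoc, ih, mul_assoc, j2, ← mul_assoc, ← pow_succ]
      have h3 : K2 ^ a * K1 ^ b = K1 ^ b * K2 ^ a :=
        (Commute.pow_pow (show Commute K2 K1 from c12.symm) a b)
      rw [pow_succ' J d]
      calc J * (K1 ^ a * K2 ^ b * K3 ^ c * J ^ d) = (J * K1 ^ a) * K2 ^ b * K3 ^ c * J ^ d := by
            group
        _ = K2 ^ a * (J * K2 ^ b) * K3 ^ c * J ^ d := by rw [h1]; group
        _ = (K2 ^ a * K1 ^ b) * (J * K3 ^ c) * J ^ d := by rw [h2]; group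
        _ = _ := by rw [hcomm j3, h3]; group
  have hinv : ∀ g ∈ ({K1, K2, K3, J} : Set N), g⁻¹ = g := by
    intro g hg
    rcases hg with hg | hg | hg | hg
    · rw [hg]; exact inv_eq_of_mul_eq_one_right k1
    · rw [hg]; exact inv_eq_of_mul_eq_one_right k2
    · rw [hg]; exact inv_eq_of_mul_eq_one_right k3
    · rw [Set.mem_singleton_iff.1 hg]; exact inv_eq_of_mul_eq_one_right jj
  have hform : ∃ a b c d : ℕ, x = K1 ^ a * K2 ^ b * K3 ^ c * J ^ d := by
    induction hx using Subgroup.closure_induction_left with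
    | one => exact ⟨0, 0, 0, 0, by simp⟩
    | mul_left g hg y _ ih =>
      obtain ⟨a, b, c, d, rfl⟩ := ih
      exact hmul g hg a b c d
    | inv_mul_cancel g hg y _ ih =>
      obtain ⟨a, b, c, d, rfl⟩ := ih
      rw [hinv g hg]
      exact hmul g hg a b c d
  obtain ⟨a, b, c, d, rfl⟩ := hform
  exact key a b c d

end gens

/-- words of the normal forms -/
def nfw (k : ℕ) : List ℕ :=
  (if k % 2 = 1 then [0] else []) ++ (if k / 2 % 2 = 1 then wk2 else []) ++
    (if k / 4 % 2 = 1 then wk3 else []) ++ (if k / 8 % 2 = 1 then wj else [])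

/-- the action on three columns -/
def code (T : ℕ) : ℕ := col (papp T 23) + 8 * col (papp T 4) + 64 * col (papp T 7)

theorem code_nodup : ((List.range 16).map fun k => code (wT (nfw k))).Nodup := by decide +kernel

theorem code_injOn {k l : ℕ} (hk : k < 16) (hl : l < 16) (h : code (wT (nfw k)) = code (wT (nfw l))) :
    k = l := by
  have h1 := List.inj_on_of_nodup_map code_nodup (List.mem_range.2 hk) (List.mem_range.2 hl) h
  exact h1

theorem col_id : code (wT (nfw 0)) = col 23 + 8 * col 4 + 64 * col 7 := by decide +kernel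

section main

variable {N : Type*} [Group N] {f : N →* M24} {c : ℕ → N} {Y R : Subgroup N} {ρ : N}

theorem f_nf {K1 K2 K3 J : N} (fK1 : f K1 = wE [0]) (fK2 : f K2 = wE wk2) (fK3 : f K3 = wE wk3)
    (fJ : f J = wE wj) (k : ℕ) : f (nf K1 K2 K3 J k) = wE (nfw k) := by
  have h : ∀ (x : N) (w : List ℕ), f x = wE w → ∀ b, f (x ^ (b % 2)) =
      wE (if b % 2 = 1 then w else []) := by
    intro x w hx b
    rcases Nat.mod_two_eq_zero_or_one b with h0 | h0
    · rw [h0, pow_zero, map_one]; rfl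
    · rw [h0, pow_one, hx]; rfl
  unfold nf nfw
  rw [map_mul, map_mul, map_mul, h _ _ fK1, h _ _ fK2, h _ _ fK3, h _ _ fJ, wE_append, wE_append,
    wE_append]

theorem code_of_tab {g : M24} {T : ℕ} (hg : IsTab g T)
    (hcol : ∀ p : GolayPt, col (idx ((g : Equiv.Perm GolayPt) p)) = col (idx p)) :
    code T = col 23 + 8 * col 4 + 64 * col 7 := by
  have h : ∀ i, i < 24 → col (papp T i) = col i := by
    intro i hi
    have h1 := hcol (pt i)
    rw [hg, idx_pt hi] at h1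
    exact h1
  unfold code
  rw [h 23 (by norm_num), h 4 (by norm_num), h 7 (by norm_num)]

variable (H : Input f c Y R ρ)

include H

/-- A complement of the cocode in the preimage of a Sylow 2-subgroup. -/
theorem exists_sylow : ∃ A : Subgroup N, (∀ x ∈ A, f x = 1 → x = 1) ∧ Nat.card A = 1024 := by
  classical
  obtain ⟨K1, hK1, K2, hK2, K3, hK3, J, hJ, fK1, fK2, fK3, fJ, k1, k2, k3, jj, c12, c13, c23,
    j1, j2, j3⟩ := exists_gens H
  set D := Subgroup.closure ({K1, K2, K3, J} : Set N) with hD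
  have hDY : D ≤ Y := by
    rw [hD, Subgroup.closure_le]
    rintro x (rfl | rfl | rfl | rfl)
    · exact hK1
    · exact hK2
    · exact hK3
    · exact hJ
  have hnf : ∀ k, nf K1 K2 K3 J k ∈ D := by
    intro k
    have m1 : K1 ∈ D := Subgroup.subset_closure (by simp)
    have m2 : K2 ∈ D := Subgroup.subset_closure (by simp)
    have m3 : K3 ∈ D := Subgroup.subset_closure (by simp)
    have m4 : J ∈ D := Subgroup.subset_closure (by simp)
    exact D.mul_mem (D.mul_mem (D.mul_mem (D.pow_mem m1 _) (D.pow_mem m2 _)) (D.pow_mem m3 _))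
      (D.pow_mem m4 _)
  have hDcol : ∀ x ∈ D, (∀ p : GolayPt, col (idx ((f x : Equiv.Perm GolayPt) p)) = col (idx p)) →
      x = 1 := by
    intro x hx hc
    obtain ⟨k, hk, rfl⟩ := exists_nf k1 k2 k3 jj c12 c13 c23 j1 j2 j3 hx
    rw [f_nf fK1 fK2 fK3 fJ] at hc
    have h1 := code_of_tab (tab_w (nfw k)) hc
    have h2 : k = 0 := code_injOn hk (by norm_num) (by rw [h1, col_id])
    rw [h2]
    simp [nf]
  have hDcard : Nat.card D = 16 := by
    have e : Nat.card D = Nat.card (Fin 16) := by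
      symm
      apply Nat.card_eq_of_bijective (fun k : Fin 16 => (⟨nf K1 K2 K3 J k, hnf k⟩ : D))
      constructor
      · intro k l h
        have h1 : f (nf K1 K2 K3 J k) = f (nf K1 K2 K3 J l) := congrArg f (congrArg Subtype.val h)
        rw [f_nf fK1 fK2 fK3 fJ, f_nf fK1 fK2 fK3 fJ] at h1
        apply Fin.ext
        apply code_injOn k.2 l.2
        have h2 := tab_w (nfw k)
        have h3 := tab_w (nfw l)
        rw [h1] at h2
        have h4 : ∀ i, i < 24 → papp (wT (nfw k)) i = papp (wT (nfw l)) i := by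
          intro i hi
          have a1 := h2 (pt i)
          have a2 := h3 (pt i)
          rw [idx_pt hi] at a1 a2
          rw [← a1, ← a2]
        unfold code
        rw [h4 23 (by norm_num), h4 4 (by norm_num), h4 7 (by norm_num)]
      · rintro ⟨x, hx⟩
        obtain ⟨k, hk, rfl⟩ := exists_nf k1 k2 k3 jj c12 c13 c23 j1 j2 j3 hx
        exact ⟨⟨k, hk⟩, rfl⟩
    rw [e, Nat.card_fin]
  let A : Subgroup N :=
    { carrier := {x | ∃ r ∈ R, ∃ d ∈ D, x = r * d}
      one_mem' := ⟨1, R.one_mem, 1, D.one_mem, (mul_one 1).symm⟩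
      mul_mem' := by
        rintro _ _ ⟨r, hr, d, hd, rfl⟩ ⟨r', hr', d', hd', rfl⟩
        exact ⟨r * (d * r' * d⁻¹), R.mul_mem hr (H.R_conj d (hDY hd) r' hr'), d * d',
          D.mul_mem hd hd', by group⟩
      inv_mem' := by
        rintro _ ⟨r, hr, d, hd, rfl⟩
        refine ⟨d⁻¹ * r⁻¹ * d⁻¹⁻¹, H.R_conj _ (hDY (D.inv_mem hd)) _ (R.inv_mem hr), d⁻¹,
          D.inv_mem hd, by group⟩ }
  have hRD : ∀ x ∈ R, x ∈ D → x = 1 := fun x hx hx' => hDcol x hx' (H.R_col x hx)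
  refine ⟨A, ?_, ?_⟩
  · rintro _ ⟨r, hr, d, hd, rfl⟩ h
    have h1 : f d = f r⁻¹ := by
      rw [map_mul] at h
      rw [map_inv]
      exact (inv_eq_of_mul_eq_one_right h).symm
    have h2 : d = 1 := by
      apply hDcol d hd
      rw [h1]
      exact H.R_col _ (R.inv_mem hr)
    rw [h2, mul_one] at h ⊢
    exact H.R_ker r hr h
  · have e : Nat.card A = Nat.card (R × D) := by
      symm
      apply Nat.card_eq_of_bijective
        (fun x : R × D => (⟨(x.1 : N) * (x.2 : N), x.1, x.1.2, x.2, x.2.2, rfl⟩ : A))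
      constructor
      · rintro ⟨⟨r, hr⟩, ⟨d, hd⟩⟩ ⟨⟨r', hr'⟩, ⟨d', hd'⟩⟩ h
        have h1 : r * d = r' * d' := congrArg Subtype.val h
        have h2 : r'⁻¹ * r = d' * d⁻¹ := by
          rw [inv_mul_eq_iff_eq_mul, ← mul_assoc, ← h1, mul_inv_cancel_right]
        have h3 : r'⁻¹ * r = 1 := by
          apply hRD _ (R.mul_mem (R.inv_mem hr') hr)
          rw [h2]
          exact D.mul_mem hd' (D.inv_mem hd)
        have h4 : r' = r := by rwa [inv_mul_eq_one] at h3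
        rw [h3] at h2
        have h5 : d' = d := mul_inv_eq_one.1 h2.symm
        subst h4 h5
        rfl
      · rintro ⟨_, r, hr, d, hd, rfl⟩
        exact ⟨⟨⟨r, hr⟩, ⟨d, hd⟩⟩, rfl⟩
    rw [e, Nat.card_prod, H.R_card, hDcard]

/-- The extension splits. -/
theorem exists_section0 [Finite N] : ∃ φ : M24 →* N, ∀ g, f (φ g) = g := by
  classical
  obtain ⟨A, hA, hAcard⟩ := exists_sylow H
  have hcomm : IsMulCommutative f.ker := by
    constructor
    constructor
    rintro ⟨x, hx⟩ ⟨y, hy⟩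
    obtain ⟨a, ha, rfl⟩ := (H.ext.ker x).1 hx
    obtain ⟨b, hb, rfl⟩ := (H.ext.ker y).1 hy
    exact Subtype.ext (H.ext.comm ha hb)
  have hcardA : Nat.card (A.map f) = 1024 := by
    rw [← hAcard]
    symm
    apply Nat.card_eq_of_bijective (fun a : A => (⟨f a, Subgroup.mem_map_of_mem f a.2⟩ : A.map f))
    constructor
    · intro a b h
      have h1 : f a = f b := congrArg Subtype.val h
      have h2 : (a : N) * (b : N)⁻¹ = 1 := by
        apply hA _ (A.mul_mem a.2 (A.inv_mem b.2))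
        rw [map_mul, map_inv, h1, mul_inv_cancel]
      exact Subtype.ext (mul_inv_eq_one.1 h2)
    · rintro ⟨_, a, ha, rfl⟩
      exact ⟨⟨a, ha⟩, rfl⟩
  have hidx : (A.map f).index = 239085 := by
    have h1 := (A.map f).card_mul_index
    rw [hcardA, S0364.result] at h1
    omega
  have hU : (f.ker ⊔ A).index = 239085 := by
    rw [sup_comm, ← Subgroup.comap_map_eq, Subgroup.index_comap_of_surjective _ H.ext.surj, hidx]
  have hsq : ∀ k : f.ker, k * k = 1 := by
    rintro ⟨x, hx⟩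
    obtain ⟨a, ha, rfl⟩ := (H.ext.ker x).1 hx
    exact Subtype.ext (H.ext.sq ha)
  have hb : Function.Bijective fun k : f.ker => k ^ (f.ker ⊔ A).index := by
    have : (fun k : f.ker => k ^ (f.ker ⊔ A).index) = id := by
      funext k
      rw [hU, show 239085 = 2 * 119542 + 1 by norm_num, pow_add, pow_mul, pow_two, hsq, one_pow,
        pow_one, one_mul]
      rfl
    rw [this]
    exact Function.bijective_id
  obtain ⟨K, hK⟩ := Cfsg.Agent.Solvable.Gaschutz.exists_complement f.ker (f.ker ⊔ A) hb A (by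
    rw [eq_bot_iff]
    rintro x ⟨hx, hx'⟩
    exact hA x hx hx') rfl
  have hKinj : ∀ x ∈ K, f x = 1 → x = 1 := by
    intro x hx h
    have := hK.disjoint.le_bot (show x ∈ f.ker ⊓ K from ⟨h, hx⟩)
    exact this
  let e : K →* M24 := f.comp K.subtype
  have he : Function.Bijective e := by
    constructor
    · rw [injective_iff_map_eq_one]
      rintro ⟨x, hx⟩ h
      exact Subtype.ext (hKinj x hx h)
    · intro g
      obtain ⟨n, rfl⟩ := H.ext.surj g
      obtain ⟨⟨k, x⟩, hkx⟩ := hK.surjective n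
      refine ⟨x, ?_⟩
      have h1 : (k : N) * (x : N) = n := hkx
      rw [← h1, map_mul, show f (k : N) = 1 from k.2, one_mul]
      rfl
  refine ⟨K.subtype.comp (MulEquiv.ofBijective e he).symm.toMonoidHom, fun g => ?_⟩
  exact (MulEquiv.ofBijective e he).apply_symm_apply g

end main

end Cfsg.Agent.J4Type.Split2
end

-- part: J4Type/Normalise
section
/-!
Part (d): choice of the complement: it can be chosen to contain `ρ`, with `s0, t0` in `Y` and
`r0` in `R`.
-/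

set_option autoImplicit false

namespace Cfsg.Agent.J4Type.Normalise

open Cfsg Cfsg.Agent.SporadicA.GolayBase
open Cfsg.Agent.J4Type.CocodeMask Cfsg.Agent.J4Type.CocodeExt Cfsg.Agent.J4Type.SplitData
open Cfsg.Agent.J4Type.Split Cfsg.Agent.J4Type.Split2 Cfsg.Agent.J4Type.CocodeAct
open Cfsg.Agent.SporadicA.GolayPerm (papp)

/-! ### Kernel checks -/

/-- the even masks fixed by `ρ0` -/
def Fl : List ℕ := [0, 95, 435, 492, 686, 753, 797, 834, 1043, 1100, 1440, 1535, 1725, 1762, 1806, 1873, 2049, 2142,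
  2482, 2541, 2735, 2800, 2844, 2883, 3090, 3149, 3489, 3582, 3772, 3811, 3855, 3920]

theorem check_Fl : allR 12 0 (fun a => !(ev a && Nat.beq (actT Tρ a) a) || Fl.any (Nat.beq a)) =
    true := by decide +kernel

theorem mem_Fl {a : ℕ} (ha : ev a = true) (h : act ρ0 a = a) : a ∈ Fl := by
  have h1 := allR_zero_spec check_Fl a ((ev_iff a).1 ha).1
  rw [act_eq tab_ρ] at h
  rw [ha, h, Nat.beq_refl, Bool.and_true, Bool.not_true, Bool.false_or, List.any_eq_true] at h1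
  obtain ⟨b, hb, h2⟩ := h1
  rw [Nat.beq_eq] at h2
  rwa [h2]

/-- `(v, v + s0 v, v + t0 v)` for `v` fixed by `ρ0` -/
def Fv : List (ℕ × ℕ × ℕ) := [(0, 0, 0), (95, 3811, 3149), (435, 3811, 1873), (492, 0, 2844), (686, 0, 2735), (753, 3811,
  1762), (797, 3811, 3582), (834, 0, 435), (1043, 0, 2142), (1100, 3811, 1043), (1440, 3811,
  3855), (1535, 0, 834), (1725, 0, 753), (1762, 3811, 3772), (1806, 3811, 1440), (1873, 0, 2541),
  (2049, 3811, 3855), (2142, 0, 834), (2482, 0, 2142), (2541, 3811, 1043), (2735, 3811, 1440),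
  (2800, 0, 2541), (2844, 0, 753), (2883, 3811, 3772), (3090, 3811, 1873), (3149, 0, 2844), (3489,
  0, 0), (3582, 3811, 3149), (3772, 3811, 3582), (3811, 0, 435), (3855, 0, 2735), (3920, 3811,
  1762)]

theorem check_Fv : Fv.all (fun x => ev x.1 && Nat.beq (actT Tρ x.1) x.1 &&
    (Nat.beq x.2.1 (x.1 ^^^ actT Ts x.1) && Nat.beq x.2.2 (x.1 ^^^ actT Tt x.1))) = true := by
  decide +kernel

/-- masks of `1` and `z` -/
def inz (x : ℕ) : Bool := Nat.beq x 0 || Nat.beq x zm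

/-- the letters of the cocycle of a pair -/
def am (a b : ℕ) : ℕ → ℕ
  | 0 => a
  | 1 => b
  | _ => actT Tt' b

/-- the cocycle on words -/
def wm (a b : ℕ) : List ℕ → ℕ
  | [] => 0
  | x :: w => am a b x ^^^ actT (letterT x) (wm a b w)

def W1 : List ℕ := [0, 1, 0, 2, 0, 1, 0, 2, 0, 1, 0, 2]
def W2 : List ℕ := [0, 1, 1, 0, 2, 2, 0, 1, 1, 0, 2, 2]

def sol (a b : ℕ) : Bool := Fv.any fun x => inz (x.2.1 ^^^ a) && inz (x.2.2 ^^^ b)

def ap : ℕ := st 23 ^^^ st (papp Ts 23)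
def bp : ℕ := st 23 ^^^ st (papp Tt 23)

theorem check_pairs : Fl.all (fun a => Fl.all fun b =>
    !(inz (wm a b W1) && inz (wm a b W2)) || (sol a b || sol (ap ^^^ a) (bp ^^^ b))) = true := by
  decide +kernel

theorem check_m : allR 12 0 (fun m => !(ev m && (Nat.beq (actT (wT [2, 0, 1, 0, 2]) m) m &&
    (Nat.beq (actT (wT [1, 1, 1, 0, 1, 1, 1]) m) m && (Nat.beq (actT Tr m) m &&
      Nat.beq (m ^^^ actT Tr (actT Tρ m)) (actT Tr (actT Tρ (actT Tr (actT Tρ m)))))))) ||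
      Nat.beq m 0) = true := by
  decide +kernel

theorem check_pone : allR 12 0 (fun a => Nat.beq (actT pone a) a) = true := by
  decide +kernel

theorem actT_pone {a : ℕ} (ha : ev a = true) : actT pone a = a := by
  have h := allR_zero_spec check_pone a ((ev_iff a).1 ha).1
  rwa [Nat.beq_eq] at h

/-! ### Group theory -/

theorem cube_z {N : Type*} [Group N] {x z : N} (hx : x * z = z * x) (hz : z * z = 1)
    (hc : x * x * x = 1) : (x * z) * (x * z) * (x * z) = z := by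
  have h : (x * z) ^ 3 = x ^ 3 * z ^ 3 := (show Commute x z from hx).mul_pow 3
  have h3 : ∀ y : N, y ^ 3 = y * y * y := fun y => by rw [pow_succ, pow_two]
  rw [h3, h3, h3, hc, hz, one_mul, one_mul] at h
  exact h

section main

variable {N : Type*} [Group N] {f : N →* M24} {c : ℕ → N} {Y R : Subgroup N} {ρ : N}
  (H : Input f c Y R ρ)

include H

theorem c_inz {m : ℕ} (hm : ev m = true) (h : c m = 1 ∨ c m = c zm) : inz m = true := by
  unfold inz
  rw [Bool.or_eq_true, Nat.beq_eq, Nat.beq_eq]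
  rcases h with h | h
  · exact Or.inl (H.ext.inj m hm h)
  · exact Or.inr (H.ext.injOn hm ev_zm h)

theorem inz_mem {m : ℕ} (h : inz m = true) : c m ∈ Y := by
  unfold inz at h
  rw [Bool.or_eq_true, Nat.beq_eq, Nat.beq_eq] at h
  rcases h with h | h
  · rw [h, H.ext.c_zero]; exact Y.one_mem
  · rw [h]; exact H.z_mem

/-- Step 1: a section through `ρ`. -/
theorem exists_section1 [Finite N] : ∃ φ : M24 →* N, (∀ g, f (φ g) = g) ∧ φ ρ0 = ρ := by
  obtain ⟨φ, hφ⟩ := exists_section0 H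
  have h1 : f (φ ρ0) = f ρ := by rw [hφ, H.f_ρ]
  obtain ⟨b, hb, h2⟩ := H.ext.exists_mul' h1
  have hb1 : ev (act ρ0 b) = true := ev_act _ hb
  have hb2 : ev (act ρ0 (act ρ0 b)) = true := ev_act _ hb1
  have e3 : ρ0 * ρ0 * ρ0 = 1 := by rw [← H.f_ρ, ← map_mul, ← map_mul, H.ρ_cube, map_one]
  have h3 : φ ρ0 * φ ρ0 * φ ρ0 = 1 := by rw [← map_mul, ← map_mul, e3, map_one]
  have m1 := H.ext.mul_c ρ hb
  have m2 := H.ext.mul_c ρ hb1
  rw [H.f_ρ] at m1 m2
  have h4 : c (b ^^^ (act ρ0 b ^^^ act ρ0 (act ρ0 b))) = 1 := by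
    rw [H.ext.xor _ _ hb (ev_xor hb1 hb2), H.ext.xor _ _ hb1 hb2, ← h3, h2]
    symm
    calc c b * ρ * (c b * ρ) * (c b * ρ) = c b * (ρ * c b) * (ρ * c b) * ρ := by group
      _ = c b * (c (act ρ0 b) * ρ) * (c (act ρ0 b) * ρ) * ρ := by rw [m1]
      _ = c b * c (act ρ0 b) * (ρ * c (act ρ0 b)) * ρ * ρ := by group
      _ = c b * c (act ρ0 b) * (c (act ρ0 (act ρ0 b)) * ρ) * ρ * ρ := by rw [m2]
      _ = c b * (c (act ρ0 b) * c (act ρ0 (act ρ0 b))) * (ρ * ρ * ρ) := by group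
      _ = _ := by rw [H.ρ_cube, mul_one]
  have h5 := H.ext.inj _ (ev_xor hb (ev_xor hb1 hb2)) h4
  obtain ⟨ψ, hψ, h6⟩ := exists_conj H.ext hb1 hφ
  refine ⟨ψ, hψ, ?_⟩
  rw [h6, ← Nat.xor_eq_zero_iff.1 h5, h2, ← mul_assoc, H.ext.sq hb, one_mul]

/-- The part in the cocode of an element inverting `ρ`. -/
theorem act_fix {φ : M24 →* N} (hρ : φ ρ0 = ρ) {g : M24} {a : ℕ} {y : N}
    (ha : ev a = true) (hy : y ∈ Y) (fy : f y = g) (h : φ g = c a * y)
    (hg : g * ρ0 = ρ0 * ρ0 * g) : act ρ0 a = a := by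
  have e3 : ρ0 * ρ0 * ρ0 = 1 := by rw [← H.f_ρ, ← map_mul, ← map_mul, H.ρ_cube, map_one]
  -- `y ρ y⁻¹ = ρ²`
  have h1 : y * ρ * y⁻¹ = ρ * ρ := by
    have k1 : y * ρ * y⁻¹ ∈ Y := Y.mul_mem (Y.mul_mem hy H.ρ_mem) (Y.inv_mem hy)
    have k2 : ρ * ρ ∈ Y := Y.mul_mem H.ρ_mem H.ρ_mem
    have k3 : f (y * ρ * y⁻¹) = f (ρ * ρ) := by
      rw [map_mul, map_mul, map_mul, map_inv, H.f_ρ, fy, hg, mul_inv_cancel_right]
    rcases eq_or H k1 k2 k3 with k4 | k4
    · exact k4
    · exfalso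
      have k5 : (y * ρ * y⁻¹) * (y * ρ * y⁻¹) * (y * ρ * y⁻¹) = 1 := by
        have : (y * ρ * y⁻¹) * (y * ρ * y⁻¹) * (y * ρ * y⁻¹) = y * (ρ * ρ * ρ) * y⁻¹ := by group
        rw [this, H.ρ_cube, mul_one, mul_inv_cancel]
      have k6 := central_z H k2
      have k7 : (ρ * ρ) * (ρ * ρ) * (ρ * ρ) = 1 := by
        have : (ρ * ρ) * (ρ * ρ) * (ρ * ρ) = (ρ * ρ * ρ) * (ρ * ρ * ρ) := by group
        rw [this, H.ρ_cube, one_mul]
      rw [k4, cube_z k6 (z_sq H) k7] at k5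
      exact cz_ne H k5
  have h2 : φ g * φ ρ0 * (φ g)⁻¹ = φ ρ0 * φ ρ0 := by
    rw [← map_mul, hg, map_mul, map_mul, mul_inv_cancel_right]
  rw [hρ, h] at h2
  have h3 : c a * (ρ * ρ) * (c a)⁻¹ = ρ * ρ := by
    conv_rhs => rw [← h2]
    rw [← h1]
    group
  have h4 : (ρ * ρ) * c a * (ρ * ρ)⁻¹ = c a := by
    rw [mul_inv_eq_iff_eq_mul]
    rw [mul_inv_eq_iff_eq_mul] at h3
    exact h3.symm
  rw [H.ext.conj _ _ ha, map_mul, H.f_ρ] at h4
  have h5 := H.ext.injOn (ev_act _ ha) ha h4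
  rw [H.ext.act_act _ _ ha] at h5
  have h6 : act ρ0 (act ρ0 (act ρ0 a)) = a := by
    rw [← H.ext.act_act _ _ (ev_act _ ha), ← H.ext.act_act _ _ ha, e3,
      act_eq isTab_one, actT_pone ha]
  rw [h5] at h6
  exact h6

/-- The cocycle on words. -/
theorem map_word {φ : M24 →* N} {S T : N} {a b : ℕ} (hS : S ∈ Y) (fS : f S = s0) (hT : T ∈ Y)
    (fT : f T = t0) (ha : ev a = true) (hb : ev b = true) (hs : φ s0 = c a * S)
    (ht : φ t0 = c b * T) (w : List ℕ) :
    ev (wm a b w) = true ∧ ∃ y ∈ Y, f y = wE w ∧ φ (wE w) = c (wm a b w) * y := by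
  have hlet : ∀ x, ev (am a b x) = true ∧ ∃ y ∈ Y, f y = letter x ∧
      φ (letter x) = c (am a b x) * y := by
    intro x
    match x with
    | 0 => exact ⟨ha, S, hS, fS, hs⟩
    | 1 => exact ⟨hb, T, hT, fT, ht⟩
    | n + 2 =>
      have e1 : actT Tt' b = act t0⁻¹ b := (act_eq tab_t' b).symm
      refine ⟨?_, T⁻¹, Y.inv_mem hT, by rw [map_inv, fT]; rfl, ?_⟩
      · show ev (actT Tt' b) = true
        rw [e1]
        exact ev_act _ hb
      · show φ t0⁻¹ = c (actT Tt' b) * T⁻¹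
        have h1 := H.ext.mul_c T⁻¹ hb
        rw [map_inv, fT, ← e1] at h1
        rw [map_inv, ht, mul_inv_rev, H.ext.inv hb, h1]
  induction w with
  | nil => exact ⟨ev_zero, 1, Y.one_mem, map_one f, by
      show φ 1 = c 0 * 1
      rw [map_one, H.ext.c_zero, mul_one]⟩
  | cons x w ih =>
    obtain ⟨h1, y, hy, fy, h2⟩ := ih
    obtain ⟨h3, u, hu, fu, h4⟩ := hlet x
    have e1 : actT (letterT x) (wm a b w) = act (letter x) (wm a b w) :=
      (act_eq (tab_letter x) _).symm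
    have h5 : ev (actT (letterT x) (wm a b w)) = true := by rw [e1]; exact ev_act _ h1
    refine ⟨ev_xor h3 h5, u * y, Y.mul_mem hu hy, by rw [map_mul, fu, fy]; rfl, ?_⟩
    show φ (letter x * wE w) = c (am a b x ^^^ actT (letterT x) (wm a b w)) * (u * y)
    rw [map_mul, h4, h2, H.ext.xor _ _ h3 h5, e1]
    have h6 := H.ext.mul_c u h1
    rw [fu] at h6
    calc c (am a b x) * u * (c (wm a b w) * y) = c (am a b x) * (u * c (wm a b w)) * y := by group
      _ = _ := by rw [h6]; group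

theorem inz_word {φ : M24 →* N} (hρ : φ ρ0 = ρ) {S T : N} {a b : ℕ} (hS : S ∈ Y) (fS : f S = s0)
    (hT : T ∈ Y) (fT : f T = t0) (ha : ev a = true) (hb : ev b = true) (hs : φ s0 = c a * S)
    (ht : φ t0 = c b * T) (w : List ℕ) (k : ℕ) (hw : wE w = ρ0 ^ k) : inz (wm a b w) = true := by
  obtain ⟨h1, y, hy, fy, h2⟩ := map_word H hS fS hT fT ha hb hs ht w
  apply c_inz H h1
  rw [hw, map_pow, hρ] at h2
  have h3 : f (ρ ^ k) = f y := by rw [map_pow, H.f_ρ, fy, hw]
  have h4 : ρ ^ k * y⁻¹ = c (wm a b w) := by rw [h2, mul_inv_cancel_right]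
  rw [← h4]
  apply H.Y_ker _ (Y.mul_mem (Y.pow_mem H.ρ_mem k) (Y.inv_mem hy))
  rw [map_mul, map_inv, h3, mul_inv_cancel]

/-- Step 2: solution given. -/
theorem solve {φ : M24 →* N} (hφ : ∀ g, f (φ g) = g) (hρ : φ ρ0 = ρ) {S T : N} {a b : ℕ}
    (hS : S ∈ Y) (hT : T ∈ Y) (ha : ev a = true) (hb : ev b = true) (hs : φ s0 = c a * S)
    (ht : φ t0 = c b * T) (h : sol a b = true) :
    ∃ ψ : M24 →* N, (∀ g, f (ψ g) = g) ∧ ψ ρ0 = ρ ∧ ψ s0 ∈ Y ∧ ψ t0 ∈ Y := by
  unfold sol at h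
  rw [List.any_eq_true] at h
  obtain ⟨x, hx, h1⟩ := h
  rw [Bool.and_eq_true] at h1
  have h2 := List.all_eq_true.1 check_Fv x hx
  simp only [Bool.and_eq_true, Nat.beq_eq] at h2
  obtain ⟨⟨hv, h3⟩, h4, h5⟩ := h2
  obtain ⟨v, x1, x2⟩ := x
  dsimp only at *
  subst h4 h5
  obtain ⟨ψ, hψ, h6⟩ := exists_conj H.ext hv hφ
  rw [← act_eq tab_ρ] at h3
  rw [← act_eq tab_s, ← act_eq tab_t] at h1
  refine ⟨ψ, hψ, ?_, ?_, ?_⟩
  · rw [h6, h3, Nat.xor_self, H.ext.c_zero, one_mul, hρ]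
  · rw [h6, hs, ← mul_assoc, ← H.ext.xor _ _ (ev_xor hv (ev_act _ hv)) ha]
    exact Y.mul_mem (inz_mem H h1.1) hS
  · rw [h6, ht, ← mul_assoc, ← H.ext.xor _ _ (ev_xor hv (ev_act _ hv)) hb]
    exact Y.mul_mem (inz_mem H h1.2) hT

/-- Step 2: a section with `s0`, `t0` in `Y`. -/
theorem exists_section2 [Finite N] :
    ∃ φ : M24 →* N, (∀ g, f (φ g) = g) ∧ φ ρ0 = ρ ∧ φ s0 ∈ Y ∧ φ t0 ∈ Y := by
  obtain ⟨φ, hφ, hρ⟩ := exists_section1 H
  obtain ⟨S, hS, fS⟩ := H.s_mem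
  obtain ⟨T, hT, fT⟩ := H.t_mem
  obtain ⟨a, ha, hs⟩ := H.ext.exists_mul' (show f (φ s0) = f S by rw [hφ, fS])
  obtain ⟨b, hb, ht⟩ := H.ext.exists_mul' (show f (φ t0) = f T by rw [hφ, fT])
  have is : s0 * ρ0 = ρ0 * ρ0 * s0 := (tab_s.mul tab_ρ).eq (by
    rw [show pcomp Ts Tρ = pcomp (pcomp Tρ Tρ) Ts by decide +kernel]
    exact (tab_ρ.mul tab_ρ).mul tab_s)
  have it : t0 * ρ0 = ρ0 * ρ0 * t0 := (tab_t.mul tab_ρ).eq (by
    rw [show pcomp Tt Tρ = pcomp (pcomp Tρ Tρ) Tt by decide +kernel]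
    exact (tab_ρ.mul tab_ρ).mul tab_t)
  have fa := mem_Fl ha (act_fix H hρ ha hS fS hs is)
  have fb := mem_Fl hb (act_fix H hρ hb hT fT ht it)
  have w1 : wE W1 = ρ0 ^ 0 := (tab_w W1).eq (by
    rw [pow_zero, show wT W1 = pone by decide +kernel]
    exact isTab_one)
  have w2 : wE W2 = ρ0 ^ 1 := (tab_w W2).eq (by
    rw [pow_one, show wT W2 = Tρ by decide +kernel]
    exact tab_ρ)
  have i1 := inz_word H hρ hS fS hT fT ha hb hs ht W1 0 w1
  have i2 := inz_word H hρ hS fS hT fT ha hb hs ht W2 1 w2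
  have h1 := List.all_eq_true.1 (List.all_eq_true.1 check_pairs a fa) b fb
  rw [i1, i2, Bool.and_true, Bool.not_true, Bool.false_or, Bool.or_eq_true] at h1
  rcases h1 with h1 | h1
  · exact solve H hφ hρ hS hT ha hb hs ht h1
  · obtain ⟨ψ, hψ, h2⟩ := exists_twist H.ext (pt 23) hφ
    have i23 : idx (pt 23) = 23 := idx_pt (by norm_num)
    have eρ : (ρ0 : Equiv.Perm GolayPt) (pt 23) = pt 23 := by
      apply idx_injective
      rw [tab_ρ, i23]
      decide +kernel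
    have es : du (pt 23) ((s0 : Equiv.Perm GolayPt) (pt 23)) = ap := by
      unfold du ap
      rw [tab_s, i23]
    have et : du (pt 23) ((t0 : Equiv.Perm GolayPt) (pt 23)) = bp := by
      unfold du bp
      rw [tab_t, i23]
    have ea : ev ap = true := by rw [← es]; exact ev_du _ _
    have eb : ev bp = true := by rw [← et]; exact ev_du _ _
    refine solve H (a := ap ^^^ a) (b := bp ^^^ b) hψ ?_ hS hT (ev_xor ea ha) (ev_xor eb hb) ?_ ?_
      h1
    · rw [h2, eρ, du_self, H.ext.c_zero, one_mul, hρ]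
    · rw [h2, es, hs, ← mul_assoc, H.ext.xor _ _ ea ha]
    · rw [h2, et, ht, ← mul_assoc, H.ext.xor _ _ eb hb]

omit H in
theorem word_mem_Y {φ : M24 →* N} (hs : φ s0 ∈ Y) (ht : φ t0 ∈ Y) (w : List ℕ) :
    φ (wE w) ∈ Y := by
  induction w with
  | nil => rw [show wE [] = 1 from rfl, map_one]; exact Y.one_mem
  | cons x w ih =>
    rw [show wE (x :: w) = letter x * wE w from rfl, map_mul]
    apply Y.mul_mem _ ih
    match x with
    | 0 => exact hs
    | 1 => exact ht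
    | n + 2 =>
      show φ t0⁻¹ ∈ Y
      rw [map_inv]
      exact Y.inv_mem ht

theorem R_inj {x y : N} (hx : x ∈ R) (hy : y ∈ R) (h : f x = f y) : x = y := by
  have h1 := H.R_ker (x * y⁻¹) (R.mul_mem hx (R.inv_mem hy)) (by
    rw [map_mul, map_inv, h, mul_inv_cancel])
  exact mul_inv_eq_one.1 h1

/-- **Part (d)**: a complement of the cocode, adapted to `Y` and `R`. -/
theorem exists_section [Finite N] :
    ∃ φ : M24 →* N, (∀ g, f (φ g) = g) ∧ φ ρ0 = ρ ∧ φ s0 ∈ Y ∧ φ t0 ∈ Y ∧ φ r0 ∈ R := by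
  obtain ⟨φ, hφ, hρ, hs, ht⟩ := exists_section2 H
  refine ⟨φ, hφ, hρ, hs, ht, ?_⟩
  obtain ⟨u, hu, fu⟩ := H.R_r0
  obtain ⟨m, hm, h1⟩ := H.ext.exists_mul' (show f (φ r0) = f u by rw [hφ, fu])
  -- words commuting with `r0`
  have key : ∀ w : List ℕ, pcomp (wT w) Tr = pcomp Tr (wT w) → actT (wT w) m = m := by
    intro w hw
    have e1 : wE w * r0 = r0 * wE w := ((tab_w w).mul tab_r).eq (by
      rw [hw]
      exact tab_r.mul (tab_w w))
    have k1 := word_mem_Y hs ht w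
    have k2 : φ (wE w) * u * (φ (wE w))⁻¹ = u := by
      apply R_inj H (H.R_conj _ k1 _ hu) hu
      rw [map_mul, map_mul, map_inv, hφ, fu, e1, mul_inv_cancel_right]
    have k3 : φ (wE w) * φ r0 * (φ (wE w))⁻¹ = φ r0 := by
      rw [← map_mul, e1, map_mul, mul_inv_cancel_right]
    rw [h1] at k3
    have k4 : (φ (wE w) * c m * (φ (wE w))⁻¹) * (φ (wE w) * u * (φ (wE w))⁻¹) = c m * u := by
      rw [← k3]
      group
    rw [k2, H.ext.conj _ _ hm, hφ] at k4
    rw [← act_eq (tab_w w)]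
    exact H.ext.injOn (ev_act _ hm) hm (mul_right_cancel k4)
  have h2 := key [2, 0, 1, 0, 2] (by decide +kernel)
  have h3 := key [1, 1, 1, 0, 1, 1, 1] (by decide +kernel)
  have u2 : u * u = 1 := by
    apply H.R_ker _ (R.mul_mem hu hu)
    rw [map_mul, fu]
    exact sq_eq tab_r (by decide +kernel)
  have mu := H.ext.mul_c u hm
  rw [fu] at mu
  have h4 : act r0 m = m := by
    have k1 : φ r0 * φ r0 = 1 := by
      rw [← map_mul, sq_eq tab_r (by decide +kernel), map_one]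
    rw [h1] at k1
    have k2 : c (m ^^^ act r0 m) = 1 := by
      rw [H.ext.xor _ _ hm (ev_act _ hm), ← k1]
      symm
      calc c m * u * (c m * u) = c m * (u * c m) * u := by group
        _ = c m * (c (act r0 m) * u) * u := by rw [mu]
        _ = c m * c (act r0 m) * (u * u) := by group
        _ = _ := by rw [u2, mul_one]
    exact (Nat.xor_eq_zero_iff.1 (H.ext.inj _ (ev_xor hm (ev_act _ hm)) k2)).symm
  have h5 : m ^^^ act r0 (act ρ0 m) = act r0 (act ρ0 (act r0 (act ρ0 m))) := by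
    have hm1 : ev (act r0 (act ρ0 m)) = true := ev_act _ (ev_act _ hm)
    have hm2 : ev (act r0 (act ρ0 (act r0 (act ρ0 m)))) = true := ev_act _ (ev_act _ hm1)
    have e3 : (r0 * ρ0) * (r0 * ρ0) * (r0 * ρ0) = 1 :=
      (((tab_r.mul tab_ρ).mul (tab_r.mul tab_ρ)).mul (tab_r.mul tab_ρ)).eq (by
        rw [show pcomp (pcomp (pcomp Tr Tρ) (pcomp Tr Tρ)) (pcomp Tr Tρ) = pone by decide +kernel]
        exact isTab_one)
    have k1 : φ (r0 * ρ0) * φ (r0 * ρ0) * φ (r0 * ρ0) = 1 := by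
      rw [← map_mul, ← map_mul, e3, map_one]
    have k2 : φ (r0 * ρ0) = c m * (u * ρ) := by rw [map_mul, h1, hρ, mul_assoc]
    have k3 : (u * ρ) * (u * ρ) * (u * ρ) = 1 := by
      have k4 : (u * ρ) * (u * ρ) * (u * ρ) =
          u * (ρ * u * ρ⁻¹) * ((ρ * ρ) * u * (ρ * ρ)⁻¹) * (ρ * ρ * ρ) := by group
      rw [H.ρ_cube, mul_one] at k4
      have k5 : (u * ρ) * (u * ρ) * (u * ρ) ∈ R := by
        rw [k4]
        exact R.mul_mem (R.mul_mem hu (H.R_conj _ H.ρ_mem _ hu))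
          (H.R_conj _ (Y.mul_mem H.ρ_mem H.ρ_mem) _ hu)
      apply H.R_ker _ k5
      rw [map_mul, map_mul, map_mul, fu, H.f_ρ, e3]
    have fx : f (u * ρ) = r0 * ρ0 := by rw [map_mul, fu, H.f_ρ]
    have m1 := H.ext.mul_c (u * ρ) hm
    have m2 := H.ext.mul_c (u * ρ) hm1
    rw [fx, H.ext.act_act _ _ hm] at m1
    rw [fx, H.ext.act_act _ _ hm1] at m2
    have k6 : c (m ^^^ (act r0 (act ρ0 m) ^^^ act r0 (act ρ0 (act r0 (act ρ0 m))))) = 1 := by
      rw [H.ext.xor _ _ hm (ev_xor hm1 hm2), H.ext.xor _ _ hm1 hm2, ← k1, k2]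
      generalize u * ρ = x at *
      symm
      calc c m * x * (c m * x) * (c m * x) = c m * (x * c m) * (x * c m) * x := by group
        _ = c m * (c (act r0 (act ρ0 m)) * x) * (c (act r0 (act ρ0 m)) * x) * x := by rw [m1]
        _ = c m * c (act r0 (act ρ0 m)) * (x * c (act r0 (act ρ0 m))) * x * x := by group
        _ = c m * c (act r0 (act ρ0 m)) * (c (act r0 (act ρ0 (act r0 (act ρ0 m)))) * x) *
              x * x := by rw [m2]
        _ = c m * (c (act r0 (act ρ0 m)) * c (act r0 (act ρ0 (act r0 (act ρ0 m))))) *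
              (x * x * x) := by group
        _ = _ := by rw [k3, mul_one]
    have k7 := H.ext.inj _ (ev_xor hm (ev_xor hm1 hm2)) k6
    rw [← Nat.xor_assoc] at k7
    exact Nat.xor_eq_zero_iff.1 k7
  have h6 : m = 0 := by
    have k1 := allR_zero_spec check_m m ((ev_iff m).1 hm).1
    rw [act_eq tab_r] at h4
    simp only [act_eq tab_r, act_eq tab_ρ] at h5
    rw [hm, h2, h3, h4, h5] at k1
    simpa [Nat.beq_eq] using k1
  rw [h1, h6, H.ext.c_zero, one_mul]
  exact hu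

end main

end Cfsg.Agent.J4Type.Normalise
end

-- part: J4Type/SextetStab
section
/-!
The stabiliser of the sextet `S0` in `M24`: every element is a product of a word in `s0`, `t0`, a
translation (a product of conjugates of `r0`), and a power of `ρ0`.
-/

set_option autoImplicit false

namespace Cfsg.Agent.J4Type.SextetStab

open Cfsg Cfsg.Agent.SporadicA.GolayBase
open Cfsg.Agent.J4Type Cfsg.Agent.J4Type.CocodeMask Cfsg.Agent.J4Type.SplitData
open Cfsg.Agent.J4Type.Split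
open Cfsg.Agent.SporadicA.GolayPerm (papp)
open scoped Pointwise

/-! ### Columns -/

/-- `g` fixes all tetrads of `S0` -/
def ColFix (g : M24) : Prop := ∀ p : GolayPt, col (idx ((g : Equiv.Perm GolayPt) p)) = col (idx p)

theorem colFix_one : ColFix 1 := fun _ => rfl

theorem ColFix.mul {g h : M24} (hg : ColFix g) (hh : ColFix h) : ColFix (g * h) := by
  intro p
  exact (hg ((h : Equiv.Perm GolayPt) p)).trans (hh p)

theorem ColFix.inv {g : M24} (hg : ColFix g) : ColFix g⁻¹ := by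
  intro p
  have h := hg (((g⁻¹ : M24) : Equiv.Perm GolayPt) p)
  have h1 : (g : Equiv.Perm GolayPt) (((g⁻¹ : M24) : Equiv.Perm GolayPt) p) = p :=
    Equiv.apply_symm_apply (g : Equiv.Perm GolayPt) p
  rw [h1] at h
  exact h.symm

theorem ColFix.pow {g : M24} (hg : ColFix g) (k : ℕ) : ColFix (g ^ k) := by
  induction k with
  | zero => rw [pow_zero]; exact colFix_one
  | succ k ih => rw [pow_succ]; exact ih.mul hg

theorem mem_tet_iff : ∀ (i : Fin 6) (p : GolayPt), p ∈ tet i ↔ col (idx p) = (i : ℕ) := by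
  decide +kernel

theorem col_lt : ∀ p : GolayPt, col (idx p) < 6 := by decide +kernel

theorem colFix_iff (g : M24) : ColFix g ↔ ∀ i, (g : Equiv.Perm GolayPt) • tet i = tet i := by
  constructor
  · intro h i
    apply Finset.eq_of_subset_of_card_le
    · intro p hp
      rw [Finset.mem_smul_finset] at hp
      obtain ⟨q, hq, rfl⟩ := hp
      rw [mem_tet_iff] at hq ⊢
      exact (h q).trans hq
    · rw [Finset.card_smul_finset]
  · intro h p
    have h1 : p ∈ tet ⟨col (idx p), col_lt p⟩ := (mem_tet_iff _ _).2 rfl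
    have h2 : (g : Equiv.Perm GolayPt) • p ∈ (g : Equiv.Perm GolayPt) •
        tet ⟨col (idx p), col_lt p⟩ := Finset.smul_mem_smul_finset h1
    rw [h, mem_tet_iff] at h2
    exact h2

/-- tables fixing the columns -/
def colFixT (T : ℕ) : Bool := (List.range 24).all fun i => Nat.beq (col (papp T i)) (col i)

theorem colFix_of_tab {g : M24} {T : ℕ} (hg : IsTab g T) (h : colFixT T = true) : ColFix g := by
  intro p
  rw [hg]
  unfold colFixT at h
  have h1 := List.all_eq_true.1 h (idx p) (List.mem_range.2 (idx_lt p))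
  rwa [Nat.beq_eq] at h1

/-! ### Trivial elements -/

/-- The octad `(tet 0 \ mog 0 0) ∪ {mog i 0 : i ≠ 0}`. -/
def oct0 : Finset GolayPt :=
  {mog 0 1, mog 0 2, mog 0 3, mog 1 0, mog 2 0, mog 3 0, mog 4 0, mog 5 0}

theorem oct0_mem : oct0 ∈ octads := by
  rw [mem_octads_iff]
  decide +kernel

theorem eq_one_of_fix {g : M24} (hg : ColFix g)
    (h0 : (g : Equiv.Perm GolayPt) (mog 0 0) = mog 0 0)
    (h01 : (g : Equiv.Perm GolayPt) (mog 0 1) = mog 0 1)
    (h1 : (g : Equiv.Perm GolayPt) (mog 1 0) = mog 1 0)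
    (h2 : (g : Equiv.Perm GolayPt) (mog 2 0) = mog 2 0) : g = 1 := by
  classical
  have hcol : ∀ p, p ∈ tet 0 → p ≠ mog 0 0 → (g : Equiv.Perm GolayPt) p ∈ oct0 := by
    intro p hp hp0
    have h3 : (g : Equiv.Perm GolayPt) p ∈ tet 0 := by
      rw [mem_tet_iff] at hp ⊢
      exact (hg p).trans hp
    have h4 : (g : Equiv.Perm GolayPt) p ≠ mog 0 0 := by
      intro h
      apply hp0
      exact (g : Equiv.Perm GolayPt).injective (h.trans h0.symm)
    have h5 : ∀ q : GolayPt, q ∈ tet 0 → q ≠ mog 0 0 → q ∈ oct0 := by decide +kernel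
    exact h5 _ h3 h4
  have hO : (g : Equiv.Perm GolayPt) • oct0 = oct0 := by
    have k1 : (g : Equiv.Perm GolayPt) • oct0 ∈ octads :=
      (SporadicA.GolayPerm.smul_mem_octads g.2).2 oct0_mem
    have k2 : (({mog 0 1, mog 0 2, mog 0 3, mog 1 0, mog 2 0} : Finset GolayPt)).card = 5 := by
      decide +kernel
    have k3 : ((g : Equiv.Perm GolayPt) •
        ({mog 0 1, mog 0 2, mog 0 3, mog 1 0, mog 2 0} : Finset GolayPt)).card = 5 := by
      rw [Finset.card_smul_finset, k2]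
    have k4 : (g : Equiv.Perm GolayPt) •
        ({mog 0 1, mog 0 2, mog 0 3, mog 1 0, mog 2 0} : Finset GolayPt) ⊆ oct0 := by
      intro p hp
      rw [Finset.mem_smul_finset] at hp
      obtain ⟨q, hq, rfl⟩ := hp
      simp only [Finset.mem_insert, Finset.mem_singleton] at hq
      have c1 : mog 0 1 ∈ tet 0 ∧ mog 0 1 ≠ mog 0 0 := by decide +kernel
      have c2 : mog 0 2 ∈ tet 0 ∧ mog 0 2 ≠ mog 0 0 := by decide +kernel
      have c3 : mog 0 3 ∈ tet 0 ∧ mog 0 3 ≠ mog 0 0 := by decide +kernel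
      rcases hq with rfl | rfl | rfl | rfl | rfl
      · exact hcol _ c1.1 c1.2
      · exact hcol _ c2.1 c2.2
      · exact hcol _ c3.1 c3.2
      · rw [Equiv.Perm.smul_def, h1]; decide +kernel
      · rw [Equiv.Perm.smul_def, h2]; decide +kernel
    have k5 : (g : Equiv.Perm GolayPt) •
        ({mog 0 1, mog 0 2, mog 0 3, mog 1 0, mog 2 0} : Finset GolayPt) ⊆
          (g : Equiv.Perm GolayPt) • oct0 := by
      apply Finset.smul_finset_subset_smul_finset
      decide +kernel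
    obtain ⟨b, -, hb⟩ := S0363.result.2 _ k3
    rw [hb _ ⟨k1, k5⟩, hb _ ⟨oct0_mem, k4⟩]
  have key : ∀ i : Fin 6, i ≠ 0 → (g : Equiv.Perm GolayPt) (mog i 0) = mog i 0 := by
    intro i hi
    have e1 : ∀ i : Fin 6, i ≠ 0 → mog i 0 ∈ oct0 ∧ mog i 0 ∈ tet i := by decide +kernel
    have e2 : ∀ i : Fin 6, i ≠ 0 → ∀ p : GolayPt, p ∈ oct0 → p ∈ tet i → p = mog i 0 := by
      decide +kernel
    apply e2 i hi
    · have := Finset.smul_mem_smul_finset (a := (g : Equiv.Perm GolayPt)) (e1 i hi).1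
      rwa [hO] at this
    · have h3 := (e1 i hi).2
      rw [mem_tet_iff] at h3 ⊢
      exact (hg _).trans h3
  apply Subtype.ext
  refine SporadicStructure.M24Frame.eq_one_of_fix_frame g.2 oct0_mem
    (s := {mog 0 1, mog 1 0, mog 2 0, mog 3 0, mog 4 0, mog 5 0}) ?_ ?_ ?_ (p := mog 0 0) ?_ h0
  · decide +kernel
  · decide +kernel
  · intro z hz
    simp only [Finset.mem_insert, Finset.mem_singleton] at hz
    rcases hz with rfl | rfl | rfl | rfl | rfl | rfl
    · exact h01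
    · exact h1
    · exact h2
    · exact key 3 (by decide)
    · exact key 4 (by decide)
    · exact key 5 (by decide)
  · decide +kernel

/-! ### Translations -/

/-- Tables of six translations generating the group of translations. -/
def Te : Fin 6 → ℕ :=
  ![29340620570662517957029049942508631, 70399228063273750146191920654811874,
    984202951082164080105044112956360736, 984724508489452699215480746259449888,
    Tr, 972512676110088067912772961567868960]

/-- Words conjugating `r0` to them. -/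
def we : Fin 6 → List ℕ :=
  ![[1, 1, 1, 0, 2, 2], [1], [2, 2, 0, 1, 1, 0, 1], [0, 2, 0, 1, 1], [], [1, 1, 0, 2, 2]]

theorem check_tr : ∀ k, (SporadicA.GolayPerm.isPerm (Te k) && SporadicA.GolayPerm.isAut (Te k)) =
    true := by decide +kernel

/-- the six translations -/
noncomputable def tr (k : Fin 6) : M24 := mk (Te k) (check_tr k)

theorem tab_tr (k : Fin 6) : IsTab (tr k) (Te k) := isTab_mk _ _

theorem check_conj : ∀ k, pcomp (wT (we k)) Tr = pcomp (Te k) (wT (we k)) := by decide +kernel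

theorem tr_eq (k : Fin 6) : tr k = wE (we k) * r0 * (wE (we k))⁻¹ := by
  rw [eq_mul_inv_iff_mul_eq]
  exact ((tab_tr k).mul (tab_w _)).eq (by
    rw [← check_conj]
    exact (tab_w _).mul tab_r)

/-- tables moving `mog i c` to `mog i 0` (`i < 3`) -/
def Tc (i : Fin 3) (c : Fin 4) : ℕ :=
  match i, c with
  | _, 0 => pone
  | 0, 1 => Te 0
  | 0, 2 => Te 1
  | 0, 3 => pcomp (Te 0) (Te 1)
  | 1, 1 => Te 2
  | 1, 2 => Te 3
  | 1, 3 => pcomp (Te 2) (Te 3)
  | 2, 1 => Te 4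
  | 2, 2 => Te 5
  | 2, 3 => pcomp (Te 4) (Te 5)

/-- the corresponding translations -/
noncomputable def tc (i : Fin 3) (c : Fin 4) : M24 :=
  match i, c with
  | _, 0 => 1
  | 0, 1 => tr 0
  | 0, 2 => tr 1
  | 0, 3 => tr 0 * tr 1
  | 1, 1 => tr 2
  | 1, 2 => tr 3
  | 1, 3 => tr 2 * tr 3
  | 2, 1 => tr 4
  | 2, 2 => tr 5
  | 2, 3 => tr 4 * tr 5

theorem tab_tc (i : Fin 3) (c : Fin 4) : IsTab (tc i c) (Tc i c) := by
  fin_cases i <;> fin_cases c <;> first
    | exact isTab_one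
    | exact tab_tr _
    | exact (tab_tr _).mul (tab_tr _)

/-- the group of translations -/
noncomputable def TG : Subgroup M24 := Subgroup.closure (Set.range tr)

theorem tr_mem (k : Fin 6) : tr k ∈ TG := Subgroup.subset_closure ⟨k, rfl⟩

theorem tc_mem (i : Fin 3) (c : Fin 4) : tc i c ∈ TG := by
  fin_cases i <;> fin_cases c <;> first
    | exact TG.one_mem
    | exact tr_mem _
    | exact TG.mul_mem (tr_mem _) (tr_mem _)

/-- the columns `0, 1, 2` -/
def c3 (i : Fin 3) : Fin 6 := ⟨i, by omega⟩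

theorem check_tc : ∀ i c, colFixT (Tc i c) = true ∧
    papp (Tc i c) (idx (mog (c3 i) c)) = idx (mog (c3 i) 0) ∧
    ∀ j, j ≠ i → ∀ d, papp (Tc i c) (idx (mog (c3 j) d)) = idx (mog (c3 j) d) := by
  decide +kernel

theorem tc_colFix (i : Fin 3) (c : Fin 4) : ColFix (tc i c) :=
  colFix_of_tab (tab_tc i c) (check_tc i c).1

theorem tc_apply (i : Fin 3) (c : Fin 4) :
    (tc i c : Equiv.Perm GolayPt) (mog (c3 i) c) = mog (c3 i) 0 := by
  apply idx_injective
  rw [tab_tc, (check_tc i c).2.1]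

theorem tc_apply' (i : Fin 3) (c : Fin 4) {j : Fin 3} (hj : j ≠ i) (d : Fin 4) :
    (tc i c : Equiv.Perm GolayPt) (mog (c3 j) d) = mog (c3 j) d := by
  apply idx_injective
  rw [tab_tc, (check_tc i c).2.2 j hj]

theorem exists_mog {i : Fin 6} {p : GolayPt} (h : p ∈ tet i) : ∃ c, p = mog i c := by
  unfold tet at h
  rw [Finset.mem_image] at h
  obtain ⟨c, -, hc⟩ := h
  exact ⟨c, hc.symm⟩

theorem exists_mog_image {g : M24} (hg : ColFix g) (i : Fin 6) (c : Fin 4) :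
    ∃ d, (g : Equiv.Perm GolayPt) (mog i c) = mog i d := by
  apply exists_mog
  have h : ∀ (i : Fin 6) (c : Fin 4), mog i c ∈ tet i := by decide +kernel
  have h1 := h i c
  rw [mem_tet_iff] at h1 ⊢
  exact (hg _).trans h1

theorem colFix_ρ : ColFix ρ0 := colFix_of_tab tab_ρ (by decide +kernel)

/-- An element fixing all tetrads is a translation times a power of `ρ0`. -/
theorem exists_of_colFix {g : M24} (hg : ColFix g) : ∃ τ ∈ TG, ∃ k : ℕ, k < 3 ∧ g = τ * ρ0 ^ k := by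
  -- move `mog 0 0`, `mog 1 0`, `mog 2 0` back
  have step : ∀ i : Fin 3, ∀ h : M24, ColFix h → ∃ τ ∈ TG, ColFix (τ * h) ∧
      ((τ * h : M24) : Equiv.Perm GolayPt) (mog (c3 i) 0) = mog (c3 i) 0 ∧
      ∀ j, j ≠ i → (h : Equiv.Perm GolayPt) (mog (c3 j) 0) = mog (c3 j) 0 →
        ((τ * h : M24) : Equiv.Perm GolayPt) (mog (c3 j) 0) = mog (c3 j) 0 := by
    intro i h hh
    obtain ⟨c, hc⟩ := exists_mog_image hh (c3 i) 0
    refine ⟨tc i c, tc_mem i c, (tc_colFix i c).mul hh, ?_, ?_⟩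
    · show (tc i c : Equiv.Perm GolayPt) ((h : Equiv.Perm GolayPt) (mog (c3 i) 0)) = _
      rw [hc, tc_apply]
    · intro j hj hj'
      show (tc i c : Equiv.Perm GolayPt) ((h : Equiv.Perm GolayPt) (mog (c3 j) 0)) = _
      rw [hj', tc_apply' i c hj]
  obtain ⟨τ0, m0, f0, a0, -⟩ := step 0 g hg
  obtain ⟨τ1, m1, f1, a1, b1⟩ := step 1 _ f0
  obtain ⟨τ2, m2, f2, a2, b2⟩ := step 2 _ f1
  have p0 := b2 0 (by decide) (b1 0 (by decide) a0)
  have p1 := b2 1 (by decide) a1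
  have p2 := a2
  rw [show c3 0 = 0 from rfl] at p0
  rw [show c3 1 = 1 from rfl] at p1
  rw [show c3 2 = 2 from rfl] at p2
  generalize hg' : τ2 * (τ1 * (τ0 * g)) = g' at *
  obtain ⟨d, hd⟩ := exists_mog_image f2 0 1
  have hd0 : d ≠ 0 := by
    rintro rfl
    have h := (g' : Equiv.Perm GolayPt).injective (hd.trans p0.symm)
    exact absurd h (by decide +kernel)
  obtain ⟨k, hk, hk1⟩ : ∃ k < 3, (ρ0 ^ k : M24) = g' := by
    -- `ρ0 ^ k` moves `mog 0 1` to `mog 0 d`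
    have hρ : ∀ k, k < 3 → IsTab (ρ0 ^ k) (Nat.iterate (pcomp Tρ) k pone) := by
      intro k hk
      interval_cases k
      · exact isTab_one
      · rw [pow_one]
        exact (by
          have h := tab_ρ.mul isTab_one
          rwa [mul_one] at h)
      · rw [pow_two]
        have h := tab_ρ.mul (tab_ρ.mul isTab_one)
        rwa [mul_one] at h
    have hch : ∀ d : Fin 4, d ≠ 0 → ∃ k < 3,
        papp (Nat.iterate (pcomp Tρ) k pone) (idx (mog 0 1)) = idx (mog 0 d) ∧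
        papp (Nat.iterate (pcomp Tρ) k pone) (idx (mog 0 0)) = idx (mog 0 0) ∧
        papp (Nat.iterate (pcomp Tρ) k pone) (idx (mog 1 0)) = idx (mog 1 0) ∧
        papp (Nat.iterate (pcomp Tρ) k pone) (idx (mog 2 0)) = idx (mog 2 0) := by
      decide +kernel
    obtain ⟨k, hk, e1, e2, e3, e4⟩ := hch d hd0
    refine ⟨k, hk, ?_⟩
    rw [← inv_mul_eq_one]
    have q1 : ((ρ0 ^ k : M24) : Equiv.Perm GolayPt) (mog 0 1) = mog 0 d := by
      apply idx_injective; rw [hρ k hk, e1]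
    have q2 : ((ρ0 ^ k : M24) : Equiv.Perm GolayPt) (mog 0 0) = mog 0 0 := by
      apply idx_injective; rw [hρ k hk, e2]
    have q3 : ((ρ0 ^ k : M24) : Equiv.Perm GolayPt) (mog 1 0) = mog 1 0 := by
      apply idx_injective; rw [hρ k hk, e3]
    have q4 : ((ρ0 ^ k : M24) : Equiv.Perm GolayPt) (mog 2 0) = mog 2 0 := by
      apply idx_injective; rw [hρ k hk, e4]
    have inv : ∀ p q : GolayPt, ((ρ0 ^ k : M24) : Equiv.Perm GolayPt) p = q →
        (((ρ0 ^ k)⁻¹ : M24) : Equiv.Perm GolayPt) q = p := by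
      rintro p q rfl
      exact Equiv.symm_apply_apply ((ρ0 ^ k : M24) : Equiv.Perm GolayPt) p
    refine eq_one_of_fix ((colFix_ρ.pow k).inv.mul f2) ?_ ?_ ?_ ?_
    · show (((ρ0 ^ k)⁻¹ : M24) : Equiv.Perm GolayPt) ((g' : Equiv.Perm GolayPt) (mog 0 0)) = _
      rw [p0, inv _ _ q2]
    · show (((ρ0 ^ k)⁻¹ : M24) : Equiv.Perm GolayPt) ((g' : Equiv.Perm GolayPt) (mog 0 1)) = _
      rw [hd, inv _ _ q1]
    · show (((ρ0 ^ k)⁻¹ : M24) : Equiv.Perm GolayPt) ((g' : Equiv.Perm GolayPt) (mog 1 0)) = _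
      rw [p1, inv _ _ q3]
    · show (((ρ0 ^ k)⁻¹ : M24) : Equiv.Perm GolayPt) ((g' : Equiv.Perm GolayPt) (mog 2 0)) = _
      rw [p2, inv _ _ q4]
  refine ⟨(τ2 * τ1 * τ0)⁻¹, TG.inv_mem (TG.mul_mem (TG.mul_mem m2 m1) m0), k, hk, ?_⟩
  rw [hk1, ← hg']
  group

/-! ### Permutations of the columns -/

theorem tet_injective : Function.Injective tet := by decide +kernel

/-- the words in `s0`, `t0` -/
noncomputable def ΛG : Subgroup M24 := Subgroup.closure {s0, t0}

theorem check_cols : ∀ i : Fin 6, ∀ c : Fin 4,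
    col (papp Ts (idx (mog i c))) = (Equiv.swap (0 : Fin 6) 1 i : Fin 6) ∧
    col (papp Tt (idx (mog i c))) = (finRotate 6 i : Fin 6) := by
  decide +kernel

theorem smul_tet_of {g : M24} {i j : Fin 6}
    (h : ∀ c, col (idx ((g : Equiv.Perm GolayPt) (mog i c))) = (j : ℕ)) :
    (g : Equiv.Perm GolayPt) • tet i = tet j := by
  apply Finset.eq_of_subset_of_card_le
  · intro p hp
    rw [Finset.mem_smul_finset] at hp
    obtain ⟨q, hq, rfl⟩ := hp
    obtain ⟨c, rfl⟩ := exists_mog hq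
    rw [mem_tet_iff]
    exact h c
  · rw [Finset.card_smul_finset]
    have : ∀ i j : Fin 6, (tet j).card ≤ (tet i).card := by decide +kernel
    exact this i j

theorem s0_tet (i : Fin 6) : (s0 : Equiv.Perm GolayPt) • tet i = tet (Equiv.swap (0 : Fin 6) 1 i) :=
  smul_tet_of fun c => by rw [tab_s]; exact (check_cols i c).1

theorem t0_tet (i : Fin 6) : (t0 : Equiv.Perm GolayPt) • tet i = tet (finRotate 6 i) :=
  smul_tet_of fun c => by rw [tab_t]; exact (check_cols i c).2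

/-- the permutations of the columns induced by words -/
def colGroup : Subgroup (Equiv.Perm (Fin 6)) where
  carrier := {σ | ∃ y ∈ ΛG, ∀ i, (y : Equiv.Perm GolayPt) • tet i = tet (σ i)}
  mul_mem' := by
    rintro σ τ ⟨y, hy, h⟩ ⟨x, hx, h'⟩
    refine ⟨y * x, ΛG.mul_mem hy hx, fun i => ?_⟩
    rw [Subgroup.coe_mul, mul_smul, h', h]
    rfl
  one_mem' := ⟨1, ΛG.one_mem, fun i => by rw [Subgroup.coe_one, one_smul]; rfl⟩
  inv_mem' := by
    rintro σ ⟨y, hy, h⟩
    refine ⟨y⁻¹, ΛG.inv_mem hy, fun i => ?_⟩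
    rw [Subgroup.coe_inv, inv_smul_eq_iff, h]
    congr 1
    exact (Equiv.apply_symm_apply σ i).symm

theorem colGroup_eq_top : colGroup = ⊤ := by
  rw [eq_top_iff, ← Equiv.Perm.closure_cycle_adjacent_swap (σ := finRotate 6)
    (isCycle_finRotate (n := 4)) (support_finRotate (n := 4)) 0, Subgroup.closure_le]
  rintro σ (rfl | hσ)
  · exact ⟨t0, Subgroup.subset_closure (by simp), t0_tet⟩
  · rw [Set.mem_singleton_iff.1 hσ]
    exact ⟨s0, Subgroup.subset_closure (by simp), fun i => by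
      rw [s0_tet]
      have : finRotate 6 0 = 1 := by decide
      rw [this]⟩

/-- The stabiliser of the sextet. -/
theorem exists_of_sextet {g : M24} (hg : (g : Equiv.Perm GolayPt) • S0 = S0) :
    ∃ y ∈ ΛG, ∃ τ ∈ TG, ∃ k : ℕ, k < 3 ∧ g = y * (τ * ρ0 ^ k) := by
  classical
  have h1 : ∀ i, ∃ j, (g : Equiv.Perm GolayPt) • tet i = tet j := by
    intro i
    have h2 : tet i ∈ S0 := Finset.mem_image_of_mem _ (Finset.mem_univ _)
    have h3 : (g : Equiv.Perm GolayPt) • tet i ∈ (g : Equiv.Perm GolayPt) • S0 :=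
      Finset.smul_mem_smul_finset h2
    rw [hg] at h3
    obtain ⟨j, -, hj⟩ := Finset.mem_image.1 h3
    exact ⟨j, hj.symm⟩
  choose j hj using h1
  have hinj : Function.Injective j := by
    intro a b hab
    apply tet_injective
    apply smul_left_cancel (g : Equiv.Perm GolayPt)
    rw [hj, hj, hab]
  let σ : Equiv.Perm (Fin 6) := Equiv.ofBijective j (Finite.injective_iff_bijective.1 hinj)
  have hσ : σ ∈ colGroup := by rw [colGroup_eq_top]; trivial
  obtain ⟨y, hy, hyσ⟩ := hσ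
  have h4 : ColFix (y⁻¹ * g) := by
    rw [colFix_iff]
    intro i
    rw [Subgroup.coe_mul, Subgroup.coe_inv, mul_smul, hj, inv_smul_eq_iff, hyσ]
    rfl
  obtain ⟨τ, hτ, k, hk, h5⟩ := exists_of_colFix h4
  exact ⟨y, hy, τ, hτ, k, hk, by rw [← h5, mul_inv_cancel_left]⟩

end Cfsg.Agent.J4Type.SextetStab
end

-- part: J4Type/ComplOf
section
/-!
# Part (d): from the input of the splitting theorem to `Compl`

`exists_compl` : `Input` for a frame `F` gives a `Compl` extending `F`.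
-/

set_option autoImplicit false

namespace Cfsg.Agent.J4Type.ComplOf

open Cfsg Cfsg.Agent.J4Type Cfsg.Agent.J4Type.SplitData Cfsg.Agent.J4Type.Split
open Cfsg.Agent.J4Type.Normalise Cfsg.Agent.J4Type.SextetStab Cfsg.Agent.J4Type.CocodeMask
open Cfsg.Agent.SporadicA.GolayBase (idx)
open scoped Pointwise

section abstract

variable {N : Type*} [Group N] {f : N →* M24} {c : ℕ → N} {Y R : Subgroup N} {ρ : N}
  (H : Input f c Y R ρ)

theorem ΛG_mem {φ : M24 →* N} (hs : φ s0 ∈ Y) (ht : φ t0 ∈ Y) {y : M24} (hy : y ∈ ΛG) :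
    φ y ∈ Y := by
  have h : ΛG ≤ Y.comap φ := by
    unfold ΛG
    rw [Subgroup.closure_le]
    rintro x (rfl | hx)
    · exact hs
    · rw [Set.mem_singleton_iff.1 hx]; exact ht
  exact h hy

include H

theorem TG_mem {φ : M24 →* N} (hs : φ s0 ∈ Y) (ht : φ t0 ∈ Y) (hr : φ r0 ∈ R) {τ : M24}
    (hτ : τ ∈ TG) : φ τ ∈ R := by
  have h : TG ≤ R.comap φ := by
    unfold TG
    rw [Subgroup.closure_le]
    rintro _ ⟨k, rfl⟩
    show φ (tr k) ∈ R
    rw [tr_eq, map_mul, map_mul, map_inv]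
    exact H.R_conj _ (word_mem_Y hs ht _) _ hr
  exact h hτ

/-- Elements of order 2 fixing all tetrads are mapped into `R`. -/
theorem colFix_mem {φ : M24 →* N} (hρ : φ ρ0 = ρ) (hs : φ s0 ∈ Y)
    (ht : φ t0 ∈ Y) (hr : φ r0 ∈ R) {g : M24} (hg : ColFix g) (h2 : g * g = 1) : φ g ∈ R := by
  obtain ⟨τ, hτ, k, hk, rfl⟩ := exists_of_colFix hg
  have hτR := TG_mem H hs ht hr hτ
  have e3 : ρ0 * ρ0 * ρ0 = 1 := by rw [← H.f_ρ, ← map_mul, ← map_mul, H.ρ_cube, map_one]
  have key : k = 0 := by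
    -- `ρ ^ (2 k)` lies in `R`
    have h3 : φ (τ * ρ0 ^ k) * φ (τ * ρ0 ^ k) = 1 := by rw [← map_mul, h2, map_one]
    rw [map_mul, map_pow, hρ] at h3
    have h4 : φ τ * (ρ ^ k * φ τ * (ρ ^ k)⁻¹) * ρ ^ (2 * k) = 1 := by
      rw [← h3, two_mul, pow_add]
      group
    have h5 : φ τ * (ρ ^ k * φ τ * (ρ ^ k)⁻¹) ∈ R :=
      R.mul_mem hτR (H.R_conj _ (Y.pow_mem H.ρ_mem k) _ hτR)
    have h6 : ρ ^ (2 * k) ∈ R := by
      have := inv_eq_of_mul_eq_one_right h4
      rw [← this]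
      exact R.inv_mem h5
    have h7 : (ρ ^ (2 * k)) ^ 64 = 1 := by
      have h8 := H.R_card
      have h9 : (⟨ρ ^ (2 * k), h6⟩ : R) ^ Nat.card R = 1 := pow_card_eq_one'
      rw [h8] at h9
      exact congrArg Subtype.val h9
    have h8 : ρ ^ 3 = 1 := by rw [pow_succ, pow_two]; exact H.ρ_cube
    have hρ1 : ρ ≠ 1 := by
      intro h
      have h9 := H.f_ρ
      rw [h, map_one] at h9
      have h10 := tab_ρ (mog 0 1)
      rw [← h9] at h10
      exact absurd h10 (by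
        show ¬ (idx (mog 0 1) = _)
        decide +kernel)
    by_contra hk0
    apply hρ1
    have h9 : ρ ^ Nat.gcd (2 * k * 64) 3 = 1 := pow_gcd_eq_one.2 ⟨by rw [pow_mul, h7], h8⟩
    have h10 : Nat.gcd (2 * k * 64) 3 = 1 := by
      interval_cases k
      · exact absurd rfl hk0
      · norm_num
      · norm_num
    rwa [h10, pow_one] at h9
  rw [key, pow_zero, mul_one]
  exact hτR

end abstract

section main

open FrameDefs

variable {G : Type*} [Group G] [Finite G] (F : Frame G)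

/-- **Part (d)**: a complement, from the input of the splitting theorem. -/
theorem exists_compl {ρ' : NE F} (hρ' : ρ' = rho F ∨ ρ' = (rho F)⁻¹)
    (H : Input F.π (c F) (FrameDefs.Y F) (FrameDefs.R F) ρ') :
    ∃ C : Compl G, C.toFrame = F := by
  obtain ⟨φ, hf, hρ, hs, ht, hr⟩ := exists_section H
  refine ⟨{ toFrame := F
            φ := (NE F).subtype.comp φ
            φ_mem := fun g => (φ g).2
            π_φ := fun g => hf g
            φ_hex1 := ?_
            φ_Q := ?_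
            φ_ρ := ?_ }, rfl⟩
  · intro g x hg hx
    obtain ⟨y, hy, τ, hτ, k, -, rfl⟩ := exists_of_sextet hg
    have hyY := ΛG_mem hs ht hy
    have hτR := TG_mem H hs ht hr hτ
    obtain ⟨hyC, hy1, -⟩ := (mem_YG F.toHex).1 ((mem_Y F).1 hyY)
    have hτQ := ((mem_RG F.toHex).1 ((mem_R F).1 hτR)).2.1
    have hρY : ρ' ^ k ∈ FrameDefs.Y F := (FrameDefs.Y F).pow_mem H.ρ_mem k
    obtain ⟨hρC, hρ1, -⟩ := (mem_YG F.toHex).1 ((mem_Y F).1 hρY)
    have hx' : x = ⟨(φ y : G), hyC⟩ * (⟨(φ τ : G), zC F.toCent hτQ⟩ * ⟨((ρ' ^ k : NE F) : G), hρC⟩) := by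
      apply Subtype.ext
      rw [hx]
      show ((φ (y * (τ * ρ0 ^ k)) : NE F) : G) = (φ y : G) * ((φ τ : G) * ((ρ' ^ k : NE F) : G))
      rw [map_mul, map_mul, map_pow, hρ]
      rfl
    rw [hx', map_mul, map_mul, P_Q F.toCent hτQ, one_mul, mul_smul, hρ1, hy1]
  · intro g hg h2
    have h3 := colFix_mem H hρ hs ht hr ((colFix_iff g).2 hg) h2
    have h4 := (mem_RG F.toHex).1 ((mem_R F).1 h3)
    exact ⟨h4.2.1, h4.1⟩
  · rcases hρ' with h | h
    · exact ⟨ρ0, by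
        show ((φ ρ0 : NE F) : G) = F.ρ
        rw [hρ, h]
        rfl⟩
    · exact ⟨ρ0⁻¹, by
        show ((φ ρ0⁻¹ : NE F) : G) = F.ρ
        rw [map_inv, hρ, h, inv_inv]
        rfl⟩

end main

end Cfsg.Agent.J4Type.ComplOf
end

-- part: J4Type/ComplExists
section
/-!
# Part (d): every `Frame` extends to a `Compl`
-/

set_option autoImplicit false

namespace Cfsg.Agent.J4Type.ComplExists

open Cfsg Cfsg.Agent.J4Type Cfsg.Agent.J4Type.FrameDefs

theorem exists_compl {G : Type*} [Group G] [Finite G] (F : Frame G) :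
    ∃ C : Compl G, C.toFrame = F := by
  obtain ⟨r, hr, H⟩ := FrameInput.exists_input F
  refine ComplOf.exists_compl F (ρ' := r) ?_ H
  rcases hr with h | h
  · exact Or.inl (Subtype.ext h)
  · exact Or.inr (Subtype.ext h)

end Cfsg.Agent.J4Type.ComplExists
end

-- part: J4Type/PreHexLin
section
/-!
# Linear algebra over `F₄` for `PreHexOf`

`Bm x` (`x` four bits) : the form of the element `pb x` of `fixOct hex0`; kernels of these forms and
of the forms `C1`, `C2`.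
-/

set_option autoImplicit false

namespace Cfsg.Agent.J4Type.PreHexLin

open Cfsg SporadicA.FieldFour VCoord CentCoords

/-! ### `F₄³` -/

theorem add_self (x : F4) : x + x = 0 := by revert x; decide

theorem add_self3 (a : F43) : a + a = 0 := funext fun k => add_self (a k)

theorem add_self6 (v : V6) : v + v = 0 := Prod.ext (add_self3 v.1) (add_self3 v.2)

theorem add_eq_zero_iff3 (a b : F43) : a + b = 0 ↔ a = b := by
  constructor
  · intro h
    have h1 : a + b + b = 0 + b := by rw [h]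
    rwa [add_assoc, add_self3, add_zero, zero_add] at h1
  · rintro rfl
    exact add_self3 a

theorem add_eq_self3 (a b : F43) : a + b = a ↔ b = 0 := by
  constructor
  · intro h
    exact add_left_cancel (a := a) (by rw [h, add_zero])
  · rintro rfl
    exact add_zero a

theorem eq_vec (a : F43) : a = ![a 0, a 1, a 2] := by
  funext k
  fin_cases k <;> rfl

theorem forall_F43 {p : F43 → Prop} : (∀ a, p a) ↔ ∀ x y t : F4, p ![x, y, t] :=
  ⟨fun h x y t => h _, fun h a => by rw [eq_vec a]; exact h _ _ _⟩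

theorem sc_add (γ : F4) (a b : F43) : sc γ (a + b) = sc γ a + sc γ b :=
  funext fun k => mul_add γ (a k) (b k)

theorem sc_sc (γ δ : F4) (a : F43) : sc γ (sc δ a) = sc (γ * δ) a :=
  funext fun k => (mul_assoc γ δ (a k)).symm

theorem sc_one (a : F43) : sc 1 a = a := funext fun k => one_mul (a k)

theorem sc_zero (γ : F4) : sc γ 0 = 0 := funext fun _ => mul_zero γ

theorem scm_scm (γ δ : F4) (v : V6) : scm γ (scm δ v) = scm (γ * δ) v :=
  Prod.ext (sc_sc _ _ _) (sc_sc _ _ _)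

theorem scm_one (v : V6) : scm 1 v = v := Prod.ext (sc_one _) (sc_one _)

/-- a nonzero vector -/
def e0 : F43 := ![.o, .z, .z]

theorem e0_ne : e0 ≠ 0 := by decide +kernel

theorem eq_one_of_sc {γ : F4} (h : sc γ e0 = e0) : γ = 1 := by
  have h1 := congrFun h 0
  have h2 : γ * 1 = 1 := h1
  rwa [mul_one] at h2

/-! ### the forms -/

/-- the form of `b12` -/
def B12 (c : F43) : F43 := ![.z, c 1, c 2]
/-- the form of `b35` -/
def B35 (c : F43) : F43 := ![.v * c 1 + .w * c 2, .w * c 0 + .v * c 2, .v * c 0 + .w * c 1]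

/-- four bits -/
abbrev X : Type := Bool × Bool × Bool × Bool

/-- the form of `pb x` -/
def Bm (x : X) (c : F43) : F43 :=
  cond x.1 (B01 c) 0 + (cond x.2.1 (B12 c) 0 + (cond x.2.2.1 (B45 c) 0 + cond x.2.2.2 (B35 c) 0))

/-- the map of `pb x` -/
def Mx (x : X) (v : V6) : V6 := (v.1 + Bm x v.2, v.2)

theorem Sh3 (a : F43) : Sh (Sh (Sh a)) = a := by
  funext k
  fin_cases k <;> rfl

theorem Sh_add (a b : F43) : Sh (a + b) = Sh a + Sh b := by
  funext k
  fin_cases k <;> rfl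

theorem Dg3 : ∀ a : F43, Dg (Dg (Dg a)) = a := by
  rw [forall_F43]
  decide +kernel

theorem Dg_add (a b : F43) : Dg (a + b) = Dg a + Dg b := by
  funext k
  fin_cases k
  · rfl
  · exact mul_add _ _ _
  · exact mul_add _ _ _

theorem Sh_B01 (c : F43) : Sh (B01 (Sh (Sh c))) = B12 c := by
  funext k
  fin_cases k <;> rfl

theorem Dg_B45 : ∀ c : F43, Dg (B45 (Dg (Dg c))) = B35 c := by
  rw [forall_F43]
  decide +kernel

theorem sc_B01 : ∀ (γ : F4) (c : F43), B01 (sc γ c) = sc γ (B01 c) := by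
  intro γ
  rw [forall_F43]
  revert γ
  decide +kernel

theorem sc_B12 : ∀ (γ : F4) (c : F43), B12 (sc γ c) = sc γ (B12 c) := by
  intro γ
  rw [forall_F43]
  revert γ
  decide +kernel

theorem sc_B45 : ∀ (γ : F4) (c : F43), B45 (sc γ c) = sc γ (B45 c) := by
  intro γ
  rw [forall_F43]
  revert γ
  decide +kernel

theorem sc_B35 : ∀ (γ : F4) (c : F43), B35 (sc γ c) = sc γ (B35 c) := by
  intro γ
  rw [forall_F43]
  revert γ
  decide +kernel

theorem sc_Dg : ∀ (γ : F4) (c : F43), Dg (sc γ c) = sc γ (Dg c) := by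
  intro γ
  rw [forall_F43]
  revert γ
  decide +kernel

theorem sc_Sh (γ : F4) (c : F43) : Sh (sc γ c) = sc γ (Sh c) := by
  funext k
  fin_cases k <;> rfl

theorem C1_zero : C1 0 = 0 := by decide +kernel
theorem C2_zero : C2 0 = 0 := by decide +kernel

theorem sc_cond (γ : F4) (b : Bool) (f : F43 → F43) (hf : ∀ c, f (sc γ c) = sc γ (f c)) (c : F43) :
    cond b (f (sc γ c)) 0 = sc γ (cond b (f c) 0) := by
  cases b
  · exact (sc_zero γ).symm
  · exact hf c

theorem sc_Bm (x : X) (γ : F4) (c : F43) : Bm x (sc γ c) = sc γ (Bm x c) := by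
  unfold Bm
  rw [sc_add, sc_add, sc_add, sc_cond γ _ _ (sc_B01 γ), sc_cond γ _ _ (sc_B12 γ),
    sc_cond γ _ _ (sc_B45 γ), sc_cond γ _ _ (sc_B35 γ)]

theorem Bm_zero (x : X) : Bm x 0 = 0 := by
  have h := sc_Bm x 0 0
  rw [sc_zero] at h
  rw [h]
  exact funext fun _ => zero_mul _

theorem Mx_Mx (x : X) (v : V6) : Mx x (Mx x v) = v := by
  unfold Mx
  refine Prod.ext ?_ rfl
  show v.1 + Bm x v.2 + Bm x v.2 = v.1
  rw [add_assoc, add_self3, add_zero]

theorem scm_MDg (γ : F4) (v : V6) : MDg (scm γ v) = scm γ (MDg v) :=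
  Prod.ext (sc_Dg _ _) (sc_Dg _ _)

theorem scm_MSh (γ : F4) (v : V6) : MSh (scm γ v) = scm γ (MSh v) :=
  Prod.ext (sc_Sh _ _) (sc_Sh _ _)

theorem scm_MB01 (γ : F4) (v : V6) : MB01 (scm γ v) = scm γ (MB01 v) := by
  refine Prod.ext ?_ rfl
  show sc γ v.1 + B01 (sc γ v.2) = sc γ (v.1 + B01 v.2)
  rw [sc_add, sc_B01]

theorem scm_MB45 (γ : F4) (v : V6) : MB45 (scm γ v) = scm γ (MB45 v) := by
  refine Prod.ext ?_ rfl
  show sc γ v.1 + B45 (sc γ v.2) = sc γ (v.1 + B45 v.2)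
  rw [sc_add, sc_B45]

/-- the map of `b12` -/
def MB12 (v : V6) : V6 := (v.1 + B12 v.2, v.2)
/-- the map of `b35` -/
def MB35 (v : V6) : V6 := (v.1 + B35 v.2, v.2)

theorem MB12_eq : MSh ∘ (MB01 ∘ (MSh ∘ MSh)) = MB12 := by
  funext v
  refine Prod.ext ?_ (Sh3 v.2)
  show Sh (Sh (Sh v.1) + B01 (Sh (Sh v.2))) = v.1 + B12 v.2
  rw [Sh_add, Sh3, Sh_B01]

theorem MB35_eq : MDg ∘ (MB45 ∘ (MDg ∘ MDg)) = MB35 := by
  funext v
  refine Prod.ext ?_ (Dg3 v.2)
  show Dg (Dg (Dg v.1) + B45 (Dg (Dg v.2))) = v.1 + B35 v.2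
  rw [Dg_add, Dg3, Dg_B45]

/-! ### kernels -/

/-- a vector spanning the kernel of `Bm x`, `x ≠ 0` -/
def kv : X → F43
  | (false, false, false, false) => 0
  | (false, false, false, true) => ![.o, .w, .v]
  | (false, false, true, false) => ![.o, .o, .o]
  | (false, false, true, true) => ![.o, .v, .w]
  | (false, true, false, false) => ![.o, .z, .z]
  | (false, true, false, true) => ![.z, .o, .w]
  | (false, true, true, false) => ![.z, .o, .o]
  | (false, true, true, true) => ![.z, .o, .v]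
  | (true, false, false, false) => ![.z, .z, .o]
  | (true, false, false, true) => ![.o, .w, .z]
  | (true, false, true, false) => ![.o, .o, .z]
  | (true, false, true, true) => ![.o, .v, .z]
  | (true, true, false, false) => ![.z, .o, .z]
  | (true, true, false, true) => ![.o, .z, .v]
  | (true, true, true, false) => ![.o, .z, .o]
  | (true, true, true, true) => ![.o, .z, .w]

theorem kv_ker : ∀ x : X, Bm x (kv x) = 0 := by decide +kernel

theorem kv_ne : ∀ x : X, x = (false, false, false, false) ∨ kv x ≠ 0 := by decide +kernel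

theorem ker_aux : ∀ x : X, ∀ a b c : F4, x = (false, false, false, false) ∨
    Bm x ![a, b, c] ≠ 0 ∨ ∃ γ : F4, ![a, b, c] = sc γ (kv x) := by
  decide +kernel

theorem kv_inj : ∀ x y : X, x = (false, false, false, false) ∨ x = y ∨
    ∀ γ : F4, kv x ≠ sc γ (kv y) := by
  decide +kernel

theorem ker_line {x : X} (hx : x ≠ (false, false, false, false)) {c : F43} (hc : Bm x c = 0) :
    ∃ γ : F4, c = sc γ (kv x) := by
  rw [eq_vec c] at hc ⊢
  rcases ker_aux x (c 0) (c 1) (c 2) with h | h | h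
  · exact absurd h hx
  · exact absurd hc h
  · exact h

theorem ker_line_iff {x : X} (hx : x ≠ (false, false, false, false)) {c : F43} :
    Bm x c = 0 ↔ ∃ γ : F4, c = sc γ (kv x) := by
  refine ⟨ker_line hx, ?_⟩
  rintro ⟨γ, rfl⟩
  rw [sc_Bm, kv_ker, sc_zero]

theorem sc_inj {a : F43} (ha : a ≠ 0) {γ δ : F4} (h : sc γ a = sc δ a) : γ = δ := by
  obtain ⟨k, hk⟩ := Function.ne_iff.1 ha
  have h1 : γ * a k = δ * a k := congrFun h k
  exact mul_right_cancel₀ hk h1

theorem ker_two {x y : X} (hx : x ≠ (false, false, false, false))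
    (hy : y ≠ (false, false, false, false)) (hxy : x ≠ y) {c : F43} (h1 : Bm x c = 0)
    (h2 : Bm y c = 0) : c = 0 := by
  obtain ⟨γ, hγ⟩ := ker_line hx h1
  obtain ⟨δ, hδ⟩ := ker_line hy h2
  by_cases h0 : γ = 0
  · rw [hγ, h0]
    exact funext fun _ => zero_mul _
  · exfalso
    have h3 : kv x = sc (γ⁻¹ * δ) (kv y) := by
      rw [← sc_sc, ← hδ, hγ, sc_sc, inv_mul_cancel₀ h0, sc_one]
    rcases kv_inj x y with h | h | h
    · exact hx h
    · exact hxy h
    · exact h _ h3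

theorem card_ker {x : X} (hx : x ≠ (false, false, false, false)) :
    Nat.card {c : F43 // Bm x c = 0} = 4 := by
  have hk : kv x ≠ 0 := (kv_ne x).resolve_left hx
  have h4 : Nat.card F4 = 4 := by rw [Nat.card_eq_fintype_card]; rfl
  rw [← h4]
  symm
  refine Nat.card_congr (Equiv.ofBijective
    (fun γ : F4 => (⟨sc γ (kv x), (ker_line_iff hx).2 ⟨γ, rfl⟩⟩ : {c : F43 // Bm x c = 0})) ⟨?_, ?_⟩)
  · intro γ δ h
    exact sc_inj hk (congrArg Subtype.val h)
  · rintro ⟨c, hc⟩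
    obtain ⟨γ, hγ⟩ := ker_line hx hc
    exact ⟨γ, Subtype.ext hγ.symm⟩

theorem B_ker {c : F43} (h1 : B01 c = 0) (h2 : B12 c = 0) : c = 0 := by
  have a0 : c 0 = 0 := congrFun h1 0
  have a1 : c 1 = 0 := congrFun h1 1
  have a2 : c 2 = 0 := congrFun h2 2
  rw [eq_vec c, a0, a1, a2]
  decide +kernel

/-- a vector spanning the kernel of `C1` -/
def kC : F43 := ![.v, .o, .o]

theorem kC_ne : kC ≠ 0 := by decide +kernel

theorem kC_ker : ∀ γ : F4, C1 (sc γ kC) = 0 := by decide +kernel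

theorem C1_aux : ∀ a b c : F4, C1 ![a, b, c] ≠ 0 ∨ ∃ γ : F4, ![a, b, c] = sc γ kC := by
  decide +kernel

theorem C2_aux : ∀ γ : F4, C2 (sc γ kC) ≠ 0 ∨ γ = 0 := by decide +kernel

theorem C1_line {a : F43} (h : C1 a = 0) : ∃ γ : F4, a = sc γ kC := by
  rw [eq_vec a] at h ⊢
  exact (C1_aux _ _ _).resolve_left (fun h' => h' h)

theorem C_ker {a : F43} (h1 : C1 a = 0) (h2 : C2 a = 0) : a = 0 := by
  obtain ⟨γ, rfl⟩ := C1_line h1
  rcases C2_aux γ with h | h
  · exact absurd h2 h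
  · rw [h]
    exact funext fun _ => zero_mul _

theorem card_kerC : Nat.card {a : F43 // C1 a = 0} = 4 := by
  have h4 : Nat.card F4 = 4 := by rw [Nat.card_eq_fintype_card]; rfl
  rw [← h4]
  symm
  refine Nat.card_congr (Equiv.ofBijective
    (fun γ : F4 => (⟨sc γ kC, kC_ker γ⟩ : {a : F43 // C1 a = 0})) ⟨?_, ?_⟩)
  · intro γ δ h
    exact sc_inj kC_ne (congrArg Subtype.val h)
  · rintro ⟨c, hc⟩
    obtain ⟨γ, hγ⟩ := C1_line hc
    exact ⟨γ, Subtype.ext hγ.symm⟩

theorem card_F43 : Nat.card F43 = 64 := by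
  have h4 : Nat.card F4 = 4 := by rw [Nat.card_eq_fintype_card]; rfl
  rw [Nat.card_fun, h4, Nat.card_eq_fintype_card, Fintype.card_fin]
  norm_num

/-! ### the form -/

theorem tr_add (x y : F4) : tr (x + y) = tr x + tr y := by revert x y; decide

theorem cj_add (x y : F4) : cj (x + y) = cj x + cj y := by revert x y; decide

theorem hp3_add_left (a b c : F43) : hp3 (a + b) c = hp3 a c + hp3 b c := by
  simp only [hp3, Pi.add_apply, add_mul]
  abel

theorem hp3_add_right (a b c : F43) : hp3 a (b + c) = hp3 a b + hp3 a c := by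
  simp only [hp3, Pi.add_apply, cj_add, mul_add]
  abel

theorem hp3_zero_right (a : F43) : hp3 a 0 = 0 := by
  have h : cj 0 = 0 := rfl
  simp [hp3, h]

theorem hp3_zero_left (a : F43) : hp3 0 a = 0 := by
  simp [hp3]

theorem tr_zero : tr 0 = 0 := rfl

theorem tr_nondeg_aux : ∀ x : F4, tr (.o * cj x) = 0 → tr (.w * cj x) = 0 → x = 0 := by
  decide

theorem tr_nondeg {d : F43} (h : ∀ a, tr (hp3 a d) = 0) : d = 0 := by
  have h1 : ∀ γ : F4, tr (γ * cj (d 0)) = 0 := by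
    intro γ
    have := h ![γ, 0, 0]
    simpa [hp3] using this
  have h2 : ∀ γ : F4, tr (γ * cj (d 1)) = 0 := by
    intro γ
    have := h ![0, γ, 0]
    simpa [hp3] using this
  have h3 : ∀ γ : F4, tr (γ * cj (d 2)) = 0 := by
    intro γ
    have := h ![0, 0, γ]
    simpa [hp3] using this
  rw [eq_vec d, tr_nondeg_aux _ (h1 _) (h1 _), tr_nondeg_aux _ (h2 _) (h2 _),
    tr_nondeg_aux _ (h3 _) (h3 _)]
  decide +kernel

end Cfsg.Agent.J4Type.PreHexLin
end

-- part: J4Type/PreHexPerm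
section
/-!
# Permutation facts for `PreHexOf`

* `pb x` (`x` four bits) : the sixteen elements of `fixOct hex0`, as products of `b01`, `b12`, `b45`,
  `b35`; `exists_pb`.
* `mem_fixOct_of_comm` : the centraliser of `fixOct hex0` in the stabiliser of `hex0`.
* `c1`, `c2` fix `hex1` pointwise, `hex0` and `c1 • hex0` meet in four points.
-/

set_option autoImplicit false

namespace Cfsg.Agent.J4Type.PreHexPerm

open Cfsg Cfsg.Agent.J4Type CentCoords CocodeMask SporadicA.GolayBase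
  SporadicA.OctadFix OctadFixTrans
open SporadicA.GolayPerm hiding pcomp papp_pcomp
open scoped Pointwise

/-! ### The six permutations -/

noncomputable def b01 : M24 := mk Tb01 (by decide +kernel)
noncomputable def b45 : M24 := mk Tb45 (by decide +kernel)
noncomputable def s : M24 := mk Ts (by decide +kernel)
noncomputable def s' : M24 := mk Ts' (by decide +kernel)
noncomputable def c1 : M24 := mk Tc1 (by decide +kernel)
noncomputable def c2 : M24 := mk Tc2 (by decide +kernel)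

theorem tab_b01 : IsTab b01 Tb01 := isTab_mk _ _
theorem tab_b45 : IsTab b45 Tb45 := isTab_mk _ _
theorem tab_s : IsTab s Ts := isTab_mk _ _
theorem tab_s' : IsTab s' Ts' := isTab_mk _ _
theorem tab_c1 : IsTab c1 Tc1 := isTab_mk _ _
theorem tab_c2 : IsTab c2 Tc2 := isTab_mk _ _

/-- `b12 = s' b01 s'⁻¹` -/
noncomputable def b12 : M24 := s' * (b01 * (s' * s'))
/-- `b35 = s b45 s⁻¹` -/
noncomputable def b35 : M24 := s * (b45 * (s * s))

def Tb12 : ℕ := 979236149903553240597937305795791488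
def Tb35 : ℕ := 959823939071994704882402347086186784

theorem tab_b12 : IsTab b12 Tb12 := by
  have h : pcomp Ts' (pcomp Tb01 (pcomp Ts' Ts')) = Tb12 := by decide +kernel
  rw [← h]
  exact tab_s'.mul (tab_b01.mul (tab_s'.mul tab_s'))

theorem tab_b35 : IsTab b35 Tb35 := by
  have h : pcomp Ts (pcomp Tb45 (pcomp Ts Ts)) = Tb35 := by decide +kernel
  rw [← h]
  exact tab_s.mul (tab_b45.mul (tab_s.mul tab_s))

theorem apply_eq_of_tab {g : M24} {P : ℕ} (hg : IsTab g P) {p : GolayPt}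
    (h : papp P (idx p) = idx p) : (g : Equiv.Perm GolayPt) p = p :=
  idx_injective ((hg p).trans h)

theorem mem_M22d_of_tab {g : M24} {P : ℕ} (hg : IsTab g P)
    (h : (Nat.beq (papp P 23) 23 && Nat.beq (papp P 0) 0) = true) :
    (g : Equiv.Perm GolayPt) ∈ M22d := by
  rw [Bool.and_eq_true] at h
  refine HexStab.mem_M22d.2 ⟨g.2, HexStab.smul_base ?_ ?_⟩
  · exact apply_eq_of_tab hg (Nat.eq_of_beq_eq_true h.1)
  · exact apply_eq_of_tab hg (Nat.eq_of_beq_eq_true h.2)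

theorem b01_mem : (b01 : Equiv.Perm GolayPt) ∈ M22d := mem_M22d_of_tab tab_b01 (by decide +kernel)
theorem b12_mem : (b12 : Equiv.Perm GolayPt) ∈ M22d := mem_M22d_of_tab tab_b12 (by decide +kernel)
theorem b45_mem : (b45 : Equiv.Perm GolayPt) ∈ M22d := mem_M22d_of_tab tab_b45 (by decide +kernel)
theorem b35_mem : (b35 : Equiv.Perm GolayPt) ∈ M22d := mem_M22d_of_tab tab_b35 (by decide +kernel)
theorem s_mem : (s : Equiv.Perm GolayPt) ∈ M22d := mem_M22d_of_tab tab_s (by decide +kernel)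
theorem s'_mem : (s' : Equiv.Perm GolayPt) ∈ M22d := mem_M22d_of_tab tab_s' (by decide +kernel)
theorem c1_mem : (c1 : Equiv.Perm GolayPt) ∈ M22d := mem_M22d_of_tab tab_c1 (by decide +kernel)
theorem c2_mem : (c2 : Equiv.Perm GolayPt) ∈ M22d := mem_M22d_of_tab tab_c2 (by decide +kernel)

/-! ### The sixteen elements of `fixOct hex0` -/

/-- four bits -/
abbrev X : Type := Bool × Bool × Bool × Bool

noncomputable def pb (x : X) : M24 :=
  cond x.1 b01 1 * (cond x.2.1 b12 1 * (cond x.2.2.1 b45 1 * cond x.2.2.2 b35 1))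

/-- the packed tables of the sixteen elements -/
def Tpb : X → ℕ
  | (false, false, false, false) => 984818244535754528103549039458486304
  | (false, false, false, true) => 959823939071994704882402347086186784
  | (false, false, true, false) => 957028651706772161000819827381930688
  | (false, false, true, true) => 967739223789245171407146504132003936
  | (false, true, false, false) => 979236149903553240597937305795791488
  | (false, true, false, true) => 980747918883362939279568022996060640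
  | (false, true, true, false) => 981940260449521198767676458684353088
  | (false, true, true, true) => 975141542956546445243913353447475808
  | (true, false, false, false) => 976539006901119804582877792120867232
  | (true, false, false, true) => 965823287528192349793434105431984800
  | (true, false, true, false) => 972388651884523380316328689283009024
  | (true, false, true, true) => 983553042649537266979977019204733184
  | (true, true, false, false) => 965094429999691373696704173595626016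
  | (true, true, false, true) => 974394222122509349096603230276913536
  | (true, true, true, false) => 978241746458226444833005867658250464
  | (true, true, true, true) => 971700361611140356443901154824849856

theorem chk0 : ∀ b c d : Bool, pcomp Tb01 (Tpb (false, b, c, d)) = Tpb (true, b, c, d) := by
  decide +kernel

theorem chk1 : ∀ c d : Bool, pcomp Tb12 (Tpb (false, false, c, d)) = Tpb (false, true, c, d) := by
  decide +kernel

theorem chk2 : ∀ d : Bool, pcomp Tb45 (Tpb (false, false, false, d)) = Tpb (false, false, true, d) := by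
  decide +kernel

theorem chk3 : pone = Tpb (false, false, false, false) := by decide +kernel

theorem tab3 (d : Bool) : IsTab (cond d b35 1) (Tpb (false, false, false, d)) := by
  cases d
  · rw [← chk3]
    exact isTab_one
  · exact tab_b35

theorem tab2 (c d : Bool) : IsTab (cond c b45 1 * cond d b35 1) (Tpb (false, false, c, d)) := by
  cases c
  · rw [cond_false, one_mul]
    exact tab3 d
  · rw [← chk2]
    exact tab_b45.mul (tab3 d)

theorem tab1 (b c d : Bool) : IsTab (cond b b12 1 * (cond c b45 1 * cond d b35 1))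
    (Tpb (false, b, c, d)) := by
  cases b
  · rw [cond_false, one_mul]
    exact tab2 c d
  · rw [← chk1]
    exact tab_b12.mul (tab2 c d)

theorem tab_pb (x : X) : IsTab (pb x) (Tpb x) := by
  obtain ⟨a, b, c, d⟩ := x
  show IsTab (cond a b01 1 * (cond b b12 1 * (cond c b45 1 * cond d b35 1))) _
  cases a
  · rw [cond_false, one_mul]
    exact tab1 b c d
  · rw [← chk0]
    exact tab_b01.mul (tab1 b c d)

theorem pb_zero : pb (false, false, false, false) = 1 := by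
  show (1 : M24) * (1 * (1 * 1)) = 1
  simp

theorem Tpb_fix : ∀ x : X, ∀ p ∈ hex0, papp (Tpb x) (idx p) = idx p := by decide +kernel

theorem pb_mem_fixOct (x : X) : (pb x : Equiv.Perm GolayPt) ∈ fixOct hex0 :=
  mem_fixOct.2 ⟨(pb x).2, fun p hp => apply_eq_of_tab (tab_pb x) (Tpb_fix x p hp)⟩

theorem pb_mem (x : X) : (pb x : Equiv.Perm GolayPt) ∈ M22d := by
  have h : ∀ x : X, (Nat.beq (papp (Tpb x) 23) 23 && Nat.beq (papp (Tpb x) 0) 0) = true := by
    decide +kernel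
  exact mem_M22d_of_tab (tab_pb x) (h x)

theorem gp3_not_mem : gp 3 ∉ hex0 := by decide +kernel

theorem Tpb_surj : ∀ p : GolayPt, p ∉ hex0 → ∃ x : X, papp (Tpb x) 3 = idx p := by
  decide +kernel

/-- every element of `fixOct hex0` is one of the `pb x` -/
theorem exists_pb {g : Equiv.Perm GolayPt} (hg : g ∈ fixOct hex0) :
    ∃ x : X, (pb x : Equiv.Perm GolayPt) = g := by
  have h1 : g (gp 3) ∉ hex0 := by
    intro h
    have h2 := (mem_fixOct.1 hg).2 _ h
    exact gp3_not_mem ((g.injective h2) ▸ h)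
  obtain ⟨x, hx⟩ := Tpb_surj _ h1
  refine ⟨x, ?_⟩
  obtain ⟨u, -, hu⟩ := existsUnique_fixOct HexMax.hex0_isHex.1 gp3_not_mem h1
  have h3 : (pb x : Equiv.Perm GolayPt) (gp 3) = g (gp 3) := by
    apply idx_injective
    rw [← hx]
    exact tab_pb x (gp 3)
  rw [hu _ ⟨pb_mem_fixOct x, h3⟩, hu g ⟨hg, rfl⟩]

/-! ### The centraliser of `fixOct hex0` -/

/-- an octad disjoint from `hex0` -/
def octD : Finset GolayPt := gset [3, 8, 12, 15, 16, 17, 20, 22]

theorem octD_mem : octD ∈ octads := by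
  rw [mem_octads_iff]
  decide +kernel

theorem octD_disj : ∀ p ∈ octD, p ∉ hex0 := by decide +kernel

theorem gp14_not_mem : gp 14 ∉ octD ∧ gp 14 ∉ hex0 := by decide +kernel

theorem mem_fixOct_of_comm {g : Equiv.Perm GolayPt} (hg : g ∈ M24) (h0 : g • hex0 = hex0)
    (hc : ∀ b ∈ fixOct hex0, g * b = b * g) : g ∈ fixOct hex0 := by
  have hout : ∀ q, q ∉ hex0 → g q ∉ hex0 := by
    intro q hq h
    apply hq
    rw [← h0] at h
    rwa [mem_smul_iff] at h
  have hcomm : ∀ a ∈ fixOct hex0, ∀ b ∈ fixOct hex0, a * b = b * a := by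
    intro a ha b hb
    have h1 := fixOct_sq HexMax.hex0_isHex.1 ha
    have h2 := fixOct_sq HexMax.hex0_isHex.1 hb
    have h3 := fixOct_sq HexMax.hex0_isHex.1 (mul_mem ha hb)
    have e1 : a⁻¹ = a := inv_eq_of_mul_eq_one_left h1
    have e2 : b⁻¹ = b := inv_eq_of_mul_eq_one_left h2
    have e3 : (a * b)⁻¹ = a * b := inv_eq_of_mul_eq_one_left h3
    rw [mul_inv_rev, e1, e2] at e3
    exact e3.symm
  obtain ⟨b, ⟨hb, hbp⟩, -⟩ := existsUnique_fixOct HexMax.hex0_isHex.1 gp3_not_mem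
    (hout _ gp3_not_mem)
  have hall : ∀ q, q ∉ hex0 → g q = b q := by
    intro q hq
    obtain ⟨a, ⟨ha, haq⟩, -⟩ := existsUnique_fixOct HexMax.hex0_isHex.1 gp3_not_mem hq
    have h1 := congrArg (fun f : Equiv.Perm GolayPt => f (gp 3)) (hc a ha)
    have h2 := congrArg (fun f : Equiv.Perm GolayPt => f (gp 3)) (hcomm a ha b hb)
    simp only [Equiv.Perm.mul_apply] at h1 h2
    rw [haq] at h1 h2
    rw [h1, ← hbp, h2]
  have hk : b⁻¹ * g ∈ fixOct octD := by
    refine mem_fixOct.2 ⟨M24.mul_mem (M24.inv_mem (mem_fixOct.1 hb).1) hg, fun q hq => ?_⟩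
    rw [Equiv.Perm.mul_apply, Equiv.Perm.inv_eq_iff_eq]
    exact hall q (octD_disj q hq)
  have h1 : b⁻¹ * g = 1 := by
    refine OctadFixTrans.eq_one_of_fix octD_mem hk gp14_not_mem.1 ?_
    rw [Equiv.Perm.mul_apply, Equiv.Perm.inv_eq_iff_eq]
    exact hall _ gp14_not_mem.2
  rw [inv_mul_eq_one] at h1
  rw [← h1]
  exact hb

/-! ### `c1` and `c2` -/

theorem Tc_fix : ∀ p ∈ hex1, papp Tc1 (idx p) = idx p ∧ papp Tc2 (idx p) = idx p := by
  decide +kernel

theorem c1_fix : ∀ p ∈ hex1, (c1 : Equiv.Perm GolayPt) p = p :=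
  fun p hp => apply_eq_of_tab tab_c1 (Tc_fix p hp).1

theorem c2_fix : ∀ p ∈ hex1, (c2 : Equiv.Perm GolayPt) p = p :=
  fun p hp => apply_eq_of_tab tab_c2 (Tc_fix p hp).2

theorem inter01 : (hex0 ∩ hex1).card = 2 := by decide +kernel

/-- `hex0` as a mask -/
theorem hex0_eq : hex0 = fin 8391797 := by decide +kernel

theorem inter_c1 : (hex0 ∩ (c1 : Equiv.Perm GolayPt) • hex0).card = 4 := by
  have h : (c1 : Equiv.Perm GolayPt) • hex0 = fin (pimg Tc1 8391797) := by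
    rw [hex0_eq]
    exact smul_fin (P := Tc1) (by decide +kernel) _
  rw [h, hex0_eq, ← fin_and, card_fin]
  decide +kernel

end Cfsg.Agent.J4Type.PreHexPerm
end

-- part: J4Type/PreHexA
section
/-!
# The subgroups `A(O)` of `Q` from coordinates

`AO K O` : the elements of `Q` centralised modulo `z` by the elements `c ∈ C_G(z)` over the pointwise
stabiliser of `O` with `c²` trivial on `Q/⟨z⟩`.  `mem_A0` : `AO K hex0 = {(a; 0)}`.
-/

set_option autoImplicit false

open scoped Pointwise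

namespace Cfsg.Agent.J4Type.PreHexA

open Cfsg SporadicA.FieldFour VCoord CentCoords PreHexLin SporadicA.OctadFix

variable {G : Type*} [Group G] {H : Cent G}

/-! ### elementary facts -/

theorem mem_cc {g : G} : g ∈ Subgroup.centralizer ({H.z} : Set G) ↔ g * H.z = H.z * g :=
  Subgroup.mem_centralizer_singleton_iff

theorem zz (H : Cent G) : H.z * H.z = 1 := FusionV.z_sq H

theorem cz (c : Subgroup.centralizer ({H.z} : Set G)) : (c : G) * H.z = H.z * c := mem_cc.1 c.2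

theorem conj_mem (c : Subgroup.centralizer ({H.z} : Set G)) {q : G} (hq : q ∈ H.Q) :
    (c : G) * q * (c : G)⁻¹ ∈ H.Q := H.Q_conj c (cz c) q hq

theorem conj_mem' (c : Subgroup.centralizer ({H.z} : Set G)) {q : G} (hq : q ∈ H.Q) :
    (c : G)⁻¹ * q * (c : G) ∈ H.Q := by
  have := conj_mem c⁻¹ hq
  simpa using this

/-- trivial action modulo `z` -/
def Tr (H : Cent G) (g q : G) : Prop := g * q * g⁻¹ = q ∨ g * q * g⁻¹ = H.z * q

theorem Tr_iff {g q : G} : Tr H g q ↔ (g * q = q * g ∨ g * q = H.z * (q * g)) := by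
  unfold Tr
  rw [mul_inv_eq_iff_eq_mul, mul_inv_eq_iff_eq_mul, mul_assoc H.z]

theorem Tr_conj {x q : G} (g : Subgroup.centralizer ({H.z} : Set G)) (h : Tr H x q) :
    Tr H ((g : G) * x * (g : G)⁻¹) ((g : G) * q * (g : G)⁻¹) := by
  have e : (g : G) * x * (g : G)⁻¹ * ((g : G) * q * (g : G)⁻¹) * ((g : G) * x * (g : G)⁻¹)⁻¹ =
      (g : G) * (x * q * x⁻¹) * (g : G)⁻¹ := by group
  rcases h with h | h
  · left
    rw [e, h]
  · right
    rw [e, h, ← mul_assoc, cz g]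
    group

variable (K : CentCoords H)

theorem co_one : K.co 1 = 0 := by
  have h := K.co_mul 1 H.Q.one_mem 1 H.Q.one_mem
  rw [mul_one] at h
  exact left_eq_add.1 h

theorem co_inv {q : G} (hq : q ∈ H.Q) : K.co q⁻¹ = K.co q := by
  have h := K.co_mul q hq q⁻¹ (H.Q.inv_mem hq)
  rw [mul_inv_cancel, co_one] at h
  have h2 : K.co q + K.co q = K.co q + K.co q⁻¹ := by rw [add_self6, h]
  exact (add_left_cancel h2).symm

theorem co_zmul {q : G} (hq : q ∈ H.Q) : K.co (H.z * q) = K.co q := by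
  rw [K.co_mul _ H.z_mem_Q _ hq, K.co_z, zero_add]

theorem co_eq_iff {q r : G} (hq : q ∈ H.Q) (hr : r ∈ H.Q) :
    K.co q = K.co r ↔ (q = r ∨ q = H.z * r) := by
  constructor
  · intro h
    have h1 : K.co (q * r⁻¹) = 0 := by
      rw [K.co_mul q hq _ (H.Q.inv_mem hr), co_inv K hr, h, add_self6]
    rcases K.co_ker _ (H.Q.mul_mem hq (H.Q.inv_mem hr)) h1 with h2 | h2
    · left
      exact mul_inv_eq_one.1 h2
    · right
      exact mul_inv_eq_iff_eq_mul.1 h2
  · rintro (rfl | rfl)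
    · rfl
    · exact co_zmul K hr

theorem Tr_iff_co (c : Subgroup.centralizer ({H.z} : Set G)) {q : G} (hq : q ∈ H.Q) :
    Tr H (c : G) q ↔ K.co ((c : G) * q * (c : G)⁻¹) = K.co q :=
  (co_eq_iff K (conj_mem c hq) hq).symm

theorem co_conj_congr (c : Subgroup.centralizer ({H.z} : Set G)) {q r : G} (hq : q ∈ H.Q)
    (hr : r ∈ H.Q) (h : K.co q = K.co r) :
    K.co ((c : G) * q * (c : G)⁻¹) = K.co ((c : G) * r * (c : G)⁻¹) := by
  rw [co_eq_iff K (conj_mem c hq) (conj_mem c hr)]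
  rcases (co_eq_iff K hq hr).1 h with h | h
  · left; rw [h]
  · right
    rw [h, ← mul_assoc, cz c]
    group

theorem co_conj_inj (c : Subgroup.centralizer ({H.z} : Set G)) {q r : G} (hq : q ∈ H.Q)
    (hr : r ∈ H.Q) (h : K.co ((c : G) * q * (c : G)⁻¹) = K.co ((c : G) * r * (c : G)⁻¹)) :
    K.co q = K.co r := by
  have h1 := co_conj_congr K c⁻¹ (conj_mem c hq) (conj_mem c hr) h
  have e : ∀ x : G, ((c⁻¹ : Subgroup.centralizer ({H.z} : Set G)) : G) *
      ((c : G) * x * (c : G)⁻¹) * ((c⁻¹ : Subgroup.centralizer ({H.z} : Set G)) : G)⁻¹ = x := by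
    intro x
    show (c : G)⁻¹ * ((c : G) * x * (c : G)⁻¹) * ((c : G)⁻¹)⁻¹ = x
    group
  rwa [e, e] at h1

/-! ### lifts -/

theorem exists_lift {p : Equiv.Perm GolayPt} (hp : p ∈ M22d) :
    ∃ c : Subgroup.centralizer ({H.z} : Set G), H.P c = p := by
  rw [← H.P_range] at hp
  exact hp

theorem P_mem (c : Subgroup.centralizer ({H.z} : Set G)) : H.P c ∈ M22d := by
  rw [← H.P_range]
  exact ⟨c, rfl⟩

/-- `ρ` as an element of the centraliser -/
abbrev r (H : Cent G) : Subgroup.centralizer ({H.z} : Set G) := FusionV.rC H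

theorem co_rho_pow (i : ℕ) {q : G} (hq : q ∈ H.Q) :
    K.co ((r H : G) ^ i * q * ((r H : G) ^ i)⁻¹) = scm (K.om ^ i) (K.co q) := by
  induction i with
  | zero => rw [pow_zero, pow_zero, one_mul, inv_one, mul_one, scm_one]
  | succ i ih =>
    have e : (r H : G) ^ (i + 1) * q * ((r H : G) ^ (i + 1))⁻¹ =
        H.ρ * ((r H : G) ^ i * q * ((r H : G) ^ i)⁻¹) * H.ρ⁻¹ := by
      rw [pow_succ']
      show H.ρ * (r H : G) ^ i * q * (H.ρ * (r H : G) ^ i)⁻¹ = _
      group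
    have hm : (r H : G) ^ i * q * ((r H : G) ^ i)⁻¹ ∈ H.Q := conj_mem ((r H) ^ i) hq
    rw [e, K.co_rho _ hm, ih, scm_scm, pow_succ']

theorem P_r_pow (i : ℕ) : H.P ((r H) ^ i) = 1 := by
  rw [H.P_ker]
  exact ⟨1, H.Q.one_mem, i, by rw [one_mul]; rfl⟩

theorem exists_pow {K : CentCoords H} {γ : F4} (hγ : γ ≠ 0) : ∃ i : ℕ, K.om ^ i = γ := by
  have h1 := K.om_ne_zero
  have h2 := K.om_ne_one
  have h : ∀ a b : F4, a ≠ 0 → a ≠ 1 → b ≠ 0 → a ^ 0 = b ∨ a ^ 1 = b ∨ a ^ 2 = b := by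
    decide +kernel
  rcases h _ _ h1 h2 hγ with h | h | h
  · exact ⟨_, h⟩
  · exact ⟨_, h⟩
  · exact ⟨_, h⟩

/-- a lift with scalar 1 -/
theorem exists_lift_one {p : Equiv.Perm GolayPt} (hp : p ∈ M22d) {M : V6 → V6}
    (h : Lin H K.co p M) : ∃ c : Subgroup.centralizer ({H.z} : Set G), H.P c = p ∧
      ∀ q ∈ H.Q, K.co ((c : G) * q * (c : G)⁻¹) = M (K.co q) := by
  obtain ⟨c, hc⟩ := exists_lift (H := H) hp
  obtain ⟨γ, hγ, h1⟩ := h c hc
  obtain ⟨i, hi⟩ := exists_pow (K := K) (inv_ne_zero hγ)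
  refine ⟨(r H) ^ i * c, by rw [map_mul, P_r_pow, one_mul, hc], fun q hq => ?_⟩
  have e : (((r H) ^ i * c : Subgroup.centralizer ({H.z} : Set G)) : G) * q *
      (((r H) ^ i * c : Subgroup.centralizer ({H.z} : Set G)) : G)⁻¹ =
      (r H : G) ^ i * ((c : G) * q * (c : G)⁻¹) * ((r H : G) ^ i)⁻¹ := by
    show (r H : G) ^ i * (c : G) * q * ((r H : G) ^ i * (c : G))⁻¹ = _
    group
  rw [e, co_rho_pow K i (conj_mem c hq), hi, h1 q hq, scm_scm, inv_mul_cancel₀ hγ, scm_one]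

theorem lin_one : Lin H K.co 1 id := by
  intro c hc
  obtain ⟨q0, hq0, i, h⟩ := (H.P_ker c).1 hc
  refine ⟨K.om ^ i, pow_ne_zero _ K.om_ne_zero, fun q hq => ?_⟩
  have hm : (r H : G) ^ i * q * ((r H : G) ^ i)⁻¹ ∈ H.Q := conj_mem ((r H) ^ i) hq
  have e : (c : G) * q * (c : G)⁻¹ = q0 * ((r H : G) ^ i * q * ((r H : G) ^ i)⁻¹) * q0⁻¹ := by
    rw [h]
    show q0 * (r H : G) ^ i * q * (q0 * (r H : G) ^ i)⁻¹ = _
    group
  have h0 : K.co (q0⁻¹) = K.co q0 := co_inv K hq0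
  rw [e, K.co_mul _ (H.Q.mul_mem hq0 hm) _ (H.Q.inv_mem hq0), K.co_mul _ hq0 _ hm, h0,
    co_rho_pow K i hq, add_right_comm, add_self6, zero_add]
  rfl

theorem lin_mul {p p' : Equiv.Perm GolayPt} {M M' : V6 → V6} (hp : p ∈ M22d)
    (h : Lin H K.co p M) (h' : Lin H K.co p' M') (hM : ∀ γ v, M (scm γ v) = scm γ (M v)) :
    Lin H K.co (p * p') (M ∘ M') := by
  intro c hc
  obtain ⟨d, hd⟩ := exists_lift (H := H) hp
  obtain ⟨γ, hγ, h1⟩ := h d hd
  have he : H.P (d⁻¹ * c) = p' := by rw [map_mul, map_inv, hd, hc, inv_mul_cancel_left]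
  obtain ⟨γ', hγ', h1'⟩ := h' _ he
  refine ⟨γ * γ', mul_ne_zero hγ hγ', fun q hq => ?_⟩
  have e : (c : G) * q * (c : G)⁻¹ = (d : G) *
      (((d⁻¹ * c : Subgroup.centralizer ({H.z} : Set G)) : G) * q *
        ((d⁻¹ * c : Subgroup.centralizer ({H.z} : Set G)) : G)⁻¹) * (d : G)⁻¹ := by
    show (c : G) * q * (c : G)⁻¹ =
      (d : G) * (((d : G)⁻¹ * (c : G)) * q * ((d : G)⁻¹ * (c : G))⁻¹) * (d : G)⁻¹
    group
  rw [e, h1 _ (conj_mem _ hq), h1' q hq, hM, scm_scm]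
  rfl

theorem lin_b12 : Lin H K.co (PreHexPerm.b12 : Equiv.Perm GolayPt) MB12 := by
  have h1 := K.lin_s' _ PreHexPerm.tab_s'
  have h2 := K.lin_b01 _ PreHexPerm.tab_b01
  have h3 := lin_mul K PreHexPerm.s'_mem h1 h1 scm_MSh
  have h4 := lin_mul K PreHexPerm.b01_mem h2 h3 scm_MB01
  have h5 := lin_mul K PreHexPerm.s'_mem h1 h4 scm_MSh
  rw [MB12_eq] at h5
  exact h5

theorem lin_b35 : Lin H K.co (PreHexPerm.b35 : Equiv.Perm GolayPt) MB35 := by
  have h1 := K.lin_s _ PreHexPerm.tab_s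
  have h2 := K.lin_b45 _ PreHexPerm.tab_b45
  have h3 := lin_mul K PreHexPerm.s_mem h1 h1 scm_MDg
  have h4 := lin_mul K PreHexPerm.b45_mem h2 h3 scm_MB45
  have h5 := lin_mul K PreHexPerm.s_mem h1 h4 scm_MDg
  rw [MB35_eq] at h5
  exact h5

theorem scm_MB12 (γ : F4) (v : V6) : MB12 (scm γ v) = scm γ (MB12 v) := by
  refine Prod.ext ?_ rfl
  show sc γ v.1 + B12 (sc γ v.2) = sc γ (v.1 + B12 v.2)
  rw [sc_add, sc_B12]

theorem lin_cond {p : M24} {M : V6 → V6} (h : Lin H K.co (p : Equiv.Perm GolayPt) M) (b : Bool) :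
    Lin H K.co ((cond b p 1 : M24) : Equiv.Perm GolayPt) (cond b M id) := by
  cases b
  · exact lin_one K
  · exact h

theorem cond_mem {p : M24} (h : (p : Equiv.Perm GolayPt) ∈ M22d) (b : Bool) :
    ((cond b p 1 : M24) : Equiv.Perm GolayPt) ∈ M22d := by
  cases b
  · exact M22d.one_mem
  · exact h

theorem scm_cond {M : V6 → V6} (h : ∀ γ v, M (scm γ v) = scm γ (M v)) (b : Bool) (γ : F4) (v : V6) :
    (cond b M id) (scm γ v) = scm γ ((cond b M id) v) := by
  cases b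
  · rfl
  · exact h γ v

theorem Mx_eq (a b c d : Bool) : (cond a MB01 id) ∘ ((cond b MB12 id) ∘
    ((cond c MB45 id) ∘ (cond d MB35 id))) = Mx (a, b, c, d) := by
  funext v
  cases a <;> cases b <;> cases c <;> cases d <;>
  simp [Mx, Bm, MB01, MB12, MB45, MB35] <;> abel

theorem lin_pb (x : X) : Lin H K.co (PreHexPerm.pb x : Equiv.Perm GolayPt) (Mx x) := by
  obtain ⟨a, b, c, d⟩ := x
  have h1 := lin_cond K (K.lin_b01 _ PreHexPerm.tab_b01) a
  have h2 := lin_cond K (lin_b12 K) b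
  have h3 := lin_cond K (K.lin_b45 _ PreHexPerm.tab_b45) c
  have h4 := lin_cond K (lin_b35 K) d
  have h5 := lin_mul K (cond_mem PreHexPerm.b45_mem c) h3 h4 (scm_cond scm_MB45 c)
  have h6 := lin_mul K (cond_mem PreHexPerm.b12_mem b) h2 h5 (scm_cond scm_MB12 b)
  have h7 := lin_mul K (cond_mem PreHexPerm.b01_mem a) h1 h6 (scm_cond scm_MB01 a)
  rw [Mx_eq] at h7
  exact h7

end Cfsg.Agent.J4Type.PreHexA
end

-- part: J4Type/PreHexB
section
/-!
# The subgroups `A(O)` : definition, conjugation, the case of `hex0`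
-/

set_option autoImplicit false

open scoped Pointwise

namespace Cfsg.Agent.J4Type.PreHexB

open Cfsg SporadicA.FieldFour VCoord CentCoords PreHexLin SporadicA.OctadFix PreHexA

variable {G : Type*} [Group G] {H : Cent G} (K : CentCoords H)

/-- `A(O)` -/
def AO (O : Finset GolayPt) : Subgroup G where
  carrier := {q | q ∈ H.Q ∧ ∀ c : Subgroup.centralizer ({H.z} : Set G),
    (∀ p ∈ O, H.P c p = p) →
    (∀ r ∈ H.Q, K.co ((c : G) * ((c : G) * r * (c : G)⁻¹) * (c : G)⁻¹) = K.co r) →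
    K.co ((c : G) * q * (c : G)⁻¹) = K.co q}
  one_mem' := ⟨H.Q.one_mem, fun c _ _ => by rw [mul_one, mul_inv_cancel]⟩
  mul_mem' := by
    rintro a b ⟨ha, ha'⟩ ⟨hb, hb'⟩
    refine ⟨H.Q.mul_mem ha hb, fun c h1 h2 => ?_⟩
    have e : (c : G) * (a * b) * (c : G)⁻¹ =
        ((c : G) * a * (c : G)⁻¹) * ((c : G) * b * (c : G)⁻¹) := by group
    rw [e, K.co_mul _ (conj_mem c ha) _ (conj_mem c hb), ha' c h1 h2, hb' c h1 h2,
      K.co_mul a ha b hb]
  inv_mem' := by
    rintro a ⟨ha, ha'⟩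
    refine ⟨H.Q.inv_mem ha, fun c h1 h2 => ?_⟩
    have e : (c : G) * a⁻¹ * (c : G)⁻¹ = ((c : G) * a * (c : G)⁻¹)⁻¹ := by group
    rw [e, co_inv K (conj_mem c ha), co_inv K ha]
    exact ha' c h1 h2

theorem mem_AO {O : Finset GolayPt} {q : G} : q ∈ AO K O ↔ q ∈ H.Q ∧
    ∀ c : Subgroup.centralizer ({H.z} : Set G), (∀ p ∈ O, H.P c p = p) →
    (∀ r ∈ H.Q, K.co ((c : G) * ((c : G) * r * (c : G)⁻¹) * (c : G)⁻¹) = K.co r) →
    K.co ((c : G) * q * (c : G)⁻¹) = K.co q := Iff.rfl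

theorem AO_le (O : Finset GolayPt) : AO K O ≤ H.Q := fun _ h => h.1

theorem z_mem_AO (O : Finset GolayPt) : H.z ∈ AO K O := by
  refine ⟨H.z_mem_Q, fun c _ _ => ?_⟩
  rw [cz c, mul_inv_cancel_right]

theorem conj_mem_AO {O : Finset GolayPt} (g : Subgroup.centralizer ({H.z} : Set G)) {a : G}
    (ha : a ∈ AO K O) : (g : G) * a * (g : G)⁻¹ ∈ AO K (H.P g • O) := by
  obtain ⟨ha1, ha2⟩ := ha
  refine ⟨conj_mem g ha1, fun c h1 h2 => ?_⟩
  have h3 := ha2 (g⁻¹ * c * g) ?_ ?_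
  · have h4 := co_conj_congr K g (conj_mem (g⁻¹ * c * g) ha1) ha1 h3
    have e : (g : G) * (((g⁻¹ * c * g : Subgroup.centralizer ({H.z} : Set G)) : G) * a *
        ((g⁻¹ * c * g : Subgroup.centralizer ({H.z} : Set G)) : G)⁻¹) * (g : G)⁻¹ =
        (c : G) * ((g : G) * a * (g : G)⁻¹) * (c : G)⁻¹ := by
      show (g : G) * (((g : G)⁻¹ * (c : G) * (g : G)) * a *
        ((g : G)⁻¹ * (c : G) * (g : G))⁻¹) * (g : G)⁻¹ = _
      group
    rw [e] at h4
    exact h4
  · intro p hp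
    have h5 := h1 (H.P g p) ((SporadicA.GolayPerm.mem_smul_iff _ _ _).2 hp)
    rw [map_mul, map_mul, map_inv, Equiv.Perm.mul_apply, Equiv.Perm.mul_apply, h5,
      Equiv.Perm.inv_eq_iff_eq]
  · intro s hs
    have h5 := co_conj_congr K g⁻¹ (conj_mem c (conj_mem c (conj_mem g hs))) (conj_mem g hs)
      (h2 _ (conj_mem g hs))
    have e1 : ((g⁻¹ * c * g : Subgroup.centralizer ({H.z} : Set G)) : G) *
        (((g⁻¹ * c * g : Subgroup.centralizer ({H.z} : Set G)) : G) * s *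
        ((g⁻¹ * c * g : Subgroup.centralizer ({H.z} : Set G)) : G)⁻¹) *
        ((g⁻¹ * c * g : Subgroup.centralizer ({H.z} : Set G)) : G)⁻¹ =
        ((g⁻¹ : Subgroup.centralizer ({H.z} : Set G)) : G) * ((c : G) * ((c : G) *
          ((g : G) * s * (g : G)⁻¹) * (c : G)⁻¹) * (c : G)⁻¹) *
          ((g⁻¹ : Subgroup.centralizer ({H.z} : Set G)) : G)⁻¹ := by
      show ((g : G)⁻¹ * (c : G) * (g : G)) * (((g : G)⁻¹ * (c : G) * (g : G)) * s *
        ((g : G)⁻¹ * (c : G) * (g : G))⁻¹) * ((g : G)⁻¹ * (c : G) * (g : G))⁻¹ =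
        (g : G)⁻¹ * ((c : G) * ((c : G) * ((g : G) * s * (g : G)⁻¹) * (c : G)⁻¹) * (c : G)⁻¹) *
          ((g : G)⁻¹)⁻¹
      group
    have e2 : ((g⁻¹ : Subgroup.centralizer ({H.z} : Set G)) : G) * ((g : G) * s * (g : G)⁻¹) *
          ((g⁻¹ : Subgroup.centralizer ({H.z} : Set G)) : G)⁻¹ = s := by
      show (g : G)⁻¹ * ((g : G) * s * (g : G)⁻¹) * ((g : G)⁻¹)⁻¹ = s
      group
    rw [e1, h5, e2]

theorem AO_conj (O : Finset GolayPt) (g : Subgroup.centralizer ({H.z} : Set G)) (a : G) :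
    a ∈ AO K O ↔ (g : G) * a * (g : G)⁻¹ ∈ AO K (H.P g • O) := by
  refine ⟨conj_mem_AO K g, fun h => ?_⟩
  have h1 := conj_mem_AO K g⁻¹ h
  have e2 : ((g⁻¹ : Subgroup.centralizer ({H.z} : Set G)) : G) * ((g : G) * a * (g : G)⁻¹) *
      ((g⁻¹ : Subgroup.centralizer ({H.z} : Set G)) : G)⁻¹ = a := by
    show (g : G)⁻¹ * ((g : G) * a * (g : G)⁻¹) * ((g : G)⁻¹)⁻¹ = a
    group
  rw [e2, map_inv, inv_smul_smul] at h1
  exact h1

/-! ### the action of the elements over `fixOct hex0` -/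

theorem exists_vec (v : V6) : ∃ q ∈ H.Q, K.co q = v := K.co_surj v

/-- an element over `fixOct hex0` whose scalar is 1 -/
theorem act_of_scalar {c : Subgroup.centralizer ({H.z} : Set G)} (h : H.P c ∈ fixOct hex0)
    (h1 : ∀ γ : F4, (∀ q ∈ H.Q, (K.co q).2 = 0 → K.co ((c : G) * q * (c : G)⁻¹) = scm γ (K.co q)) →
      γ ≠ 0 → γ = 1) :
    ∃ x : X, (PreHexPerm.pb x : Equiv.Perm GolayPt) = H.P c ∧
      ∀ q ∈ H.Q, K.co ((c : G) * q * (c : G)⁻¹) = Mx x (K.co q) := by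
  obtain ⟨x, hx⟩ := PreHexPerm.exists_pb h
  obtain ⟨γ, hγ, h2⟩ := lin_pb K x c hx.symm
  have h3 : γ = 1 := by
    refine h1 γ (fun q hq hq0 => ?_) hγ
    rw [h2 q hq]
    congr 1
    unfold Mx
    rw [hq0, Bm_zero, add_zero, ← hq0]
  refine ⟨x, hx, fun q hq => ?_⟩
  rw [h2 q hq, h3, scm_one]

theorem act_of_sq {c : Subgroup.centralizer ({H.z} : Set G)} (h : H.P c ∈ fixOct hex0)
    (h1 : ∀ r ∈ H.Q, K.co ((c : G) * ((c : G) * r * (c : G)⁻¹) * (c : G)⁻¹) = K.co r) :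
    ∃ x : X, (PreHexPerm.pb x : Equiv.Perm GolayPt) = H.P c ∧
      ∀ q ∈ H.Q, K.co ((c : G) * q * (c : G)⁻¹) = Mx x (K.co q) := by
  refine act_of_scalar K h fun γ hγ h0 => ?_
  obtain ⟨q, hq, hv⟩ := K.co_surj (e0, 0)
  obtain ⟨q', hq', hv'⟩ := K.co_surj (scm γ (e0, 0))
  have h2 := h1 q hq
  have h3 := hγ q hq (by rw [hv])
  have h4 : K.co ((c : G) * q * (c : G)⁻¹) = K.co q' := by rw [h3, hv', hv]
  have h5 := co_conj_congr K c (conj_mem c hq) hq' h4
  have h6 := hγ q' hq' (by rw [hv']; exact sc_zero γ)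
  rw [h5, h6, hv', hv, scm_scm] at h2
  have h7 : sc (γ * γ) e0 = e0 := congrArg Prod.fst h2
  have h8 := eq_one_of_sc h7
  have h9 : ∀ γ : F4, γ * γ = 1 → γ = 1 := by decide
  exact h9 γ h8

theorem act_of_triv {c : Subgroup.centralizer ({H.z} : Set G)} (h : H.P c ∈ fixOct hex0)
    (h1 : ∀ q ∈ H.Q, (K.co q).2 = 0 → K.co ((c : G) * q * (c : G)⁻¹) = K.co q) :
    ∃ x : X, (PreHexPerm.pb x : Equiv.Perm GolayPt) = H.P c ∧
      ∀ q ∈ H.Q, K.co ((c : G) * q * (c : G)⁻¹) = Mx x (K.co q) := by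
  refine act_of_scalar K h fun γ hγ h0 => ?_
  obtain ⟨q, hq, hv⟩ := K.co_surj (e0, 0)
  have h3 := hγ q hq (by rw [hv])
  rw [h1 q hq (by rw [hv]), hv] at h3
  have h7 : e0 = sc γ e0 := congrArg Prod.fst h3
  exact eq_one_of_sc h7.symm

theorem lift_x (x : X) : ∃ c : Subgroup.centralizer ({H.z} : Set G),
    H.P c = (PreHexPerm.pb x : Equiv.Perm GolayPt) ∧
      ∀ q ∈ H.Q, K.co ((c : G) * q * (c : G)⁻¹) = Mx x (K.co q) :=
  exists_lift_one K (PreHexPerm.pb_mem x) (lin_pb K x)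

theorem sq_of_act {c : Subgroup.centralizer ({H.z} : Set G)} {M : V6 → V6} (hM : ∀ v, M (M v) = v)
    (h : ∀ q ∈ H.Q, K.co ((c : G) * q * (c : G)⁻¹) = M (K.co q)) :
    ∀ q ∈ H.Q, K.co ((c : G) * ((c : G) * q * (c : G)⁻¹) * (c : G)⁻¹) = K.co q := by
  intro q hq
  rw [h _ (conj_mem c hq), h q hq, hM]

theorem mem_fixOct_of {c : Subgroup.centralizer ({H.z} : Set G)} {O : Finset GolayPt}
    (h : ∀ p ∈ O, H.P c p = p) : H.P c ∈ fixOct O :=
  mem_fixOct.2 ⟨HexMax.mem_M24 (P_mem c), h⟩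

/-- `A(hex0)` in coordinates -/
theorem mem_A0 {q : G} : q ∈ AO K hex0 ↔ q ∈ H.Q ∧ (K.co q).2 = 0 := by
  constructor
  · rintro ⟨hq, h⟩
    refine ⟨hq, ?_⟩
    have hb : ∀ x : X, Bm x (K.co q).2 = 0 := by
      intro x
      obtain ⟨c, hc, hc'⟩ := lift_x K x
      have h1 := h c (by rw [hc]; exact (mem_fixOct.1 (PreHexPerm.pb_mem_fixOct x)).2)
        (sq_of_act K (Mx_Mx x) hc')
      rw [hc' q hq] at h1
      exact (add_eq_self3 _ _).1 (congrArg Prod.fst h1)
    have h1 := hb (true, false, false, false)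
    have h2 := hb (false, true, false, false)
    refine B_ker ?_ ?_
    · simpa [Bm] using h1
    · simpa [Bm] using h2
  · rintro ⟨hq, h⟩
    refine ⟨hq, fun c h1 h2 => ?_⟩
    obtain ⟨x, -, hx⟩ := act_of_sq K (mem_fixOct_of h1) h2
    rw [hx q hq]
    unfold Mx
    rw [h, Bm_zero, add_zero, ← h]

theorem MC1_MC1 (v : V6) : MC1 (MC1 v) = v := by
  refine Prod.ext rfl ?_
  show v.2 + C1 v.1 + C1 v.1 = v.2
  rw [add_assoc, add_self3, add_zero]

theorem MC2_MC2 (v : V6) : MC2 (MC2 v) = v := by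
  refine Prod.ext rfl ?_
  show v.2 + C2 v.1 + C2 v.1 = v.2
  rw [add_assoc, add_self3, add_zero]

/-- `A(hex1)` is contained in `{(0; c)}` -/
theorem fst_of_mem_A1 {q : G} (h : q ∈ AO K hex1) : (K.co q).1 = 0 := by
  obtain ⟨hq, h⟩ := h
  obtain ⟨c, hc, hc'⟩ := exists_lift_one K PreHexPerm.c1_mem (K.lin_c1 _ PreHexPerm.tab_c1)
  obtain ⟨d, hd, hd'⟩ := exists_lift_one K PreHexPerm.c2_mem (K.lin_c2 _ PreHexPerm.tab_c2)
  have h1 := h c (by rw [hc]; exact PreHexPerm.c1_fix) (sq_of_act K MC1_MC1 hc')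
  have h2 := h d (by rw [hd]; exact PreHexPerm.c2_fix) (sq_of_act K MC2_MC2 hd')
  rw [hc' q hq] at h1
  rw [hd' q hq] at h2
  exact C_ker ((add_eq_self3 _ _).1 (congrArg Prod.snd h1))
    ((add_eq_self3 _ _).1 (congrArg Prod.snd h2))

/-! ### counting -/

theorem card_co (S : V6 → Prop) :
    Nat.card {q : G // q ∈ H.Q ∧ S (K.co q)} = 2 * Nat.card {v : V6 // S v} := by
  classical
  choose f hf hf' using K.co_surj
  have hz : ∀ b : Bool, (cond b H.z 1 : G) ∈ H.Q := by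
    intro b
    cases b
    · exact H.Q.one_mem
    · exact H.z_mem_Q
  have hco : ∀ (b : Bool) (v : V6), K.co (cond b H.z 1 * f v) = v := by
    intro b v
    cases b
    · rw [cond_false, one_mul, hf']
    · rw [cond_true, co_zmul K (hf v), hf']
  have h2 : Nat.card Bool = 2 := by rw [Nat.card_eq_fintype_card, Fintype.card_bool]
  rw [← h2, ← Nat.card_prod]
  symm
  refine Nat.card_congr (Equiv.ofBijective (fun x : Bool × {v : V6 // S v} =>
    (⟨cond x.1 H.z 1 * f x.2, H.Q.mul_mem (hz _) (hf _), by rw [hco]; exact x.2.2⟩ :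
      {q : G // q ∈ H.Q ∧ S (K.co q)})) ⟨?_, ?_⟩)
  · rintro ⟨b, v⟩ ⟨b', v'⟩ h
    have h1 : cond b H.z 1 * f v = cond b' H.z 1 * f v' := congrArg Subtype.val h
    have h3 : (v : V6) = v' := by rw [← hco b v, h1, hco]
    rw [h3] at h1
    have h4 := mul_right_cancel h1
    have h5 : b = b' := by
      have hne := FusionV.z_ne H
      cases b <;> cases b'
      · rfl
      · exact absurd h4.symm hne
      · exact absurd h4 hne
      · rfl
    exact Prod.ext h5 (Subtype.ext h3)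
  · rintro ⟨q, hq, hS⟩
    rcases (co_eq_iff K hq (hf (K.co q))).1 (hf' (K.co q)).symm with h | h
    · refine ⟨(false, ⟨K.co q, hS⟩), Subtype.ext ?_⟩
      show cond false H.z 1 * f (K.co q) = q
      rw [cond_false, one_mul, ← h]
    · refine ⟨(true, ⟨K.co q, hS⟩), Subtype.ext ?_⟩
      show cond true H.z 1 * f (K.co q) = q
      rw [cond_true, ← h]

theorem card_A0 : Nat.card (AO K hex0) = 2 ^ 7 := by
  have h1 := card_co K (fun v => v.2 = 0)
  have h2 : Nat.card {v : V6 // v.2 = 0} = 64 := by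
    rw [← card_F43]
    refine Nat.card_congr ⟨fun v => v.1.1, fun a => ⟨(a, 0), rfl⟩, ?_, fun a => rfl⟩
    rintro ⟨⟨a, c⟩, hc⟩
    exact Subtype.ext (Prod.ext rfl hc.symm)
  rw [h2] at h1
  have h3 : Nat.card (AO K hex0) = Nat.card {q : G // q ∈ H.Q ∧ (K.co q).2 = 0} :=
    Nat.card_congr (Equiv.subtypeEquivRight fun q => mem_A0 K)
  rw [h3, h1]
  norm_num

theorem sq_A0 {q : G} (h : q ∈ AO K hex0) : q * q = 1 := by
  obtain ⟨hq, h0⟩ := (mem_A0 K).1 h
  rw [K.co_sq q hq, h0, hp3_zero_right]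
  rfl

end Cfsg.Agent.J4Type.PreHexB
end

-- part: J4Type/PreHexC
section
/-!
# The subgroups `A(O)` : transport to all hexads, intersections, elements acting trivially
-/

set_option autoImplicit false

open scoped Pointwise

namespace Cfsg.Agent.J4Type.PreHexC

open Cfsg SporadicA.FieldFour VCoord CentCoords PreHexLin SporadicA.OctadFix PreHexA PreHexB

variable {G : Type*} [Group G] {H : Cent G} (K : CentCoords H)

/-- conjugation by `g` -/
def cg (g : G) : G →* G := (MulAut.conj g).toMonoidHom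

theorem cg_apply (g a : G) : cg g a = g * a * g⁻¹ := rfl

theorem cg_inj (g : G) : Function.Injective (cg g) := (MulAut.conj g).injective

theorem AO_smul (O : Finset GolayPt) (g : Subgroup.centralizer ({H.z} : Set G)) :
    AO K (H.P g • O) = (AO K O).map (cg (g : G)) := by
  ext a
  rw [Subgroup.mem_map]
  constructor
  · intro h
    refine ⟨(g : G)⁻¹ * a * (g : G), ?_, ?_⟩
    · rw [AO_conj K O g]
      have e : (g : G) * ((g : G)⁻¹ * a * (g : G)) * (g : G)⁻¹ = a := by group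
      rwa [e]
    · rw [cg_apply]
      group
  · rintro ⟨b, hb, rfl⟩
    exact (AO_conj K O g b).1 hb

theorem card_AO_smul (O : Finset GolayPt) (g : Subgroup.centralizer ({H.z} : Set G)) :
    Nat.card (AO K (H.P g • O)) = Nat.card (AO K O) := by
  rw [AO_smul]
  exact (Nat.card_congr ((AO K O).equivMapOfInjective _ (cg_inj (g : G))).toEquiv).symm

theorem card_inf_smul (O O' : Finset GolayPt) (g : Subgroup.centralizer ({H.z} : Set G)) :
    Nat.card (AO K (H.P g • O) ⊓ AO K (H.P g • O') : Subgroup G) =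
      Nat.card (AO K O ⊓ AO K O' : Subgroup G) := by
  rw [AO_smul, AO_smul, ← Subgroup.map_inf_eq _ _ _ (cg_inj (g : G))]
  exact (Nat.card_congr
    ((AO K O ⊓ AO K O' : Subgroup G).equivMapOfInjective _ (cg_inj (g : G))).toEquiv).symm

/-- every hexad is an image of `hex0` -/
theorem exists_move {O : Finset GolayPt} (hO : IsHex O) :
    ∃ g : Subgroup.centralizer ({H.z} : Set G), H.P g • hex0 = O := by
  obtain ⟨p, hp, -, -, h⟩ := HexStab.exists_fix_smul HexMax.hex0_isHex hO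
  obtain ⟨g, hg⟩ := exists_lift (H := H) hp
  exact ⟨g, by rw [hg, h]⟩

theorem AO_card {O : Finset GolayPt} (hO : IsHex O) : Nat.card (AO K O) = 2 ^ 7 := by
  obtain ⟨g, rfl⟩ := exists_move (H := H) hO
  rw [card_AO_smul, card_A0]

theorem AO_sq {O : Finset GolayPt} (hO : IsHex O) : ∀ a ∈ AO K O, a * a = 1 := by
  obtain ⟨g, rfl⟩ := exists_move (H := H) hO
  intro a ha
  rw [AO_smul] at ha
  obtain ⟨b, hb, rfl⟩ := ha
  rw [← map_mul, sq_A0 K hb, map_one]

/-- a pair of hexads is an image of the pair `(hex0, O')` -/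
theorem exists_move_two {O O' : Finset GolayPt} (hO : IsHex O) (hO' : IsHex O')
    (h : (O ∩ O').card = 2) :
    ∃ g : Subgroup.centralizer ({H.z} : Set G), H.P g • hex0 = O ∧ H.P g • hex1 = O' := by
  obtain ⟨g, rfl⟩ := exists_move (H := H) hO
  have h1 : IsHex ((H.P g)⁻¹ • O') := HexMax.smul_isHex (M22d.inv_mem (P_mem g)) hO'
  have h2 : (hex0 ∩ (H.P g)⁻¹ • O').card = 2 := by
    rw [← Finset.card_smul_finset (H.P g), Finset.smul_finset_inter, smul_inv_smul, h]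
  obtain ⟨p, hp, hp0, hp1⟩ := HexMax.trans_two HexMax.hex0_isHex HexMax.hex1_isHex h1
    PreHexPerm.inter01 h2
  obtain ⟨k, hk⟩ := exists_lift (H := H) hp
  refine ⟨g * k, ?_, ?_⟩
  · rw [map_mul, mul_smul, hk, hp0]
  · rw [map_mul, mul_smul, hk, hp1, smul_inv_smul]

theorem exists_move_four {O O' : Finset GolayPt} (hO : IsHex O) (hO' : IsHex O')
    (h : (O ∩ O').card = 4) :
    ∃ g : Subgroup.centralizer ({H.z} : Set G), H.P g • hex0 = O ∧
      H.P g • ((PreHexPerm.c1 : Equiv.Perm GolayPt) • hex0) = O' := by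
  obtain ⟨g, rfl⟩ := exists_move (H := H) hO
  have h1 : IsHex ((H.P g)⁻¹ • O') := HexMax.smul_isHex (M22d.inv_mem (P_mem g)) hO'
  have h2 : (hex0 ∩ (H.P g)⁻¹ • O').card = 4 := by
    rw [← Finset.card_smul_finset (H.P g), Finset.smul_finset_inter, smul_inv_smul, h]
  obtain ⟨p, hp, hp0, hp1⟩ := HexMax.trans_four HexMax.hex0_isHex
    (HexMax.smul_isHex PreHexPerm.c1_mem HexMax.hex0_isHex) h1 PreHexPerm.inter_c1 h2
  obtain ⟨k, hk⟩ := exists_lift (H := H) hp
  refine ⟨g * k, ?_, ?_⟩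
  · rw [map_mul, mul_smul, hk, hp0]
  · rw [map_mul, mul_smul, hk, hp1, smul_inv_smul]

theorem card_inf01 : Nat.card (AO K hex0 ⊓ AO K hex1 : Subgroup G) = 2 := by
  have h1 : ∀ q : G, q ∈ (AO K hex0 ⊓ AO K hex1 : Subgroup G) ↔ (q = 1 ∨ q = H.z) := by
    intro q
    constructor
    · rintro ⟨ha, hb⟩
      obtain ⟨hq, h2⟩ := (mem_A0 K).1 ha
      exact K.co_ker q hq (Prod.ext (fst_of_mem_A1 K hb) h2)
    · rintro (rfl | rfl)
      · exact one_mem _
      · exact ⟨z_mem_AO K _, z_mem_AO K _⟩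
  have h2 : ((AO K hex0 ⊓ AO K hex1 : Subgroup G) : Set G) = {1, H.z} := by
    ext q
    exact h1 q
  have h3 : Nat.card (AO K hex0 ⊓ AO K hex1 : Subgroup G) =
      ((AO K hex0 ⊓ AO K hex1 : Subgroup G) : Set G).ncard := rfl
  rw [h3, h2, Set.ncard_pair (FusionV.z_ne H).symm]

theorem card_inf_c1 : Nat.card (AO K hex0 ⊓
    AO K ((PreHexPerm.c1 : Equiv.Perm GolayPt) • hex0) : Subgroup G) = 8 := by
  obtain ⟨c, hc, hc'⟩ := exists_lift_one K PreHexPerm.c1_mem (K.lin_c1 _ PreHexPerm.tab_c1)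
  have h1 : ∀ q : G, q ∈ (AO K hex0 ⊓ AO K ((PreHexPerm.c1 : Equiv.Perm GolayPt) • hex0) :
      Subgroup G) ↔ q ∈ H.Q ∧ ((K.co q).2 = 0 ∧ C1 (K.co q).1 = 0) := by
    intro q
    rw [← hc, Subgroup.mem_inf, mem_A0]
    have h2 : ∀ (hq : q ∈ H.Q), q ∈ AO K (H.P c • hex0) ↔ (K.co q).2 = C1 (K.co q).1 := by
      intro hq
      have hr := conj_mem' c hq
      have e : (c : G) * ((c : G)⁻¹ * q * (c : G)) * (c : G)⁻¹ = q := by group
      have h3 := hc' _ hr
      rw [e] at h3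
      have h4 := AO_conj K hex0 c ((c : G)⁻¹ * q * (c : G))
      rw [e] at h4
      rw [← h4, mem_A0]
      have h5 : (K.co q).1 = (K.co ((c : G)⁻¹ * q * (c : G))).1 := by rw [h3]; rfl
      have h6 : (K.co q).2 = (K.co ((c : G)⁻¹ * q * (c : G))).2 +
        C1 (K.co ((c : G)⁻¹ * q * (c : G))).1 := by rw [h3]; rfl
      rw [h6, h5]
      constructor
      · rintro ⟨-, h7⟩
        rw [h7, zero_add]
      · intro h7
        refine ⟨hr, ?_⟩
        exact add_right_cancel (h7.trans (zero_add _).symm)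
    constructor
    · rintro ⟨⟨hq, h3⟩, h4⟩
      exact ⟨hq, h3, by rw [← (h2 hq).1 h4, h3]⟩
    · rintro ⟨hq, h3, h4⟩
      exact ⟨⟨hq, h3⟩, (h2 hq).2 (by rw [h3, h4])⟩
  have h2 : Nat.card (AO K hex0 ⊓ AO K ((PreHexPerm.c1 : Equiv.Perm GolayPt) • hex0) :
      Subgroup G) = Nat.card {q : G // q ∈ H.Q ∧ ((K.co q).2 = 0 ∧ C1 (K.co q).1 = 0)} :=
    Nat.card_congr (Equiv.subtypeEquivRight h1)
  have h3 : Nat.card {v : V6 // v.2 = 0 ∧ C1 v.1 = 0} = 4 := by
    rw [← card_kerC]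
    refine Nat.card_congr ⟨fun v => ⟨v.1.1, v.2.2⟩, fun a => ⟨(a.1, 0), rfl, a.2⟩, ?_, fun a => rfl⟩
    rintro ⟨⟨a, c⟩, hc, ha⟩
    exact Subtype.ext (Prod.ext rfl hc.symm)
  rw [h2, card_co K (fun v => v.2 = 0 ∧ C1 v.1 = 0), h3]

theorem AO_inf_two (O O' : Finset GolayPt) (hO : IsHex O) (hO' : IsHex O')
    (h : (O ∩ O').card = 2) : Nat.card (AO K O ⊓ AO K O' : Subgroup G) = 2 := by
  obtain ⟨g, rfl, rfl⟩ := exists_move_two (H := H) hO hO' h
  rw [card_inf_smul, card_inf01]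

theorem AO_inf_eight (O O' : Finset GolayPt) (hO : IsHex O) (hO' : IsHex O')
    (h : (O ∩ O').card = 4) : Nat.card (AO K O ⊓ AO K O' : Subgroup G) = 8 := by
  obtain ⟨g, rfl, rfl⟩ := exists_move_four (H := H) hO hO' h
  rw [card_inf_smul, card_inf_c1]

/-! ### elements acting trivially on `A(hex0)/z` -/

theorem smul_hex0_of_triv {c : Subgroup.centralizer ({H.z} : Set G)}
    (h : ∀ a ∈ AO K hex0, Tr H (c : G) a) : H.P c • hex0 = hex0 := by
  by_contra hne
  have hO' : IsHex (H.P c • hex0) := HexMax.smul_isHex (P_mem c) HexMax.hex0_isHex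
  have hle : AO K hex0 ≤ AO K (H.P c • hex0) := by
    intro a ha
    have h1 := (AO_conj K hex0 c a).1 ha
    rcases h a ha with h2 | h2
    · rwa [h2] at h1
    · rw [h2] at h1
      exact ((AO K (H.P c • hex0)).mul_mem_cancel_left (z_mem_AO K _)).1 h1
  have h1 : (AO K hex0 ⊓ AO K (H.P c • hex0) : Subgroup G) = AO K hex0 := inf_eq_left.2 hle
  have h2 := card_A0 K
  rw [← h1] at h2
  rcases HexMax.card_inter HexMax.hex0_isHex hO' (fun h => hne h.symm) with h3 | h3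
  · rw [AO_inf_two K _ _ HexMax.hex0_isHex hO' h3] at h2
    omega
  · rw [AO_inf_eight K _ _ HexMax.hex0_isHex hO' h3] at h2
    omega

theorem zmod2_eq {x y : ZMod 2} (h : x = 0 ↔ y = 0) : x = y := by
  revert x y
  decide

theorem zmod2_add {x y : ZMod 2} : x + y = 0 ↔ x = y := by
  revert x y
  decide

/-- the quadratic form -/
def qf (v : V6) : ZMod 2 := tr (hp3 v.1 v.2)

theorem qf_eq_zero {q : G} (hq : q ∈ H.Q) (h : q * q = 1) : qf (K.co q) = 0 := (K.co_sq q hq).1 h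

theorem qf_eq_one {q : G} (hq : q ∈ H.Q) (h : q * q = H.z) : qf (K.co q) = 1 := by
  have h1 : qf (K.co q) ≠ 0 := by
    intro h2
    have h3 := (K.co_sq q hq).2 h2
    exact FusionV.z_ne H (h.symm.trans h3)
  generalize qf (K.co q) = x at h1
  revert x
  decide

theorem sq_mul_iff {q s : G} (hq : q ∈ H.Q) (hs : s ∈ H.Q) :
    (q * q) * (s * s) = 1 ↔ qf (K.co q) + qf (K.co s) = 0 := by
  have hne := FusionV.z_ne H
  have hzz := zz H
  have e0 : ¬ ((0 : ZMod 2) + 1 = 0) := by decide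
  have e1 : ¬ ((1 : ZMod 2) + 0 = 0) := by decide
  have e2 : (1 : ZMod 2) + 1 = 0 := by decide
  rcases H.Q_sq q hq with h1 | h1 <;> rcases H.Q_sq s hs with h2 | h2
  · rw [h1, h2, qf_eq_zero K hq h1, qf_eq_zero K hs h2]
    simp
  · rw [h1, h2, qf_eq_zero K hq h1, qf_eq_one K hs h2, one_mul]
    exact iff_of_false hne e0
  · rw [h1, h2, qf_eq_one K hq h1, qf_eq_zero K hs h2, mul_one]
    exact iff_of_false hne e1
  · rw [h1, h2, qf_eq_one K hq h1, qf_eq_one K hs h2]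
    exact iff_of_true hzz e2

/-- the commutator form in coordinates -/
def bf (v w : V6) : ZMod 2 := tr (hp3 v.1 w.2) + tr (hp3 w.1 v.2)

theorem qf_add (v w : V6) : qf (v + w) = qf v + qf w + bf v w := by
  show tr (hp3 (v.1 + w.1) (v.2 + w.2)) = tr (hp3 v.1 v.2) + tr (hp3 w.1 w.2) +
    (tr (hp3 v.1 w.2) + tr (hp3 w.1 v.2))
  rw [hp3_add_left, hp3_add_right, hp3_add_right, tr_add, tr_add, tr_add]
  abel

/-- the commutator in coordinates -/
theorem comm_iff {q s : G} (hq : q ∈ H.Q) (hs : s ∈ H.Q) :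
    q * s = s * q ↔ bf (K.co q) (K.co s) = 0 := by
  have hf : (q * s) * (q * s) = 1 ↔ qf (K.co (q * s)) = 0 := K.co_sq (q * s) (H.Q.mul_mem hq hs)
  rw [K.co_mul q hq s hs, qf_add] at hf
  have hm := sq_mul_iff K hq hs
  have hqz : q * H.z = H.z * q := Subgroup.mem_centralizer_singleton_iff.1 (H.Q_le hq)
  rcases H.Q_comm q hq s hs with h | h
  · have e : (q * s) * (q * s) = (q * q) * (s * s) := by
      calc (q * s) * (q * s) = q * (s * q) * s := by group
        _ = (q * q) * (s * s) := by rw [← h]; group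
    rw [e, hm] at hf
    refine iff_of_true h ?_
    generalize bf (K.co q) (K.co s) = y at hf
    generalize qf (K.co q) + qf (K.co s) = x at hf
    revert x y
    decide
  · have h' : s * q = H.z * (q * s) := by rw [h, ← mul_assoc, zz H, one_mul]
    have e : (q * s) * (q * s) = H.z * ((q * q) * (s * s)) := by
      calc (q * s) * (q * s) = q * (s * q) * s := by group
        _ = (q * H.z) * (q * s) * s := by rw [h']; group
        _ = H.z * ((q * q) * (s * s)) := by rw [hqz]; group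
    have h1 : (q * s) * (q * s) = 1 ↔ ¬ ((q * q) * (s * s) = 1) := by
      rw [e]
      have hmem : (q * q) * (s * s) = 1 ∨ (q * q) * (s * s) = H.z := by
        rcases H.Q_sq q hq with h1 | h1 <;> rcases H.Q_sq s hs with h2 | h2 <;> rw [h1, h2]
        · left; simp
        · right; simp
        · right; simp
        · left; exact zz H
      rcases hmem with h2 | h2 <;> rw [h2]
      · simp [FusionV.z_ne H]
      · rw [zz H]
        simp [FusionV.z_ne H]
    rw [h1, hm] at hf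
    refine iff_of_false ?_ ?_
    · intro h3
      rw [h3] at h
      exact FusionV.z_ne H (mul_right_cancel (b := s * q) (h.symm.trans (one_mul _).symm))
    · generalize bf (K.co q) (K.co s) = y at hf
      generalize qf (K.co q) + qf (K.co s) = x at hf
      revert x y
      decide

theorem bf_right_zero {v : V6} {w : V6} (h : v.2 = 0) : bf v w = tr (hp3 v.1 w.2) := by
  unfold bf
  rw [h, hp3_zero_right, tr_zero, add_zero]

/-- an element trivial on `A(hex0)/z` is trivial on `Q/A(hex0)` -/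
theorem snd_of_triv {c : Subgroup.centralizer ({H.z} : Set G)}
    (h : ∀ a ∈ AO K hex0, Tr H (c : G) a) {q : G} (hq : q ∈ H.Q) :
    (K.co ((c : G) * q * (c : G)⁻¹)).2 = (K.co q).2 := by
  have hq' := conj_mem c hq
  have key : ∀ a : F43, tr (hp3 a (K.co ((c : G) * q * (c : G)⁻¹)).2) = tr (hp3 a (K.co q).2) := by
    intro a
    obtain ⟨x, hx, hxv⟩ := K.co_surj (a, 0)
    have hxA : x ∈ AO K hex0 := (mem_A0 K).2 ⟨hx, by rw [hxv]⟩
    have hx' := conj_mem c hx
    have h1 : x * q = q * x ↔ ((c : G) * x * (c : G)⁻¹) * ((c : G) * q * (c : G)⁻¹) =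
        ((c : G) * q * (c : G)⁻¹) * ((c : G) * x * (c : G)⁻¹) := by
      have e1 : ((c : G) * x * (c : G)⁻¹) * ((c : G) * q * (c : G)⁻¹) =
        (c : G) * (x * q) * (c : G)⁻¹ := by group
      have e2 : ((c : G) * q * (c : G)⁻¹) * ((c : G) * x * (c : G)⁻¹) =
        (c : G) * (q * x) * (c : G)⁻¹ := by group
      rw [e1, e2]
      exact ⟨fun h => by rw [h], fun h => mul_left_cancel (mul_right_cancel h)⟩
    rw [comm_iff K hx hq, comm_iff K hx' hq', (Tr_iff_co K c hx).1 (h x hxA),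
      bf_right_zero (by rw [hxv]), bf_right_zero (by rw [hxv]), hxv] at h1
    exact (zmod2_eq h1).symm
  have h0 : (K.co ((c : G) * q * (c : G)⁻¹)).2 + (K.co q).2 = 0 := by
    apply tr_nondeg
    intro a
    rw [hp3_add_right, tr_add, key a]
    generalize tr (hp3 a (K.co q).2) = x
    revert x
    decide
  exact (add_eq_zero_iff3 _ _).1 h0

/-- an element acting trivially on `Q/z` lies in `Q` -/
theorem P_of_triv [Finite G] {e : Subgroup.centralizer ({H.z} : Set G)}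
    (h : ∀ q ∈ H.Q, K.co ((e : G) * q * (e : G)⁻¹) = K.co q) : H.P e = 1 := by
  have h1 : (FusionV.large H).act e = 1 := by
    ext v
    obtain ⟨x, rfl⟩ := (FusionV.large H).pr_surjective v
    show (FusionV.large H).act e ((FusionV.large H).pr x) = (FusionV.large H).pr x
    rw [FusionV.act_fix_iff, ← Tr_iff, Tr_iff_co K e x.2]
    exact h x x.2
  have h2 := (FusionV.large H).mem_of_act e h1
  rw [H.P_ker]
  exact ⟨e, h2, 0, by rw [pow_zero, mul_one]⟩

theorem fixOct_of_triv [Finite G] {c : Subgroup.centralizer ({H.z} : Set G)}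
    (h : ∀ a ∈ AO K hex0, Tr H (c : G) a) : H.P c ∈ fixOct hex0 := by
  refine PreHexPerm.mem_fixOct_of_comm (HexMax.mem_M24 (P_mem c)) (smul_hex0_of_triv K h) ?_
  intro b hb
  obtain ⟨x, rfl⟩ := PreHexPerm.exists_pb hb
  obtain ⟨d, hd, hd'⟩ := lift_x K x
  -- `c d` and `d c` act in the same way on `Q/z`
  have key : ∀ q ∈ H.Q, K.co ((c : G) * ((d : G) * q * (d : G)⁻¹) * (c : G)⁻¹) =
      K.co ((d : G) * ((c : G) * q * (c : G)⁻¹) * (d : G)⁻¹) := by
    intro q hq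
    obtain ⟨a, ha, hav⟩ := K.co_surj (Bm x (K.co q).2, 0)
    have haA : a ∈ AO K hex0 := (mem_A0 K).2 ⟨ha, by rw [hav]⟩
    have h1 : K.co ((d : G) * q * (d : G)⁻¹) = K.co (q * a) := by
      rw [hd' q hq, K.co_mul q hq a ha, hav]
      exact Prod.ext rfl (add_zero _).symm
    have h2 := co_conj_congr K c (conj_mem d hq) (H.Q.mul_mem hq ha) h1
    have e : (c : G) * (q * a) * (c : G)⁻¹ = ((c : G) * q * (c : G)⁻¹) * ((c : G) * a * (c : G)⁻¹) := by
      group
    rw [h2, e, K.co_mul _ (conj_mem c hq) _ (conj_mem c ha), (Tr_iff_co K c ha).1 (h a haA), hav,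
      hd' _ (conj_mem c hq)]
    unfold Mx
    rw [snd_of_triv K h hq]
    exact Prod.ext rfl (by rw [← snd_of_triv K h hq]; exact add_zero _)
  have h3 : H.P ((d * c)⁻¹ * (c * d)) = 1 := by
    refine P_of_triv K fun q hq => ?_
    refine co_conj_inj K (d * c) (conj_mem _ hq) hq ?_
    have e1 : ((d * c : Subgroup.centralizer ({H.z} : Set G)) : G) *
        ((((d * c)⁻¹ * (c * d) : Subgroup.centralizer ({H.z} : Set G)) : G) * q *
        (((d * c)⁻¹ * (c * d) : Subgroup.centralizer ({H.z} : Set G)) : G)⁻¹) *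
        ((d * c : Subgroup.centralizer ({H.z} : Set G)) : G)⁻¹ =
        (c : G) * ((d : G) * q * (d : G)⁻¹) * (c : G)⁻¹ := by
      show ((d : G) * (c : G)) * ((((d : G) * (c : G))⁻¹ * ((c : G) * (d : G))) * q *
        (((d : G) * (c : G))⁻¹ * ((c : G) * (d : G)))⁻¹) * ((d : G) * (c : G))⁻¹ = _
      group
    have e2 : ((d * c : Subgroup.centralizer ({H.z} : Set G)) : G) * q *
        ((d * c : Subgroup.centralizer ({H.z} : Set G)) : G)⁻¹ =
        (d : G) * ((c : G) * q * (c : G)⁻¹) * (d : G)⁻¹ := by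
      show ((d : G) * (c : G)) * q * ((d : G) * (c : G))⁻¹ = _
      group
    rw [e1, e2, key q hq]
  rw [map_mul, map_inv, map_mul, map_mul, inv_mul_eq_one, hd] at h3
  exact h3.symm

end Cfsg.Agent.J4Type.PreHexC
end

-- part: J4Type/HexOf
section
/-!
# From the subgroups `A(O)` of `Q` to the elementary abelian groups `E(O)` of order `2^11`

`PreHex` extends `Cent` by facts that only concern the action of `C = C_G(z)` on `V = Q/⟨z⟩`.
`PreHex.toHex : PreHex G → Hex G` with `E O = C_G(A O)`.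
-/

set_option autoImplicit false

open scoped Pointwise

namespace Cfsg.Agent.J4Type

open Cfsg

/-- `Cent` together with the subgroups `A O ≤ Q` (`O` a hexad) and facts about the action on
`V = Q/⟨z⟩`. -/
structure PreHex (G : Type*) [Group G] extends Cent G where
  P_outer : ∀ c : Subgroup.centralizer ({z} : Set G), P c none ≠ none →
    ∃ q ∈ Q, (c : G) * ρ * (c : G)⁻¹ = q * ρ⁻¹
  A : Finset GolayPt → Subgroup G
  A_le : ∀ O, IsHex O → A O ≤ Q
  z_mem_A : ∀ O, IsHex O → z ∈ A O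
  A_card : ∀ O, IsHex O → Nat.card (A O) = 2 ^ 7
  A_sq : ∀ O, IsHex O → ∀ a ∈ A O, a * a = 1
  A_conj : ∀ O, IsHex O → ∀ (c : Subgroup.centralizer ({z} : Set G)) (a : G),
    a ∈ A O ↔ (c : G) * a * (c : G)⁻¹ ∈ A (P c • O)
  /-- elements of `C` acting trivially on `A O / z` induce on the points elements of `2^4` -/
  A_fix : ∀ O, IsHex O → ∀ c : Subgroup.centralizer ({z} : Set G),
    (∀ a ∈ A O, (c : G) * a * (c : G)⁻¹ = a ∨ (c : G) * a * (c : G)⁻¹ = z * a) →
      ∀ p ∈ O, P c p = p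
  A_lift : ∀ O, IsHex O → ∀ g : Equiv.Perm GolayPt, g ∈ M24 → (∀ p ∈ O, g p = p) →
    ∃ c : Subgroup.centralizer ({z} : Set G), P c = g ∧
      ∀ a ∈ A O, (c : G) * a * (c : G)⁻¹ = a ∨ (c : G) * a * (c : G)⁻¹ = z * a
  A_inf_two : ∀ O O', IsHex O → IsHex O' → (O ∩ O').card = 2 → Nat.card (A O ⊓ A O' : Subgroup G) = 2
  A_inf_eight : ∀ O O', IsHex O → IsHex O' → (O ∩ O').card = 4 →
    Nat.card (A O ⊓ A O' : Subgroup G) = 8
  V_dim' : ∀ O, IsHex O → ∀ c : Subgroup.centralizer ({z} : Set G), P c ≠ 1 →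
    (∀ a ∈ A O, (c : G) * a * (c : G)⁻¹ = a ∨ (c : G) * a * (c : G)⁻¹ = z * a) →
    Nat.card {q : G // q ∈ Q ∧ ((c : G) * q = q * c ∨ (c : G) * q = z * (q * c))} = 2 ^ 9
  V_inf' : ∀ O, IsHex O → ∀ c d : Subgroup.centralizer ({z} : Set G), P c ≠ 1 → P d ≠ 1 →
    P c ≠ P d →
    (∀ a ∈ A O, (c : G) * a * (c : G)⁻¹ = a ∨ (c : G) * a * (c : G)⁻¹ = z * a) →
    (∀ a ∈ A O, (d : G) * a * (d : G)⁻¹ = a ∨ (d : G) * a * (d : G)⁻¹ = z * a) →
    ∀ q ∈ Q, ((c : G) * q = q * c ∨ (c : G) * q = z * (q * c)) →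
      ((d : G) * q = q * d ∨ (d : G) * q = z * (q * d)) → q ∈ A O

namespace PreHex

open Cfsg.Agent.SporadicA.OctadFix

variable {G : Type*} [Group G] (H : PreHex G)

theorem zz : H.z * H.z = 1 := by
  have := pow_orderOf_eq_one H.z
  rwa [H.z_order, pow_two] at this

theorem z_ne : H.z ≠ 1 := by
  intro h
  have := H.z_order
  rw [h, orderOf_one] at this
  omega

theorem ρ3 : H.ρ ^ 3 = 1 := by
  have := pow_orderOf_eq_one H.ρ
  rwa [H.ρ_order] at this

/-- elements acting trivially on `A O / z` -/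
def R (O : Finset GolayPt) : Subgroup G where
  carrier := {g | g * H.z = H.z * g ∧ ∀ a ∈ H.A O, g * a * g⁻¹ = a ∨ g * a * g⁻¹ = H.z * a}
  one_mem' := ⟨by simp, fun a _ => Or.inl (by simp)⟩
  mul_mem' := by
    rintro g h ⟨g1, g2⟩ ⟨h1, h2⟩
    refine ⟨by rw [mul_assoc, h1, ← mul_assoc, g1, mul_assoc], fun a ha => ?_⟩
    have e1 : g * h * a * (g * h)⁻¹ = g * (h * a * h⁻¹) * g⁻¹ := by group
    rw [e1]
    rcases h2 a ha with h3 | h3 <;> rw [h3]
    · exact g2 a ha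
    · have e2 : g * (H.z * a) * g⁻¹ = H.z * (g * a * g⁻¹) := by
        rw [← mul_assoc g, g1]; group
      rw [e2]
      rcases g2 a ha with h4 | h4 <;> rw [h4]
      · exact Or.inr rfl
      · rw [← mul_assoc, H.zz, one_mul]; exact Or.inl rfl
  inv_mem' := by
    rintro g ⟨g1, g2⟩
    have g1' : g⁻¹ * H.z = H.z * g⁻¹ := by
      rw [inv_mul_eq_iff_eq_mul, ← mul_assoc, g1, mul_assoc, mul_inv_cancel, mul_one]
    refine ⟨g1', fun a ha => ?_⟩
    rcases g2 a ha with h3 | h3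
    · left
      calc g⁻¹ * a * g⁻¹⁻¹ = g⁻¹ * (g * a * g⁻¹) * g := by rw [h3, inv_inv]
        _ = a := by group
    · right
      have e1 : a = H.z * (g⁻¹ * a * g) := by
        calc a = g⁻¹ * (g * a * g⁻¹) * g := by group
          _ = (g⁻¹ * H.z) * a * g := by rw [h3]; group
          _ = H.z * (g⁻¹ * a * g) := by rw [g1']; group
      rw [inv_inv]
      calc g⁻¹ * a * g = H.z * (H.z * (g⁻¹ * a * g)) := by rw [← mul_assoc, H.zz, one_mul]
        _ = H.z * a := by rw [← e1]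

theorem mem_R {O : Finset GolayPt} {g : G} : g ∈ H.R O ↔ g * H.z = H.z * g ∧
    ∀ a ∈ H.A O, g * a * g⁻¹ = a ∨ g * a * g⁻¹ = H.z * a := Iff.rfl

theorem R_cent {O : Finset GolayPt} {g : G} (hg : g ∈ H.R O) :
    g ∈ Subgroup.centralizer ({H.z} : Set G) := by
  rw [Subgroup.mem_centralizer_singleton_iff]
  exact hg.1

/-- `E O = C_G(A O)` -/
def E (O : Finset GolayPt) : Subgroup G := Subgroup.centralizer (H.A O : Set G)

theorem mem_E {O : Finset GolayPt} {g : G} : g ∈ H.E O ↔ ∀ a ∈ H.A O, a * g = g * a := by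
  rw [E, Subgroup.mem_centralizer_iff]; rfl

variable {O : Finset GolayPt} (hO : IsHex O)

include hO

theorem A_comm : ∀ a ∈ H.A O, ∀ b ∈ H.A O, a * b = b * a := by
  intro a ha b hb
  have h1 := H.A_sq O hO a ha
  have h2 := H.A_sq O hO b hb
  have h3 := H.A_sq O hO _ (mul_mem ha hb)
  have e1 : a⁻¹ = a := inv_eq_of_mul_eq_one_left h1
  have e2 : b⁻¹ = b := inv_eq_of_mul_eq_one_left h2
  have e3 : (a * b)⁻¹ = a * b := inv_eq_of_mul_eq_one_left h3
  rw [mul_inv_rev, e1, e2] at e3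
  exact e3.symm

theorem E_le_R : H.E O ≤ H.R O := by
  intro g hg
  rw [mem_E] at hg
  refine ⟨(hg _ (H.z_mem_A O hO)).symm, fun a ha => Or.inl ?_⟩
  rw [← hg a ha]; group

theorem A_le_E : H.A O ≤ H.E O := fun g hg => (H.mem_E).2 fun a ha => H.A_comm hO a ha g hg

theorem Q_le_R : H.Q ≤ H.R O := by
  intro q hq
  have h0 : q * H.z = H.z * q := by
    have := H.Q_le hq
    rwa [Subgroup.mem_centralizer_singleton_iff] at this
  refine ⟨h0, fun a ha => ?_⟩
  rcases H.Q_comm q hq a (H.A_le O hO ha) with h | h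
  · left; rw [h]; group
  · right; rw [h]; group

omit hO in
open Classical in
/-- the sign of the action of `g` on `a` -/
noncomputable def sg (g a : G) : ℂˣ := if g * a * g⁻¹ = a then 1 else -1

omit hO in
theorem sg_pos {g a : G} (h : g * a * g⁻¹ = a) : sg g a = 1 := if_pos h

omit hO in
theorem z_mul_ne (x : G) : H.z * x ≠ x := fun hx =>
  H.z_ne (mul_right_cancel (b := x) (hx.trans (one_mul x).symm))

omit hO in
theorem sg_neg {g a : G} (h : g * a * g⁻¹ = H.z * a) : sg g a = -1 :=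
  if_neg (by rw [h]; exact H.z_mul_ne a)

omit hO in
theorem neg_one_ne : (-1 : ℂˣ) ≠ 1 := by
  intro h
  have := congrArg Units.val h
  simp only [Units.val_neg, Units.val_one] at this
  norm_num at this

omit hO in
theorem sg_eq_one_iff {g a : G} : sg g a = 1 ↔ g * a * g⁻¹ = a := by
  constructor
  · intro h
    by_contra h'
    unfold sg at h
    rw [if_neg h'] at h
    exact neg_one_ne h
  · exact sg_pos

theorem sg_mul_right {g : G} (hg : g ∈ H.R O) {a b : G} (ha' : a ∈ H.A O) (hb' : b ∈ H.A O) :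
    sg g (a * b) = sg g a * sg g b := by
  have hzc : a * H.z = H.z * a := H.A_comm hO _ ha' _ (H.z_mem_A O hO)
  have hab : g * (a * b) * g⁻¹ = (g * a * g⁻¹) * (g * b * g⁻¹) := by group
  have e1 : a * (H.z * b) = H.z * (a * b) := by rw [← mul_assoc, hzc, mul_assoc]
  have e2 : H.z * a * b = H.z * (a * b) := mul_assoc _ _ _
  have e3 : H.z * a * (H.z * b) = a * b := by
    rw [mul_assoc, e1, ← mul_assoc, H.zz, one_mul]
  rcases hg.2 a ha' with ha | ha <;> rcases hg.2 b hb' with hb | hb <;> rw [ha, hb] at hab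
  · rw [sg_pos hab, sg_pos ha, sg_pos hb, one_mul]
  · rw [H.sg_neg (hab.trans e1), sg_pos ha, H.sg_neg hb, one_mul]
  · rw [H.sg_neg (hab.trans e2), H.sg_neg ha, sg_pos hb, mul_one]
  · rw [sg_pos (hab.trans e3), H.sg_neg ha, H.sg_neg hb]
    simp

theorem sg_mul_left {g h : G} (hg : g ∈ H.R O) (hh : h ∈ H.R O) {a : G} (ha' : a ∈ H.A O) :
    sg (g * h) a = sg g a * sg h a := by
  have hab : g * h * a * (g * h)⁻¹ = g * (h * a * h⁻¹) * g⁻¹ := by group
  have e2 : g * (H.z * a) * g⁻¹ = H.z * (g * a * g⁻¹) := by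
    rw [← mul_assoc g, hg.1]; group
  rcases hg.2 a ha' with ha | ha <;> rcases hh.2 a ha' with hb | hb <;> rw [hb] at hab
  · rw [ha] at hab
    rw [sg_pos hab, sg_pos ha, sg_pos hb, one_mul]
  · rw [e2, ha] at hab
    rw [H.sg_neg hab, sg_pos ha, H.sg_neg hb, one_mul]
  · rw [ha] at hab
    rw [H.sg_neg hab, H.sg_neg ha, sg_pos hb, mul_one]
  · rw [e2, ha, ← mul_assoc, H.zz, one_mul] at hab
    rw [sg_pos hab, H.sg_neg ha, H.sg_neg hb]
    simp

/-- the homomorphism `R O → Hom(A O, ℂˣ)` -/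
noncomputable def sgn : H.R O →* (H.A O →* ℂˣ) where
  toFun g :=
    { toFun := fun a => sg (g : G) a
      map_one' := sg_pos (by simp)
      map_mul' := fun a b => H.sg_mul_right hO g.2 a.2 b.2 }
  map_one' := by
    ext a
    have : sg (((1 : H.R O) : G)) (a : G) = 1 := sg_pos (by simp)
    exact congrArg Units.val this
  map_mul' g h := by
    ext a
    exact congrArg Units.val (H.sg_mul_left hO g.2 h.2 a.2)

theorem sgn_apply (g : H.R O) (a : H.A O) : H.sgn hO g a = sg (g : G) (a : G) := rfl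

theorem sgn_eq_one_iff (g : H.R O) : H.sgn hO g = 1 ↔ (g : G) ∈ H.E O := by
  rw [mem_E]
  constructor
  · intro h a ha
    have h1 := DFunLike.congr_fun h ⟨a, ha⟩
    rw [sgn_apply, MonoidHom.one_apply, sg_eq_one_iff] at h1
    simp only at h1
    calc a * (g : G) = ((g : G) * a * (g : G)⁻¹) * g := by rw [h1]
      _ = g * a := by group
  · intro h
    ext a
    have h1 : sg (g : G) (a : G) = 1 := sg_pos (by rw [← h a a.2]; group)
    exact congrArg Units.val h1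

theorem sgn_ker : (H.sgn hO).ker = (H.E O).subgroupOf (H.R O) := by
  ext g
  rw [MonoidHom.mem_ker, sgn_eq_one_iff, Subgroup.mem_subgroupOf]

variable [Finite G]

/-- the annihilator of `z` in the character group of `A O` -/
theorem range_le : (H.sgn hO).range ≤
    Cfsg.Agent.Lib.ClassTwoDuality.annihilator (Subgroup.zpowers (⟨H.z, H.z_mem_A O hO⟩ : H.A O)) := by
  rintro _ ⟨g, rfl⟩ x hx
  obtain ⟨k, rfl⟩ := Subgroup.mem_zpowers_iff.1 hx
  rw [map_zpow]
  have : H.sgn hO g ⟨H.z, H.z_mem_A O hO⟩ = 1 := by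
    rw [sgn_apply]
    apply sg_pos
    simp only
    rw [g.2.1]; group
  rw [this, one_zpow]

omit hO [Finite G] in
theorem center_Q : Subgroup.center H.Q = Subgroup.zpowers (⟨H.z, H.z_mem_Q⟩ : H.Q) := by
  ext x
  rw [Subgroup.mem_center_iff]
  constructor
  · intro h
    rcases H.Q_cent x (fun q hq => (congrArg Subtype.val (h ⟨q, hq⟩)).symm) with h1 | h1
    · have : x = 1 := Subtype.ext h1
      rw [this]; exact one_mem _
    · have : x = ⟨H.z, H.z_mem_Q⟩ := Subtype.ext h1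
      rw [this]; exact Subgroup.mem_zpowers _
  · intro h q
    obtain ⟨k, rfl⟩ := Subgroup.mem_zpowers_iff.1 h
    have h1 : Commute q (⟨H.z, H.z_mem_Q⟩ : H.Q) := by
      have := H.Q_le q.2
      rw [Subgroup.mem_centralizer_singleton_iff] at this
      exact Subtype.ext this
    exact h1.zpow_right k

omit hO [Finite G] in
theorem orderOf_zQ (S : Subgroup G) (h : H.z ∈ S) : orderOf (⟨H.z, h⟩ : S) = 2 := by
  rw [← Subgroup.orderOf_coe]; exact H.z_order

omit hO [Finite G] in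
theorem commutator_Q : commutator H.Q ≤ Subgroup.center H.Q := by
  rw [center_Q, commutator_def, Subgroup.commutator_le]
  intro a _ b _
  rw [commutatorElement_def]
  rcases H.Q_comm a a.2 b b.2 with h | h
  · have : a * b * a⁻¹ * b⁻¹ = 1 := by
      have h' : a * b = b * a := Subtype.ext h
      rw [h']; group
    rw [this]; exact one_mem _
  · have : a * b * a⁻¹ * b⁻¹ = ⟨H.z, H.z_mem_Q⟩ := by
      have h' : a * b = ⟨H.z, H.z_mem_Q⟩ * (b * a) := Subtype.ext h
      rw [h']; group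
    rw [this]; exact Subgroup.mem_zpowers _

/-- `C_Q(A O) = A O` -/
theorem cent_A {q : G} (hq : q ∈ H.Q) (h : ∀ a ∈ H.A O, q * a = a * q) : q ∈ H.A O := by
  have hcyc : IsCyclic (Subgroup.center H.Q) := by
    rw [center_Q]; infer_instance
  have hZ : Subgroup.center H.Q ≤ (H.A O).subgroupOf H.Q := by
    rw [center_Q, Subgroup.zpowers_le]
    exact H.z_mem_A O hO
  have h1 := Cfsg.Agent.Lib.ClassTwoDuality.card_centralizer_mul_card H.commutator_Q hcyc
    ((H.A O).subgroupOf H.Q) hZ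
  have h2 : Nat.card (Subgroup.center H.Q) = 2 := by
    rw [center_Q, Nat.card_zpowers, orderOf_zQ]
  have h3 : Nat.card ((H.A O).subgroupOf H.Q) = 2 ^ 7 := by
    rw [Nat.card_congr (Subgroup.subgroupOfEquivOfLe (H.A_le O hO)).toEquiv, H.A_card O hO]
  rw [h2, h3, H.Q_card] at h1
  have h4 : Nat.card (Subgroup.centralizer ((H.A O).subgroupOf H.Q : Set H.Q)) = 2 ^ 7 := by
    omega
  have h5 : (H.A O).subgroupOf H.Q ≤ Subgroup.centralizer ((H.A O).subgroupOf H.Q : Set H.Q) := by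
    intro x hx
    rw [Subgroup.mem_centralizer_iff]
    intro y hy
    exact Subtype.ext (H.A_comm hO _ hy _ hx)
  have h6 := Subgroup.eq_of_le_of_card_ge h5 (by rw [h3, h4])
  have h7 : (⟨q, hq⟩ : H.Q) ∈ Subgroup.centralizer ((H.A O).subgroupOf H.Q : Set H.Q) := by
    rw [Subgroup.mem_centralizer_iff]
    intro y hy
    exact Subtype.ext (h _ hy).symm
  rw [← h6] at h7
  exact h7

/-- the restriction of `sgn` to `Q` is onto the annihilator of `z` -/
theorem exists_Q (r : G) (hr : r ∈ H.R O) : ∃ q ∈ H.Q, q⁻¹ * r ∈ H.E O := by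
  set ι : H.Q →* H.R O := Subgroup.inclusion (H.Q_le_R hO) with hι
  set N := Cfsg.Agent.Lib.ClassTwoDuality.annihilator
    (Subgroup.zpowers (⟨H.z, H.z_mem_A O hO⟩ : H.A O)) with hN
  have hAcomm : commutator (H.A O) ≤ Subgroup.zpowers (⟨H.z, H.z_mem_A O hO⟩ : H.A O) := by
    rw [commutator_def, Subgroup.commutator_le]
    intro a _ b _
    rw [commutatorElement_def]
    have : a * b * a⁻¹ * b⁻¹ = 1 := by
      have h' : a * b = b * a := Subtype.ext (H.A_comm hO _ a.2 _ b.2)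
      rw [h']; group
    rw [this]; exact one_mem _
  have hcardN : Nat.card N = 2 ^ 6 := by
    rw [hN, Cfsg.Agent.Lib.ClassTwoDuality.card_annihilator _ hAcomm]
    have h1 := Subgroup.card_eq_card_quotient_mul_card_subgroup
      (Subgroup.zpowers (⟨H.z, H.z_mem_A O hO⟩ : H.A O))
    rw [H.A_card O hO, Nat.card_zpowers, orderOf_zQ] at h1
    omega
  have hker : ((H.sgn hO).comp ι).ker = (H.A O).subgroupOf H.Q := by
    ext q
    rw [MonoidHom.mem_ker, MonoidHom.comp_apply, sgn_eq_one_iff, Subgroup.mem_subgroupOf, mem_E]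
    constructor
    · intro h
      exact H.cent_A hO q.2 (fun a ha => (h a ha).symm)
    · intro h a ha
      exact H.A_comm hO a ha _ h
  have hrange : Nat.card ((H.sgn hO).comp ι).range = 2 ^ 6 := by
    rw [← Nat.card_congr (QuotientGroup.quotientKerEquivRange ((H.sgn hO).comp ι)).toEquiv, hker]
    have h1 := Subgroup.card_eq_card_quotient_mul_card_subgroup ((H.A O).subgroupOf H.Q)
    rw [Nat.card_congr (Subgroup.subgroupOfEquivOfLe (H.A_le O hO)).toEquiv, H.A_card O hO,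
      H.Q_card] at h1
    omega
  have hle : ((H.sgn hO).comp ι).range ≤ N := by
    rintro _ ⟨q, rfl⟩
    exact H.range_le hO ⟨ι q, rfl⟩
  have heq := Subgroup.eq_of_le_of_card_ge hle (by rw [hrange, hcardN])
  have h1 : H.sgn hO ⟨r, hr⟩ ∈ ((H.sgn hO).comp ι).range := by
    rw [heq]; exact H.range_le hO ⟨_, rfl⟩
  obtain ⟨q, hq⟩ := h1
  refine ⟨q, q.2, ?_⟩
  have h2 : H.sgn hO ((ι q)⁻¹ * ⟨r, hr⟩) = 1 := by
    rw [map_mul, map_inv, ← MonoidHom.comp_apply, hq, inv_mul_cancel]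
  rw [sgn_eq_one_iff] at h2
  exact h2

omit [Finite G] in
theorem ρ_not_R : H.ρ ∉ H.R O := by
  intro h
  have h1 : ∀ a ∈ H.A O, H.ρ * a * H.ρ⁻¹ = a := by
    intro a ha
    rcases h.2 a ha with h2 | h2
    · exact h2
    · exfalso
      have hc : H.ρ * H.z * H.ρ⁻¹ = H.z := by rw [H.ρ_comm]; group
      have s2 : H.ρ * (H.z * a) * H.ρ⁻¹ = a := by
        calc H.ρ * (H.z * a) * H.ρ⁻¹ = (H.ρ * H.z * H.ρ⁻¹) * (H.ρ * a * H.ρ⁻¹) := by group
          _ = H.z * (H.z * a) := by rw [hc, h2]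
          _ = a := by rw [← mul_assoc, H.zz, one_mul]
      have h3 : H.ρ * (H.ρ * (H.ρ * a * H.ρ⁻¹) * H.ρ⁻¹) * H.ρ⁻¹ = H.z * a := by
        rw [h2, s2, h2]
      have e3 : H.ρ * H.ρ * H.ρ = 1 := by rw [← pow_two, ← pow_succ, H.ρ3]
      have h4 : H.ρ * (H.ρ * (H.ρ * a * H.ρ⁻¹) * H.ρ⁻¹) * H.ρ⁻¹ = a := by
        calc H.ρ * (H.ρ * (H.ρ * a * H.ρ⁻¹) * H.ρ⁻¹) * H.ρ⁻¹
            = (H.ρ * H.ρ * H.ρ) * a * (H.ρ * H.ρ * H.ρ)⁻¹ := by group
          _ = a := by rw [e3]; group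
      exact H.z_mul_ne a (h3.symm.trans h4)
  have h2 : (H.A O : Set G) ⊆ {1, H.z} := by
    intro a ha
    rcases H.ρ_fix a (H.A_le O hO ha) (by
      calc H.ρ * a = (H.ρ * a * H.ρ⁻¹) * H.ρ := by group
        _ = a * H.ρ := by rw [h1 a ha]) with h3 | h3
    · exact Or.inl h3
    · exact Or.inr h3
  have h3 : Nat.card (H.A O) ≤ 2 := by
    have := Set.ncard_le_ncard h2 (Set.toFinite _)
    rw [← Nat.card_coe_set_eq] at this
    refine this.trans ?_
    exact (Set.ncard_insert_le _ _).trans (by rw [Set.ncard_singleton])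
  rw [H.A_card O hO] at h3
  norm_num at h3

omit [Finite G] in
theorem mem_Q_of_P_eq_one {g : G} (hg : g ∈ H.R O) (h : H.P ⟨g, H.R_cent hg⟩ = 1) : g ∈ H.Q := by
  obtain ⟨q, hq, i, hi⟩ := (H.P_ker _).1 h
  have hi : g = q * H.ρ ^ i := hi
  have h1 : H.ρ ^ i ∈ H.R O := by
    have : H.ρ ^ i = q⁻¹ * g := by rw [hi]; group
    rw [this]
    exact mul_mem (inv_mem (H.Q_le_R hO hq)) hg
  have h2 : i % 3 = 0 := by
    by_contra h3
    apply H.ρ_not_R hO
    have h4 : H.ρ ^ i = H.ρ ^ (i % 3) := by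
      conv_lhs => rw [← Nat.div_add_mod i 3, pow_add, pow_mul, H.ρ3, one_pow, one_mul]
    have h5 : i % 3 = 1 ∨ i % 3 = 2 := by omega
    rcases h5 with h5 | h5
    · rw [h4, h5, pow_one] at h1; exact h1
    · rw [h4, h5] at h1
      have h6 := mul_mem h1 h1
      rw [← pow_add, show 2 + 2 = 3 + 1 by norm_num, pow_succ, H.ρ3, one_mul] at h6
      exact h6
  have h3 : H.ρ ^ i = 1 := by
    obtain ⟨k, hk⟩ := Nat.dvd_of_mod_eq_zero h2
    rw [hk, pow_mul, H.ρ3, one_pow]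
  rw [hi, h3, mul_one]
  exact hq

omit [Finite G] in
theorem P_mem_fix {g : G} (hg : g ∈ H.R O) : H.P ⟨g, H.R_cent hg⟩ ∈ fixOct O := by
  rw [mem_fixOct]
  refine ⟨?_, H.A_fix O hO ⟨g, H.R_cent hg⟩ hg.2⟩
  have h1 : H.P ⟨g, H.R_cent hg⟩ ∈ H.P.range := ⟨_, rfl⟩
  rw [H.P_range] at h1
  exact h1.1

omit hO [Finite G] in
theorem P_Q {q : G} (hq : q ∈ H.Q) : H.P ⟨q, H.Q_le hq⟩ = 1 :=
  (H.P_ker _).2 ⟨q, hq, 0, by simp⟩

omit hO [Finite G] in
theorem ρ_cent : H.ρ ∈ Subgroup.centralizer ({H.z} : Set G) := by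
  rw [Subgroup.mem_centralizer_singleton_iff]; exact H.ρ_comm

omit hO [Finite G] in
theorem P_ρ : H.P ⟨H.ρ, H.ρ_cent⟩ = 1 :=
  (H.P_ker _).2 ⟨1, one_mem _, 1, by simp⟩

omit hO [Finite G] in
theorem P_congr {g h : G} {hg : g ∈ Subgroup.centralizer ({H.z} : Set G)} {hh} (e : g = h) :
    H.P ⟨g, hg⟩ = H.P ⟨h, hh⟩ := by subst e; rfl

theorem P_surj {k : Equiv.Perm GolayPt} (hk : k ∈ fixOct O) :
    ∃ g, ∃ hg : g ∈ H.E O, H.P ⟨g, H.R_cent (H.E_le_R hO hg)⟩ = k := by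
  rw [mem_fixOct] at hk
  obtain ⟨c, hc, hcA⟩ := H.A_lift O hO k hk.1 hk.2
  have hcR : (c : G) ∈ H.R O := by
    refine ⟨?_, hcA⟩
    have := c.2
    rwa [Subgroup.mem_centralizer_singleton_iff] at this
  obtain ⟨q, hq, hqc⟩ := H.exists_Q hO c hcR
  refine ⟨_, hqc, ?_⟩
  have h1 : (⟨q⁻¹ * (c : G), H.R_cent (H.E_le_R hO hqc)⟩ : Subgroup.centralizer ({H.z} : Set G)) =
      ⟨q, H.Q_le hq⟩⁻¹ * c := rfl
  rw [h1, map_mul, map_inv, H.P_Q hq, inv_one, one_mul, hc]

/-- the homomorphism `R O → fixOct O` induced by `P` -/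
noncomputable def PR : H.R O →* Equiv.Perm GolayPt :=
  H.P.comp (Subgroup.inclusion (fun g hg => H.R_cent hg))

omit hO [Finite G] in
theorem PR_apply (g : H.R O) : H.PR g = H.P ⟨g, H.R_cent g.2⟩ := rfl

theorem card_of {S : Subgroup G} (hS : S ≤ H.R O)
    (hsurj : ∀ k ∈ fixOct O, ∃ g, ∃ hg : g ∈ S, H.P ⟨g, H.R_cent (hS hg)⟩ = k) :
    Nat.card S = Nat.card (S ⊓ H.Q : Subgroup G) * 16 := by
  set f : S →* Equiv.Perm GolayPt := (H.PR (O := O)).comp (Subgroup.inclusion hS) with hf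
  have h1 : f.range = fixOct O := by
    ext k
    constructor
    · rintro ⟨g, rfl⟩
      exact H.P_mem_fix hO (hS g.2)
    · intro hk
      obtain ⟨g, hg, h⟩ := hsurj k hk
      exact ⟨⟨g, hg⟩, h⟩
  have h2 : f.ker = H.Q.subgroupOf S := by
    ext g
    rw [MonoidHom.mem_ker, Subgroup.mem_subgroupOf]
    constructor
    · intro h
      exact H.mem_Q_of_P_eq_one hO (hS g.2) h
    · intro h
      exact H.P_Q h
  have h3 := Subgroup.card_eq_card_quotient_mul_card_subgroup f.ker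
  rw [Nat.card_congr (QuotientGroup.quotientKerEquivRange f).toEquiv, h1, card_fixOct hO.1, h2] at h3
  have h4 : Nat.card (H.Q.subgroupOf S) = Nat.card (S ⊓ H.Q : Subgroup G) := by
    rw [← Subgroup.inf_subgroupOf_left, Nat.card_congr (Subgroup.subgroupOfEquivOfLe
      (inf_le_left : S ⊓ H.Q ≤ S)).toEquiv]
  rw [h3, h4, mul_comm]

theorem E_inf_Q : H.E O ⊓ H.Q = H.A O := by
  apply le_antisymm
  · rintro g ⟨hg, hgQ⟩
    refine H.cent_A hO hgQ (fun a ha => ?_)
    exact ((H.mem_E).1 hg a ha).symm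
  · exact le_inf (H.A_le_E hO) (H.A_le O hO)

theorem card_E : Nat.card (H.E O) = 2 ^ 11 := by
  rw [H.card_of hO (H.E_le_R hO) (fun k hk => H.P_surj hO hk), H.E_inf_Q hO, H.A_card O hO]
  norm_num

omit [Finite G] in
theorem P_eq_one_iff {g : G} (hg : g ∈ H.E O) (h1 : H.P ⟨g, H.R_cent (H.E_le_R hO hg)⟩ = 1)
    [Finite G] : g ∈ H.A O := by
  rw [← H.E_inf_Q hO]
  exact ⟨hg, H.mem_Q_of_P_eq_one hO (H.E_le_R hO hg) h1⟩

omit [Finite G] in
/-- an element `c` of `C` with `P c • O = O` normalises `E O` -/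
theorem conj_mem_E (c : Subgroup.centralizer ({H.z} : Set G)) (g : G) :
    g ∈ H.E O ↔ (c : G) * g * (c : G)⁻¹ ∈ H.E (H.P c • O) := by
  rw [mem_E, mem_E]
  constructor
  · intro h a ha
    have h1 : (c : G)⁻¹ * a * c ∈ H.A O := by
      rw [H.A_conj O hO c]
      have : (c : G) * ((c : G)⁻¹ * a * c) * (c : G)⁻¹ = a := by group
      rwa [this]
    have h2 := h _ h1
    calc a * ((c : G) * g * (c : G)⁻¹) = c * (((c : G)⁻¹ * a * c) * g) * (c : G)⁻¹ := by group
      _ = c * (g * ((c : G)⁻¹ * a * c)) * (c : G)⁻¹ := by rw [h2]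
      _ = (c : G) * g * (c : G)⁻¹ * a := by group
  · intro h a ha
    have h1 := (H.A_conj O hO c a).1 ha
    have h2 := h _ h1
    calc a * g = (c : G)⁻¹ * (((c : G) * a * (c : G)⁻¹) * ((c : G) * g * (c : G)⁻¹)) * c := by group
      _ = (c : G)⁻¹ * (((c : G) * g * (c : G)⁻¹) * ((c : G) * a * (c : G)⁻¹)) * c := by rw [h2]
      _ = g * a := by group

omit [Finite G] in
theorem ρ_conj_E {g : G} : g ∈ H.E O ↔ H.ρ * g * H.ρ⁻¹ ∈ H.E O := by
  have := H.conj_mem_E hO ⟨H.ρ, H.ρ_cent⟩ g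
  rw [H.P_ρ, one_smul] at this
  exact this

omit [Finite G] in
/-- `P` is invariant under conjugation by `ρ` -/
theorem P_conj_ρ {g : G} (hg : g ∈ Subgroup.centralizer ({H.z} : Set G))
    (hg' : H.ρ * g * H.ρ⁻¹ ∈ Subgroup.centralizer ({H.z} : Set G)) :
    H.P ⟨H.ρ * g * H.ρ⁻¹, hg'⟩ = H.P ⟨g, hg⟩ := by
  have h1 : (⟨H.ρ * g * H.ρ⁻¹, hg'⟩ : Subgroup.centralizer ({H.z} : Set G)) =
      ⟨H.ρ, H.ρ_cent⟩ * ⟨g, hg⟩ * ⟨H.ρ, H.ρ_cent⟩⁻¹ := rfl
  rw [h1, map_mul, map_mul, map_inv, H.P_ρ, one_mul, inv_one, mul_one]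

/-- two elements of `E O` with the same image differ by an element of `A O` -/
theorem exists_A {g h : G} (hg : g ∈ H.E O) (hh : h ∈ H.E O)
    (e : H.P ⟨g, H.R_cent (H.E_le_R hO hg)⟩ = H.P ⟨h, H.R_cent (H.E_le_R hO hh)⟩) :
    ∃ a ∈ H.A O, h = g * a := by
  refine ⟨g⁻¹ * h, H.P_eq_one_iff hO (mul_mem (inv_mem hg) hh) ?_, by group⟩
  have h1 : (⟨g⁻¹ * h, H.R_cent (H.E_le_R hO (mul_mem (inv_mem hg) hh))⟩ :
      Subgroup.centralizer ({H.z} : Set G)) =
      (⟨g, H.R_cent (H.E_le_R hO hg)⟩ : Subgroup.centralizer ({H.z} : Set G))⁻¹ *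
        ⟨h, H.R_cent (H.E_le_R hO hh)⟩ := rfl
  rw [h1, map_mul, map_inv, e, inv_mul_cancel]

theorem sq_mul {g a : G} (hg : g ∈ H.E O) (ha : a ∈ H.A O) : (g * a) * (g * a) = g * g := by
  have h1 := (H.mem_E).1 hg a ha
  calc (g * a) * (g * a) = g * (a * g) * a := by group
    _ = g * (g * a) * a := by rw [h1]
    _ = g * g * (a * a) := by group
    _ = g * g := by rw [H.A_sq O hO a ha, mul_one]

/-- squares of elements of `E O` are `1` or `z` -/
theorem sq_E {g : G} (hg : g ∈ H.E O) : g * g = 1 ∨ g * g = H.z := by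
  have hgR := H.E_le_R hO hg
  have h1 : g * g ∈ H.A O := by
    refine H.P_eq_one_iff hO (mul_mem hg hg) ?_
    have h2 : (⟨g * g, H.R_cent (H.E_le_R hO (mul_mem hg hg))⟩ :
        Subgroup.centralizer ({H.z} : Set G)) =
        ⟨g, H.R_cent hgR⟩ * ⟨g, H.R_cent hgR⟩ := rfl
    rw [h2, map_mul]
    exact fixOct_sq hO.1 (H.P_mem_fix hO hgR)
  have h2 := (H.ρ_conj_E hO).1 hg
  obtain ⟨a, ha, hga⟩ := H.exists_A hO hg h2 (H.P_conj_ρ hO _ _).symm
  have h3 : H.ρ * (g * g) * H.ρ⁻¹ = g * g := by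
    calc H.ρ * (g * g) * H.ρ⁻¹ = (H.ρ * g * H.ρ⁻¹) * (H.ρ * g * H.ρ⁻¹) := by group
      _ = g * g := by rw [hga, H.sq_mul hO hg ha]
  exact H.ρ_fix _ (H.A_le O hO h1) (by
    calc H.ρ * (g * g) = (H.ρ * (g * g) * H.ρ⁻¹) * H.ρ := by group
      _ = g * g * H.ρ := by rw [h3])

theorem conj_fix {c : Subgroup.centralizer ({H.z} : Set G)} (hc : H.P c • O = O) {g : G}
    (hg : g ∈ H.E O) : (c : G) * g * (c : G)⁻¹ ∈ H.E O := by
  have := (H.conj_mem_E hO c g).1 hg
  rwa [hc] at this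

/-- if one element of `E O \ A O` has square `z` then all have -/
theorem sq_all {e f : G} (he : e ∈ H.E O) (hf : f ∈ H.E O) (heA : e ∉ H.A O) (hfA : f ∉ H.A O)
    (h : e * e = H.z) : f * f = H.z := by
  have h1 : H.P ⟨e, H.R_cent (H.E_le_R hO he)⟩ ≠ 1 := fun h' => heA (H.P_eq_one_iff hO he h')
  have h2 : H.P ⟨f, H.R_cent (H.E_le_R hO hf)⟩ ≠ 1 := fun h' => hfA (H.P_eq_one_iff hO hf h')
  have hx : (none : GolayPt) ∈ O := hO.2 (by simp [base])
  have hy : (some 0 : GolayPt) ∈ O := hO.2 (by simp [base])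
  obtain ⟨k, hk, k1, k2, k3, k4⟩ := OctadFixTrans.fix_conj hO.1 hx hy (by simp)
    (H.P_mem_fix hO (H.E_le_R hO he)) (H.P_mem_fix hO (H.E_le_R hO hf)) h1 h2
  have hkM : k ∈ M22d := by
    refine ⟨hk, show k ∈ MulAction.stabilizer (Equiv.Perm GolayPt) base from ?_⟩
    rw [MulAction.mem_stabilizer_iff, base, Finset.smul_finset_insert, Finset.smul_finset_singleton]
    show ({k none, k (some 0)} : Finset GolayPt) = {none, some 0}
    rw [k1, k2]
  rw [← H.P_range] at hkM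
  obtain ⟨c, hc⟩ := hkM
  have hcO : H.P c • O = O := by rw [hc, k3]
  have h3 := H.conj_fix hO hcO he
  have h4 : H.P ⟨(c : G) * e * (c : G)⁻¹, H.R_cent (H.E_le_R hO h3)⟩ =
      H.P ⟨f, H.R_cent (H.E_le_R hO hf)⟩ := by
    have h5 : (⟨(c : G) * e * (c : G)⁻¹, H.R_cent (H.E_le_R hO h3)⟩ :
        Subgroup.centralizer ({H.z} : Set G)) = c * ⟨e, H.R_cent (H.E_le_R hO he)⟩ * c⁻¹ := rfl
    rw [h5, map_mul, map_mul, map_inv, hc, k4]
  obtain ⟨a, ha, hfa⟩ := H.exists_A hO h3 hf h4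
  have hcz : (c : G) * H.z * (c : G)⁻¹ = H.z := by
    have := c.2
    rw [Subgroup.mem_centralizer_singleton_iff] at this
    rw [this]; group
  calc f * f = ((c : G) * e * (c : G)⁻¹) * ((c : G) * e * (c : G)⁻¹) := by
        rw [hfa, H.sq_mul hO h3 ha]
    _ = (c : G) * (e * e) * (c : G)⁻¹ := by group
    _ = H.z := by rw [h, hcz]

/-- `E O` has exponent 2 -/
theorem E_sq {e : G} (he : e ∈ H.E O) : e * e = 1 := by
  rcases H.sq_E hO he with h | h
  · exact h
  exfalso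
  have hz1 := H.z_ne
  have hzE : ∀ x ∈ H.E O, H.z * x = x * H.z := fun x hx => (H.mem_E).1 hx _ (H.z_mem_A O hO)
  have heA : e ∉ H.A O := fun h' => hz1 (by rw [← h]; exact H.A_sq O hO e h')
  have hall : ∀ f ∈ H.E O, f ∉ H.A O → f * f = H.z := fun f hf hfA => H.sq_all hO he hf heA hfA h
  -- three independent elements of the pointwise stabiliser
  have hcard : (fixOct O : Set (Equiv.Perm GolayPt)).ncard = 16 := by
    rw [← Nat.card_coe_set_eq]; exact card_fixOct hO.1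
  have hpick : ∀ s : Finset (Equiv.Perm GolayPt), s.card < 16 → ∃ k ∈ fixOct O, k ∉ s := by
    intro s hs
    by_contra hcon
    push Not at hcon
    have h1 : (fixOct O : Set (Equiv.Perm GolayPt)) ⊆ (s : Set (Equiv.Perm GolayPt)) :=
      fun k hk => hcon k hk
    have h2 := Set.ncard_le_ncard h1 (Set.toFinite _)
    rw [hcard, Set.ncard_coe_finset] at h2
    omega
  classical
  obtain ⟨x, hx, hxs⟩ := hpick {1} (by simp)
  obtain ⟨y, hy, hys⟩ := hpick {1, x} (lt_of_le_of_lt (Finset.card_le_two) (by norm_num))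
  obtain ⟨w, hw, hws⟩ := hpick {1, x, y, x * y, y * x}
    (lt_of_le_of_lt Finset.card_le_five (by norm_num))
  simp only [Finset.mem_insert, Finset.mem_singleton, not_or] at hxs hys hws
  obtain ⟨a, ha, hPa⟩ := H.P_surj hO hx
  obtain ⟨b, hb, hPb⟩ := H.P_surj hO hy
  obtain ⟨c, hc, hPc⟩ := H.P_surj hO hw
  have hP : ∀ (u v : G) (hu : u ∈ H.E O) (hv : v ∈ H.E O),
      H.P ⟨u * v, H.R_cent (H.E_le_R hO (mul_mem hu hv))⟩ =
        H.P ⟨u, H.R_cent (H.E_le_R hO hu)⟩ * H.P ⟨v, H.R_cent (H.E_le_R hO hv)⟩ := by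
    intro u v hu hv
    rw [← map_mul]; rfl
  have hnA : ∀ (u : G) (hu : u ∈ H.E O), H.P ⟨u, H.R_cent (H.E_le_R hO hu)⟩ ≠ 1 → u ∉ H.A O := by
    intro u hu h1 h2
    exact h1 (H.P_Q (H.A_le O hO h2))
  have hsqx := fixOct_sq hO.1 hx
  have hsqy := fixOct_sq hO.1 hy
  -- independent elements anticommute
  have anti : ∀ (u v : G) (hu : u ∈ H.E O) (hv : v ∈ H.E O),
      H.P ⟨u, H.R_cent (H.E_le_R hO hu)⟩ ≠ 1 → H.P ⟨v, H.R_cent (H.E_le_R hO hv)⟩ ≠ 1 →
      H.P ⟨u, H.R_cent (H.E_le_R hO hu)⟩ * H.P ⟨v, H.R_cent (H.E_le_R hO hv)⟩ ≠ 1 →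
      u * v = H.z * (v * u) := by
    intro u v hu hv h1 h2 h3
    have e1 := hall u hu (hnA u hu h1)
    have e2 := hall v hv (hnA v hv h2)
    have e3 := hall (u * v) (mul_mem hu hv) (hnA _ (mul_mem hu hv) (by rw [hP u v hu hv]; exact h3))
    have e4 : u * (v * u) * v = H.z := by rw [← e3]; group
    have e5 : u * (u * v) * v = H.z * H.z := by
      calc u * (u * v) * v = (u * u) * (v * v) := by group
        _ = H.z * H.z := by rw [e1, e2]
    have e6 : u * (u * v) * v = u * (H.z * (v * u)) * v := by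
      rw [e5]
      calc H.z * H.z = H.z * (u * (v * u) * v) := by rw [e4]
        _ = (H.z * u) * (v * u) * v := by group
        _ = (u * H.z) * (v * u) * v := by rw [hzE u hu]
        _ = u * (H.z * (v * u)) * v := by group
    exact mul_left_cancel (mul_right_cancel e6)
  have hyx : y * y = 1 := hsqy
  have hww := fixOct_sq hO.1 hw
  have inv_of : ∀ {s t : Equiv.Perm GolayPt}, s * s = 1 → s * t = 1 → t = s := by
    intro s t hs hst
    calc t = s * s * t := by rw [hs, one_mul]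
      _ = s * (s * t) := by rw [mul_assoc]
      _ = s := by rw [hst, mul_one]
  have h_ab : H.P ⟨a, H.R_cent (H.E_le_R hO ha)⟩ * H.P ⟨b, H.R_cent (H.E_le_R hO hb)⟩ ≠ 1 := by
    rw [hPa, hPb]; intro h1; exact hys.2 (inv_of hsqx h1)
  have h_bc : H.P ⟨b, H.R_cent (H.E_le_R hO hb)⟩ * H.P ⟨c, H.R_cent (H.E_le_R hO hc)⟩ ≠ 1 := by
    rw [hPb, hPc]; intro h1; exact hws.2.2.1 (inv_of hsqy h1)
  have h_ac : H.P ⟨a, H.R_cent (H.E_le_R hO ha)⟩ * H.P ⟨c, H.R_cent (H.E_le_R hO hc)⟩ ≠ 1 := by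
    rw [hPa, hPc]; intro h1; exact hws.2.1 (inv_of hsqx h1)
  have h_abc : H.P ⟨a, H.R_cent (H.E_le_R hO ha)⟩ *
      H.P ⟨b * c, H.R_cent (H.E_le_R hO (mul_mem hb hc))⟩ ≠ 1 := by
    rw [hP b c hb hc, hPa, hPb, hPc]
    intro h1
    have h2 : y * w = x := inv_of hsqx h1
    apply hws.2.2.2.2
    rw [← h2, ← mul_assoc, hsqy, one_mul]
  have n_a : H.P ⟨a, H.R_cent (H.E_le_R hO ha)⟩ ≠ 1 := by rw [hPa]; exact hxs
  have n_b : H.P ⟨b, H.R_cent (H.E_le_R hO hb)⟩ ≠ 1 := by rw [hPb]; exact hys.1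
  have n_c : H.P ⟨c, H.R_cent (H.E_le_R hO hc)⟩ ≠ 1 := by rw [hPc]; exact hws.1
  have c1 := anti a b ha hb n_a n_b h_ab
  have c2 := anti a c ha hc n_a n_c h_ac
  have c3 := anti a (b * c) ha (mul_mem hb hc) n_a (by rw [hP b c hb hc]; exact h_bc) h_abc
  have c4 : a * (b * c) = b * c * a := by
    calc a * (b * c) = (a * b) * c := by group
      _ = H.z * (b * a) * c := by rw [c1]
      _ = H.z * b * (a * c) := by group
      _ = H.z * b * (H.z * (c * a)) := by rw [c2]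
      _ = (b * H.z) * (H.z * (c * a)) := by rw [hzE b hb]
      _ = b * (H.z * H.z) * (c * a) := by group
      _ = b * c * a := by rw [H.zz]; group
  rw [c4] at c3
  exact H.z_mul_ne _ c3.symm

theorem E_elem' : IsElem2 (H.E O) := by
  refine ⟨fun a ha => H.E_sq hO ha, fun a ha b hb => ?_⟩
  have e1 : a⁻¹ = a := inv_eq_of_mul_eq_one_left (H.E_sq hO ha)
  have e2 : b⁻¹ = b := inv_eq_of_mul_eq_one_left (H.E_sq hO hb)
  have e3 : (a * b)⁻¹ = a * b := inv_eq_of_mul_eq_one_left (H.E_sq hO (mul_mem ha hb))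
  rw [mul_inv_rev, e1, e2] at e3
  exact e3.symm

theorem F_card' : Nat.card (H.E O ⊓ Subgroup.centralizer ({H.ρ} : Set G) : Subgroup G) = 2 ^ 5 := by
  have hcomm := (H.E_elem' hO).2
  set F := H.E O ⊓ Subgroup.centralizer ({H.ρ} : Set G) with hF
  have hFE : F ≤ H.E O := inf_le_left
  have h1 : F ⊓ H.Q = Subgroup.zpowers H.z := by
    apply le_antisymm
    · rintro g ⟨⟨-, h2⟩, h3⟩
      have h2' : g ∈ Subgroup.centralizer ({H.ρ} : Set G) := h2
      rw [Subgroup.mem_centralizer_singleton_iff] at h2'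
      rcases H.ρ_fix g h3 h2'.symm with h4 | h4
      · rw [h4]; exact one_mem _
      · rw [h4]; exact Subgroup.mem_zpowers _
    · rw [Subgroup.zpowers_le]
      refine ⟨⟨H.A_le_E hO (H.z_mem_A O hO), ?_⟩, H.z_mem_Q⟩
      show H.z ∈ Subgroup.centralizer ({H.ρ} : Set G)
      rw [Subgroup.mem_centralizer_singleton_iff]
      exact H.ρ_comm.symm
  have h2 := H.card_of hO (hFE.trans (H.E_le_R hO)) (by
    intro k hk
    obtain ⟨g, hg, hgk⟩ := H.P_surj hO hk
    have hg1 := (H.ρ_conj_E hO).1 hg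
    have hg2 := (H.ρ_conj_E hO).1 hg1
    set g1 := H.ρ * g * H.ρ⁻¹ with hg1d
    set g2 := H.ρ * g1 * H.ρ⁻¹ with hg2d
    have hg3 : H.ρ * g2 * H.ρ⁻¹ = g := by
      have e3 : H.ρ * H.ρ * H.ρ = 1 := by rw [← pow_two, ← pow_succ, H.ρ3]
      rw [hg2d, hg1d]
      calc H.ρ * (H.ρ * (H.ρ * g * H.ρ⁻¹) * H.ρ⁻¹) * H.ρ⁻¹
          = (H.ρ * H.ρ * H.ρ) * g * (H.ρ * H.ρ * H.ρ)⁻¹ := by group
        _ = g := by rw [e3]; group
    have hm : g * g1 * g2 ∈ H.E O := mul_mem (mul_mem hg hg1) hg2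
    have hfix : H.ρ * (g * g1 * g2) * H.ρ⁻¹ = g * g1 * g2 := by
      calc H.ρ * (g * g1 * g2) * H.ρ⁻¹ = (H.ρ * g * H.ρ⁻¹) * (H.ρ * g1 * H.ρ⁻¹) *
            (H.ρ * g2 * H.ρ⁻¹) := by group
        _ = g1 * g2 * g := by rw [hg3]
        _ = g * (g1 * g2) := hcomm _ (mul_mem hg1 hg2) _ hg
        _ = g * g1 * g2 := by group
    refine ⟨g * g1 * g2, ⟨hm, ?_⟩, ?_⟩
    · show g * g1 * g2 ∈ Subgroup.centralizer ({H.ρ} : Set G)
      rw [Subgroup.mem_centralizer_singleton_iff]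
      calc g * g1 * g2 * H.ρ = (H.ρ * (g * g1 * g2) * H.ρ⁻¹) * H.ρ := by rw [hfix]
        _ = H.ρ * (g * g1 * g2) := by group
    · have e1 : H.P ⟨g1, H.R_cent (H.E_le_R hO hg1)⟩ = k := by
        rw [← hgk]; exact H.P_conj_ρ hO _ _
      have e2 : H.P ⟨g2, H.R_cent (H.E_le_R hO hg2)⟩ = k := by
        rw [← e1]; exact H.P_conj_ρ hO _ _
      have e3 : (⟨g * g1 * g2, H.R_cent (H.E_le_R hO hm)⟩ :
          Subgroup.centralizer ({H.z} : Set G)) =
          ⟨g, H.R_cent (H.E_le_R hO hg)⟩ * ⟨g1, H.R_cent (H.E_le_R hO hg1)⟩ *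
            ⟨g2, H.R_cent (H.E_le_R hO hg2)⟩ := rfl
      have e4 : H.P ⟨g * g1 * g2, H.R_cent (H.E_le_R hO hm)⟩ = k := by
        rw [e3, map_mul, map_mul, hgk, e1, e2, fixOct_sq hO.1 hk, one_mul]
      exact e4)
  rw [h2, h1, Nat.card_zpowers, H.z_order]
  norm_num

theorem E_inf_eq {O' : Finset GolayPt} (hO' : IsHex O') (hne : O ≠ O') :
    H.E O ⊓ H.E O' = H.A O ⊓ H.A O' := by
  apply le_antisymm
  · intro x hx
    have h1 := H.P_mem_fix hO (H.E_le_R hO hx.1)
    have h2 := H.P_mem_fix hO' (H.E_le_R hO' hx.2)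
    have h3 := OctadFixTrans.fix_inf hO.1 hO'.1 hne h1 h2
    exact ⟨H.P_eq_one_iff hO hx.1 h3, H.P_eq_one_iff hO' hx.2 h3⟩
  · exact inf_le_inf (H.A_le_E hO) (H.A_le_E hO')

omit hO

/-- The hexad structure. -/
noncomputable def toHex : Hex G where
  toCent := H.toCent
  P_outer := H.P_outer
  E := H.E
  E_elem _ hO := H.E_elem' hO
  E_card _ hO := H.card_E hO
  z_mem_E _ hO := H.A_le_E hO (H.z_mem_A _ hO)
  E_conj _ hO c a := H.conj_mem_E hO c a
  E_map O hO g := by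
    constructor
    · rintro ⟨a, ha, rfl⟩
      have := H.P_mem_fix hO (H.E_le_R hO ha)
      rw [mem_fixOct] at this
      exact this
    · intro hg
      obtain ⟨a, ha, h⟩ := H.P_surj hO (mem_fixOct.2 hg)
      exact ⟨⟨a, H.R_cent (H.E_le_R hO ha)⟩, ha, h⟩
  A_card _ hO := by rw [H.E_inf_Q hO, H.A_card _ hO]
  A_cent O hO g hg := by
    rw [mem_E]
    intro a ha
    exact (hg a (H.A_le_E hO ha) (H.A_le O hO ha)).symm
  E_inf O O' hO hO' hne x hx := by
    have h1 := H.P_mem_fix hO (H.E_le_R hO hx.1)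
    have h2 := H.P_mem_fix hO' (H.E_le_R hO' hx.2)
    have h3 := OctadFixTrans.fix_inf hO.1 hO'.1 hne h1 h2
    exact H.A_le O hO (H.P_eq_one_iff hO hx.1 h3)
  E_inf_two O O' hO hO' hc := by
    rw [H.E_inf_eq hO hO' (by rintro rfl; rw [Finset.inter_self, hO.1.2] at hc; omega)]
    exact H.A_inf_two O O' hO hO' hc
  E_inf_eight O O' hO hO' hc := by
    rw [H.E_inf_eq hO hO' (by rintro rfl; rw [Finset.inter_self, hO.1.2] at hc; omega)]
    exact H.A_inf_eight O O' hO hO' hc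
  F_card _ hO := H.F_card' hO
  V_dim O hO a ha haQ := by
    have haR := H.E_le_R hO ha
    exact H.V_dim' O hO ⟨a, H.R_cent haR⟩ (fun h => haQ (H.mem_Q_of_P_eq_one hO haR h)) haR.2
  V_inf O hO a ha b hb haQ hbQ habQ q hq h1 h2 := by
    have haR := H.E_le_R hO ha
    have hbR := H.E_le_R hO hb
    refine H.A_le_E hO (H.V_inf' O hO ⟨a, H.R_cent haR⟩ ⟨b, H.R_cent hbR⟩
      (fun h => haQ (H.mem_Q_of_P_eq_one hO haR h)) (fun h => hbQ (H.mem_Q_of_P_eq_one hO hbR h))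
      ?_ haR.2 hbR.2 q hq h1 h2)
    intro h
    apply habQ
    refine H.mem_Q_of_P_eq_one hO (mul_mem haR hbR) ?_
    have e : (⟨a * b, H.R_cent (mul_mem haR hbR)⟩ : Subgroup.centralizer ({H.z} : Set G)) =
      ⟨a, H.R_cent haR⟩ * ⟨b, H.R_cent hbR⟩ := rfl
    rw [e, map_mul, h]
    exact fixOct_sq hO.1 (H.P_mem_fix hO hbR)

end PreHex

end Cfsg.Agent.J4Type
end

-- part: J4Type/PreHexOf
section
/-!
# From coordinates of `Q/⟨z⟩` to `PreHex`

`PreHexOf.preHex K hP : PreHex G` for `K : CentCoords H` and `hP` the statement `P_outer`.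
-/

set_option autoImplicit false

open scoped Pointwise

namespace Cfsg.Agent.J4Type.PreHexOf

open Cfsg SporadicA.FieldFour VCoord CentCoords PreHexLin SporadicA.OctadFix PreHexA PreHexB PreHexC

variable {G : Type*} [Group G] {H : Cent G} (K : CentCoords H)

theorem mem_smul {g : Equiv.Perm GolayPt} {O : Finset GolayPt} {p : GolayPt} :
    p ∈ g • O ↔ g⁻¹ p ∈ O := by
  have h := SporadicA.GolayPerm.mem_smul_iff g O (g⁻¹ p)
  rwa [show g (g⁻¹ p) = p from Equiv.apply_symm_apply g p] at h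

/-- transport of triviality on `A(O)/z` -/
theorem triv_move {O : Finset GolayPt} (g c : Subgroup.centralizer ({H.z} : Set G))
    (h : ∀ a ∈ AO K (H.P g • O), Tr H (c : G) a) :
    ∀ a ∈ AO K O, Tr H ((g⁻¹ * c * g : Subgroup.centralizer ({H.z} : Set G)) : G) a := by
  intro a ha
  have h1 := Tr_conj g⁻¹ (h _ ((AO_conj K O g a).1 ha))
  have e1 : ((g⁻¹ : Subgroup.centralizer ({H.z} : Set G)) : G) * (c : G) *
      ((g⁻¹ : Subgroup.centralizer ({H.z} : Set G)) : G)⁻¹ =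
      ((g⁻¹ * c * g : Subgroup.centralizer ({H.z} : Set G)) : G) := by
    show (g : G)⁻¹ * (c : G) * ((g : G)⁻¹)⁻¹ = (g : G)⁻¹ * (c : G) * (g : G)
    group
  have e2 : ((g⁻¹ : Subgroup.centralizer ({H.z} : Set G)) : G) * ((g : G) * a * (g : G)⁻¹) *
      ((g⁻¹ : Subgroup.centralizer ({H.z} : Set G)) : G)⁻¹ = a := by
    show (g : G)⁻¹ * ((g : G) * a * (g : G)⁻¹) * ((g : G)⁻¹)⁻¹ = a
    group
  rw [e1, e2] at h1
  exact h1

theorem A_fix [Finite G] (O : Finset GolayPt) (hO : IsHex O)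
    (c : Subgroup.centralizer ({H.z} : Set G)) (h : ∀ a ∈ AO K O, Tr H (c : G) a) :
    ∀ p ∈ O, H.P c p = p := by
  obtain ⟨g, rfl⟩ := exists_move (H := H) hO
  have h1 := fixOct_of_triv K (triv_move K g c h)
  intro p hp
  have h2 := (mem_fixOct.1 h1).2 _ (mem_smul.1 hp)
  rw [map_mul, map_mul, map_inv, Equiv.Perm.mul_apply, Equiv.Perm.mul_apply,
    show H.P g ((H.P g)⁻¹ p) = p from Equiv.apply_symm_apply _ p] at h2
  exact (H.P g)⁻¹.injective h2

theorem A_lift (O : Finset GolayPt) (hO : IsHex O) (f : Equiv.Perm GolayPt) (hf : f ∈ M24)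
    (hfix : ∀ p ∈ O, f p = p) :
    ∃ c : Subgroup.centralizer ({H.z} : Set G), H.P c = f ∧ ∀ a ∈ AO K O, Tr H (c : G) a := by
  obtain ⟨g, rfl⟩ := exists_move (H := H) hO
  have h1 : (H.P g)⁻¹ * f * H.P g ∈ fixOct hex0 := by
    refine mem_fixOct.2 ⟨M24.mul_mem (M24.mul_mem (M24.inv_mem (HexMax.mem_M24 (P_mem g))) hf)
      (HexMax.mem_M24 (P_mem g)), fun p hp => ?_⟩
    rw [Equiv.Perm.mul_apply, Equiv.Perm.mul_apply, Equiv.Perm.inv_eq_iff_eq]
    exact hfix _ ((SporadicA.GolayPerm.mem_smul_iff _ _ _).2 hp)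
  obtain ⟨x, hx⟩ := PreHexPerm.exists_pb h1
  obtain ⟨d, hd, hd'⟩ := lift_x K x
  refine ⟨g * d * g⁻¹, ?_, fun a ha => ?_⟩
  · rw [map_mul, map_mul, map_inv, hd, hx]
    group
  · rw [AO_smul] at ha
    obtain ⟨b, hb, rfl⟩ := ha
    have hbQ := AO_le K _ hb
    have h2 : Tr H (d : G) b := by
      rw [Tr_iff_co K d hbQ, hd' b hbQ]
      unfold Mx
      rw [((mem_A0 K).1 hb).2, Bm_zero, add_zero, ← ((mem_A0 K).1 hb).2]
    exact Tr_conj g h2

/-- an element acting trivially on `A(hex0)/z` -/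
theorem act_triv [Finite G] {c : Subgroup.centralizer ({H.z} : Set G)}
    (h : ∀ a ∈ AO K hex0, Tr H (c : G) a) :
    ∃ x : X, (PreHexPerm.pb x : Equiv.Perm GolayPt) = H.P c ∧
      ∀ q ∈ H.Q, (Tr H (c : G) q ↔ Bm x (K.co q).2 = 0) := by
  obtain ⟨x, hx, hx'⟩ := act_of_triv K (fixOct_of_triv K h) fun q hq hq0 =>
    (Tr_iff_co K c hq).1 (h q ((mem_A0 K).2 ⟨hq, hq0⟩))
  refine ⟨x, hx, fun q hq => ?_⟩
  rw [Tr_iff_co K c hq, hx' q hq]
  constructor
  · intro h1
    exact (add_eq_self3 _ _).1 (congrArg Prod.fst h1)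
  · intro h1
    exact Prod.ext ((add_eq_self3 _ _).2 h1) rfl

theorem ne_zero_of {x : X} {f : Equiv.Perm GolayPt} (hx : (PreHexPerm.pb x : Equiv.Perm GolayPt) = f)
    (h : f ≠ 1) : x ≠ (false, false, false, false) := by
  rintro rfl
  apply h
  rw [← hx, PreHexPerm.pb_zero]
  rfl

theorem card_S {x : X} (hx : x ≠ (false, false, false, false)) :
    Nat.card {v : V6 // Bm x v.2 = 0} = 256 := by
  have h : Nat.card {v : V6 // Bm x v.2 = 0} = Nat.card (F43 × {c : F43 // Bm x c = 0}) :=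
    Nat.card_congr ⟨fun v => (v.1.1, ⟨v.1.2, v.2⟩), fun w => ⟨(w.1, w.2.1), w.2.2⟩,
      fun v => rfl, fun w => rfl⟩
  rw [h, Nat.card_prod, card_F43, card_ker hx]

theorem V_dim' [Finite G] (O : Finset GolayPt) (hO : IsHex O)
    (c : Subgroup.centralizer ({H.z} : Set G)) (hc : H.P c ≠ 1)
    (h : ∀ a ∈ AO K O, Tr H (c : G) a) :
    Nat.card {q : G // q ∈ H.Q ∧ ((c : G) * q = q * c ∨ (c : G) * q = H.z * (q * c))} = 2 ^ 9 := by
  obtain ⟨g, rfl⟩ := exists_move (H := H) hO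
  obtain ⟨x, hx, hx'⟩ := act_triv K (triv_move K g c h)
  have hx0 : x ≠ (false, false, false, false) := by
    refine ne_zero_of hx fun h1 => hc ?_
    rw [map_mul, map_mul, map_inv] at h1
    have h2 : H.P c = H.P g * ((H.P g)⁻¹ * H.P c * H.P g) * (H.P g)⁻¹ := by group
    rw [h2, h1]
    group
  have h1 : Nat.card {q : G // q ∈ H.Q ∧ ((c : G) * q = q * c ∨ (c : G) * q = H.z * (q * c))} =
      Nat.card {q : G // q ∈ H.Q ∧ Bm x (K.co q).2 = 0} := by
    refine Nat.card_congr ((MulAut.conj (g : G)⁻¹).toEquiv.subtypeEquiv fun q => ?_)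
    show q ∈ H.Q ∧ ((c : G) * q = q * c ∨ (c : G) * q = H.z * (q * c)) ↔
      (g : G)⁻¹ * q * ((g : G)⁻¹)⁻¹ ∈ H.Q ∧ Bm x (K.co ((g : G)⁻¹ * q * ((g : G)⁻¹)⁻¹)).2 = 0
    rw [← Tr_iff]
    have hmem : q ∈ H.Q ↔ (g : G)⁻¹ * q * ((g : G)⁻¹)⁻¹ ∈ H.Q := by
      constructor
      · intro hq
        exact conj_mem g⁻¹ hq
      · intro hq
        have h2 := conj_mem g hq
        have e : (g : G) * ((g : G)⁻¹ * q * ((g : G)⁻¹)⁻¹) * (g : G)⁻¹ = q := by group
        rwa [e] at h2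
    have hTr : Tr H (c : G) q ↔
        Tr H ((g⁻¹ * c * g : Subgroup.centralizer ({H.z} : Set G)) : G)
          ((g : G)⁻¹ * q * ((g : G)⁻¹)⁻¹) := by
      constructor
      · intro hq
        have h2 := Tr_conj g⁻¹ hq
        have e1 : ((g⁻¹ : Subgroup.centralizer ({H.z} : Set G)) : G) * (c : G) *
            ((g⁻¹ : Subgroup.centralizer ({H.z} : Set G)) : G)⁻¹ =
            ((g⁻¹ * c * g : Subgroup.centralizer ({H.z} : Set G)) : G) := by
          show (g : G)⁻¹ * (c : G) * ((g : G)⁻¹)⁻¹ = (g : G)⁻¹ * (c : G) * (g : G)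
          group
        rw [e1] at h2
        exact h2
      · intro hq
        have h2 := Tr_conj g hq
        have e1 : (g : G) * ((g⁻¹ * c * g : Subgroup.centralizer ({H.z} : Set G)) : G) *
            (g : G)⁻¹ = c := by
          show (g : G) * ((g : G)⁻¹ * (c : G) * (g : G)) * (g : G)⁻¹ = c
          group
        have e2 : (g : G) * ((g : G)⁻¹ * q * ((g : G)⁻¹)⁻¹) * (g : G)⁻¹ = q := by group
        rw [e1, e2] at h2
        exact h2
    rw [hmem]
    constructor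
    · rintro ⟨hq, h2⟩
      exact ⟨hq, (hx' _ hq).1 (hTr.1 h2)⟩
    · rintro ⟨hq, h2⟩
      exact ⟨hq, hTr.2 ((hx' _ hq).2 h2)⟩
  rw [h1, card_co K (fun v => Bm x v.2 = 0), card_S hx0]
  norm_num

theorem V_inf' [Finite G] (O : Finset GolayPt) (hO : IsHex O)
    (c d : Subgroup.centralizer ({H.z} : Set G)) (hc : H.P c ≠ 1) (hd : H.P d ≠ 1)
    (hcd : H.P c ≠ H.P d) (h : ∀ a ∈ AO K O, Tr H (c : G) a) (h' : ∀ a ∈ AO K O, Tr H (d : G) a)
    (q : G) (hq : q ∈ H.Q) (h1 : Tr H (c : G) q) (h2 : Tr H (d : G) q) : q ∈ AO K O := by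
  obtain ⟨g, rfl⟩ := exists_move (H := H) hO
  obtain ⟨x, hx, hx'⟩ := act_triv K (triv_move K g c h)
  obtain ⟨y, hy, hy'⟩ := act_triv K (triv_move K g d h')
  have hP : ∀ c : Subgroup.centralizer ({H.z} : Set G),
      H.P c = H.P g * H.P (g⁻¹ * c * g) * (H.P g)⁻¹ := by
    intro c
    rw [map_mul, map_mul, map_inv]
    group
  have hx0 : x ≠ (false, false, false, false) := by
    refine ne_zero_of hx fun h3 => hc ?_
    rw [hP, h3]
    group
  have hy0 : y ≠ (false, false, false, false) := by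
    refine ne_zero_of hy fun h3 => hd ?_
    rw [hP, h3]
    group
  have hxy : x ≠ y := by
    rintro rfl
    apply hcd
    rw [hP c, hP d, ← hx, ← hy]
  have hr : (g : G)⁻¹ * q * ((g : G)⁻¹)⁻¹ ∈ H.Q := conj_mem g⁻¹ hq
  have hTr : ∀ c : Subgroup.centralizer ({H.z} : Set G), Tr H (c : G) q →
      Tr H ((g⁻¹ * c * g : Subgroup.centralizer ({H.z} : Set G)) : G)
        ((g : G)⁻¹ * q * ((g : G)⁻¹)⁻¹) := by
    intro c hq
    have h2 := Tr_conj g⁻¹ hq
    have e1 : ((g⁻¹ : Subgroup.centralizer ({H.z} : Set G)) : G) * (c : G) *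
        ((g⁻¹ : Subgroup.centralizer ({H.z} : Set G)) : G)⁻¹ =
        ((g⁻¹ * c * g : Subgroup.centralizer ({H.z} : Set G)) : G) := by
      show (g : G)⁻¹ * (c : G) * ((g : G)⁻¹)⁻¹ = (g : G)⁻¹ * (c : G) * (g : G)
      group
    rw [e1] at h2
    exact h2
  have h3 : (K.co ((g : G)⁻¹ * q * ((g : G)⁻¹)⁻¹)).2 = 0 :=
    ker_two hx0 hy0 hxy ((hx' _ hr).1 (hTr c h1)) ((hy' _ hr).1 (hTr d h2))
  have h4 := (AO_conj K hex0 g _).1 ((mem_A0 K).2 ⟨hr, h3⟩)
  have e2 : (g : G) * ((g : G)⁻¹ * q * ((g : G)⁻¹)⁻¹) * (g : G)⁻¹ = q := by group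
  rwa [e2] at h4

/-- **`PreHex` from coordinates.** -/
def preHex [Finite G] (hP : ∀ c : Subgroup.centralizer ({H.z} : Set G), H.P c none ≠ none →
    ∃ q ∈ H.Q, (c : G) * H.ρ * (c : G)⁻¹ = q * H.ρ⁻¹) : PreHex G where
  toCent := H
  P_outer := hP
  A := AO K
  A_le O _ := AO_le K O
  z_mem_A O _ := z_mem_AO K O
  A_card _ hO := AO_card K hO
  A_sq _ hO := AO_sq K hO
  A_conj O _ := AO_conj K O
  A_fix := A_fix K
  A_lift := A_lift K
  A_inf_two := AO_inf_two K
  A_inf_eight := AO_inf_eight K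
  V_dim' := V_dim' K
  V_inf' O hO c d hc hd hcd h h' q hq h1 h2 :=
    V_inf' K O hO c d hc hd hcd h h' q hq (Tr_iff.2 h1) (Tr_iff.2 h2)

end Cfsg.Agent.J4Type.PreHexOf
end

-- part: J4Type/HexCoord
section
/-!
# The structure `Hex` together with coordinates

`HexCoord.exists_hex` : from `CentCoords H` and `P_outer`, a `Hex` with coordinates in which `ρ` is the
multiplication by `ω`, `E hex0 ∩ Q = {(a; 0)}` and `E hex1 ∩ Q = {(0; c)}`.
-/

set_option autoImplicit false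

open scoped Pointwise

namespace Cfsg.Agent.J4Type.HexCoord

open Cfsg SporadicA.FieldFour VCoord CentCoords PreHexLin SporadicA.OctadFix PreHexA PreHexB PreHexC
  PreHexOf

variable {G : Type*} [Group G]

/-! ### Replacing `ρ` by its inverse -/

theorem rho_cube (H : Cent G) : H.ρ ^ 3 = 1 := by
  rw [← H.ρ_order]
  exact pow_orderOf_eq_one _

theorem pow_inv (H : Cent G) (i : ℕ) : H.ρ⁻¹ ^ i = H.ρ ^ (2 * i) := by
  have h : H.ρ⁻¹ = H.ρ ^ 2 := by
    rw [inv_eq_iff_mul_eq_one, ← pow_succ']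
    exact rho_cube H
  rw [h, ← pow_mul]

theorem pow_eq (H : Cent G) (i : ℕ) : H.ρ ^ i = H.ρ⁻¹ ^ (2 * i) := by
  rw [pow_inv, ← mul_assoc, pow_mul, show 2 * 2 = 3 + 1 from rfl, pow_succ, rho_cube, one_mul]

/-- the same centraliser with `ρ⁻¹` -/
def inv (H : Cent G) : Cent G where
  z := H.z
  z_order := H.z_order
  Q := H.Q
  Q_le := H.Q_le
  Q_conj := H.Q_conj
  Q_card := H.Q_card
  z_mem_Q := H.z_mem_Q
  Q_sq := H.Q_sq
  Q_comm := H.Q_comm
  Q_cent := H.Q_cent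
  ρ := H.ρ⁻¹
  ρ_order := by rw [orderOf_inv]; exact H.ρ_order
  ρ_comm := by
    have h : Commute H.ρ H.z := H.ρ_comm
    exact h.inv_left
  ρ_fix := by
    intro q hq h
    refine H.ρ_fix q hq ?_
    have h1 : Commute H.ρ⁻¹ q := h
    exact (Commute.inv_left_iff.1 h1).eq
  P := H.P
  P_ker := by
    intro c
    rw [H.P_ker]
    constructor
    · rintro ⟨q, hq, i, h⟩
      exact ⟨q, hq, 2 * i, by rw [h, pow_eq]⟩
    · rintro ⟨q, hq, i, h⟩
      exact ⟨q, hq, 2 * i, by rw [h, pow_inv]⟩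
  P_range := H.P_range
  P_inner := by
    intro c hc
    obtain ⟨q, hq, h⟩ := H.P_inner c hc
    refine ⟨H.ρ⁻¹ * q⁻¹ * H.ρ, ?_, ?_⟩
    · have h1 := H.Q_conj H.ρ⁻¹ (show Commute H.ρ⁻¹ H.z from
        Commute.inv_left (show Commute H.ρ H.z from H.ρ_comm)) q⁻¹ (H.Q.inv_mem hq)
      rwa [inv_inv] at h1
    · have e : (c : G) * H.ρ⁻¹ * (c : G)⁻¹ = ((c : G) * H.ρ * (c : G)⁻¹)⁻¹ := by group
      rw [e, h]
      group

theorem inv_P_outer (H : Cent G) (hP : ∀ c : Subgroup.centralizer ({H.z} : Set G),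
    H.P c none ≠ none → ∃ q ∈ H.Q, (c : G) * H.ρ * (c : G)⁻¹ = q * H.ρ⁻¹) :
    ∀ c : Subgroup.centralizer ({(inv H).z} : Set G), (inv H).P c none ≠ none →
      ∃ q ∈ (inv H).Q, (c : G) * (inv H).ρ * (c : G)⁻¹ = q * (inv H).ρ⁻¹ := by
  intro c hc
  obtain ⟨q, hq, h⟩ := hP c hc
  refine ⟨H.ρ * q⁻¹ * H.ρ⁻¹, H.Q_conj H.ρ H.ρ_comm q⁻¹ (H.Q.inv_mem hq), ?_⟩
  show (c : G) * H.ρ⁻¹ * (c : G)⁻¹ = H.ρ * q⁻¹ * H.ρ⁻¹ * (H.ρ⁻¹)⁻¹
  have e : (c : G) * H.ρ⁻¹ * (c : G)⁻¹ = ((c : G) * H.ρ * (c : G)⁻¹)⁻¹ := by group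
  rw [e, h]
  group

/-- coordinates for the inverse -/
def invCoords {H : Cent G} (K : CentCoords H) : CentCoords (inv H) where
  co := K.co
  co_mul := K.co_mul
  co_z := K.co_z
  co_ker := K.co_ker
  co_surj := K.co_surj
  co_sq := K.co_sq
  om := K.om * K.om
  om_ne_zero := mul_ne_zero K.om_ne_zero K.om_ne_zero
  om_ne_one := by
    have h1 := K.om_ne_zero
    have h2 := K.om_ne_one
    generalize K.om = x at h1 h2
    revert x
    decide
  co_rho := by
    intro q hq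
    show K.co (H.ρ⁻¹ * q * H.ρ⁻¹⁻¹) = scm (K.om * K.om) (K.co q)
    have h1 := co_rho_pow K 2 hq
    have h2 : (r H : G) ^ 2 = H.ρ⁻¹ := by
      symm
      rw [inv_eq_iff_mul_eq_one]
      show H.ρ * H.ρ ^ 2 = 1
      rw [← pow_succ']
      exact rho_cube H
    rw [h2, pow_two] at h1
    exact h1
  lin_s := K.lin_s
  lin_s' := K.lin_s'
  lin_b01 := K.lin_b01
  lin_b45 := K.lin_b45
  lin_c1 := K.lin_c1
  lin_c2 := K.lin_c2

/-! ### `A(hex1)` in coordinates -/

section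

variable {H : Cent G} (K : CentCoords H)

theorem mem_A1 [Finite G] {q : G} : q ∈ AO K hex1 ↔ q ∈ H.Q ∧ (K.co q).1 = 0 := by
  have hle : ∀ x ∈ (AO K hex1 : Set G), x ∈ {q : G | q ∈ H.Q ∧ (K.co q).1 = 0} :=
    fun x hx => ⟨AO_le K _ hx, fst_of_mem_A1 K hx⟩
  have h1 := card_co K (fun v => v.1 = 0)
  have h2 : Nat.card {v : V6 // v.1 = 0} = 64 := by
    rw [← card_F43]
    refine Nat.card_congr ⟨fun v => v.1.2, fun a => ⟨(0, a), rfl⟩, ?_, fun a => rfl⟩
    rintro ⟨⟨a, c⟩, hc⟩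
    exact Subtype.ext (Prod.ext hc.symm rfl)
  rw [h2] at h1
  have h3 : (AO K hex1 : Set G) = {q : G | q ∈ H.Q ∧ (K.co q).1 = 0} := by
    refine Set.eq_of_subset_of_ncard_le hle ?_ (Set.toFinite _)
    have e1 : {q : G | q ∈ H.Q ∧ (K.co q).1 = 0}.ncard = 2 * 64 := h1
    have e2 : (AO K hex1 : Set G).ncard = 2 ^ 7 := AO_card K HexMax.hex1_isHex
    rw [e1, e2]
    norm_num
  exact Set.ext_iff.1 h3 q

theorem mem_E_iff [Finite G] (hP : ∀ c : Subgroup.centralizer ({H.z} : Set G), H.P c none ≠ none →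
    ∃ q ∈ H.Q, (c : G) * H.ρ * (c : G)⁻¹ = q * H.ρ⁻¹) {O : Finset GolayPt} (hO : IsHex O) {q : G}
    (hq : q ∈ H.Q) : q ∈ (preHex K hP).toHex.E O ↔ q ∈ AO K O := by
  constructor
  · intro h
    have h1 : q ∈ (preHex K hP).E O ⊓ H.Q := ⟨h, hq⟩
    have h2 := (preHex K hP).E_inf_Q hO
    have h3 : q ∈ (preHex K hP).A O := by
      rw [← h2]
      exact h1
    exact h3
  · intro h
    exact (preHex K hP).A_le_E hO h

end

/-- **`Hex` with coordinates.** -/
theorem exists_hex [Finite G] {H : Cent G} (K : CentCoords H)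
    (hP : ∀ c : Subgroup.centralizer ({H.z} : Set G), H.P c none ≠ none →
      ∃ q ∈ H.Q, (c : G) * H.ρ * (c : G)⁻¹ = q * H.ρ⁻¹) :
    ∃ (H' : Hex G) (K' : CentCoords H'.toCent), H'.z = H.z ∧ H'.Q = H.Q ∧ K'.om = .w ∧
      (∀ q ∈ H'.Q, q ∈ H'.E hex0 ↔ (K'.co q).2 = 0) ∧
      (∀ q ∈ H'.Q, q ∈ H'.E hex1 ↔ (K'.co q).1 = 0) := by
  have main : ∀ {H₁ : Cent G} (K₁ : CentCoords H₁)
      (hP₁ : ∀ c : Subgroup.centralizer ({H₁.z} : Set G), H₁.P c none ≠ none →
        ∃ q ∈ H₁.Q, (c : G) * H₁.ρ * (c : G)⁻¹ = q * H₁.ρ⁻¹), K₁.om = .w →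
      ∃ (H' : Hex G) (K' : CentCoords H'.toCent), H'.z = H₁.z ∧ H'.Q = H₁.Q ∧ K'.om = .w ∧
      (∀ q ∈ H'.Q, q ∈ H'.E hex0 ↔ (K'.co q).2 = 0) ∧
      (∀ q ∈ H'.Q, q ∈ H'.E hex1 ↔ (K'.co q).1 = 0) := by
    intro H₁ K₁ hP₁ hom
    refine ⟨(preHex K₁ hP₁).toHex, K₁, rfl, rfl, hom, fun q hq => ?_, fun q hq => ?_⟩
    · rw [mem_E_iff K₁ hP₁ HexMax.hex0_isHex hq, mem_A0]
      exact ⟨fun h => h.2, fun h => ⟨hq, h⟩⟩
    · rw [mem_E_iff K₁ hP₁ HexMax.hex1_isHex hq, mem_A1]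
      exact ⟨fun h => h.2, fun h => ⟨hq, h⟩⟩
  have hcase : K.om = .w ∨ K.om * K.om = .w := by
    have h1 := K.om_ne_zero
    have h2 := K.om_ne_one
    generalize K.om = x at h1 h2
    revert x
    decide
  rcases hcase with h | h
  · exact main K hP h
  · exact main (H₁ := inv H) (invCoords K) (inv_P_outer H hP) h

end Cfsg.Agent.J4Type.HexCoord
end

-- part: J4Type/VCoordOf
section
/-!
# `VCoord` from `CentCoords`

`exists_vcoord` : coordinates of `Q/⟨z⟩` in the sense of `VCoord` for a `Hex` whose groups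
`E hex0 ∩ Q`, `E hex1 ∩ Q` are `{(a; 0)}`, `{(0; c)}` in the coordinates of a `CentCoords`.
-/

set_option autoImplicit false

namespace Cfsg.Agent.J4Type.VCoordOf

open Cfsg Cfsg.Agent.J4Type CentCoords CocodeMask SporadicA.FieldFour VCoord PreHexPerm
  SporadicA.GolayBase SporadicA.OctadFix OctadFixTrans
open SporadicA.GolayPerm hiding pcomp papp_pcomp
open scoped Pointwise

variable {G : Type*} [Group G]

/-! ### Scalars -/

theorem sc_sc (x y : F4) (a : F43) : sc x (sc y a) = sc (x * y) a := by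
  funext k
  exact (mul_assoc x y (a k)).symm

theorem sc_one (a : F43) : sc 1 a = a := by
  funext k
  exact one_mul (a k)

theorem sc_add (x : F4) (a b : F43) : sc x (a + b) = sc x a + sc x b := by
  funext k
  exact mul_add x (a k) (b k)

theorem scm_scm (x y : F4) (v : V6) : scm x (scm y v) = scm (x * y) v := by
  show (sc x (sc y v.1), sc x (sc y v.2)) = _
  rw [sc_sc, sc_sc]
  rfl

theorem scm_one (v : V6) : scm 1 v = v := by
  show (sc 1 v.1, sc 1 v.2) = _
  rw [sc_one, sc_one]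

/-- commutes with scalars -/
def Hom1 (M : V6 → V6) : Prop := ∀ γ v, M (scm γ v) = scm γ (M v)

theorem Hom1.comp {M N : V6 → V6} (hM : Hom1 M) (hN : Hom1 N) : Hom1 (fun v => M (N v)) := by
  intro γ v
  show M (N (scm γ v)) = _
  rw [hN, hM]

theorem hom1_id : Hom1 (fun v => v) := fun _ _ => rfl

theorem hom1_MDg : Hom1 MDg := by
  intro γ v
  have h : ∀ a : F43, Dg (sc γ a) = sc γ (Dg a) := by
    intro a
    funext k
    fin_cases k
    · show γ * a 0 = γ * a 0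
      rfl
    · show .w * (γ * a 1) = γ * (.w * a 1)
      exact mul_left_comm _ _ _
    · show .v * (γ * a 2) = γ * (.v * a 2)
      exact mul_left_comm _ _ _
  show (Dg (sc γ v.1), Dg (sc γ v.2)) = (sc γ (Dg v.1), sc γ (Dg v.2))
  rw [h, h]

theorem hom1_MSh : Hom1 MSh := by
  intro γ v
  have h : ∀ a : F43, Sh (sc γ a) = sc γ (Sh a) := by
    intro a
    funext k
    fin_cases k <;> rfl
  show (Sh (sc γ v.1), Sh (sc γ v.2)) = (sc γ (Sh v.1), sc γ (Sh v.2))
  rw [h, h]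

/-- the map `(a; c) ↦ (a + B c; c)` -/
def up (B : F43 → F43) (v : V6) : V6 := (v.1 + B v.2, v.2)

theorem hom1_up {B : F43 → F43} (h : ∀ γ a, B (sc γ a) = sc γ (B a)) : Hom1 (up B) := by
  intro γ v
  show (sc γ v.1 + B (sc γ v.2), sc γ v.2) = (sc γ (v.1 + B v.2), sc γ v.2)
  rw [h, sc_add]

theorem B01_sc (γ : F4) (a : F43) : B01 (sc γ a) = sc γ (B01 a) := by
  funext k
  fin_cases k
  · rfl
  · rfl
  · show F4.z = γ * .z
    exact (mul_zero γ).symm

theorem B45_sc (γ : F4) (a : F43) : B45 (sc γ a) = sc γ (B45 a) := by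
  funext k
  fin_cases k
  · exact (mul_add γ (a 1) (a 2)).symm
  · exact (mul_add γ (a 0) (a 2)).symm
  · exact (mul_add γ (a 0) (a 1)).symm

/-! ### Products -/

section Lin

variable {H : Cent G} {co : G → V6}

theorem exists_P {p : Equiv.Perm GolayPt} (hp : p ∈ M22d) :
    ∃ c : Subgroup.centralizer ({H.z} : Set G), H.P c = p := by
  rw [← H.P_range] at hp
  exact hp

theorem comm_z (c : Subgroup.centralizer ({H.z} : Set G)) : (c : G) * H.z = H.z * c :=
  (Subgroup.mem_centralizer_iff.1 c.2 H.z rfl).symm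

theorem Lin.mul {p q : Equiv.Perm GolayPt} (hp : p ∈ M22d) {M N : V6 → V6}
    (hM : Lin H co p M) (hN : Lin H co q N) (h1 : Hom1 M) :
    Lin H co (p * q) (fun v => M (N v)) := by
  intro c hc
  obtain ⟨d, hd⟩ := exists_P (H := H) hp
  have he : H.P (d⁻¹ * c) = q := by
    rw [map_mul, map_inv, hc, hd, inv_mul_cancel_left]
  obtain ⟨γ, g0, hγ⟩ := hM d hd
  obtain ⟨δ, d0, hδ⟩ := hN _ he
  refine ⟨γ * δ, mul_ne_zero g0 d0, fun x hx => ?_⟩
  have h2 : ((d⁻¹ * c : Subgroup.centralizer ({H.z} : Set G)) : G) * x *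
      ((d⁻¹ * c : Subgroup.centralizer ({H.z} : Set G)) : G)⁻¹ ∈ H.Q :=
    H.Q_conj _ (comm_z _) x hx
  have h3 := hγ _ h2
  rw [hδ x hx] at h3
  have h4 : (d : G) * (((d⁻¹ * c : Subgroup.centralizer ({H.z} : Set G)) : G) * x *
      ((d⁻¹ * c : Subgroup.centralizer ({H.z} : Set G)) : G)⁻¹) * (d : G)⁻¹ =
      (c : G) * x * (c : G)⁻¹ := by
    show (d : G) * (((d : G)⁻¹ * c) * x * ((d : G)⁻¹ * c)⁻¹) * (d : G)⁻¹ = _
    group
  rw [h4] at h3
  rw [h3, h1, scm_scm]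

end Lin

variable {H : Cent G} (K : CentCoords H)

theorem co_one : K.co 1 = 0 := by
  have h := K.co_mul 1 H.Q.one_mem 1 H.Q.one_mem
  rw [mul_one] at h
  exact left_eq_add.1 h

theorem add_self (v : V6) : v + v = 0 := by
  have h : ∀ x : F4, x + x = 0 := by decide
  refine Prod.ext ?_ ?_ <;> funext k <;> exact h _

theorem co_inv {q : G} (hq : q ∈ H.Q) : K.co q⁻¹ = K.co q := by
  have h := K.co_mul q hq q⁻¹ (H.Q.inv_mem hq)
  rw [mul_inv_cancel, co_one] at h
  have h2 := add_self (K.co q)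
  rw [← h2] at h
  exact (add_left_cancel h).symm

theorem eq_of_co {q r : G} (hq : q ∈ H.Q) (hr : r ∈ H.Q) (h : K.co q = K.co r) :
    q = r ∨ q = H.z * r := by
  have h1 : K.co (q * r⁻¹) = 0 := by
    rw [K.co_mul q hq _ (H.Q.inv_mem hr), co_inv K hr, h, add_self]
  rcases K.co_ker _ (H.Q.mul_mem hq (H.Q.inv_mem hr)) h1 with h2 | h2
  · exact Or.inl (mul_inv_eq_one.1 h2)
  · exact Or.inr (mul_inv_eq_iff_eq_mul.1 h2)

theorem lin_one : Lin H K.co 1 (fun v => v) := by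
  intro c hc
  obtain ⟨q, hq, i, hci⟩ := (H.P_ker c).1 hc
  have hρ : ∀ i : ℕ, ∀ x ∈ H.Q, H.ρ ^ i * x * (H.ρ ^ i)⁻¹ ∈ H.Q ∧
      K.co (H.ρ ^ i * x * (H.ρ ^ i)⁻¹) = scm (K.om ^ i) (K.co x) := by
    intro i
    induction i with
    | zero =>
      intro x hx
      rw [pow_zero, one_mul, inv_one, mul_one, pow_zero, scm_one]
      exact ⟨hx, rfl⟩
    | succ i ih =>
      intro x hx
      obtain ⟨h1, h2⟩ := ih x hx
      have e : H.ρ ^ (i + 1) * x * (H.ρ ^ (i + 1))⁻¹ =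
          H.ρ * (H.ρ ^ i * x * (H.ρ ^ i)⁻¹) * H.ρ⁻¹ := by
        rw [pow_succ']
        group
      rw [e]
      refine ⟨H.Q_conj _ H.ρ_comm _ h1, ?_⟩
      rw [K.co_rho _ h1, h2, scm_scm, pow_succ']
  refine ⟨K.om ^ i, pow_ne_zero _ K.om_ne_zero, fun x hx => ?_⟩
  obtain ⟨h1, h2⟩ := hρ i x hx
  rw [← h2, hci]
  have e : q * H.ρ ^ i * x * (q * H.ρ ^ i)⁻¹ = q * (H.ρ ^ i * x * (H.ρ ^ i)⁻¹) * q⁻¹ := by group
  rw [e, K.co_mul _ (H.Q.mul_mem hq h1) _ (H.Q.inv_mem hq), K.co_mul _ hq _ h1, co_inv K hq]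
  have h3 : ∀ a b : V6, a + b + a = b := by
    intro a b
    rw [add_right_comm, add_self, zero_add]
  rw [h3]

/-! ### The sixteen elements over `fixOct hex0` -/

theorem linDg : Lin H K.co s MDg := K.lin_s _ tab_s
theorem linSh : Lin H K.co s' MSh := K.lin_s' _ tab_s'

/-- the form of `b12` -/
def B12 (c : F43) : F43 := ![.z, c 1, c 2]
/-- the form of `b35` -/
def B35 (c : F43) : F43 :=
  ![.v * c 1 + .w * c 2, .w * c 0 + .v * c 2, .v * c 0 + .w * c 1]

theorem B12_sc (γ : F4) (a : F43) : B12 (sc γ a) = sc γ (B12 a) := by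
  funext k
  fin_cases k
  · show F4.z = γ * .z
    exact (mul_zero γ).symm
  · rfl
  · rfl

theorem B35_sc (γ : F4) (a : F43) : B35 (sc γ a) = sc γ (B35 a) := by
  have h : ∀ x y γ s t : F4, x * (γ * s) + y * (γ * t) = γ * (x * s + y * t) := by
    intro x y γ s t
    ring
  funext k
  fin_cases k
  · exact h _ _ _ _ _
  · exact h _ _ _ _ _
  · exact h _ _ _ _ _

theorem lin01 : Lin H K.co b01 (up B01) := K.lin_b01 _ tab_b01
theorem lin45 : Lin H K.co b45 (up B45) := K.lin_b45 _ tab_b45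

theorem lin12 : Lin H K.co b12 (up B12) := by
  have h := Lin.mul s'_mem (linSh K) (Lin.mul b01_mem (lin01 K)
    (Lin.mul s'_mem (linSh K) (linSh K) hom1_MSh) (hom1_up B01_sc)) hom1_MSh
  have e : (fun v => MSh (up B01 (MSh (MSh v)))) = up B12 := by
    funext v
    refine Prod.ext ?_ ?_
    · funext k
      fin_cases k
      · show v.1 0 + F4.z = v.1 0 + F4.z
        rfl
      · rfl
      · rfl
    · funext k
      fin_cases k <;> rfl
  rw [← e]
  exact h

theorem lin35 : Lin H K.co b35 (up B35) := by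
  have h := Lin.mul s_mem (linDg K) (Lin.mul b45_mem (lin45 K)
    (Lin.mul s_mem (linDg K) (linDg K) hom1_MDg) (hom1_up B45_sc)) hom1_MDg
  have e : (fun v => MDg (up B45 (MDg (MDg v)))) = up B35 := by
    have h1 : ∀ a1 a2 b1 b2 : F4, a1 + (.w * (.w * b1) + .v * (.v * b2)) =
        a1 + (.v * b1 + .w * b2) ∧
        .w * (.w * (.w * a2) + (b1 + .v * (.v * b2))) = a2 + (.w * b1 + .v * b2) ∧
        .v * (.v * (.v * a2) + (b1 + .w * (.w * b2))) = a2 + (.v * b1 + .w * b2) ∧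
        F4.w * (.w * (.w * a1)) = a1 ∧ F4.v * (.v * (.v * a1)) = a1 := by decide
    funext v
    refine Prod.ext ?_ ?_
    · funext k
      fin_cases k
      · exact (h1 _ 0 _ _).1
      · exact (h1 0 _ _ _).2.1
      · exact (h1 0 _ _ _).2.2.1
    · funext k
      fin_cases k
      · rfl
      · exact (h1 (v.2 1) 0 0 0).2.2.2.1
      · exact (h1 (v.2 2) 0 0 0).2.2.2.2
  rw [← e]
  exact h

/-- the form of `pb x` -/
def Bx (x : X) (c : F43) : F43 :=
  (cond x.2.2.2 (B35 c) 0 + cond x.2.2.1 (B45 c) 0) + cond x.2.1 (B12 c) 0 + cond x.1 (B01 c) 0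

theorem lin_pb (x : X) : Lin H K.co (pb x) (up (Bx x)) := by
  obtain ⟨a, b, c, d⟩ := x
  have hc : ∀ (e : Bool) (g : M24) (B : F43 → F43), (g : Equiv.Perm GolayPt) ∈ M22d →
      (∀ γ a, B (sc γ a) = sc γ (B a)) → Lin H K.co g (up B) →
      ((cond e g 1 : M24) : Equiv.Perm GolayPt) ∈ M22d ∧
      Lin H K.co (cond e g 1 : M24) (up (fun c => cond e (B c) 0)) ∧
      Hom1 (up (fun c => cond e (B c) 0)) := by
    intro e g B h0 h1 h2
    cases e
    · refine ⟨one_mem _, ?_, ?_⟩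
      · have : (up (fun _ => (0 : F43))) = fun v => v := by
          funext v
          show (v.1 + 0, v.2) = v
          rw [add_zero]
        show Lin H K.co 1 (up (fun _ => (0 : F43)))
        rw [this]
        exact lin_one K
      · show Hom1 (up (fun _ => (0 : F43)))
        apply hom1_up
        intro γ a
        funext k
        exact (mul_zero γ).symm
    · exact ⟨h0, h2, hom1_up h1⟩
  obtain ⟨a0, a1, a2⟩ := hc a b01 B01 b01_mem B01_sc (lin01 K)
  obtain ⟨b0, b1, b2⟩ := hc b b12 B12 b12_mem B12_sc (lin12 K)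
  obtain ⟨c0, c1, c2⟩ := hc c b45 B45 b45_mem B45_sc (lin45 K)
  obtain ⟨d0, d1, d2⟩ := hc d b35 B35 b35_mem B35_sc (lin35 K)
  have h := Lin.mul a0 a1 (Lin.mul b0 b1 (Lin.mul c0 c1 d1 c2) b2) a2
  have e : (fun v => up (fun t => cond a (B01 t) 0) (up (fun t => cond b (B12 t) 0)
      (up (fun t => cond c (B45 t) 0) (up (fun t => cond d (B35 t) 0) v)))) =
      up (Bx (a, b, c, d)) := by
    funext v
    refine Prod.ext ?_ rfl
    show v.1 + _ + _ + _ + _ = v.1 + (_ + _ + _ + _)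
    rw [← add_assoc, ← add_assoc, ← add_assoc]
    rfl
  rw [← e]
  exact h

/-- the value of the form on the hyperoval -/
theorem Bx_eq_aux : ∀ (x : X) (i j : Fin 6), i ≠ j →
    papp (Tpb x) (idx (hp i)) = idx (hp j) → ∀ c0 c1 c2 : F4, ∀ k : Fin 3,
      Bx x ![c0, c1, c2] k =
        (sc (gam ![c0, c1, c2] i) (hv i) + sc (gam ![c0, c1, c2] j) (hv j)) k := by
  decide +kernel

theorem Bx_eq {x : X} {i j : Fin 6} (hij : i ≠ j)
    (h : (pb x : Equiv.Perm GolayPt) (hp i) = hp j) (c : F43) :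
    Bx x c = sc (gam c i) (hv i) + sc (gam c j) (hv j) := by
  have h1 : papp (Tpb x) (idx (hp i)) = idx (hp j) := by
    rw [← h]
    exact (tab_pb x (hp i)).symm
  have h2 : c = ![c 0, c 1, c 2] := by
    funext k
    fin_cases k <;> rfl
  rw [h2]
  funext k
  exact Bx_eq_aux x i j hij h1 _ _ _ k

/-! ### The coordinates -/

section Main

variable {G : Type*} [Group G] (H : Hex G) (K : CentCoords H.toCent)

theorem zz : H.z * H.z = 1 := by
  have := pow_orderOf_eq_one H.z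
  rwa [H.z_order, pow_two] at this

theorem z_ne : H.z ≠ 1 := by
  intro h
  have := H.z_order
  rw [h, orderOf_one] at this
  omega

theorem co_z_mul {q : G} (hq : q ∈ H.Q) : K.co (H.z * q) = K.co q := by
  rw [K.co_mul _ H.z_mem_Q _ hq, K.co_z, zero_add]

/-- an element of `E hex0` outside `Q` -/
theorem act_aux (h0 : ∀ q ∈ H.Q, q ∈ H.E hex0 ↔ (K.co q).2 = 0)
    (f : Subgroup.centralizer ({H.z} : Set G)) (hf : (f : G) ∈ H.E hex0) :
    ∃ x : X, (pb x : Equiv.Perm GolayPt) = H.P f ∧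
      ∀ q ∈ H.Q, K.co ((f : G) * q * (f : G)⁻¹) = up (Bx x) (K.co q) := by
  have hE := H.E_elem hex0 HexMax.hex0_isHex
  obtain ⟨h1, h2⟩ := (H.E_map hex0 HexMax.hex0_isHex (H.P f)).1 ⟨f, hf, rfl⟩
  obtain ⟨x, hx⟩ := exists_pb (mem_fixOct.2 ⟨h1, h2⟩)
  refine ⟨x, hx, ?_⟩
  obtain ⟨γ, -, hγ⟩ := lin_pb K x f hx.symm
  obtain ⟨q, hq, hqe⟩ := K.co_surj (![.o, .z, .z], 0)
  have hq0 : q ∈ H.E hex0 := (h0 q hq).2 (by rw [hqe])
  have h3 := hγ q hq
  rw [hE.2 _ hf _ hq0, mul_inv_cancel_right, hqe] at h3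
  have h4 := congrFun (congrArg Prod.fst h3) 0
  have h5 : Bx x (0 : F43) = 0 := by
    have h := fun k => (by decide +kernel : ∀ (x : X) (k : Fin 3),
      Bx x (fun _ => F4.z) k = F4.z) x k
    funext k
    exact h k
  have h6 : γ = 1 := by
    have h7 : (up (Bx x) ((![.o, .z, .z] : F43), (0 : F43))).1 = ![.o, .z, .z] := by
      show (![.o, .z, .z] : F43) + Bx x (0 : F43) = _
      rw [h5, add_zero]
    have h8 : (scm γ (up (Bx x) ((![.o, .z, .z] : F43), (0 : F43)))).1 0 = γ * .o := by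
      show (sc γ (up (Bx x) ((![.o, .z, .z] : F43), (0 : F43))).1) 0 = _
      rw [h7]
      rfl
    have h9 : γ * .o = .o := h8.symm.trans h4.symm
    exact (mul_one γ).symm.trans h9
  intro q hq
  rw [hγ q hq, h6, scm_one]

theorem exists_vcoord (h0 : ∀ q ∈ H.Q, q ∈ H.E hex0 ↔ (K.co q).2 = 0)
    (h1 : ∀ q ∈ H.Q, q ∈ H.E hex1 ↔ (K.co q).1 = 0) (hom : K.om = .w) : Nonempty (VCoord H) := by
  choose v hv hco using fun (a c : F43) => K.co_surj (a, c)
  refine ⟨{
    v := v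
    v_mem := hv
    v_add := ?_
    v_inj := ?_
    v_sq := ?_
    v_rho := ?_
    v_E0 := fun a => (h0 _ (hv a 0)).2 (by rw [hco])
    v_E1 := fun c => (h1 _ (hv 0 c)).2 (by rw [hco])
    act := ?_ }⟩
  · intro a c a' c'
    apply eq_of_co K (hv _ _) (H.Q.mul_mem (hv _ _) (hv _ _))
    rw [K.co_mul _ (hv _ _) _ (hv _ _), hco, hco, hco]
    rfl
  · intro a c h
    have h2 : K.co (v a c) = 0 := by
      rcases h with h | h
      · rw [h, co_one]
      · rw [h, K.co_z]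
    rw [hco] at h2
    exact ⟨congrArg Prod.fst h2, congrArg Prod.snd h2⟩
  · intro a c
    have h2 := K.co_sq _ (hv a c)
    rw [hco] at h2
    rcases H.Q_sq _ (hv a c) with h3 | h3
    · rw [h2.1 h3, h3]
      exact (pow_zero _).symm
    · have h4 : tr (hp3 a c) ≠ 0 := by
        intro h5
        rw [h2.2 h5] at h3
        exact z_ne H h3.symm
      have h5 : tr (hp3 a c) = 1 := by
        have : ∀ x : ZMod 2, x ≠ 0 → x = 1 := by decide
        exact this _ h4
      rw [h5, h3]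
      exact (pow_one _).symm
  · intro a c
    have h2 : H.ρ * v a c * H.ρ⁻¹ ∈ H.Q := H.Q_conj _ H.ρ_comm _ (hv a c)
    apply eq_of_co K h2 (hv _ _)
    rw [K.co_rho _ (hv a c), hco, hco, hom]
    rfl
  · intro f hf _ i j hij hP c
    obtain ⟨x, hx, hact⟩ := act_aux H K h0 f hf
    rw [← hx] at hP
    have h2 := Bx_eq hij hP c
    rw [← h2]
    apply eq_of_co K (H.Q_conj _ (comm_z f) _ (hv 0 c)) (hv _ _)
    rw [hact _ (hv 0 c), hco, hco]
    show ((0 : F43) + Bx x c, c) = _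
    rw [zero_add]

end Main

end Cfsg.Agent.J4Type.VCoordOf
end
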