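import Cfsg.Agent.J4Type.CloseInst
import Cfsg.Agent.J4Type.FusionConj
import Cfsg.Agent.J4Type.DuadM24
import Cfsg.Agent.J4Type.ClosingCocode
set_option linter.all false

-- part: J4Type/DuadUniq
section
/-!
# J₄ type: a sextet and a duad lie together in at most one conjugate of `E` (R07, helper607)

* `duad_not_mem` : for a hexad `O ≠ hex0` the group `E O` contains no duad of `E = E hex0`;
* `uniq` : if `y ∈ E` is conjugate to `z`, `u ∈ E` is a duad and `y`, `u` lie in `g E g⁻¹`, then `g ∈ N_G(E)`.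
-/

set_option autoImplicit false

namespace Cfsg.Agent.J4Type.DuadUniq

open Cfsg Cfsg.Agent.J4Type Cfsg.Agent.J4Type.CloseInst Cfsg.Agent.J4Type.FusionV
open Cfsg.Agent.J4Type.ClosingCocode Cfsg.Agent.J4Type.DuadStab
open scoped Pointwise

variable {G : Type*} [Group G] (K : Frame G)

attribute [local instance] CloseInst.instComm

theorem ε_inj {S T : Finset GolayPt} (hS : Even S.card) (hT : Even T.card)
    (h6 : (symmDiff S T).card ≤ 6) (h : K.ε S = K.ε T) : S = T := by
  have hev : Even (symmDiff S T).card := by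
    rw [Nat.even_iff, card_symmDiff_parity]
    rw [Nat.even_iff] at hS hT
    omega
  have h1 : K.ε (symmDiff S T) = 1 := by
    rw [K.ε_mul S T hS hT, h]
    exact (K.E_elem hex0 FusionConj.isHex_hex0).1 _ (K.ε_mem T hT)
  have h2 := (isCocode K).eq_empty _ hev h6 (Subtype.ext (by rw [prod_e K _ hev, h1]; rfl))
  exact symmDiff_eq_bot.1 h2

theorem duad_inj {p q p' q' : GolayPt} (hpq : p ≠ q) (hpq' : p' ≠ q') (h : K.ε {p, q} = K.ε {p', q'}) :
    ({p, q} : Finset GolayPt) = {p', q'} := by
  apply ε_inj K _ _ _ h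
  · rw [Finset.card_pair hpq]; decide
  · rw [Finset.card_pair hpq']; decide
  · have h1 := Finset.card_le_card (Finset.symmDiff_subset_union (s := ({p, q} : Finset GolayPt)) (t := {p', q'}))
    have h2 := Finset.card_union_le ({p, q} : Finset GolayPt) {p', q'}
    rw [Finset.card_pair hpq, Finset.card_pair hpq'] at h2
    omega

theorem duad_ne_one {p q : GolayPt} (hpq : p ≠ q) : K.ε {p, q} ≠ 1 := by
  intro h
  rw [← ε_empty K] at h
  have := ε_inj K (by rw [Finset.card_pair hpq]; decide) (by simp) (by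
    have h1 : symmDiff ({p, q} : Finset GolayPt) ∅ = {p, q} := symmDiff_bot _
    rw [h1, Finset.card_pair hpq]; omega) h
  have h2 := congrArg Finset.card this
  rw [Finset.card_pair hpq] at h2
  simp at h2

theorem duad_ne_z {p q : GolayPt} (hpq : p ≠ q) : K.ε {p, q} ≠ K.z := by
  intro h
  have := K.duad_not_conj p q hpq
  rw [h] at this
  exact this (IsConj.refl _)

/-- the points of a duad in `Q` lie in one column -/
theorem exists_column {p q : GolayPt} (hpq : p ≠ q) (hQ : K.ε {p, q} ∈ K.Q) :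
    ∃ i, p ∈ tet i ∧ q ∈ tet i := by
  have hpar : Even ({p, q} : Finset GolayPt).card := by rw [Finset.card_pair hpq]; decide
  have hcov : ∀ x : GolayPt, ∃ i, x ∈ tet i := by decide +kernel
  have hdis : ∀ i j : Fin 6, i ≠ j → Disjoint (tet i) (tet j) := by decide +kernel
  rcases (K.A_iff _ hpar).1 hQ with h | h
  · obtain ⟨i, hi⟩ := hcov p
    refine ⟨i, hi, ?_⟩
    by_contra hq
    have h1 : ({p, q} : Finset GolayPt) ∩ tet i = {p} := by
      ext x
      simp only [Finset.mem_inter, Finset.mem_insert, Finset.mem_singleton]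
      constructor
      · rintro ⟨rfl | rfl, hx⟩
        · rfl
        · exact absurd hx hq
      · rintro rfl
        exact ⟨Or.inl rfl, hi⟩
    have h2 := h i
    rw [h1, Finset.card_singleton] at h2
    exact absurd h2 (by decide)
  · exfalso
    -- three columns would each contain one of the two points
    have hex : ∀ i, ∃ x ∈ ({p, q} : Finset GolayPt), x ∈ tet i := by
      intro i
      have h1 : (({p, q} : Finset GolayPt) ∩ tet i).Nonempty := by
        rw [← Finset.card_pos]
        exact (h i).pos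
      obtain ⟨x, hx⟩ := h1
      rw [Finset.mem_inter] at hx
      exact ⟨x, hx.1, hx.2⟩
    choose f hf hft using hex
    have hinj : Function.Injective f := by
      intro i j hij
      by_contra hne
      exact Finset.disjoint_left.1 (hdis i j hne) (hft i) (hij ▸ hft j)
    have h1 : (Finset.univ.image f).card = 6 := by
      rw [Finset.card_image_of_injective _ hinj, Finset.card_univ, Fintype.card_fin]
    have h2 : Finset.univ.image f ⊆ ({p, q} : Finset GolayPt) := by
      intro x hx
      obtain ⟨i, -, rfl⟩ := Finset.mem_image.1 hx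
      exact hf i
    have h3 := Finset.card_le_card h2
    rw [h1, Finset.card_pair hpq] at h3
    omega

theorem P_rC : K.P (rC K.toCent) = 1 := (P_eq_one_iff K.toCent).2 ⟨1, by rw [pow_one]⟩

theorem rho_mem_N : K.ρ ∈ Subgroup.normalizer (K.E hex0 : Set G) :=
  mem_normalizer_of_P K (rC K.toCent) (by rw [P_rC, one_smul])

theorem Q_le_N : K.Q ≤ Subgroup.normalizer (K.E hex0 : Set G) := by
  intro q hq
  exact mem_normalizer_of_P K ⟨q, K.Q_le hq⟩ (by
    rw [(P_eq_one_iff K.toCent).2 ⟨0, by rw [pow_zero]; exact (bar_eq_one K.toCent).2 hq⟩, one_smul])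

/-- `ρ u ρ⁻¹` for a duad `u ∈ Q`: a duad of the same column meeting `u` in one point -/
theorem exists_point {p q : GolayPt} (hpq : p ≠ q) (hQ : K.ε {p, q} ∈ K.Q) :
    ∃ p' q' : GolayPt, p' ≠ q' ∧ K.ρ * K.ε {p, q} * K.ρ⁻¹ = K.ε {p', q'} ∧
      ∃ x, x ∈ ({p, q} : Finset GolayPt) ∧ x ∈ ({p', q'} : Finset GolayPt) ∧
        ∀ y, y ∈ ({p, q} : Finset GolayPt) → y ∈ ({p', q'} : Finset GolayPt) → y = x := by
  classical
  set n : Subgroup.normalizer (K.E hex0 : Set G) := ⟨K.ρ, rho_mem_N K⟩ with hn
  set g : Equiv.Perm GolayPt := (K.π n : Equiv.Perm GolayPt) with hg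
  have hpar : Even ({p, q} : Finset GolayPt).card := by rw [Finset.card_pair hpq]; decide
  obtain ⟨i, hpi, hqi⟩ := exists_column K hpq hQ
  have hv : K.ρ * K.ε {p, q} * K.ρ⁻¹ = K.ε {g p, g q} := by
    have h1 := K.π_smul n {p, q} hpar
    rw [DuadM24.smul_pair] at h1
    exact h1
  have hgpq : g p ≠ g q := fun h => hpq (g.injective h)
  have htet : g • tet i = tet i := (K.ρ_tet n rfl i).2
  have hgp : g p ∈ tet i := by rw [← htet]; exact Finset.smul_mem_smul_finset hpi
  have hgq : g q ∈ tet i := by rw [← htet]; exact Finset.smul_mem_smul_finset hqi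
  refine ⟨g p, g q, hgpq, hv, ?_⟩
  have hu1 := duad_ne_one K hpq
  have huz := duad_ne_z K hpq
  -- the two duads are different
  have hneq : ({g p, g q} : Finset GolayPt) ≠ {p, q} := by
    intro h
    rw [h, mul_inv_eq_iff_eq_mul] at hv
    rcases K.ρ_fix _ hQ hv with h1 | h1
    · exact hu1 h1
    · exact huz h1
  have hsq : K.ε {p, q} * K.ε {p, q} = 1 :=
    (K.E_elem hex0 FusionConj.isHex_hex0).1 _ (K.ε_mem _ hpar)
  -- and not disjoint
  have hnd : ¬ Disjoint ({p, q} : Finset GolayPt) {g p, g q} := by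
    intro hd
    have h1 : ({p, q} : Finset GolayPt) ∪ {g p, g q} = tet i := by
      apply Finset.eq_of_subset_of_card_le
      · intro x hx
        simp only [Finset.mem_union, Finset.mem_insert, Finset.mem_singleton] at hx
        rcases hx with (rfl | rfl) | (rfl | rfl)
        · exact hpi
        · exact hqi
        · exact hgp
        · exact hgq
      · rw [Finset.card_union_of_disjoint hd, Finset.card_pair hpq, Finset.card_pair hgpq, tet_card]
    have h2 : K.ε {p, q} * K.ε {g p, g q} = K.z := by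
      rw [← K.ε_mul _ _ hpar (by rw [Finset.card_pair hgpq]; decide), hd.symmDiff_eq_sup, Finset.sup_eq_union,
        h1, K.ε_tet]
    have h3 : K.ε {g p, g q} = K.ε {p, q} * K.z := by
      rw [← h2, ← mul_assoc, hsq, one_mul]
    have h4 := rho_free K.toCent (v := (large K.toCent).pr ⟨_, hQ⟩) (by
      rw [(large K.toCent).act_pr, (large K.toCent).pr_eq_pr, Co2Type.Quad.Large.conjQ_coe]
      right
      show K.ρ * K.ε {p, q} * K.ρ⁻¹ = K.ε {p, q} * K.z
      rw [hv, h3])
    rcases (large K.toCent).pr_eq_zero.1 h4 with h5 | h5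
    · exact hu1 h5
    · exact huz h5
  rw [Finset.not_disjoint_iff] at hnd
  obtain ⟨x, hx, hx'⟩ := hnd
  refine ⟨x, hx, hx', fun y hy hy' => ?_⟩
  by_contra hyx
  apply hneq
  have h1 : ({x, y} : Finset GolayPt) = {p, q} := by
    apply Finset.eq_of_subset_of_card_le
    · intro w hw
      rw [Finset.mem_insert, Finset.mem_singleton] at hw
      rcases hw with rfl | rfl
      · exact hx
      · exact hy
    · rw [Finset.card_pair hpq, Finset.card_pair (Ne.symm hyx)]
  have h2 : ({x, y} : Finset GolayPt) = {g p, g q} := by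
    apply Finset.eq_of_subset_of_card_le
    · intro w hw
      rw [Finset.mem_insert, Finset.mem_singleton] at hw
      rcases hw with rfl | rfl
      · exact hx'
      · exact hy'
    · rw [Finset.card_pair hgpq, Finset.card_pair (Ne.symm hyx)]
  rw [← h1, ← h2]

/-- an element of `N_G(E)` commuting with a duad fixes it as a set -/
theorem smul_eq_of_comm {p q : GolayPt} (hpq : p ≠ q) (n : Subgroup.normalizer (K.E hex0 : Set G))
    (h : (n : G) * K.ε {p, q} = K.ε {p, q} * n) :
    (K.π n : Equiv.Perm GolayPt) • ({p, q} : Finset GolayPt) = {p, q} := by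
  have h1 := K.π_smul n {p, q} (by rw [Finset.card_pair hpq]; decide)
  rw [h, mul_inv_cancel_right, DuadM24.smul_pair] at h1
  rw [DuadM24.smul_pair]
  exact (duad_inj K hpq (fun h => hpq ((K.π n : Equiv.Perm GolayPt).injective h)) h1).symm

/-- For a hexad `O ≠ hex0` the group `E O` contains no duad of `E = E hex0`. -/
theorem duad_not_mem [Finite G] {O : Finset GolayPt} (hO : IsHex O) (hne : O ≠ hex0) {p q : GolayPt}
    (hpq : p ≠ q) (huO : K.ε {p, q} ∈ K.E O) : False := by
  classical
  have hex0' := FusionConj.isHex_hex0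
  have hpar : Even ({p, q} : Finset GolayPt).card := by rw [Finset.card_pair hpq]; decide
  have huE := K.ε_mem _ hpar
  have huQ : K.ε {p, q} ∈ K.Q := K.E_inf hex0 O hex0' hO (Ne.symm hne) ⟨huE, huO⟩
  have hu1 := duad_ne_one K hpq
  have huz := duad_ne_z K hpq
  have hbase : base ⊆ O ∩ hex0 := Finset.subset_inter hO.2 hex0'.2
  have h2 : 2 ≤ (O ∩ hex0).card := by
    have := Finset.card_le_card hbase
    have hb : base.card = 2 := by decide
    omega
  rcases DuadM24.inter_card hO.1 hex0'.1 hne h2 with h | h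
  · -- disjoint hexads
    have h3 := K.E_inf_two O hex0 hO hex0' h
    have h4 : Nat.card (K.E O ⊓ K.E hex0 : Subgroup G) ≠ 2 := by
      intro h5
      obtain ⟨a, b, hab, huniv⟩ := Nat.card_eq_two_iff.1 h5
      have key : ∀ w : (K.E O ⊓ K.E hex0 : Subgroup G), w = a ∨ w = b := by
        intro w
        have : w ∈ ({a, b} : Set (K.E O ⊓ K.E hex0 : Subgroup G)) := by rw [huniv]; trivial
        simpa using this
      have k1 := key 1
      have k2 := key ⟨K.z, K.z_mem_E O hO, K.z_mem_E hex0 hex0'⟩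
      have k3 := key ⟨_, huO, huE⟩
      have n1 : (⟨K.z, K.z_mem_E O hO, K.z_mem_E hex0 hex0'⟩ : (K.E O ⊓ K.E hex0 : Subgroup G)) ≠ 1 :=
        fun h => z_ne_one K (congrArg Subtype.val h)
      have n2 : (⟨_, huO, huE⟩ : (K.E O ⊓ K.E hex0 : Subgroup G)) ≠ 1 := fun h => hu1 (congrArg Subtype.val h)
      have n3 : (⟨_, huO, huE⟩ : (K.E O ⊓ K.E hex0 : Subgroup G)) ≠
          ⟨K.z, K.z_mem_E O hO, K.z_mem_E hex0 hex0'⟩ := fun h => huz (congrArg Subtype.val h)
      rcases k1 with k1 | k1 <;> rcases k2 with k2 | k2 <;> rcases k3 with k3 | k3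
      · exact n1 (k2.trans k1.symm)
      · exact n1 (k2.trans k1.symm)
      · exact n2 (k3.trans k1.symm)
      · exact n3 (k3.trans k2.symm)
      · exact n3 (k3.trans k2.symm)
      · exact n2 (k3.trans k1.symm)
      · exact n1 (k2.trans k1.symm)
      · exact n1 (k2.trans k1.symm)
    exact h4 h3
  · -- hexads meeting in two points
    have h8 := K.E_inf_eight O hex0 hO hex0' h
    obtain ⟨p', q', hpq', hv, x, hx, hx', hxu⟩ := exists_point K hpq huQ
    have hvO : K.ε {p', q'} ∈ K.E O := by
      have h3 := (K.E_conj O hO (rC K.toCent) (K.ε {p, q})).1 huO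
      rw [P_rC, one_smul] at h3
      rw [← hv]
      exact h3
    set N := Subgroup.normalizer (K.E hex0 : Set G) with hN
    set B : Subgroup G := K.E O ⊓ N with hB
    let f : B →* Equiv.Perm GolayPt := (M24.subtype.comp K.π).comp (Subgroup.inclusion inf_le_right)
    have hf : ∀ b : B, f b = (K.π ⟨b, b.2.2⟩ : Equiv.Perm GolayPt) := fun b => rfl
    have hfM : f.range ≤ M24 := by
      rintro _ ⟨b, rfl⟩
      exact (K.π ⟨b, b.2.2⟩).2
    have hfsq : ∀ g ∈ f.range, g * g = 1 := by
      rintro _ ⟨b, rfl⟩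
      rw [← map_mul]
      have : b * b = 1 := Subtype.ext ((K.E_elem O hO).1 _ b.2.1)
      rw [this, map_one]
    have hfx : ∀ g ∈ f.range, g x = x := by
      rintro _ ⟨b, rfl⟩
      rw [hf]
      set c : Equiv.Perm GolayPt := (K.π ⟨b, b.2.2⟩ : Equiv.Perm GolayPt) with hc
      have h3 := smul_eq_of_comm K hpq ⟨b, b.2.2⟩ ((K.E_elem O hO).2 _ b.2.1 _ huO)
      have h4 := smul_eq_of_comm K hpq' ⟨b, b.2.2⟩ ((K.E_elem O hO).2 _ b.2.1 _ hvO)
      apply hxu
      · rw [← h3]; exact Finset.smul_mem_smul_finset hx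
      · rw [← h4]; exact Finset.smul_mem_smul_finset hx'
    have hcard := FusionM22.card_le f.range hfM hfsq hfx
    have hker : Nat.card f.ker = 8 := by
      rw [← h8]
      refine Nat.card_congr
        { toFun := fun b => ⟨(b : B), (b : B).2.1, ?_⟩
          invFun := fun b => ⟨⟨b.1, b.2.1, ?_⟩, ?_⟩
          left_inv := fun b => rfl
          right_inv := fun b => rfl }
      · have h3 : f b = 1 := b.2
        rw [hf] at h3
        exact (K.π_ker _).1 (Subtype.ext h3)
      · exact Subgroup.le_normalizer b.2.2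
      · rw [MonoidHom.mem_ker, hf]
        exact congrArg Subtype.val ((K.π_ker ⟨b.1, Subgroup.le_normalizer b.2.2⟩).2 b.2.2)
    have hB128 : Nat.card B ≤ 128 := by
      rw [← Subgroup.card_mul_index f.ker, Subgroup.index_ker, hker]
      omega
    -- a translation of `O` fixing `hex0`
    obtain ⟨t, htM, htO, ht1, ht0⟩ := DuadM24.exists_translation hO.1 hex0'.1 h
    obtain ⟨b, hbE, hb⟩ := (K.E_map O hO t).2 ⟨htM, htO⟩
    have hbN : (b : G) ∈ N := mem_normalizer_of_P K b (by rw [hb, ht0])
    have hbQ : (b : G) ∉ K.Q := by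
      intro h3
      apply ht1
      rw [← hb]
      exact (P_eq_one_iff K.toCent).2 ⟨0, by rw [pow_zero]; exact (bar_eq_one K.toCent).2 h3⟩
    have hlt : (K.E O ⊓ K.Q : Subgroup G) < B := by
      refine lt_of_le_of_ne (le_inf inf_le_left (inf_le_right.trans (Q_le_N K))) ?_
      intro h3
      have : (b : G) ∈ (K.E O ⊓ K.Q : Subgroup G) := by
        rw [h3]; exact ⟨hbE, hbN⟩
      exact hbQ this.2
    have h128 := K.A_card O hO
    have hle : Nat.card (K.E O ⊓ K.Q : Subgroup G) < Nat.card B := by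
      apply lt_of_not_ge
      intro h3
      exact hlt.ne (Subgroup.eq_of_le_of_card_ge hlt.le h3)
    omega

/-- A conjugate of `z` in `E` and a duad of `E` lie together in no other conjugate of `E`. -/
theorem uniq [Finite G] {y : G} (hy : y ∈ K.E hex0) (hzy : IsConj K.z y) {p q : GolayPt} (hpq : p ≠ q)
    {g : G} (hyg : g⁻¹ * y * g ∈ K.E hex0) (hug : g⁻¹ * K.ε {p, q} * g ∈ K.E hex0) :
    g ∈ Subgroup.normalizer (K.E hex0 : Set G) := by
  have hex0' := FusionConj.isHex_hex0
  obtain ⟨c, hc⟩ := isConj_iff.1 hzy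
  obtain ⟨n, hn, hnz⟩ := FusionConj.exists_normalizer_conj K.toHex hex0' c⁻¹ (by
    rw [inv_inv, hc]; exact hy)
  rw [inv_inv, hc] at hnz
  have h1 : (n * g)⁻¹ * K.z * (n * g) ∈ K.E hex0 := by
    have : (n * g)⁻¹ * K.z * (n * g) = g⁻¹ * (n⁻¹ * K.z * n) * g := by group
    rw [this, hnz]
    exact hyg
  obtain ⟨O, hO, hOa⟩ := FusionConj.E_unique K.toHex (n * g) h1
  -- the duad `n u n⁻¹` lies in `E O`
  set π := (K.π ⟨n, hn⟩ : Equiv.Perm GolayPt) with hπ
  have h2 : n * K.ε {p, q} * n⁻¹ = K.ε {π p, π q} := by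
    have := K.π_smul ⟨n, hn⟩ {p, q} (by rw [Finset.card_pair hpq]; decide)
    rw [DuadM24.smul_pair] at this
    exact this
  have h3 : K.ε {π p, π q} ∈ K.E O := by
    rw [← hOa, ← h2]
    have : (n * g)⁻¹ * (n * K.ε {p, q} * n⁻¹) * (n * g) = g⁻¹ * K.ε {p, q} * g := by group
    rw [this]
    exact hug
  have hOh : O = hex0 := by
    by_contra hne
    exact duad_not_mem K hO hne (fun h => hpq (π.injective h)) h3
  subst hOh
  have h4 : (n * g)⁻¹ ∈ Subgroup.normalizer (K.E hex0 : Set G) := by
    rw [Subgroup.mem_normalizer_iff]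
    intro a
    rw [inv_inv]
    exact (hOa a).symm
  have h5 := (Subgroup.normalizer (K.E hex0 : Set G)).mul_mem
    ((Subgroup.normalizer (K.E hex0 : Set G)).inv_mem hn)
    ((Subgroup.normalizer (K.E hex0 : Set G)).inv_mem h4)
  rw [inv_inv, inv_mul_cancel_left] at h5
  exact h5

end Cfsg.Agent.J4Type.DuadUniq
end

-- part: J4Type/CentLe
section
/-!
# J₄ type: centralisers of duads, abstract step (R07, helper607; the argument is helper552's closing argument)

`E` elementary abelian, normal in `H`, `Z` a normal set of `G`.  If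
(*) `x ∈ C_G(u)`, `u ∈ E` not in `Z`, `y ∈ E ∩ Z` and `x y x⁻¹ ∈ H` imply `x ∈ H`,
then `C_G(S) ≤ H` for every nontrivial subgroup `S` of `E` not meeting `Z`.
-/

set_option autoImplicit false

namespace Cfsg.Agent.J4Type.CentLe

open Cfsg.Agent.J4Type.Closing

theorem cent_le {G : Type*} [Group G] [Finite G] (H E : Subgroup G) (Z : Set G)
    (hZn : ∀ y ∈ Z, ∀ g : G, g * y * g⁻¹ ∈ Z)
    (huniq : ∀ u ∈ E, u ≠ 1 → u ∉ Z → ∀ x : G, x * u = u * x → ∀ y ∈ E, y ∈ Z →
      x * y * x⁻¹ ∈ H → x ∈ H)
    (hEH : E ≤ H) (hE2 : ∀ v ∈ E, v * v = 1) (hHE : ∀ h ∈ H, ∀ v ∈ E, h * v * h⁻¹ ∈ E)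
    (hz : ∃ z ∈ E, z ∈ Z)
    (hfree : ∀ t : G, t * t = 1 → (∀ v ∈ E, t * v * t⁻¹ ∈ E) →
      ∃ y ∈ E, y ∈ Z ∧ t * y = y * t)
    (hcos : ∀ S : Subgroup G, S ≤ E → S ≠ ⊥ → (∀ s ∈ S, s ∉ Z) →
      ∃ d ∈ E, d ∉ S ∧ ∃ e ∈ E, e ∉ S ∧
        Set.ncard {s | s ∈ S ∧ d * s ∈ Z} ≠ Set.ncard {s | s ∈ S ∧ e * s ∈ Z})
    (S : Subgroup G) (hSE : S ≤ E) (hS1 : S ≠ ⊥) (hSZ : ∀ s ∈ S, s ∉ Z) :
    Subgroup.centralizer (S : Set G) ≤ H := by
  have hEc : ∀ a ∈ E, ∀ b ∈ E, a * b = b * a := by
    intro a ha b hb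
    have h1 := hE2 a ha
    have h2 := hE2 b hb
    have h3 := hE2 (a * b) (E.mul_mem ha hb)
    have ha' : a⁻¹ = a := inv_eq_of_mul_eq_one_left h1
    have hb' : b⁻¹ = b := inv_eq_of_mul_eq_one_left h2
    have : (a * b)⁻¹ = a * b := inv_eq_of_mul_eq_one_left h3
    rw [mul_inv_rev, ha', hb'] at this
    exact this.symm
  -- Main claim: `C_G(S) ≤ H` for every nontrivial `Z`-free subgroup `S` of `E`.
  have main : ∀ n : ℕ, ∀ S : Subgroup G, S ≤ E → S ≠ ⊥ → (∀ s ∈ S, s ∉ Z) →
      Nat.card E - Nat.card S ≤ n → Subgroup.centralizer (S : Set G) ≤ H := by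
    intro n
    induction n with
    | zero =>
      intro S hSE hS1 hSZ hn
      exfalso
      have hcardle : Nat.card S ≤ Nat.card E := Nat.card_le_card_of_injective
        (Subgroup.inclusion hSE) (Subgroup.inclusion_injective hSE)
      have heq : S = E := by
        apply Subgroup.eq_of_le_of_card_ge hSE
        omega
      obtain ⟨z, hzE, hzZ⟩ := hz
      exact hSZ z (heq ▸ hzE) hzZ
    | succ n ih =>
      intro S hSE hS1 hSZ hn
      by_contra hcon
      set X := Subgroup.centralizer (S : Set G) with hX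
      have hXmem : ∀ x : G, x ∈ X ↔ ∀ s ∈ S, s * x = x * s := by
        intro x
        rw [hX, Subgroup.mem_centralizer_iff]
        rfl
      set M := X ⊓ H with hM
      have hEX : E ≤ X := by
        intro v hv
        rw [hXmem]
        intro s hs
        exact hEc s (hSE hs) v hv
      obtain ⟨u, huS, hu1⟩ : ∃ u ∈ S, u ≠ 1 := by
        by_contra h
        push Not at h
        exact hS1 ((Subgroup.eq_bot_iff_forall S).mpr h)
      have huZ := hSZ u huS
      have huE := hSE huS
      -- uniqueness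
      have huq : ∀ v ∈ E, v ∉ S → ∀ x ∈ X, x * v * x⁻¹ ∈ M → x ∈ M := by
        intro v hvE hvS x hx hxv
        have hxS : ∀ s ∈ S, x * s * x⁻¹ = s := by
          intro s hs
          rw [← (hXmem x).mp hx s hs]; group
        refine ⟨hx, ?_⟩
        by_cases hmeet : ∃ s ∈ S, v * s ∈ Z
        · obtain ⟨s, hs, hvs⟩ := hmeet
          apply huniq u huE hu1 huZ x ((hXmem x).mp hx u huS).symm (v * s) (E.mul_mem hvE (hSE hs)) hvs
          have : x * (v * s) * x⁻¹ = (x * v * x⁻¹) * (x * s * x⁻¹) := by group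
          rw [this, hxS s hs]
          exact H.mul_mem hxv.2 (hEH (hSE hs))
        · push Not at hmeet
          by_contra hxH
          -- `S' = ⟨S, v⟩`
          set S' : Subgroup G := S ⊔ Subgroup.zpowers v with hS'
          have hS'mem : ∀ w ∈ S', w ∈ S ∨ ∃ s ∈ S, w = v * s := by
            intro w hw
            rw [hS'] at hw
            have hcl : ∀ a b : G, (a ∈ S ∨ ∃ s ∈ S, a = v * s) → (b ∈ S ∨ ∃ s ∈ S, b = v * s) →
                (a * b ∈ S ∨ ∃ s ∈ S, a * b = v * s) := by
              rintro a b (ha | ⟨s, hs, rfl⟩) (hb | ⟨s', hs', rfl⟩)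
              · exact Or.inl (S.mul_mem ha hb)
              · right
                refine ⟨a * s', S.mul_mem ha hs', ?_⟩
                rw [← mul_assoc, hEc a (hSE ha) v hvE, mul_assoc]
              · right
                exact ⟨s * b, S.mul_mem hs hb, by rw [mul_assoc]⟩
              · left
                have : v * s * (v * s') = s * s' := by
                  rw [← mul_assoc, mul_assoc v s v, hEc s (hSE hs) v hvE, ← mul_assoc v v s,
                    hE2 v hvE, one_mul]
                rw [this]; exact S.mul_mem hs hs'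
            set T : Subgroup G :=
              { carrier := {a | a ∈ S ∨ ∃ s ∈ S, a = v * s}
                one_mem' := Or.inl S.one_mem
                mul_mem' := by
                  intro a b ha hb
                  exact hcl a b ha hb
                inv_mem' := by
                  rintro a (ha | ⟨s, hs, rfl⟩)
                  · exact Or.inl (S.inv_mem ha)
                  · right
                    refine ⟨s⁻¹, S.inv_mem hs, ?_⟩
                    rw [mul_inv_rev, inv_eq_of_mul_eq_one_left (hE2 v hvE),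
                      hEc s⁻¹ (hSE (S.inv_mem hs)) v hvE] } with hT
            have hle : S ⊔ Subgroup.zpowers v ≤ T := by
              apply sup_le
              · intro a ha; exact Or.inl ha
              · rw [Subgroup.zpowers_le]
                exact Or.inr ⟨1, S.one_mem, by rw [mul_one]⟩
            exact hle hw
          have hS'E : S' ≤ E := by
            rw [hS']
            exact sup_le hSE (by rw [Subgroup.zpowers_le]; exact hvE)
          have hS'1 : S' ≠ ⊥ := by
            intro h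
            apply hS1
            rw [eq_bot_iff]
            calc S ≤ S' := le_sup_left
              _ = ⊥ := h
          have hS'Z : ∀ s ∈ S', s ∉ Z := by
            intro w hw
            rcases hS'mem w hw with h | ⟨s, hs, rfl⟩
            · exact hSZ w h
            · exact hmeet s hs
          have hvS' : v ∈ S' := by
            have : Subgroup.zpowers v ≤ S' := le_sup_right
            exact this (Subgroup.mem_zpowers v)
          have hcard' : Nat.card S < Nat.card S' := by
            have h1 : Nat.card S ≤ Nat.card S' := Nat.card_le_card_of_injective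
              (Subgroup.inclusion (le_sup_left : S ≤ S')) (Subgroup.inclusion_injective _)
            rcases Nat.lt_or_ge (Nat.card S) (Nat.card S') with h | h
            · exact h
            · exfalso
              have : S = S' := Subgroup.eq_of_le_of_card_ge le_sup_left h
              exact hvS (this ▸ hvS')
          have hS'le : Nat.card S' ≤ Nat.card E := Nat.card_le_card_of_injective
            (Subgroup.inclusion hS'E) (Subgroup.inclusion_injective hS'E)
          have hC := ih S' hS'E hS'1 hS'Z (by omega)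
          -- `w = x⁻¹ v x`: work with `t = x * v * x⁻¹ ∈ H`; conjugate back
          -- we know `x * v * x⁻¹ ∈ H`, i.e. `v ∈ x⁻¹ H x`.
          have hvH : x * v * x⁻¹ ∈ H := hxv.2
          -- `t := x v x⁻¹ ∈ C_H(u)` normalises `E`
          set t := x * v * x⁻¹ with ht
          have htt : t * t = 1 := by
            rw [ht]
            calc x * v * x⁻¹ * (x * v * x⁻¹) = x * (v * v) * x⁻¹ := by group
              _ = 1 := by rw [hE2 v hvE]; group
          have htu : t * u = u * t := by
            have h1 := (hXmem x).mp hx u huS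
            have h2 := hEc v hvE u huE
            have h3 : x⁻¹ * u = u * x⁻¹ := by
              calc x⁻¹ * u = x⁻¹ * (u * x) * x⁻¹ := by group
                _ = x⁻¹ * (x * u) * x⁻¹ := by rw [h1]
                _ = u * x⁻¹ := by group
            rw [ht]
            calc x * v * x⁻¹ * u = x * v * (x⁻¹ * u) := by group
              _ = x * (v * u) * x⁻¹ := by rw [h3]; group
              _ = x * (u * v) * x⁻¹ := by rw [h2]
              _ = (x * u) * v * x⁻¹ := by group
              _ = u * (x * v * x⁻¹) := by rw [← h1]; group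
          obtain ⟨y, hyE, hyZ, hyt⟩ := hfree t htt (hHE t hvH)
          -- `y' = x⁻¹ y x` centralises `S'`
          have hy' : x⁻¹ * y * x ∈ Subgroup.centralizer (S' : Set G) := by
            rw [Subgroup.mem_centralizer_iff]
            intro w hw
            have hcommS : ∀ s ∈ S, s * (x⁻¹ * y * x) = (x⁻¹ * y * x) * s := by
              intro s hs
              have h1 := (hXmem x).mp hx s hs
              have h2 := hEc s (hSE hs) y hyE
              have h3 : x⁻¹ * s = s * x⁻¹ := by
                calc x⁻¹ * s = x⁻¹ * (s * x) * x⁻¹ := by group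
                  _ = x⁻¹ * (x * s) * x⁻¹ := by rw [h1]
                  _ = s * x⁻¹ := by group
              calc s * (x⁻¹ * y * x) = (s * x⁻¹) * y * x := by group
                _ = x⁻¹ * (s * y) * x := by rw [← h3]; group
                _ = x⁻¹ * (y * s) * x := by rw [h2]
                _ = x⁻¹ * y * (s * x) := by group
                _ = x⁻¹ * y * x * s := by rw [h1]; group
            have hcommv : v * (x⁻¹ * y * x) = (x⁻¹ * y * x) * v := by
              have hv : v = x⁻¹ * t * x := by rw [ht]; group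
              rw [hv]
              calc x⁻¹ * t * x * (x⁻¹ * y * x) = x⁻¹ * (t * y) * x := by group
                _ = x⁻¹ * (y * t) * x := by rw [hyt]
                _ = x⁻¹ * y * x * (x⁻¹ * t * x) := by group
            rcases hS'mem w hw with h | ⟨s, hs, rfl⟩
            · exact hcommS w h
            · rw [mul_assoc, hcommS s hs, ← mul_assoc, hcommv, mul_assoc]
          have hy'H := hC hy'
          have h3 : x⁻¹ * u = u * x⁻¹ := by
            have h1 := (hXmem x).mp hx u huS
            calc x⁻¹ * u = x⁻¹ * (u * x) * x⁻¹ := by group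
              _ = x⁻¹ * (x * u) * x⁻¹ := by rw [h1]
              _ = u * x⁻¹ := by group
          have := huniq u huE hu1 huZ x⁻¹ h3 y hyE hyZ (by rw [inv_inv]; exact hy'H)
          exact hxH (by simpa using H.inv_mem this)
      obtain ⟨d, hdE, hdS, e, heE, heS, hne⟩ := hcos S hSE hS1 hSZ
      obtain ⟨m, hm, s₀, hs₀, hms⟩ := fusion_rel X M E S inf_le_left (by
          intro h
          apply hcon
          rw [← h]
          exact inf_le_right)
        hSE (le_inf hEX hEH)
        (by
          intro s hs x hx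
          exact ((hXmem x).mp hx s hs).symm)
        (by
          intro m hm v hv
          exact hHE m hm.2 v hv)
        hE2 huq hdE hdS heE heS
      apply hne
      -- bijection `s ↦ s₀ * s`
      have hmS : ∀ s ∈ S, m * s * m⁻¹ = s := by
        intro s hs
        rw [← (hXmem m).mp hm.1 s hs]; group
      have hrel : ∀ s ∈ S, (d * s ∈ Z ↔ e * (s₀ * s) ∈ Z) := by
        intro s hs
        have h1 : m * (d * s) * m⁻¹ = e * (s₀ * s) := by
          calc m * (d * s) * m⁻¹ = (m * d * m⁻¹) * (m * s * m⁻¹) := by group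
            _ = e * s₀ * s := by rw [hms, hmS s hs]
            _ = _ := by rw [mul_assoc]
        constructor
        · intro h
          rw [← h1]; exact hZn _ h m
        · intro h
          have h2 := hZn _ h m⁻¹
          rw [← h1] at h2
          have h3 : m⁻¹ * (m * (d * s) * m⁻¹) * m⁻¹⁻¹ = d * s := by group
          rwa [h3] at h2
      apply Set.ncard_congr (fun s _ => s₀ * s)
      · rintro s ⟨hs, hds⟩
        exact ⟨S.mul_mem hs₀ hs, (hrel s hs).mp hds⟩
      · intro a b _ _ hab
        exact mul_left_cancel hab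
      · rintro b ⟨hb, hbZ⟩
        refine ⟨s₀⁻¹ * b, ⟨S.mul_mem (S.inv_mem hs₀) hb, ?_⟩, ?_⟩
        · rw [hrel _ (S.mul_mem (S.inv_mem hs₀) hb), mul_inv_cancel_left]
          exact hbZ
        · simp
  exact main (Nat.card E) S hSE hS1 hSZ (by omega)

end Cfsg.Agent.J4Type.CentLe
end

-- part: J4Type/CocodeFacts
section
/-!
# The two facts on the even Golay cocode used in closing arguments

Extracted from helper552's `ClosingCocode.eq_top_of_cocode` (R07, helper607).
-/

set_option autoImplicit false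

namespace Cfsg.Agent.J4Type.CocodeFacts

open Cfsg Cfsg.Agent.J4Type.DuadStab Cfsg.Agent.J4Type.Closing Cfsg.Agent.J4Type.ClosingCocode Finset

variable {A : Type*} [CommGroup A] {e : GolayPt → A}

/-- an element of square one normalising the cocode centralises a sextet -/
theorem free_of_cocode {G : Type*} [Group G] (he : IsCocode e)
    (hgen : ∀ a : A, ∃ S : Finset GolayPt, Even S.card ∧ a = ∏ i ∈ S, e i)
    (ι : A →* G) (hι : Function.Injective ι) (Z : Set G)
    (hZA : ∀ a : A, ι a ∈ Z ↔ IsSextet e a)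
    (hZn : ∀ y ∈ Z, ∀ g : G, g * y * g⁻¹ ∈ Z) :
    ∀ t : G, t * t = 1 → (∀ v ∈ ι.range, t * v * t⁻¹ ∈ ι.range) →
      ∃ y ∈ ι.range, y ∈ Z ∧ t * y = y * t := by
  classical
  have htri := trichotomy he hgen
  have hsq : ∀ a : A, a * a = 1 := by
    intro a
    obtain ⟨S, -, rfl⟩ := hgen a
    rw [← Finset.prod_mul_distrib]
    exact Finset.prod_eq_one fun i _ => he.sq i
  have hnotZ : ∀ a : A, ι a ∉ Z → a = 1 ∨ IsDuad e a := by
    intro a ha
    rcases htri a with h | h | h
    · exact Or.inl h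
    · exact Or.inr h
    · exact absurd ((hZA a).2 h) ha
  intro t ht hnorm
  have hg : ∀ a : A, ∃ b : A, ι b = t * ι a * t⁻¹ := fun a => hnorm _ ⟨a, rfl⟩
  choose g hgι using hg
  let gh : A →* A :=
    { toFun := g
      map_one' := by
        apply hι
        rw [hgι, map_one]; group
      map_mul' := by
        intro x y
        apply hι
        rw [map_mul, hgι, hgι, hgι, map_mul]; group }
  have hgg : ∀ a, g (g a) = a := by
    intro a
    apply hι
    rw [hgι, hgι]
    have : t⁻¹ = t := inv_eq_of_mul_eq_one_left ht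
    calc t * (t * ι a * t⁻¹) * t⁻¹ = (t * t) * ι a * (t⁻¹ * t⁻¹) := by group
      _ = ι a := by rw [this, ht, one_mul, mul_one]
  have hduad : ∀ i j, i ≠ j → ∃ k l, k ≠ l ∧ gh (e i * e j) = e k * e l := by
    intro i j hij
    have hd : IsDuad e (e i * e j) := ⟨i, j, hij, rfl⟩
    have h1 : ι (g (e i * e j)) ∉ Z := by
      intro h
      rw [hgι] at h
      have h2 := hZn _ h t⁻¹
      have h3 : t⁻¹ * (t * ι (e i * e j) * t⁻¹) * t⁻¹⁻¹ = ι (e i * e j) := by group
      rw [h3, hZA] at h2
      exact hd.not_sextet he h2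
    rcases hnotZ _ h1 with h2 | h2
    · exfalso
      have := hgg (e i * e j)
      rw [h2] at this
      have h3 : g 1 = 1 := gh.map_one
      rw [h3] at this
      exact hd.ne_one he this.symm
    · exact h2
  obtain ⟨π, -, hπ⟩ := he.exists_perm gh hduad
  have hππ : π * π = 1 := by
    apply he.perm_unique
    intro i j
    have h1 := hgg (e i * e j)
    have h2 : g (e i * e j) = e (π i) * e (π j) := hπ i j
    have h3 : g (e (π i) * e (π j)) = e (π (π i)) * e (π (π j)) := hπ (π i) (π j)
    rw [h2, h3] at h1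
    exact h1
  obtain ⟨S, hS4, hSπ⟩ := exists_inv_four π (fun i => by
    have := congrArg (fun f : Equiv.Perm GolayPt => f i) hππ
    exact this)
  have h4 := map_prod gh π hπ S (by rw [hS4]; decide)
  rw [hSπ] at h4
  refine ⟨ι (∏ i ∈ S, e i), ⟨_, rfl⟩, (hZA _).2 ⟨S, hS4, rfl⟩, ?_⟩
  have h5 : ι (g (∏ i ∈ S, e i)) = ι (∏ i ∈ S, e i) := by
    have : gh (∏ i ∈ S, e i) = g (∏ i ∈ S, e i) := rfl
    rw [← this, h4]
  rw [hgι] at h5
  calc t * ι (∏ i ∈ S, e i) = t * ι (∏ i ∈ S, e i) * t⁻¹ * t := by group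
    _ = _ := by rw [h5]

/-- the non-homogeneity of the cosets of a sextet-free subgroup -/
theorem cos_of_cocode {G : Type*} [Group G] [Finite G] (he : IsCocode e)
    (hgen : ∀ a : A, ∃ S : Finset GolayPt, Even S.card ∧ a = ∏ i ∈ S, e i)
    (ι : A →* G) (hι : Function.Injective ι) (Z : Set G)
    (hZA : ∀ a : A, ι a ∈ Z ↔ IsSextet e a) :
    ∀ S : Subgroup G, S ≤ ι.range → S ≠ ⊥ → (∀ s ∈ S, s ∉ Z) →
      ∃ d ∈ ι.range, d ∉ S ∧ ∃ e ∈ ι.range, e ∉ S ∧
        Set.ncard {s | s ∈ S ∧ d * s ∈ Z} ≠ Set.ncard {s | s ∈ S ∧ e * s ∈ Z} := by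
  classical
  have htri := trichotomy he hgen
  have hsq : ∀ a : A, a * a = 1 := by
    intro a
    obtain ⟨S, -, rfl⟩ := hgen a
    rw [← Finset.prod_mul_distrib]
    exact Finset.prod_eq_one fun i _ => he.sq i
  have hnotZ : ∀ a : A, ι a ∉ Z → a = 1 ∨ IsDuad e a := by
    intro a ha
    rcases htri a with h | h | h
    · exact Or.inl h
    · exact Or.inr h
    · exact absurd ((hZA a).2 h) ha
  have hcardG : Fintype.card GolayPt = 24 := by decide +kernel
  have hpick : ∀ T : Finset GolayPt, T.card < 24 → ∃ x, x ∉ T := by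
    intro T hT
    obtain ⟨x, -, hx⟩ := Finset.exists_mem_notMem_of_card_lt_card
      (s := T) (t := Finset.univ) (by rw [Finset.card_univ, hcardG]; exact hT)
    exact ⟨x, hx⟩
  have hZ1 : (1 : G) ∉ Z := by
    intro h
    rw [← map_one ι, hZA] at h
    exact h.ne_one he rfl
  intro S hSE hS1 hSZ
  have hSd : ∀ s ∈ S, s ≠ 1 → ∃ i j, i ≠ j ∧ s = ι (e i * e j) := by
    intro s hs h1
    obtain ⟨a, rfl⟩ := hSE hs
    rcases hnotZ a (hSZ _ hs) with h | ⟨i, j, hij, rfl⟩
    · exact absurd (by rw [h, map_one]) h1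
    · exact ⟨i, j, hij, rfl⟩
  have hsext' : ∀ {a b c d : GolayPt}, a ≠ b → a ≠ c → a ≠ d → b ≠ c → b ≠ d → c ≠ d →
      ι (e a * e b * (e c * e d)) ∈ Z := by
    intro a b c d h1 h2 h3 h4 h5 h6
    exact (hZA _).2 (sextet_mk h1 h2 h3 h4 h5 h6)
  have hduadZ : ∀ {a b : GolayPt}, a ≠ b → ι (e a * e b) ∉ Z := by
    intro a b hab h
    exact IsDuad.not_sextet he ⟨a, b, hab, rfl⟩ ((hZA _).1 h)
  have hduad1 : ∀ {a b : GolayPt}, a ≠ b → ι (e a * e b) ≠ 1 := by
    intro a b hab h
    rw [← map_one ι] at h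
    exact IsDuad.ne_one he ⟨a, b, hab, rfl⟩ (hι h)
  -- equality of duads
  have hduadeq : ∀ {a b c d : GolayPt}, a ≠ b → c ≠ d → ι (e a * e b) = ι (e c * e d) →
      (a = c ∧ b = d) ∨ (a = d ∧ b = c) := by
    intro a b c d hab hcd h
    have h1 : e a * e b = e c * e d := hι h
    have h2 : ∏ k ∈ symmDiff ({a, b} : Finset GolayPt) {c, d}, e k = 1 := by
      rw [prod_symmDiff he.sq, Finset.prod_pair hab, Finset.prod_pair hcd, h1, hsq]
    have h3 := he.eq_empty _ (by
        rw [Nat.even_iff, card_symmDiff_parity, Finset.card_pair hab, Finset.card_pair hcd])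
      (by
        have h3 := Finset.card_le_card (Finset.symmDiff_subset_union
          (s := ({a, b} : Finset GolayPt)) (t := {c, d}))
        have h4 := Finset.card_union_le ({a, b} : Finset GolayPt) {c, d}
        have h5 := Finset.card_pair hab
        have h6 := Finset.card_pair hcd
        omega) h2
    have h4 : ({a, b} : Finset GolayPt) = {c, d} := symmDiff_eq_bot.1 h3
    have h5 : a ∈ ({c, d} : Finset GolayPt) := by rw [← h4]; simp
    have h6 : b ∈ ({c, d} : Finset GolayPt) := by rw [← h4]; simp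
    simp only [Finset.mem_insert, Finset.mem_singleton] at h5 h6
    rcases h5 with rfl | rfl <;> rcases h6 with rfl | rfl
    · exact absurd rfl hab
    · exact Or.inl ⟨rfl, rfl⟩
    · exact Or.inr ⟨rfl, rfl⟩
    · exact absurd rfl hab
  obtain ⟨u, huS, hu1⟩ : ∃ u ∈ S, u ≠ 1 := by
    by_contra h
    push Not at h
    exact hS1 ((Subgroup.eq_bot_iff_forall S).mpr h)
  obtain ⟨a, b, hab, rfl⟩ := hSd u huS hu1
  by_cases hcase : ∀ s ∈ S, s = 1 ∨ s = ι (e a * e b)
  · -- `S = {1, ab}`
    obtain ⟨c, hc⟩ := hpick {a, b} (by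
      have := Finset.card_le_two (a := a) (b := b); omega)
    obtain ⟨d, hd⟩ := hpick {a, b, c} (by
      have := Finset.card_le_three (a := a) (b := b) (c := c); omega)
    simp only [Finset.mem_insert, Finset.mem_singleton, not_or] at hc hd
    have hSmem : ∀ s, s ∈ S ↔ s = 1 ∨ s = ι (e a * e b) := by
      intro s
      constructor
      · exact hcase s
      · rintro (rfl | rfl)
        · exact S.one_mem
        · exact huS
    refine ⟨ι (e a * e c), ⟨_, rfl⟩, ?_, ι (e c * e d), ⟨_, rfl⟩, ?_, ?_⟩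
    · rw [hSmem]
      rintro (h | h)
      · exact hduad1 (Ne.symm hc.1) h
      · rcases hduadeq (Ne.symm hc.1) hab h with ⟨-, h⟩ | ⟨h, -⟩
        · exact hc.2 h
        · exact hab h
    · rw [hSmem]
      rintro (h | h)
      · exact hduad1 (Ne.symm hd.2.2) h
      · rcases hduadeq (Ne.symm hd.2.2) hab h with ⟨h, -⟩ | ⟨h, -⟩
        · exact hc.1 h
        · exact hc.2 h
    · have h1 : {s | s ∈ S ∧ ι (e a * e c) * s ∈ Z} = ∅ := by
        rw [Set.eq_empty_iff_forall_notMem]
        rintro s ⟨hs, hsZ⟩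
        rcases hcase s hs with rfl | rfl
        · rw [mul_one] at hsZ
          exact hduadZ (Ne.symm hc.1) hsZ
        · rw [← map_mul] at hsZ
          have : e a * e c * (e a * e b) = e c * e b := by
            calc e a * e c * (e a * e b) = (e a * e a) * (e c * e b) := by ac_rfl
              _ = _ := by rw [he.sq, one_mul]
          rw [this] at hsZ
          exact hduadZ hc.2 hsZ
      have h2 : ι (e a * e b) ∈ {s | s ∈ S ∧ ι (e c * e d) * s ∈ Z} := by
        refine ⟨huS, ?_⟩
        rw [← map_mul]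
        exact hsext' (Ne.symm hd.2.2) hc.1 hc.2 hd.1 hd.2.1 hab
      rw [h1, Set.ncard_empty]
      have h3 : 0 < Set.ncard {s | s ∈ S ∧ ι (e c * e d) * s ∈ Z} :=
        (Set.ncard_pos (Set.toFinite _)).2 ⟨_, h2⟩
      omega
  · -- there is another duad
    push Not at hcase
    obtain ⟨v, hvS, hv1, hvu⟩ := hcase
    obtain ⟨c, d, hcd, rfl⟩ := hSd v hvS hv1
    -- normalise: `S ∋ xy, xz`
    obtain ⟨x, y, z, hxy, hxz, hyz, hxyS, hxzS⟩ : ∃ x y z : GolayPt, x ≠ y ∧ x ≠ z ∧ y ≠ z ∧
        ι (e x * e y) ∈ S ∧ ι (e x * e z) ∈ S := by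
      have hprod : ι (e a * e b * (e c * e d)) ∈ S := by
        rw [map_mul]; exact S.mul_mem huS hvS
      have hprodZ := hSZ _ hprod
      by_cases h1 : a = c
      · subst h1
        refine ⟨a, b, d, hab, hcd, ?_, huS, hvS⟩
        rintro rfl; exact hvu rfl
      by_cases h2 : a = d
      · subst h2
        refine ⟨a, b, c, hab, h1, ?_, huS, by rw [mul_comm]; exact hvS⟩
        rintro rfl; exact hvu (by rw [mul_comm])
      by_cases h3 : b = c
      · subst h3
        exact ⟨b, a, d, hab.symm, hcd, h2, by rw [mul_comm]; exact huS, hvS⟩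
      by_cases h4 : b = d
      · subst h4
        exact ⟨b, a, c, hab.symm, h3, h1, by rw [mul_comm]; exact huS,
          by rw [mul_comm]; exact hvS⟩
      exact absurd (hsext' hab h1 h2 h3 h4 hcd) hprodZ
    have hyzS : ι (e y * e z) ∈ S := by
      have h1 := S.mul_mem hxyS hxzS
      rw [← map_mul] at h1
      have : e x * e y * (e x * e z) = e y * e z := by
        calc e x * e y * (e x * e z) = (e x * e x) * (e y * e z) := by ac_rfl
          _ = _ := by rw [he.sq, one_mul]
      rwa [this] at h1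
    have hSmem : ∀ s ∈ S, s = 1 ∨ s = ι (e x * e y) ∨ s = ι (e x * e z) ∨
        s = ι (e y * e z) := by
      intro s hs
      by_cases hs1 : s = 1
      · exact Or.inl hs1
      right
      obtain ⟨p, q, hpq, rfl⟩ := hSd s hs hs1
      -- `pq` meets `xy`, `xz`, `yz`
      have hmeet : ∀ {r t : GolayPt}, r ≠ t → ι (e r * e t) ∈ S →
          r = p ∨ r = q ∨ t = p ∨ t = q := by
        intro r t hrt hrtS
        by_contra hcon
        push Not at hcon
        have h1 := S.mul_mem hrtS hs
        rw [← map_mul] at h1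
        exact hSZ _ h1 (hsext' hrt hcon.1 hcon.2.1 hcon.2.2.1 hcon.2.2.2 hpq)
      have m1 := hmeet hxy hxyS
      have m2 := hmeet hxz hxzS
      have m3 := hmeet hyz hyzS
      have hcomm : ∀ r t : GolayPt, ι (e r * e t) = ι (e t * e r) := fun r t => by
        rw [mul_comm]
      by_cases c1 : x = p
      · subst c1
        by_cases c2 : y = q
        · subst c2; exact Or.inl rfl
        by_cases c3 : z = q
        · subst c3; exact Or.inr (Or.inl rfl)
        rcases m3 with h | h | h | h
        · exact absurd h (Ne.symm hxy)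
        · exact absurd h c2
        · exact absurd h (Ne.symm hxz)
        · exact absurd h c3
      by_cases c1' : x = q
      · subst c1'
        by_cases c2 : y = p
        · subst c2; exact Or.inl (hcomm _ _)
        by_cases c3 : z = p
        · subst c3; exact Or.inr (Or.inl (hcomm _ _))
        rcases m3 with h | h | h | h
        · exact absurd h c2
        · exact absurd h (Ne.symm hxy)
        · exact absurd h c3
        · exact absurd h (Ne.symm hxz)
      · have m1' : y = p ∨ y = q := by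
          rcases m1 with h | h | h | h
          · exact absurd h c1
          · exact absurd h c1'
          · exact Or.inl h
          · exact Or.inr h
        have m2' : z = p ∨ z = q := by
          rcases m2 with h | h | h | h
          · exact absurd h c1
          · exact absurd h c1'
          · exact Or.inl h
          · exact Or.inr h
        rcases m1' with rfl | rfl <;> rcases m2' with h | h
        · exact absurd h (Ne.symm hyz)
        · subst h; exact Or.inr (Or.inr rfl)
        · subst h; exact Or.inr (Or.inr (hcomm _ _))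
        · exact absurd h (Ne.symm hyz)
    obtain ⟨w, hw⟩ := hpick {x, y, z} (by
      have := Finset.card_le_three (a := x) (b := y) (c := z); omega)
    obtain ⟨w', hw'⟩ := hpick {x, y, z, w} (by
      have := Finset.card_le_four (a := x) (b := y) (c := z) (d := w); omega)
    simp only [Finset.mem_insert, Finset.mem_singleton, not_or] at hw hw'
    have hnotin : ∀ {p q : GolayPt}, p ≠ q → q ≠ x → q ≠ y → q ≠ z → ι (e p * e q) ∉ S := by
      intro p q hpq h1 h2 h3 hmem
      rcases hSmem _ hmem with h | h | h | h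
      · exact hduad1 hpq h
      · rcases hduadeq hpq hxy h with ⟨-, h⟩ | ⟨-, h⟩
        · exact h2 h
        · exact h1 h
      · rcases hduadeq hpq hxz h with ⟨-, h⟩ | ⟨-, h⟩
        · exact h3 h
        · exact h1 h
      · rcases hduadeq hpq hyz h with ⟨-, h⟩ | ⟨-, h⟩
        · exact h3 h
        · exact h2 h
    refine ⟨ι (e x * e w), ⟨_, rfl⟩, hnotin (Ne.symm hw.1) hw.1 hw.2.1 hw.2.2,
      ι (e w * e w'), ⟨_, rfl⟩, hnotin (Ne.symm hw'.2.2.2) hw'.1 hw'.2.1 hw'.2.2.1, ?_⟩
    -- first count at most one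
    have h1 : {s | s ∈ S ∧ ι (e x * e w) * s ∈ Z} ⊆ {ι (e y * e z)} := by
      rintro s ⟨hs, hsZ⟩
      rcases hSmem s hs with rfl | rfl | rfl | rfl
      · exfalso
        rw [mul_one] at hsZ
        exact hduadZ (Ne.symm hw.1) hsZ
      · exfalso
        rw [← map_mul] at hsZ
        have : e x * e w * (e x * e y) = e w * e y := by
          calc e x * e w * (e x * e y) = (e x * e x) * (e w * e y) := by ac_rfl
            _ = _ := by rw [he.sq, one_mul]
        rw [this] at hsZ
        exact hduadZ hw.2.1 hsZ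
      · exfalso
        rw [← map_mul] at hsZ
        have : e x * e w * (e x * e z) = e w * e z := by
          calc e x * e w * (e x * e z) = (e x * e x) * (e w * e z) := by ac_rfl
            _ = _ := by rw [he.sq, one_mul]
        rw [this] at hsZ
        exact hduadZ hw.2.2 hsZ
      · exact rfl
    have h1' := Set.ncard_le_ncard h1 (Set.toFinite _)
    rw [Set.ncard_singleton] at h1'
    have h2 : {ι (e x * e y), ι (e x * e z)} ⊆ {s | s ∈ S ∧ ι (e w * e w') * s ∈ Z} := by
      intro s hs
      rw [Set.mem_insert_iff, Set.mem_singleton_iff] at hs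
      rcases hs with rfl | rfl
      · refine ⟨hxyS, ?_⟩
        rw [← map_mul]
        exact hsext' (Ne.symm hw'.2.2.2) hw.1 hw.2.1 hw'.1 hw'.2.1 hxy
      · refine ⟨hxzS, ?_⟩
        rw [← map_mul]
        exact hsext' (Ne.symm hw'.2.2.2) hw.1 hw.2.2 hw'.1 hw'.2.2.1 hxz
    have h2' := Set.ncard_le_ncard h2 (Set.toFinite _)
    rw [Set.ncard_pair (by
      intro h
      rcases hduadeq hxy hxz h with ⟨-, h⟩ | ⟨h, -⟩
      · exact hyz h
      · exact hxz h)] at h2'
    omega


end Cfsg.Agent.J4Type.CocodeFacts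
end

-- part: J4Type/DuadCent
section
/-!
# J₄ type: the centraliser of a duad normalises `E` (R07, helper607)

`duad_cent` : for a `Frame`, `C_G(ε {p, q}) ≤ N_G(E)`.  (So hypothesis `F3` of `CloseInst.eq_top` holds for every
`H ≥ N_G(E)`.)
-/

set_option autoImplicit false

namespace Cfsg.Agent.J4Type.DuadCent

open Cfsg Cfsg.Agent.J4Type Cfsg.Agent.J4Type.CloseInst Cfsg.Agent.J4Type.DuadUniq
open Cfsg.Agent.J4Type.ClosingCocode Cfsg.Agent.J4Type.DuadStab
open Cfsg.Agent.J4Type.FusionConj (mem_map_conj)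
open scoped Pointwise

/-- an involutory automorphism of an elementary abelian 2-group fixes at least the square root of its order -/
theorem card_le_sq {G : Type*} [Group G] [Finite G] (F : Subgroup G) (hF : IsElem2 F) {t : G}
    (htt : t * t = 1) (ht : ∀ f ∈ F, t * f * t⁻¹ ∈ F) :
    Nat.card F ≤ Nat.card (F ⊓ Subgroup.centralizer ({t} : Set G) : Subgroup G) ^ 2 := by
  have hti : t⁻¹ = t := inv_eq_of_mul_eq_one_left htt
  let φ : F →* G :=
    { toFun := fun f => f * (t * f * t⁻¹)
      map_one' := by simp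
      map_mul' := by
        intro a b
        push_cast
        have h1 := hF.2 _ (ht a a.2) b b.2
        calc (a : G) * b * (t * (a * b) * t⁻¹) = a * b * (t * a * t⁻¹) * (t * b * t⁻¹) := by group
          _ = a * (t * a * t⁻¹) * (b * (t * b * t⁻¹)) := by
            rw [mul_assoc (a : G) b, ← h1]; group }
  have hφ : ∀ f : F, φ f = f * (t * f * t⁻¹) := fun f => rfl
  have hker : Nat.card φ.ker ≤ Nat.card (F ⊓ Subgroup.centralizer ({t} : Set G) : Subgroup G) := by
    apply Nat.card_le_card_of_injective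
      (fun f : φ.ker => (⟨(f : F), (f : F).2, Subgroup.mem_centralizer_singleton_iff.2 <| by
        have h1 : ((f : F) : G) * (t * (f : F) * t⁻¹) = 1 := f.2
        have h2 := hF.1 _ (f : F).2
        have h3 : ((f : F) : G) = t * (f : F) * t⁻¹ := by
          rw [← h2] at h1
          exact (mul_left_cancel h1).symm
        calc ((f : F) : G) * t = t * (f : F) * t⁻¹ * t := by rw [← h3]
          _ = t * (f : F) := by group⟩ : (F ⊓ Subgroup.centralizer ({t} : Set G) : Subgroup G)))
    intro a b h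
    have h' : ((a : F) : G) = ((b : F) : G) :=
      congrArg (fun t : (F ⊓ Subgroup.centralizer ({t} : Set G) : Subgroup G) => (t : G)) h
    exact Subtype.ext (Subtype.ext h')
  have hrange : φ.range ≤ F ⊓ Subgroup.centralizer ({t} : Set G) := by
    rintro _ ⟨f, rfl⟩
    refine ⟨F.mul_mem f.2 (ht f f.2), Subgroup.mem_centralizer_singleton_iff.2 ?_⟩
    rw [hφ]
    have h1 := hF.2 _ f.2 _ (ht f f.2)
    calc (f : G) * (t * f * t⁻¹) * t = t * f * t⁻¹ * f * t := by rw [h1]
      _ = t * (f * (t * f * t⁻¹)) := by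
        rw [hti]
        group
  have hr : Nat.card φ.range ≤ Nat.card (F ⊓ Subgroup.centralizer ({t} : Set G) : Subgroup G) :=
    Nat.card_mono (Set.toFinite _) hrange
  rw [← Subgroup.card_mul_index φ.ker, Subgroup.index_ker, pow_two]
  exact Nat.mul_le_mul hker hr

variable {G : Type*} [Group G] (K : Frame G)

attribute [local instance] CloseInst.instComm

/-- products over 4-sets are conjugate to `z` -/
theorem isConj_four {S : Finset GolayPt} (hS : S.card = 4) : IsConj K.z (K.ε S) := by
  obtain ⟨n, -, hn⟩ := conj_sextet K S hS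
  exact isConj_iff.2 ⟨n, hn⟩

/-- a subgroup of `E` without conjugates of `z` has order at most 4 -/
theorem card_le_four [Finite G] (D : Subgroup G) (hDE : D ≤ K.E hex0) (hD : ∀ s ∈ D, ¬ IsConj K.z s) :
    Nat.card D ≤ 4 := by
  classical
  have hduad : ∀ s ∈ D, s ≠ 1 → ∃ i j : GolayPt, i ≠ j ∧ s = K.ε {i, j} := by
    intro s hs hs1
    rcases E_cases K (hDE hs) with h | h | ⟨S, hS, h⟩
    · exact absurd h hs1
    · exact h
    · exact absurd (h ▸ isConj_four K hS) (hD s hs)
  have hpar : ∀ {i j : GolayPt}, i ≠ j → Even ({i, j} : Finset GolayPt).card := by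
    intro i j hij
    rw [Finset.card_pair hij]; decide
  -- two duads of `D` meet
  have hmeet : ∀ {i j k l : GolayPt}, i ≠ j → k ≠ l → K.ε {i, j} ∈ D → K.ε {k, l} ∈ D →
      ¬ (i ≠ k ∧ i ≠ l ∧ j ≠ k ∧ j ≠ l) := by
    rintro i j k l hij hkl hij' hkl' ⟨h1, h2, h3, h4⟩
    have h5 := D.mul_mem hij' hkl'
    rw [← K.ε_mul _ _ (hpar hij) (hpar hkl)] at h5
    exact hD _ h5 (isConj_four K (DuadM24.card_four hij h1 h2 h3 h4 hkl))
  by_cases hall : ∀ s ∈ D, s = 1
  · have : D = ⊥ := (Subgroup.eq_bot_iff_forall D).2 hall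
    rw [this, Subgroup.card_bot]
    omega
  push Not at hall
  obtain ⟨u, huD, hu1⟩ := hall
  obtain ⟨a, b, hab, rfl⟩ := hduad u huD hu1
  by_cases hcase : ∀ s ∈ D, s = 1 ∨ s = K.ε {a, b}
  · have hsub : (D : Set G) ⊆ ({1, K.ε {a, b}} : Finset G) := by
      intro s hs
      rw [Finset.coe_insert, Finset.coe_singleton]
      exact hcase s hs
    have h1 := Set.ncard_le_ncard hsub (Finset.finite_toSet _)
    rw [Set.ncard_coe_finset] at h1
    have h2 := Finset.card_le_two (a := (1 : G)) (b := K.ε {a, b})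
    have h3 : Nat.card D = (D : Set G).ncard := rfl
    omega
  push Not at hcase
  obtain ⟨v, hvD, hv1, hvu⟩ := hcase
  obtain ⟨c, d, hcd, rfl⟩ := hduad v hvD hv1
  -- normalise: `D ∋ xy, xw`
  obtain ⟨x, y, w, hxy, hxw, hyw, hxyD, hxwD⟩ : ∃ x y w : GolayPt, x ≠ y ∧ x ≠ w ∧ y ≠ w ∧
      K.ε {x, y} ∈ D ∧ K.ε {x, w} ∈ D := by
    by_cases h1 : a = c
    · subst h1
      refine ⟨a, b, d, hab, hcd, ?_, huD, hvD⟩
      rintro rfl
      exact hvu rfl
    by_cases h2 : a = d
    · subst h2
      refine ⟨a, b, c, hab, h1, ?_, huD, by rw [Finset.pair_comm]; exact hvD⟩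
      rintro rfl
      exact hvu (by rw [Finset.pair_comm])
    by_cases h3 : b = c
    · subst h3
      exact ⟨b, a, d, hab.symm, hcd, h2, by rw [Finset.pair_comm]; exact huD, hvD⟩
    by_cases h4 : b = d
    · subst h4
      exact ⟨b, a, c, hab.symm, h3, h1, by rw [Finset.pair_comm]; exact huD,
        by rw [Finset.pair_comm]; exact hvD⟩
    exact absurd ⟨h1, h2, h3, h4⟩ (hmeet hab hcd huD hvD)
  have hywD : K.ε {y, w} ∈ D := by
    have h1 := D.mul_mem hxyD hxwD
    rw [← K.ε_mul _ _ (hpar hxy) (hpar hxw)] at h1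
    have h2 : symmDiff ({x, y} : Finset GolayPt) {x, w} = {y, w} := by
      ext t
      simp only [Finset.mem_symmDiff, Finset.mem_insert, Finset.mem_singleton, not_or]
      constructor
      · rintro (⟨rfl | rfl, h3, h4⟩ | ⟨rfl | rfl, h3, h4⟩)
        · exact absurd rfl h3
        · exact Or.inl rfl
        · exact absurd rfl h3
        · exact Or.inr rfl
      · rintro (rfl | rfl)
        · exact Or.inl ⟨Or.inr rfl, hxy.symm, hyw⟩
        · exact Or.inr ⟨Or.inr rfl, hxw.symm, hyw.symm⟩
    rwa [h2] at h1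
  have hsub : (D : Set G) ⊆ ({1, K.ε {x, y}, K.ε {x, w}, K.ε {y, w}} : Finset G) := by
    intro s hs
    by_cases hs1 : s = 1
    · rw [hs1]; simp
    obtain ⟨p, q, hpq, rfl⟩ := hduad s hs hs1
    have m1 := hmeet hxy hpq hxyD hs
    have m2 := hmeet hxw hpq hxwD hs
    have m3 := hmeet hyw hpq hywD hs
    have key : ({p, q} : Finset GolayPt) = {x, y} ∨ ({p, q} : Finset GolayPt) = {x, w} ∨
        ({p, q} : Finset GolayPt) = {y, w} := by
      by_cases e1 : x = p
      · by_cases e2 : y = q
        · left; rw [← e1, ← e2]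
        · by_cases e3 : w = q
          · right; left; rw [← e1, ← e3]
          · exfalso
            exact m3 ⟨fun h => hxy (e1.trans h.symm), e2, fun h => hxw (e1.trans h.symm), e3⟩
      by_cases e2 : x = q
      · by_cases e3 : y = p
        · left; rw [← e2, ← e3, Finset.pair_comm]
        · by_cases e4 : w = p
          · right; left; rw [← e2, ← e4, Finset.pair_comm]
          · exfalso
            exact m3 ⟨e3, fun h => hxy (e2.trans h.symm), e4, fun h => hxw (e2.trans h.symm)⟩
      · by_cases e3 : y = p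
        · by_cases e4 : w = q
          · right; right; rw [← e3, ← e4]
          · exfalso
            exact m2 ⟨e1, e2, fun h => hyw (e3.trans h.symm), e4⟩
        · by_cases e4 : y = q
          · by_cases e5 : w = p
            · right; right; rw [← e4, ← e5, Finset.pair_comm]
            · exfalso
              exact m2 ⟨e1, e2, e5, fun h => hyw (e4.trans h.symm)⟩
          · exfalso
            exact m1 ⟨e1, e2, e3, e4⟩
    rw [Finset.coe_insert, Finset.coe_insert, Finset.coe_insert, Finset.coe_singleton]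
    rcases key with h | h | h
    · rw [h]; exact Or.inr (Or.inl rfl)
    · rw [h]; exact Or.inr (Or.inr (Or.inl rfl))
    · rw [h]; exact Or.inr (Or.inr (Or.inr rfl))
  have h1 := Set.ncard_le_ncard hsub (Finset.finite_toSet _)
  rw [Set.ncard_coe_finset] at h1
  have h2 := Finset.card_le_four (a := (1 : G)) (b := K.ε {x, y}) (c := K.ε {x, w}) (d := K.ε {y, w})
  have h3 : Nat.card D = (D : Set G).ncard := rfl
  omega

theorem free [Finite G] (t : G) (htt : t * t = 1) (ht : ∀ v ∈ K.E hex0, t * v * t⁻¹ ∈ K.E hex0) :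
    ∃ y ∈ K.E hex0, IsConj K.z y ∧ t * y = y * t := by
  have h := CocodeFacts.free_of_cocode (isCocode K) (hgen K) (EE K).subtype (Subgroup.subtype_injective _)
    {g | IsConj K.z g} (isConj_iff_sextet K)
    (fun y hy g => IsConj.trans hy (isConj_iff.2 ⟨g, rfl⟩)) t htt
    (by rw [Subgroup.range_subtype]; exact ht)
  rw [Subgroup.range_subtype] at h
  exact h

/-- the key step: an element centralising a duad of `E` and moving a conjugate of `z` in `E` into `N_G(E)`
normalises `E` -/
theorem fuse [Finite G] {p q : GolayPt} (hpq : p ≠ q) {x y : G} (hxu : x * K.ε {p, q} = K.ε {p, q} * x)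
    (hy : y ∈ K.E hex0) (hzy : IsConj K.z y)
    (hxy : x * y * x⁻¹ ∈ Subgroup.normalizer (K.E hex0 : Set G)) :
    x ∈ Subgroup.normalizer (K.E hex0 : Set G) := by
  by_contra hx
  have hex0' := FusionConj.isHex_hex0
  have hE := K.E_elem hex0 hex0'
  set u := K.ε {p, q} with hu
  have huE : u ∈ K.E hex0 := K.ε_mem _ (by rw [Finset.card_pair hpq]; decide)
  have hxu' : x⁻¹ * u * x = u := by
    rw [mul_assoc, ← hxu, inv_mul_cancel_left]
  set F : Subgroup G := (K.E hex0).map (MulAut.conj x).toMonoidHom with hFdef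
  have hF : IsElem2 F := FusionConj.isElem2_conj hE x
  have hmemF : ∀ a, a ∈ F ↔ x⁻¹ * a * x ∈ K.E hex0 := fun a => mem_map_conj
  have huF : u ∈ F := by rw [hmemF, hxu']; exact huE
  set w := x * y * x⁻¹ with hw
  have hwF : w ∈ F := by
    rw [hmemF, hw]
    have : x⁻¹ * (x * y * x⁻¹) * x = y := by group
    rw [this]; exact hy
  have hzw : IsConj K.z w := hzy.trans (isConj_iff.2 ⟨x, rfl⟩)
  have hww : w * w = 1 := hF.1 w hwF
  -- `E ∩ F` contains no conjugate of `z`
  have hfree : ∀ s ∈ K.E hex0 ⊓ F, ¬ IsConj K.z s := by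
    rintro s ⟨hsE, hsF⟩ hzs
    apply hx
    exact uniq K hsE hzs hpq ((hmemF s).1 hsF) (by rw [← hu, hxu']; exact huE)
  have hD := card_le_four K (K.E hex0 ⊓ F) inf_le_left hfree
  -- elements of `E` commuting with `w` normalise `F`
  have hA : ∀ a ∈ K.E hex0, a * w = w * a → ∀ f ∈ F, a * f * a⁻¹ ∈ F := by
    intro a haE haw f hf
    have h1 : x⁻¹ * a * x ∈ Subgroup.normalizer (K.E hex0 : Set G) := by
      apply uniq K hy hzy hpq
      · have h2 : (x⁻¹ * a * x)⁻¹ * y * (x⁻¹ * a * x) = y := by
          have h3 : y = x⁻¹ * w * x := by rw [hw]; group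
          calc (x⁻¹ * a * x)⁻¹ * y * (x⁻¹ * a * x) = x⁻¹ * a⁻¹ * (x * y * x⁻¹) * a * x := by group
            _ = x⁻¹ * a⁻¹ * (w * a) * x := by rw [← hw]; group
            _ = x⁻¹ * w * x := by rw [← haw]; group
            _ = y := h3.symm
        rw [h2]; exact hy
      · have h2 : (x⁻¹ * a * x)⁻¹ * u * (x⁻¹ * a * x) = u := by
          calc (x⁻¹ * a * x)⁻¹ * u * (x⁻¹ * a * x) = x⁻¹ * a⁻¹ * (x * u) * x⁻¹ * a * x := by group
            _ = x⁻¹ * (a⁻¹ * u * a) * x := by rw [hxu]; group
            _ = x⁻¹ * u * x := by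
              rw [mul_assoc a⁻¹, hE.2 u huE a haE, inv_mul_cancel_left]
            _ = u := hxu'
        rw [← hu, h2]; exact huE
    rw [hmemF]
    have h2 := ((Subgroup.mem_normalizer_iff).1 h1 (x⁻¹ * f * x)).1 ((hmemF f).1 hf)
    have h3 : x⁻¹ * a * x * (x⁻¹ * f * x) * (x⁻¹ * a * x)⁻¹ = x⁻¹ * (a * f * a⁻¹) * x := by group
    rwa [h3] at h2
  -- a conjugate of `z` in `C_E(w)`
  have hwN : ∀ v ∈ K.E hex0, w * v * w⁻¹ ∈ K.E hex0 := fun v hv =>
    ((Subgroup.mem_normalizer_iff).1 hxy v).1 hv
  obtain ⟨y2, hy2E, hzy2, hy2w⟩ := free K w hww hwN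
  -- its centraliser in `F` normalises `E`
  have hB : F ⊓ Subgroup.centralizer ({y2} : Set G) ≤
      F ⊓ Subgroup.normalizer (K.E hex0 : Set G) := by
    rintro f ⟨hfF, hf⟩
    refine ⟨hfF, ?_⟩
    replace hf := Subgroup.mem_centralizer_singleton_iff.1 hf
    apply uniq K hy2E hzy2 hpq
    · rw [mul_assoc, ← hf, inv_mul_cancel_left]
      exact hy2E
    · rw [← hu, mul_assoc, hF.2 u huF f hfF, inv_mul_cancel_left]
      exact huE
  have hcardF : Nat.card F = 2 ^ 11 := by
    rw [hFdef, Subgroup.card_map_of_injective (MulAut.conj x).injective, K.E_card hex0 hex0']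
  have hBcard : 45 ≤ Nat.card (F ⊓ Subgroup.normalizer (K.E hex0 : Set G) : Subgroup G) := by
    have h1 := card_le_sq F hF (hE.1 y2 hy2E) (hA y2 hy2E hy2w.symm)
    rw [hcardF] at h1
    have h2 : Nat.card (F ⊓ Subgroup.centralizer ({y2} : Set G) : Subgroup G) ≤
        Nat.card (F ⊓ Subgroup.normalizer (K.E hex0 : Set G) : Subgroup G) :=
      Nat.card_mono (Set.toFinite _) hB
    by_contra hcon
    have h3 : Nat.card (F ⊓ Subgroup.centralizer ({y2} : Set G) : Subgroup G) ≤ 44 := by omega
    have h4 := Nat.pow_le_pow_left h3 2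
    omega
  -- an element of `F ∩ N` acting on `E` neither trivially nor as `w`
  set mN : Subgroup.normalizer (K.E hex0 : Set G) := ⟨w, hxy⟩ with hmN
  obtain ⟨b, hbF, hbN, hb1, hbw⟩ : ∃ b ∈ F, ∃ hbN : b ∈ Subgroup.normalizer (K.E hex0 : Set G),
      K.π ⟨b, hbN⟩ ≠ 1 ∧ K.π ⟨b, hbN⟩ ≠ K.π mN := by
    by_contra hno
    push Not at hno
    have h1 : ∀ b ∈ F ⊓ Subgroup.normalizer (K.E hex0 : Set G),
        b ∈ K.E hex0 ⊓ F ∨ w⁻¹ * b ∈ K.E hex0 ⊓ F := by
      rintro b ⟨hbF, hbN⟩
      by_cases h2 : K.π ⟨b, hbN⟩ = 1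
      · exact Or.inl ⟨(K.π_ker ⟨b, hbN⟩).1 h2, hbF⟩
      · right
        have h3 := hno b hbF hbN h2
        have h4 : K.π (mN⁻¹ * ⟨b, hbN⟩) = 1 := by
          rw [map_mul, map_inv, h3, inv_mul_cancel]
        exact ⟨(K.π_ker _).1 h4, F.mul_mem (F.inv_mem hwF) hbF⟩
    classical
    have h2 : Nat.card (F ⊓ Subgroup.normalizer (K.E hex0 : Set G) : Subgroup G) ≤
        Nat.card ((K.E hex0 ⊓ F : Subgroup G) × Bool) := by
      apply Nat.card_le_card_of_injective
        (fun b : (F ⊓ Subgroup.normalizer (K.E hex0 : Set G) : Subgroup G) =>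
          if h : (b : G) ∈ K.E hex0 ⊓ F then ((⟨b, h⟩ : (K.E hex0 ⊓ F : Subgroup G)), true)
          else ((⟨w⁻¹ * b, (h1 b b.2).resolve_left h⟩ : (K.E hex0 ⊓ F : Subgroup G)), false))
      intro a b hab
      dsimp only at hab
      split_ifs at hab with ha hb hb
      · exact Subtype.ext (congrArg (fun t : (K.E hex0 ⊓ F : Subgroup G) × Bool => (t.1 : G)) hab)
      · exact absurd (congrArg Prod.snd hab) (show ¬ (true = false) by decide)
      · exact absurd (congrArg Prod.snd hab) (show ¬ (false = true) by decide)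
      · have h3 := congrArg (fun t : (K.E hex0 ⊓ F : Subgroup G) × Bool => (t.1 : G)) hab
        exact Subtype.ext (mul_left_cancel h3)
    rw [Nat.card_prod, Nat.card_eq_fintype_card (α := Bool), Fintype.card_bool] at h2
    omega
  set m : Equiv.Perm GolayPt := (K.π mN : Equiv.Perm GolayPt) with hm
  set r : Equiv.Perm GolayPt := (K.π ⟨b, hbN⟩ : Equiv.Perm GolayPt) with hr
  have hbb : b * b = 1 := hF.1 b hbF
  have hmm : m * m = 1 := by
    have h1 : mN * mN = 1 := Subtype.ext hww
    have h2 := congrArg (fun g : M24 => (g : Equiv.Perm GolayPt)) (congrArg K.π h1)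
    rw [map_mul, map_one] at h2
    exact h2
  have hrr : r * r = 1 := by
    have h1 : (⟨b, hbN⟩ : Subgroup.normalizer (K.E hex0 : Set G)) * ⟨b, hbN⟩ = 1 := Subtype.ext hbb
    have h2 := congrArg (fun g : M24 => (g : Equiv.Perm GolayPt)) (congrArg K.π h1)
    rw [map_mul, map_one] at h2
    exact h2
  have hm1 : m ≠ 1 := by
    intro h
    have h1 := (K.π_ker mN).1 (Subtype.ext h)
    exact hfree w ⟨h1, hwF⟩ hzw
  have hr1 : r ≠ 1 := fun h => hb1 (Subtype.ext h)
  have hrm : r ≠ m := fun h => hbw (Subtype.ext h)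
  have hcomm : m * r = r * m := by
    have h1 : mN * ⟨b, hbN⟩ = ⟨b, hbN⟩ * mN := Subtype.ext (hF.2 w hwF b hbF)
    have h2 := congrArg (fun g : M24 => (g : Equiv.Perm GolayPt)) (congrArg K.π h1)
    rw [map_mul, map_mul] at h2
    exact h2
  obtain ⟨S, hSeven, hmS, hS4⟩ := DuadM24.exists_four_set (K.π mN).2 (K.π ⟨b, hbN⟩).2 hmm hm1 hrr hr1 hrm hcomm
  have hrS : Even (r • S).card := by rw [Finset.card_smul_finset]; exact hSeven
  have haE := K.ε_mem S hSeven
  have haw : K.ε S * w = w * K.ε S := by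
    have h1 := K.π_smul mN S hSeven
    have h2 : (K.π mN : Equiv.Perm GolayPt) • S = S := hmS
    rw [h2] at h1
    have h3 : w * K.ε S * w⁻¹ = K.ε S := h1
    exact (mul_inv_eq_iff_eq_mul.1 h3).symm
  have h1 : b * K.ε S * b⁻¹ = K.ε (r • S) := K.π_smul ⟨b, hbN⟩ S hSeven
  have h2 : K.ε (symmDiff S (r • S)) = K.ε S * (b * K.ε S * b⁻¹) := by
    rw [K.ε_mul _ _ hSeven hrS, h1]
  apply hfree (K.ε (symmDiff S (r • S))) _ (isConj_four K hS4)
  refine ⟨K.ε_mem _ (by rw [hS4]; decide), ?_⟩
  have h3 : (K.ε S)⁻¹ = K.ε S := inv_eq_of_mul_eq_one_left (hE.1 _ haE)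
  have h4 : K.ε S * (b * K.ε S * b⁻¹) = (K.ε S * b * (K.ε S)⁻¹) * b⁻¹ := by
    rw [h3]; group
  rw [h2, h4]
  exact F.mul_mem (hA _ haE haw b hbF) (F.inv_mem hbF)

/-- **The centraliser of a duad normalises `E`.** -/
theorem duad_cent [Finite G] {p q : GolayPt} (hpq : p ≠ q) {g : G}
    (hg : g * K.ε {p, q} = K.ε {p, q} * g) : g ∈ Subgroup.normalizer (K.E hex0 : Set G) := by
  have hex0' := FusionConj.isHex_hex0
  have hE := K.E_elem hex0 hex0'
  have huE : K.ε {p, q} ∈ K.E hex0 := K.ε_mem _ (by rw [Finset.card_pair hpq]; decide)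
  have huu := hE.1 _ huE
  have hmem : ∀ s ∈ Subgroup.zpowers (K.ε {p, q}), s = 1 ∨ s = K.ε {p, q} := by
    intro s hs
    rw [Subgroup.mem_zpowers_iff] at hs
    obtain ⟨k, rfl⟩ := hs
    have h2 : K.ε {p, q} ^ (2 : ℤ) = 1 := by
      rw [zpow_ofNat, pow_two]; exact huu
    rcases Int.even_or_odd' k with ⟨j, hj | hj⟩
    · left; rw [hj, zpow_mul, h2, one_zpow]
    · right; rw [hj, zpow_add, zpow_mul, h2, one_zpow, one_mul, zpow_one]
  have hcos := CocodeFacts.cos_of_cocode (isCocode K) (hgen K) (EE K).subtype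
    (Subgroup.subtype_injective _) {g | IsConj K.z g} (isConj_iff_sextet K)
  rw [Subgroup.range_subtype] at hcos
  have h := CentLe.cent_le (Subgroup.normalizer (K.E hex0 : Set G)) (K.E hex0) {g | IsConj K.z g}
    (fun y hy g => IsConj.trans hy (isConj_iff.2 ⟨g, rfl⟩))
    (by
      intro u hu hu1 huZ x hxu y hy hzy hxy
      rcases E_cases K hu with h1 | ⟨i, j, hij, rfl⟩ | ⟨S, hS, rfl⟩
      · exact absurd h1 hu1
      · exact fuse K hij hxu hy hzy hxy
      · exact absurd (isConj_four K hS) huZ)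
    Subgroup.le_normalizer hE.1
    (fun h hh v hv => ((Subgroup.mem_normalizer_iff).1 hh v).1 hv)
    ⟨K.z, K.z_mem_E hex0 hex0', IsConj.refl _⟩ (free K) hcos
    (Subgroup.zpowers (K.ε {p, q})) (by rw [Subgroup.zpowers_le]; exact huE)
    (by rw [Ne, Subgroup.zpowers_eq_bot]; exact duad_ne_one K hpq)
    (by
      intro s hs
      rcases hmem s hs with rfl | rfl
      · exact fun h => z_ne_one K (isConj_one_left.1 h)
      · exact K.duad_not_conj p q hpq)
  apply h
  rw [Subgroup.mem_centralizer_iff]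
  intro s hs
  rcases hmem s hs with rfl | rfl
  · rw [one_mul, mul_one]
  · exact hg.symm

end Cfsg.Agent.J4Type.DuadCent
end
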