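import Mathlib
import Cfsg.Prelude.Def_Transfer
import Cfsg.Prelude.Def_Spor_Mathieu
import Cfsg.Agent.Co2Type.Quad
import Cfsg.Agent.Transfer.Extraspecial
import Cfsg.Agent.SporadicA.MathieuRecog
import Cfsg.Agent.J4Type.Setup
import Cfsg.Agent.J4Type.OuterM22
set_option linter.all false

-- part: J4Type/Base
section
/-!
# J₄ type: the hypotheses and the module `V = Q / ⟨t⟩` (R07, helper856)

`Hyp t Q N M` : the hypotheses of S1646 / S1670 on `C = C_G(t)`.
`Hyp.large : Large (Q.map C.subtype) t` (so `H.large.V`, `H.large.q`, `H.large.b`, `H.large.act`).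
-/

set_option autoImplicit false

namespace Cfsg.Agent.J4Type

open Cfsg.Agent.Co2Type.Quad
open scoped commutatorElement

/-- The hypotheses of S1646 / S1670 on the centraliser of `t`. -/
structure Hyp {G : Type*} [Group G] (t : G)
    (Q N M : Subgroup (Subgroup.centralizer ({t} : Set G))) : Prop where
  ht : orderOf t = 2
  Qn : Q.Normal
  Nn : N.Normal
  Mn : M.Normal
  QN : Q ≤ N
  NM : N ≤ M
  index_M : M.index = 2
  extra : Cfsg.IsExtraspecial 2 Q
  card_Q : Nat.card Q = 2 ^ 13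
  plus : ∃ E : Subgroup Q, Cfsg.IsElementaryAbelian 2 E ∧ Nat.card E = 2 ^ 7
  card_N : Nat.card N = 3 * Nat.card Q
  cent : ⁅M, N⁆ ≤ Q
  perf : M ≤ ⁅M, M⁆ ⊔ Q
  self : Subgroup.centralizer (Q : Set (Subgroup.centralizer ({t} : Set G))) ≤ Q
  out : ∀ c : Subgroup.centralizer ({t} : Set G), (∀ m ∈ M, c * m * c⁻¹ * m⁻¹ ∈ N) → c ∈ M
  pi : ∃ π : M →* Cfsg.Spor.M22, Function.Surjective π ∧
    ∀ m : M, π m = 1 ↔ (m : Subgroup.centralizer ({t} : Set G)) ∈ N

/-- from the hypotheses as stated in S1646 / S1670 -/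
theorem Hyp.of_raw {G : Type*} [Group G] (t : G) (ht : orderOf t = 2)
    (Q N M : Subgroup (Subgroup.centralizer ({t} : Set G))) [Q.Normal] [N.Normal] [M.Normal]
    (hQN : Q ≤ N) (hNM : N ≤ M) (hM : M.index = 2) (hQ : Cfsg.IsExtraspecial 2 Q)
    (hcard : Nat.card Q = 2 ^ 13)
    (hplus : ∃ E : Subgroup Q, Cfsg.IsElementaryAbelian 2 E ∧ Nat.card E = 2 ^ 7)
    (hN : Nat.card N = 3 * Nat.card Q) (hcent : ⁅M, N⁆ ≤ Q) (hperf : M ≤ ⁅M, M⁆ ⊔ Q)
    (h2c : Subgroup.centralizer (Q : Set (Subgroup.centralizer ({t} : Set G))) ≤ Q)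
    (hout : ∀ c : Subgroup.centralizer ({t} : Set G), (∀ m ∈ M, c * m * c⁻¹ * m⁻¹ ∈ N) → c ∈ M)
    (hM22 : Cfsg.Spor.IsoM22 (M ⧸ N.subgroupOf M)) : Hyp t Q N M where
  ht := ht
  Qn := inferInstance
  Nn := inferInstance
  Mn := inferInstance
  QN := hQN
  NM := hNM
  index_M := hM
  extra := hQ
  card_Q := hcard
  plus := hplus
  card_N := hN
  cent := hcent
  perf := hperf
  self := h2c
  out := hout
  pi := by
    obtain ⟨e⟩ := hM22
    refine ⟨e.toMonoidHom.comp (QuotientGroup.mk' (N.subgroupOf M)),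
      e.surjective.comp (QuotientGroup.mk'_surjective _), fun m => ?_⟩
    show e (QuotientGroup.mk' _ m) = 1 ↔ _
    rw [map_eq_one_iff e e.injective]
    exact (QuotientGroup.eq_one_iff m).trans Subgroup.mem_subgroupOf

section

variable {G : Type*} [Group G] {t : G} {Q N M : Subgroup (Subgroup.centralizer ({t} : Set G))}

theorem Hyp.tt (H : Hyp t Q N M) : t * t = 1 := by
  rw [← pow_two, ← H.ht]; exact pow_orderOf_eq_one t

theorem Hyp.t_ne (H : Hyp t Q N M) : t ≠ 1 := by
  intro h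
  have := H.ht
  rw [h, orderOf_one] at this
  exact absurd this (by norm_num)

/-- `t` as an element of its centraliser -/
def tC (t : G) : Subgroup.centralizer ({t} : Set G) := ⟨t, Subgroup.mem_centralizer_singleton_iff.2 rfl⟩

theorem tC_comm (c : Subgroup.centralizer ({t} : Set G)) : c * tC t = tC t * c :=
  Subtype.ext (Subgroup.mem_centralizer_singleton_iff.1 c.2)

theorem Hyp.tC_mem (H : Hyp t Q N M) : tC t ∈ Q := by
  apply H.self
  rw [Subgroup.mem_centralizer_iff]
  intro x _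
  exact tC_comm x

theorem Hyp.tC_ne (H : Hyp t Q N M) : tC t ≠ 1 := fun h => H.t_ne (congrArg Subtype.val h)

theorem Hyp.mem_center (H : Hyp t Q N M) {x : Q} (hx : x ∈ Subgroup.center Q) :
    (x : Subgroup.centralizer ({t} : Set G)) = 1 ∨ (x : Subgroup.centralizer ({t} : Set G)) = tC t := by
  have htz : (⟨tC t, H.tC_mem⟩ : Q) ∈ Subgroup.center Q := by
    rw [Subgroup.mem_center_iff]
    intro y
    exact Subtype.ext (tC_comm (y : Subgroup.centralizer ({t} : Set G)))
  obtain ⟨a, b, hab, huniv⟩ := Nat.card_eq_two_iff.1 H.extra.2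
  have h1 : (⟨⟨tC t, H.tC_mem⟩, htz⟩ : Subgroup.center Q) ≠ 1 := by
    intro h
    exact H.tC_ne (congrArg (fun y : Subgroup.center Q => ((y : Q) : Subgroup.centralizer ({t} : Set G))) h)
  have hall : ∀ y : Subgroup.center Q, y = a ∨ y = b := by
    intro y
    have : y ∈ ({a, b} : Set (Subgroup.center Q)) := by rw [huniv]; trivial
    simpa using this
  have h2 : ∀ y : Subgroup.center Q, y = 1 ∨ y = ⟨⟨tC t, H.tC_mem⟩, htz⟩ := by
    intro y
    rcases hall y with hy | hy <;> rcases hall 1 with h | h <;>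
      rcases hall ⟨⟨tC t, H.tC_mem⟩, htz⟩ with h' | h'
    · left; rw [hy, h]
    · left; rw [hy, h]
    · right; rw [hy, h']
    · exact absurd (h'.trans h.symm) h1
    · exact absurd (h'.trans h.symm) h1
    · right; rw [hy, h']
    · left; rw [hy, h]
    · left; rw [hy, h]
  rcases h2 ⟨x, hx⟩ with h | h
  · left
    exact congrArg (fun y : Subgroup.center Q => ((y : Q) : Subgroup.centralizer ({t} : Set G))) h
  · right
    exact congrArg (fun y : Subgroup.center Q => ((y : Q) : Subgroup.centralizer ({t} : Set G))) h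

theorem Hyp.comm_mem (H : Hyp t Q N M) (x y : Q) : ⁅x, y⁆ ∈ Subgroup.center Q := by
  rw [← H.extra.1.2.2]
  exact Subgroup.commutator_mem_commutator (Subgroup.mem_top x) (Subgroup.mem_top y)

theorem Hyp.sq_mem [Finite G] (H : Hyp t Q N M) (x : Q) : x ^ 2 ∈ Subgroup.center Q := by
  have : Fact (Nat.Prime 2) := ⟨Nat.prime_two⟩
  exact Cfsg.Agent.Transfer.Extraspecial.pow_mem_center H.extra x

theorem Hyp.mem_QG {x : G} :
    x ∈ Q.map (Subgroup.centralizer ({t} : Set G)).subtype ↔
      ∃ h : x ∈ Subgroup.centralizer ({t} : Set G), (⟨x, h⟩ : Subgroup.centralizer ({t} : Set G)) ∈ Q := by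
  constructor
  · rintro ⟨y, hy, rfl⟩
    exact ⟨y.2, hy⟩
  · rintro ⟨h, hx⟩
    exact ⟨_, hx, rfl⟩

/-- the subgroup `Q` of `G` is large extraspecial -/
theorem Hyp.large [Finite G] (H : Hyp t Q N M) :
    Large (Q.map (Subgroup.centralizer ({t} : Set G)).subtype) t where
  z_mem := ⟨tC t, H.tC_mem, rfl⟩
  z_ne := H.t_ne
  z_sq := H.tt
  comm_z := by
    rintro _ ⟨x, _, rfl⟩
    exact Subgroup.mem_centralizer_singleton_iff.1 x.2
  conj_mem := by
    rintro g hg _ ⟨x, hx, rfl⟩
    have := H.Qn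
    exact ⟨_, this.conj_mem x hx ⟨g, Subgroup.mem_centralizer_singleton_iff.2 hg⟩, rfl⟩
  sq := by
    rintro _ ⟨x, hx, rfl⟩
    have h := H.mem_center (H.sq_mem ⟨x, hx⟩)
    rw [Subgroup.coe_pow, pow_two] at h
    rcases h with h | h
    · left; exact congrArg Subtype.val h
    · right; exact congrArg Subtype.val h
  comm := by
    rintro _ ⟨x, hx, rfl⟩ _ ⟨y, hy, rfl⟩
    have h := H.mem_center (H.comm_mem ⟨y, hy⟩ ⟨x, hx⟩)
    have hyx : ((⁅(⟨y, hy⟩ : Q), ⟨x, hx⟩⁆ : Q) : Subgroup.centralizer ({t} : Set G)) = y * x * y⁻¹ * x⁻¹ := rfl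
    rw [hyx] at h
    show ((x * y : Subgroup.centralizer ({t} : Set G)) : G) = ((y * x : Subgroup.centralizer ({t} : Set G)) : G) ∨
      ((x * y : Subgroup.centralizer ({t} : Set G)) : G) = ((y * x * tC t : Subgroup.centralizer ({t} : Set G)) : G)
    rcases h with h | h
    · left
      rw [mul_inv_eq_one, mul_inv_eq_iff_eq_mul] at h
      rw [h]
    · right
      rw [mul_inv_eq_iff_eq_mul, mul_inv_eq_iff_eq_mul] at h
      have h2 : tC t * tC t = 1 := Subtype.ext H.tt
      have h3 : x * y = y * x * tC t := by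
        rw [h, tC_comm, ← mul_assoc, ← mul_assoc, h2, one_mul]
      rw [← h3]
  cent := by
    rintro _ ⟨x, hx, rfl⟩ h
    have hc : (⟨x, hx⟩ : Q) ∈ Subgroup.center Q := by
      rw [Subgroup.mem_center_iff]
      intro y
      apply Subtype.ext
      apply Subtype.ext
      exact (h _ ⟨y, y.2, rfl⟩).symm
    rcases H.mem_center hc with h1 | h1
    · left; exact congrArg Subtype.val h1
    · right; exact congrArg Subtype.val h1
  self := by
    intro g hg h
    refine ⟨⟨g, Subgroup.mem_centralizer_singleton_iff.2 hg⟩, H.self ?_, rfl⟩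
    rw [Subgroup.mem_centralizer_iff]
    intro x hx
    exact Subtype.ext (h _ ⟨x, hx, rfl⟩).symm

theorem Hyp.card_QG (H : Hyp t Q N M) :
    Nat.card (Q.map (Subgroup.centralizer ({t} : Set G)).subtype) = 2 ^ 13 := by
  rw [← H.card_Q]
  exact Nat.card_congr (Q.equivMapOfInjective _ (Subgroup.subtype_injective _)).toEquiv.symm

theorem Hyp.card_V [Finite G] (H : Hyp t Q N M) : Nat.card H.large.V = 2 ^ 12 := by
  have h := H.large.card_eq
  rw [H.card_QG] at h
  omega

/-- the kernel of the action on `V` is `Q` -/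
theorem Hyp.act_eq_one [Finite G] (H : Hyp t Q N M) {c : Subgroup.centralizer ({t} : Set G)} :
    H.large.act c = 1 ↔ c ∈ Q := by
  constructor
  · intro h
    obtain ⟨h1, h2⟩ := Hyp.mem_QG.1 (H.large.mem_of_act c h)
    exact h2
  · intro h
    exact H.large.act_mem c ⟨c, h, rfl⟩

theorem Hyp.act_eq_act [Finite G] (H : Hyp t Q N M) {c d : Subgroup.centralizer ({t} : Set G)} :
    H.large.act c = H.large.act d ↔ d⁻¹ * c ∈ Q := by
  rw [← H.act_eq_one, map_mul, map_inv, inv_mul_eq_one, eq_comm]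

/-- `M` centralises `N` modulo `Q` -/
theorem Hyp.act_comm [Finite G] (H : Hyp t Q N M) {m n : Subgroup.centralizer ({t} : Set G)}
    (hm : m ∈ M) (hn : n ∈ N) : H.large.act m * H.large.act n = H.large.act n * H.large.act m := by
  rw [← map_mul, ← map_mul, H.act_eq_act]
  have h1 : ⁅m⁻¹, n⁻¹⁆ ∈ Q :=
    H.cent (Subgroup.commutator_mem_commutator (inv_mem hm) (inv_mem hn))
  have h2 : (n * m)⁻¹ * (m * n) = ⁅m⁻¹, n⁻¹⁆ := by
    rw [commutatorElement_def]; group
  rw [h2]
  exact h1

end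

end Cfsg.Agent.J4Type
end

-- part: J4Type/Count
section
/-!
# Counting in quadratic spaces over `F₂` (J₄ type, helper856)

* `gauss_sq` : `(∑ (-1)^{q v})² = |V|` for a nondegenerate quadratic form;
* `prime_dvd_card` : a map of prime order without fixed points;
* `no_seven` : a quadratic space with commuting isometries of orders `3`, `7`, such that the one of order `3` has
  non-zero fixed vectors and the one of order 7 acts non-trivially on its commutator, has more than `2^12` elements.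
-/

set_option autoImplicit false

namespace Cfsg.Agent.J4Type.Count

/-- the sign of an element of `F₂` -/
def sgn (a : ZMod 2) : ℤ := if a = 0 then 1 else -1

theorem sgn_add : ∀ a b : ZMod 2, sgn (a + b) = sgn a * sgn b := by decide

theorem sgn_one : sgn 1 = -1 := by decide

theorem sgn_zero : sgn 0 = 1 := by decide

section

variable {V : Type*} [AddCommGroup V]

theorem gauss_sq [Fintype V] (q : V → ZMod 2) (b : V → V → ZMod 2)
    (hq : ∀ v w, q (v + w) = q v + q w + b v w)
    (hb : ∀ u v w, b (u + v) w = b u w + b v w)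
    (hnd : ∀ u, u ≠ 0 → ∃ v, b v u ≠ 0) : (∑ v, sgn (q v)) ^ 2 = Fintype.card V := by
  classical
  have h2 : ∀ a : ZMod 2, a + a = 0 := by decide
  have hb0 : ∀ w, b 0 w = 0 := by
    intro w
    have := hb 0 0 w
    rw [add_zero] at this
    exact (left_eq_add.1 this)
  have hq0 : q 0 = 0 := by
    have := hq 0 0
    rw [add_zero, hb0, h2, zero_add] at this
    exact this
  have hb0' : ∀ v, b v 0 = 0 := by
    intro v
    have := hq v 0
    rw [add_zero, hq0, add_zero] at this
    exact left_eq_add.1 this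
  have h1 : (∑ v, sgn (q v)) ^ 2 = ∑ v, ∑ u, sgn (q v) * sgn (q (v + u)) := by
    rw [sq, Finset.sum_mul_sum]
    refine Finset.sum_congr rfl fun v _ => ?_
    exact (Equiv.sum_comp (Equiv.addLeft v) (fun w => sgn (q v) * sgn (q w))).symm
  have h3 : ∀ v u, sgn (q v) * sgn (q (v + u)) = sgn (q u) * sgn (b v u) := by
    intro v u
    rw [← sgn_add, ← sgn_add, hq]
    congr 1
    rw [add_assoc, ← add_assoc, h2, zero_add]
  rw [h1, Finset.sum_comm]
  have h4 : ∀ u, ∑ v, sgn (q v) * sgn (q (v + u)) = if u = 0 then (Fintype.card V : ℤ) else 0 := by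
    intro u
    have h5 : ∑ v, sgn (q v) * sgn (q (v + u)) = sgn (q u) * ∑ v, sgn (b v u) := by
      rw [Finset.mul_sum]
      exact Finset.sum_congr rfl fun v _ => h3 v u
    rw [h5]
    split_ifs with hu
    · rw [hu, hq0, sgn_zero, one_mul]
      simp [hb0', sgn_zero]
    · obtain ⟨v0, hv0⟩ := hnd u hu
      have h01 : ∀ a : ZMod 2, a ≠ 0 → a = 1 := by decide
      have h6 : ∑ v, sgn (b v u) = -∑ v, sgn (b v u) := by
        conv_lhs => rw [← Equiv.sum_comp (Equiv.addRight v0)]
        rw [← Finset.sum_neg_distrib]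
        refine Finset.sum_congr rfl fun v _ => ?_
        show sgn (b (v + v0) u) = _
        rw [hb, h01 _ hv0, sgn_add, sgn_one, mul_neg_one]
      have h7 : ∑ v, sgn (b v u) = 0 := by omega
      rw [h7, mul_zero]
  rw [Finset.sum_congr rfl fun u _ => h4 u]
  simp

end

theorem prime_dvd_card {α : Type*} [Finite α] (σ : α → α) (p : ℕ) [hp : Fact p.Prime]
    (hσ : ∀ a, σ^[p] a = a) (hfix : ∀ a, σ a ≠ a) : p ∣ Nat.card α := by
  classical
  have := Fintype.ofFinite α
  have h := Equiv.Perm.card_fixedPoints_modEq (α := α) (f := (σ : Function.End α)) (p := p) (n := 1) (by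
    rw [pow_one]
    funext a
    let f : Function.End α := σ
    have : ∀ (n : ℕ) (a : α), (f ^ n) a = σ^[n] a := by
      intro n
      induction n with
      | zero => intro a; rfl
      | succ n ih => intro a; rw [pow_succ]; exact ih (σ a)
    exact (this p a).trans (hσ a))
  have h0 : Fintype.card (Function.fixedPoints σ) = 0 := by
    rw [Fintype.card_eq_zero_iff]
    exact ⟨fun a => hfix a a.2⟩
  rw [Nat.card_eq_fintype_card]
  have h' : Fintype.card α ≡ 0 [MOD p] := by
    have h2 : Fintype.card (Function.fixedPoints (σ : Function.End α)) = 0 := by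
      convert h0
    rw [h2] at h
    exact h
  exact (Nat.modEq_zero_iff_dvd).1 h'

section

variable {V : Type*} [AddCommGroup V] [Finite V]

omit [AddCommGroup V] in
/-- a set stable under maps of orders 3 and 7 without fixed points has a multiple of 21 elements -/
theorem dvd_twentyone (P : V → Prop) (R F : V → V)
    (hR : ∀ v, R (R (R v)) = v) (hF : ∀ v, F^[7] v = v)
    (hPR : ∀ v, P v → P (R v)) (hPF : ∀ v, P v → P (F v))
    (hR' : ∀ v, P v → R v ≠ v) (hF' : ∀ v, P v → F v ≠ v) :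
    21 ∣ Nat.card {v : V // P v} := by
  have h3 : 3 ∣ Nat.card {v : V // P v} := by
    have : Fact (Nat.Prime 3) := ⟨Nat.prime_three⟩
    refine prime_dvd_card (fun v => ⟨R v, hPR v v.2⟩) 3 ?_ ?_
    · intro v
      exact Subtype.ext (hR v)
    · intro v h
      exact hR' v v.2 (congrArg Subtype.val h)
  have h7 : 7 ∣ Nat.card {v : V // P v} := by
    have : Fact (Nat.Prime 7) := ⟨by norm_num⟩
    refine prime_dvd_card (fun v => ⟨F v, hPF v v.2⟩) 7 ?_ ?_
    · intro v
      apply Subtype.ext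
      have : ∀ (n : ℕ) (w : {v : V // P v}),
          (((fun v : {v : V // P v} => (⟨F v, hPF v v.2⟩ : {v : V // P v}))^[n] w : {v : V // P v}) : V)
            = F^[n] w := by
        intro n
        induction n with
        | zero => intro w; rfl
        | succ n ih => intro w; rw [Function.iterate_succ_apply, ih]; rfl
      rw [this]
      exact hF v
    · intro v h
      exact hF' v v.2 (congrArg Subtype.val h)
  exact Nat.Coprime.mul_dvd_of_dvd_of_dvd (by norm_num) h3 h7

/-- no quadratic space of `2^k` elements, `1 < 2^k < 2^12`, with fixed-point-free isometries of orders 3 and 7 that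
generate a group all of whose non-trivial elements are fixed point free -/
theorem no_space (q : V → ZMod 2) (b : V → V → ZMod 2)
    (hq : ∀ v w, q (v + w) = q v + q w + b v w)
    (hb : ∀ u v w, b (u + v) w = b u w + b v w)
    (hnd : ∀ u, u ≠ 0 → ∃ v, b v u ≠ 0)
    (R F : V → V) (hR : ∀ v, R (R (R v)) = v) (hF : ∀ v, F^[7] v = v)
    (hqR : ∀ v, q (R v) = q v) (hqF : ∀ v, q (F v) = q v)
    (hR' : ∀ v, R v = v → v = 0) (hF' : ∀ v, F v = v → v = 0)
    (hR0 : R 0 = 0) (hF0 : F 0 = 0)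
    (k : ℕ) (hk0 : 0 < k) (hk : k < 12) (hcard : Nat.card V = 2 ^ k) : False := by
  classical
  have := Fintype.ofFinite V
  have hR1 : ∀ v, v ≠ 0 → R v ≠ 0 := by
    intro v hv h
    apply hv
    rw [← hR v, h, hR0, hR0]
  have hF1 : ∀ v, v ≠ 0 → F v ≠ 0 := by
    intro v hv h
    apply hv
    rw [← hF v, show (7 : ℕ) = 6 + 1 from rfl, Function.iterate_succ_apply, h]
    simp [hF0]
  have hA : 21 ∣ Nat.card {v : V // v ≠ 0} :=
    dvd_twentyone (fun v => v ≠ 0) R F hR hF hR1 hF1 (fun v hv h => hv (hR' v h)) (fun v hv h => hv (hF' v h))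
  have hB : 21 ∣ Nat.card {v : V // v ≠ 0 ∧ q v = 0} :=
    dvd_twentyone (fun v => v ≠ 0 ∧ q v = 0) R F hR hF
      (fun v hv => ⟨hR1 v hv.1, by rw [hqR, hv.2]⟩) (fun v hv => ⟨hF1 v hv.1, by rw [hqF, hv.2]⟩)
      (fun v hv h => hv.1 (hR' v h)) (fun v hv h => hv.1 (hF' v h))
  have hA' : Nat.card {v : V // v ≠ 0} + 1 = 2 ^ k := by
    rw [← hcard, Nat.card_eq_fintype_card, Nat.card_eq_fintype_card, Fintype.card_subtype_compl,
      Fintype.card_subtype_eq]
    have : 0 < Fintype.card V := Fintype.card_pos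
    omega
  have hk6 : k = 6 := by
    obtain ⟨m, hm⟩ := hA
    rw [hm] at hA'
    interval_cases k <;> omega
  subst hk6
  have h2 : ∀ a : ZMod 2, a + a = 0 := by decide
  have hb0 : ∀ w, b 0 w = 0 := by
    intro w
    have := hb 0 0 w
    rw [add_zero] at this
    exact (left_eq_add.1 this)
  have hq0 : q 0 = 0 := by
    have := hq 0 0
    rw [add_zero, hb0, h2, zero_add] at this
    exact this
  have hS := gauss_sq q b hq hb hnd
  have hcardV : Fintype.card V = 64 := by
    rw [← Nat.card_eq_fintype_card, hcard]; norm_num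
  have hZ : Nat.card {v : V // v ≠ 0 ∧ q v = 0} + 1 = (Finset.univ.filter fun v : V => q v = 0).card := by
    have h0 : (0 : V) ∈ Finset.univ.filter fun v : V => q v = 0 := by simp [hq0]
    rw [Nat.card_eq_fintype_card, Fintype.card_subtype, ← Finset.card_erase_add_one h0]
    congr 2
    ext v
    simp
  have hsum : ∑ v, sgn (q v) = 2 * ((Finset.univ.filter fun v : V => q v = 0).card : ℤ) - 64 := by
    have h5 : ∀ v, sgn (q v) = 2 * (if q v = 0 then 1 else 0) - 1 := by
      intro v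
      unfold sgn
      split_ifs <;> norm_num
    rw [Finset.sum_congr rfl fun v _ => h5 v, Finset.sum_sub_distrib, ← Finset.mul_sum,
      Finset.sum_boole]
    simp [hcardV]
  obtain ⟨m, hm⟩ := hB
  rw [hm] at hZ
  rw [hsum, ← hZ, hcardV] at hS
  push_cast at hS
  have hm' : (m : ℤ) < 4 := by nlinarith
  have hm0 : (0 : ℤ) ≤ m := by positivity
  have : m < 4 := by exact_mod_cast hm'
  interval_cases m <;> norm_num at hS

end

end Cfsg.Agent.J4Type.Count
end

-- part: J4Type/NormMap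
section
/-!
# Norm maps on an `F₂`-space; `no_fix` (R07, J₄ type, helper856)
-/

set_option autoImplicit false

namespace Cfsg.Agent.J4Type.NormMap

section

variable {V : Type*} [AddCommGroup V] [Module (ZMod 2) V]

/-- `S T n v = v + T v + ⋯ + T^(n-1) v` -/
def S (T : V ≃ₗ[ZMod 2] V) (n : ℕ) (v : V) : V := ∑ i ∈ Finset.range n, (T ^ i) v

theorem S_add (T : V ≃ₗ[ZMod 2] V) (n : ℕ) (v w : V) : S T n (v + w) = S T n v + S T n w := by
  simp [S, Finset.sum_add_distrib]

theorem S_zero (T : V ≃ₗ[ZMod 2] V) (n : ℕ) : S T n 0 = 0 := by simp [S]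

theorem two_smul' (v : V) : v + v = 0 := by
  have h : (2 : ZMod 2) • v = v + v := two_smul _ v
  rw [← h, show (2 : ZMod 2) = 0 from rfl, zero_smul]

theorem odd_smul {n : ℕ} (hn : Odd n) (v : V) : n • v = v := by
  obtain ⟨k, rfl⟩ := hn
  rw [add_smul, one_smul, mul_comm, mul_smul, two_smul, two_smul', smul_zero, zero_add]

theorem S_comm (T A : V ≃ₗ[ZMod 2] V) (n : ℕ) (h : A * T = T * A) (v : V) :
    S T n (A v) = A (S T n v) := by
  rw [S, S, map_sum]
  refine Finset.sum_congr rfl fun i _ => ?_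
  have h1 : Commute A (T ^ i) := Commute.pow_right h i
  exact (LinearEquiv.congr_fun h1.eq v).symm

theorem T_S (T : V ≃ₗ[ZMod 2] V) (n : ℕ) (hT : T ^ n = 1) (v : V) : T (S T n v) = S T n v := by
  rw [S, map_sum]
  have h1 : ∀ i, T ((T ^ i) v) = (T ^ (i + 1)) v := by
    intro i; rw [pow_succ']; rfl
  rw [Finset.sum_congr rfl fun i _ => h1 i]
  have h2 := Finset.sum_range_succ (fun i => (T ^ i) v) n
  rw [Finset.sum_range_succ'] at h2
  have h3 : (T ^ n) v = (T ^ 0) v := by rw [hT, pow_zero]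
  rw [h3] at h2
  exact add_right_cancel h2

theorem S_T (T : V ≃ₗ[ZMod 2] V) (n : ℕ) (hT : T ^ n = 1) (v : V) : S T n (T v) = S T n v := by
  rw [S_comm T T n rfl, T_S T n hT]

theorem S_of_fix (T : V ≃ₗ[ZMod 2] V) (n : ℕ) (hn : Odd n) {v : V} (hv : T v = v) : S T n v = v := by
  have h1 : ∀ i, (T ^ i) v = v := by
    intro i
    induction i with
    | zero => rfl
    | succ i ih => rw [pow_succ]; show (T ^ i) (T v) = v; rw [hv, ih]
  rw [S, Finset.sum_congr rfl fun i _ => h1 i, Finset.sum_const, Finset.card_range, odd_smul hn]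

theorem eq_zero_of_fix (T : V ≃ₗ[ZMod 2] V) (n : ℕ) (hn : Odd n) {v : V} (hv : T v = v)
    (hS : S T n v = 0) : v = 0 := by
  rw [← S_of_fix T n hn hv]; exact hS

theorem S_sub (T : V ≃ₗ[ZMod 2] V) (n : ℕ) (hT : T ^ n = 1) (v : V) : S T n (T v + v) = 0 := by
  rw [S_add, S_T T n hT, two_smul']

/-- projection onto the kernel of `S T n` -/
def pj (T : V ≃ₗ[ZMod 2] V) (n : ℕ) (v : V) : V := S T⁻¹ n v + v

theorem pj_zero (T : V ≃ₗ[ZMod 2] V) (n : ℕ) : pj T n 0 = 0 := by simp [pj, S_zero]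

theorem pj_comm (T A : V ≃ₗ[ZMod 2] V) (n : ℕ) (h : A * T = T * A) (v : V) :
    pj T n (A v) = A (pj T n v) := by
  have h1 : Commute A T⁻¹ := (show Commute A T from h).inv_right
  rw [pj, pj, S_comm T⁻¹ A n h1.eq, map_add]

theorem S_pj (T : V ≃ₗ[ZMod 2] V) (n : ℕ) (hn : Odd n) (hT : T ^ n = 1) (v : V) :
    S T n (pj T n v) = 0 := by
  have h1 : ∀ i : ℕ, S T n (((T⁻¹) ^ i) v) = S T n v := by
    intro i
    induction i generalizing v with
    | zero => rfl
    | succ i ih =>
      rw [pow_succ]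
      show S T n (((T⁻¹) ^ i) (T⁻¹ v)) = _
      rw [ih, ← S_T T n hT (T⁻¹ v)]
      congr 1
      show (T * T⁻¹) v = v
      rw [mul_inv_cancel]; rfl
  have h2 : S T n (S T⁻¹ n v) = S T n v := by
    have h3 : S T n (∑ i ∈ Finset.range n, ((T⁻¹) ^ i) v) = ∑ i ∈ Finset.range n, S T n (((T⁻¹) ^ i) v) := by
      have h4 : ∀ s : Finset ℕ, S T n (∑ i ∈ s, ((T⁻¹) ^ i) v) = ∑ i ∈ s, S T n (((T⁻¹) ^ i) v) := by
        intro s
        induction s using Finset.induction_on with
        | empty => simp [S_zero]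
        | insert a s ha ih => rw [Finset.sum_insert ha, Finset.sum_insert ha, S_add, ih]
      exact h4 _
    rw [show S T⁻¹ n v = ∑ i ∈ Finset.range n, ((T⁻¹) ^ i) v from rfl, h3,
      Finset.sum_congr rfl fun i _ => h1 i, Finset.sum_const, Finset.card_range, odd_smul hn]
  rw [pj, S_add, h2, two_smul']

theorem b_pj (b : V → V → ZMod 2) (hb : ∀ u v w, b (u + v) w = b u w + b v w)
    (hb' : ∀ u v w, b u (v + w) = b u v + b u w) (T : V ≃ₗ[ZMod 2] V) (n : ℕ)
    (hT : ∀ v w, b (T v) (T w) = b v w) (v u : V) (hu : S T n u = 0) : b (pj T n v) u = b v u := by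
  have h1 : ∀ i : ℕ, ∀ x y, b (((T⁻¹) ^ i) x) y = b x ((T ^ i) y) := by
    intro i
    induction i with
    | zero => intro x y; rfl
    | succ i ih =>
      intro x y
      rw [pow_succ, pow_succ']
      show b (((T⁻¹) ^ i) (T⁻¹ x)) y = b x (T ((T ^ i) y))
      rw [ih, ← hT]
      congr 1
      show (T * T⁻¹) x = x
      rw [mul_inv_cancel]; rfl
  have hb0 : ∀ w, b 0 w = 0 := by
    intro w
    have := hb 0 0 w
    rw [add_zero] at this
    exact (left_eq_add.1 this)
  have hb0' : ∀ w, b w 0 = 0 := by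
    intro w
    have := hb' w 0 0
    rw [add_zero] at this
    exact (left_eq_add.1 this)
  have h2 : b (S T⁻¹ n v) u = b v (S T n u) := by
    have h3 : ∀ s : Finset ℕ, b (∑ i ∈ s, ((T⁻¹) ^ i) v) u = b v (∑ i ∈ s, (T ^ i) u) := by
      intro s
      induction s using Finset.induction_on with
      | empty => simp [hb0, hb0']
      | insert a s ha ih => rw [Finset.sum_insert ha, Finset.sum_insert ha, hb, hb', ih, h1]
    exact h3 _
  rw [pj, hb, h2, hu, hb0', zero_add]

/-- The subspace killed by two norm maps. -/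
def U (T F : V ≃ₗ[ZMod 2] V) (m n : ℕ) : Submodule (ZMod 2) V where
  carrier := {v | S T m v = 0 ∧ S F n v = 0}
  add_mem' := by
    rintro a b ⟨h1, h2⟩ ⟨h3, h4⟩
    exact ⟨by rw [S_add, h1, h3, add_zero], by rw [S_add, h2, h4, add_zero]⟩
  zero_mem' := ⟨S_zero T m, S_zero F n⟩
  smul_mem' := by
    rintro c a ⟨h1, h2⟩
    have hc : ∀ c : ZMod 2, c = 0 ∨ c = 1 := by decide
    rcases hc c with rfl | rfl
    · rw [zero_smul]; exact ⟨S_zero T m, S_zero F n⟩
    · rw [one_smul]; exact ⟨h1, h2⟩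

/-- A nondegenerate quadratic space over `F₂` of dimension at most 12 with commuting isometries `T`, `F` of orders 3
and 7, with `T` having a non-zero fixed vector and `F` acting non-trivially on `[V, T]`: impossible. -/
theorem no_fix [Finite V] (q : V → ZMod 2) (b : V → V → ZMod 2)
    (hq : ∀ v w, q (v + w) = q v + q w + b v w)
    (hb : ∀ u v w, b (u + v) w = b u w + b v w)
    (hb' : ∀ u v w, b u (v + w) = b u v + b u w)
    (hnd : ∀ u, u ≠ 0 → ∃ v, b v u ≠ 0) (T F : V ≃ₗ[ZMod 2] V)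
    (hT : T ^ 3 = 1) (hF : F ^ 7 = 1) (hTF : F * T = T * F)
    (hqT : ∀ v, q (T v) = q v) (hqF : ∀ v, q (F v) = q v)
    (hcard : Nat.card V = 2 ^ 12) (v₀ : V) (hv₀ : v₀ ≠ 0) (hTv : T v₀ = v₀)
    (v₁ : V) (hv₁ : S T 3 v₁ = 0) (hFv : F v₁ ≠ v₁) : False := by
  classical
  have h3 : Odd 3 := by decide
  have h7 : Odd 7 := by decide
  have hbT : ∀ v w, b (T v) (T w) = b v w := by
    intro v w
    have h1 := hq v w
    have h2 := hq (T v) (T w)
    rw [← map_add, hqT, hqT, hqT, h1] at h2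
    exact (add_left_cancel h2).symm
  have hbF : ∀ v w, b (F v) (F w) = b v w := by
    intro v w
    have h1 := hq v w
    have h2 := hq (F v) (F w)
    rw [← map_add, hqF, hqF, hqF, h1] at h2
    exact (add_left_cancel h2).symm
  set W := U T F 3 7 with hW
  have hWT : ∀ v, v ∈ W → T v ∈ W := by
    rintro v ⟨h1, h2⟩
    exact ⟨by rw [S_T T 3 hT, h1], by rw [S_comm F T 7 hTF.symm, h2, map_zero]⟩
  have hWF : ∀ v, v ∈ W → F v ∈ W := by
    rintro v ⟨h1, h2⟩
    exact ⟨by rw [S_comm T F 3 hTF, h1, map_zero], by rw [S_T F 7 hF, h2]⟩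
  have hTT : ∀ v, T (T (T v)) = v := by
    intro v
    have := LinearEquiv.congr_fun hT v
    rw [pow_succ, pow_succ, pow_one] at this
    exact this
  have hFF : ∀ v, F^[7] v = v := by
    intro v
    have := LinearEquiv.congr_fun hF v
    have h : ∀ (n : ℕ) (w : V), F^[n] w = (F ^ n) w := by
      intro n
      induction n with
      | zero => intro w; rfl
      | succ n ih => intro w; rw [Function.iterate_succ_apply, ih, pow_succ]; rfl
    rw [h]; exact this
  have hmem : F v₁ + v₁ ∈ W :=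
    ⟨by rw [S_add, S_comm T F 3 hTF, hv₁, map_zero, add_zero], S_sub F 7 hF v₁⟩
  have hne : F v₁ + v₁ ≠ 0 := by
    intro h
    apply hFv
    rw [← add_right_cancel_iff (a := v₁), h, two_smul']
  have hfin : Module.Finite (ZMod 2) V := Module.Finite.of_finite
  have hWtop : W ≠ ⊤ := by
    intro h
    have : v₀ ∈ W := by rw [h]; trivial
    exact hv₀ (eq_zero_of_fix T 3 h3 hTv this.1)
  have hcardW : Nat.card W = 2 ^ Module.finrank (ZMod 2) W := by
    have := Module.natCard_eq_pow_finrank (K := ZMod 2) (V := W)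
    rw [this, Nat.card_zmod]
  have hfr : Module.finrank (ZMod 2) V = 12 := by
    have := Module.natCard_eq_pow_finrank (K := ZMod 2) (V := V)
    rw [hcard, Nat.card_zmod] at this
    exact (Nat.pow_right_injective le_rfl this).symm
  have hlt : Module.finrank (ZMod 2) W < 12 := by
    rw [← hfr]; exact Submodule.finrank_lt (lt_top_iff_ne_top.2 hWtop).ne
  have hpos : 0 < Module.finrank (ZMod 2) W := by
    rw [Nat.pos_iff_ne_zero]
    intro h0
    have : W = ⊥ := Submodule.finrank_eq_zero.1 h0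
    rw [this] at hmem
    exact hne ((Submodule.mem_bot _).1 hmem)
  refine Count.no_space (V := W) (fun v => q v) (fun v w => b v w) (fun v w => hq v w)
    (fun u v w => hb u v w) ?_ (fun v => ⟨T v, hWT v v.2⟩) (fun v => ⟨F v, hWF v v.2⟩)
    (fun v => Subtype.ext (hTT v)) ?_ (fun v => hqT v) (fun v => hqF v) ?_ ?_
    (Subtype.ext (map_zero T)) (Subtype.ext (map_zero F)) _ hpos hlt hcardW
  · intro u hu
    obtain ⟨w, hw⟩ := hnd u (fun h => hu (Subtype.ext h))
    refine ⟨⟨pj T 3 (pj F 7 w), ?_, ?_⟩, ?_⟩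
    · exact S_pj T 3 h3 hT _
    · have h1 : S F 7 (pj T 3 (pj F 7 w)) = pj T 3 (S F 7 (pj F 7 w)) := by
        have hc : Commute T⁻¹ F := (show Commute T F from hTF.symm).inv_left
        rw [pj, S_add]
        congr 1
        · rw [S, S]
          have h4 : ∀ s : Finset ℕ, S F 7 (∑ i ∈ s, ((T⁻¹) ^ i) (pj F 7 w))
              = ∑ i ∈ s, ((T⁻¹) ^ i) (S F 7 (pj F 7 w)) := by
            intro s
            induction s using Finset.induction_on with
            | empty => simp [S_zero]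
            | insert a s ha ih =>
              rw [Finset.sum_insert ha, Finset.sum_insert ha, S_add, ih, S_comm F _ 7 (hc.pow_left a).eq]
          exact h4 _
      rw [h1, S_pj F 7 h7 hF, pj_zero]
    · show b (pj T 3 (pj F 7 w)) u ≠ 0
      rw [b_pj b hb hb' T 3 hbT _ _ u.2.1, b_pj b hb hb' F 7 hbF _ _ u.2.2]
      exact hw
  · intro v
    apply Subtype.ext
    have : ∀ (n : ℕ) (w : W), (((fun v : W => (⟨F v, hWF v v.2⟩ : W))^[n] w : W) : V) = F^[n] w := by
      intro n
      induction n with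
      | zero => intro w; rfl
      | succ n ih => intro w; rw [Function.iterate_succ_apply, ih]; rfl
    rw [this]
    exact hFF v
  · intro v hv
    exact Subtype.ext (eq_zero_of_fix T 3 h3 (congrArg Subtype.val hv) v.2.1)
  · intro v hv
    exact Subtype.ext (eq_zero_of_fix F 7 h7 (congrArg Subtype.val hv) v.2.2)

end

end Cfsg.Agent.J4Type.NormMap
end

-- part: J4Type/Rho
section
/-!
# J₄ type: the element `ρ` of order 3 (R07, helper856)

* `Hyp.exists_r` : `r ∈ N`, `r ∉ Q`, `r ^ 3 = 1`;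
* `Hyp.act_N` : the action of `N` on `V` is `{1, ρ, ρ²}`;
* `Hyp.act_M_comm`: `act (⁅M, M⁆) = act M` (perfectness of the image `Y` of `M`);
* `Hyp.rho_free` : `ρ v = v → v = 0`, `Hyp.rho_sum` : `v + ρ v + ρ² v = 0`.
-/

set_option autoImplicit false

namespace Cfsg.Agent.J4Type

open Cfsg.Agent.Co2Type.Quad NormMap
open scoped commutatorElement

section

variable {G : Type*} [Group G] [Finite G] {t : G} {Q N M : Subgroup (Subgroup.centralizer ({t} : Set G))}

theorem Hyp.exists_r (H : Hyp t Q N M) :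
    ∃ r : Subgroup.centralizer ({t} : Set G), r ∈ N ∧ r ∉ Q ∧ r ^ 3 = 1 := by
  have : Fact (Nat.Prime 3) := ⟨Nat.prime_three⟩
  obtain ⟨r, hr⟩ := exists_prime_orderOf_dvd_card' (G := N) 3 (by rw [H.card_N]; exact dvd_mul_right _ _)
  refine ⟨r, r.2, ?_, ?_⟩
  · intro h
    have h1 : orderOf (⟨(r : Subgroup.centralizer ({t} : Set G)), h⟩ : Q) = 3 := by
      rw [Subgroup.orderOf_mk, Subgroup.orderOf_coe, hr]
    have h2 := orderOf_dvd_natCard (⟨(r : Subgroup.centralizer ({t} : Set G)), h⟩ : Q)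
    rw [h1, H.card_Q] at h2
    have := (Nat.prime_dvd_prime_iff_eq Nat.prime_three Nat.prime_two).1 (Nat.prime_three.dvd_of_dvd_pow h2)
    omega
  · have h1 := pow_orderOf_eq_one r
    rw [hr] at h1
    exact congrArg Subtype.val h1

/-- `r` generates `N` modulo `Q` -/
theorem Hyp.act_N (H : Hyp t Q N M) {r : Subgroup.centralizer ({t} : Set G)} (hr : r ∈ N) (hrQ : r ∉ Q)
    (hr3 : r ^ 3 = 1) {n : Subgroup.centralizer ({t} : Set G)} (hn : n ∈ N) :
    H.large.act n = 1 ∨ H.large.act n = H.large.act r ∨ H.large.act n = H.large.act r ^ 2 := by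
  have hQ := H.Qn
  have h1 : (Q.subgroupOf N).index = 3 := by
    have h2 := Subgroup.card_mul_index (Q.subgroupOf N)
    rw [H.card_N, Nat.card_congr (Subgroup.subgroupOfEquivOfLe H.QN).toEquiv, H.card_Q] at h2
    have : (0 : ℕ) < 2 ^ 13 := by positivity
    rw [mul_comm 3] at h2
    exact Nat.eq_of_mul_eq_mul_left this h2
  have hne : (⟨r, hr⟩ : N) ∉ Q.subgroupOf N := hrQ
  have hcard : Nat.card (N ⧸ Q.subgroupOf N) = 3 := h1
  have hgen : (QuotientGroup.mk (⟨n, hn⟩ : N) : N ⧸ Q.subgroupOf N) ∈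
      Subgroup.zpowers (QuotientGroup.mk (⟨r, hr⟩ : N) : N ⧸ Q.subgroupOf N) := by
    have : Fact (Nat.Prime 3) := ⟨Nat.prime_three⟩
    rw [zpowers_eq_top_of_prime_card hcard (fun h => hne ((QuotientGroup.eq_one_iff _).1 h))]
    trivial
  obtain ⟨k, hk⟩ := Subgroup.mem_zpowers_iff.1 hgen
  have hk' : ((⟨r, hr⟩ : N) ^ k)⁻¹ * ⟨n, hn⟩ ∈ Q.subgroupOf N := by
    rw [← QuotientGroup.eq]; exact hk
  have h3 : H.large.act n = H.large.act r ^ k := by
    rw [← map_zpow, H.act_eq_act]
    exact hk'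
  have h4 : H.large.act r ^ 3 = 1 := by rw [← map_pow, hr3, map_one]
  have h5 : H.large.act r ^ k = H.large.act r ^ (k % 3) := by
    conv_lhs => rw [← Int.emod_add_mul_ediv k 3, zpow_add, zpow_mul]
    rw [show H.large.act r ^ (3 : ℤ) = 1 from h4, one_zpow, mul_one]
  rw [h3, h5]
  have h6 : 0 ≤ k % 3 := Int.emod_nonneg _ (by norm_num)
  have h7 : k % 3 < 3 := Int.emod_lt_of_pos _ (by norm_num)
  interval_cases h : k % 3
  · left; rw [zpow_zero]
  · right; left; rw [zpow_one]
  · right; right; rfl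

/-- a subgroup containing `Q` and all commutators of `M` contains `M` -/
theorem Hyp.M_le (H : Hyp t Q N M) (K : Subgroup (Subgroup.centralizer ({t} : Set G))) (hQ : Q ≤ K)
    (hK : ∀ m ∈ M, ∀ m' ∈ M, ⁅m, m'⁆ ∈ K) : M ≤ K :=
  H.perf.trans (sup_le (Subgroup.commutator_le.2 hK) hQ)

theorem Hyp.rho_ne (H : Hyp t Q N M) {r : Subgroup.centralizer ({t} : Set G)} (hrQ : r ∉ Q) :
    ∃ v, H.large.act r v ≠ v := by
  by_contra h
  push Not at h
  exact hrQ (H.act_eq_one.1 (LinearEquiv.ext h))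

/-- a normal subgroup of `M` not contained in `N` covers `M / N` -/
theorem Hyp.cover (H : Hyp t Q N M) (K : Subgroup M) [K.Normal] (π : M →* Cfsg.Spor.M22)
    (hs : Function.Surjective π) {k : M} (hk : k ∈ K) (hk1 : π k ≠ 1) (m : M) : ∃ k ∈ K, π k = π m := by
  have hn : (K.map π).Normal := Subgroup.Normal.map inferInstance π hs
  have : IsSimpleGroup Cfsg.Spor.M22 := Cfsg.Agent.SporadicA.MathieuRecog.simple_M22
  have h1 : K.map π = ⊤ := by
    rcases hn.eq_bot_or_eq_top with h | h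
    · exfalso
      apply hk1
      have : π k ∈ K.map π := ⟨k, hk, rfl⟩
      rw [h] at this
      exact Subgroup.mem_bot.1 this
    · exact h
  have h2 : π m ∈ K.map π := by rw [h1]; trivial
  obtain ⟨k, hk, e⟩ := h2
  exact ⟨k, hk, e⟩

/-- the element of order 3 acts without fixed points -/
theorem Hyp.rho_free (H : Hyp t Q N M) {r : Subgroup.centralizer ({t} : Set G)} (hr : r ∈ N) (hrQ : r ∉ Q)
    (hr3 : r ^ 3 = 1) {v : H.large.V} (hv : H.large.act r v = v) : v = 0 := by
  by_contra hv0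
  set ρ := H.large.act r with hρ
  have hρ3 : ρ ^ 3 = 1 := by rw [hρ, ← map_pow, hr3, map_one]
  obtain ⟨π, hs, hker⟩ := H.pi
  -- an element of order 7
  have : Fact (Nat.Prime 7) := ⟨by norm_num⟩
  have : Finite Cfsg.Spor.M22 := inferInstance
  obtain ⟨g, hg⟩ := exists_prime_orderOf_dvd_card' (G := Cfsg.Spor.M22) 7
    (by rw [Cfsg.Agent.SporadicA.MathieuRecog.card_M22]; norm_num)
  obtain ⟨m, hm⟩ := hs g
  have hg7 : g ^ 7 = 1 := by rw [← hg]; exact pow_orderOf_eq_one g
  have hg3 : g ^ 3 ≠ 1 := by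
    intro h
    have := orderOf_dvd_of_pow_eq_one h
    rw [hg] at this
    omega
  have hm7 : (m : Subgroup.centralizer ({t} : Set G)) ^ 7 ∈ N := by
    have := (hker (m ^ 7)).1 (by rw [map_pow, hm, hg7])
    exact this
  set F := H.large.act ((m : Subgroup.centralizer ({t} : Set G)) ^ 3) with hF
  have hF7 : F ^ 7 = 1 := by
    rw [hF, ← map_pow, ← pow_mul, show 3 * 7 = 7 * 3 from rfl, pow_mul, map_pow]
    rcases H.act_N hr hrQ hr3 hm7 with h | h | h
    · rw [h, one_pow]
    · rw [h, hρ3]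
    · rw [h, ← pow_mul, mul_comm, pow_mul, hρ3, one_pow]
  have hFρ : F * ρ = ρ * F := H.act_comm (M.pow_mem m.2 3) hr
  -- `F` acts trivially on the kernel of the norm
  have hFix : ∀ v₁, S ρ 3 v₁ = 0 → F v₁ = v₁ := by
    intro v₁ hv₁
    by_contra hne
    have hfin : Finite H.large.V := inferInstance
    refine no_fix H.large.q (fun v w => H.large.b v w) (fun v w => H.large.q_add' v w) ?_ ?_ ?_ ρ F hρ3 hF7 hFρ
      (fun v => H.large.q_act r v) (fun v => H.large.q_act _ v) H.card_V v hv0 hv v₁ hv₁ hne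
    · intro u v w; simp
    · intro u v w; simp
    · intro u hu
      by_contra h
      push Not at h
      exact hu (H.large.b_nondeg fun w => by rw [H.large.b_comm]; exact h w)
  -- the subgroup acting trivially on the kernel of the norm
  have hSc : ∀ c ∈ M, ∀ w, S ρ 3 w = 0 → S ρ 3 (H.large.act c w) = 0 := by
    intro c hc w hw
    rw [S_comm ρ _ 3 (H.act_comm hc hr), hw, map_zero]
  let K' : Subgroup (Subgroup.centralizer ({t} : Set G)) :=
    { carrier := {c | ∀ w, S ρ 3 w = 0 → H.large.act c w = w}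
      mul_mem' := by
        intro a b ha hb w hw
        rw [map_mul]
        show H.large.act a (H.large.act b w) = w
        rw [hb w hw, ha w hw]
      one_mem' := by intro w _; rw [map_one]; rfl
      inv_mem' := by
        intro a ha w hw
        rw [map_inv]
        have h1 := ha w hw
        have h2 : (H.large.act a)⁻¹ (H.large.act a w) = w := (H.large.act a).symm_apply_apply w
        rw [h1] at h2
        exact h2 }
  have hK' : ∀ c, c ∈ K' ↔ ∀ w, S ρ 3 w = 0 → H.large.act c w = w := fun c => Iff.rfl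
  have hKn : (K'.subgroupOf M).Normal := by
    refine ⟨fun k hk m => ?_⟩
    rw [Subgroup.mem_subgroupOf, hK'] at hk ⊢
    intro w hw
    have h1 := hSc (m⁻¹ : M) (M.inv_mem m.2) w hw
    have h2 := hk _ h1
    show H.large.act ((m : Subgroup.centralizer ({t} : Set G)) * k * (m : Subgroup.centralizer ({t} : Set G))⁻¹) w = w
    rw [map_mul, map_mul]
    show H.large.act m (H.large.act k (H.large.act (m : Subgroup.centralizer ({t} : Set G))⁻¹ w)) = w
    have h3 : H.large.act k (H.large.act (m : Subgroup.centralizer ({t} : Set G))⁻¹ w) =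
      H.large.act (m : Subgroup.centralizer ({t} : Set G))⁻¹ w := h2
    rw [h3, map_inv]
    exact (H.large.act m).apply_symm_apply w
  have hcov := H.cover (K'.subgroupOf M) π hs (k := m ^ 3) (by
    rw [Subgroup.mem_subgroupOf, hK']
    exact hFix) (by rw [map_pow, hm]; exact hg3)
  have hsplit : ∀ m ∈ M, ∃ k ∈ K', k ∈ M ∧ ∃ n ∈ N, m = k * n := by
    intro m hm
    obtain ⟨k, hk, e⟩ := hcov ⟨m, hm⟩
    refine ⟨k, hk, k.2, (k : Subgroup.centralizer ({t} : Set G))⁻¹ * m, ?_, by group⟩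
    have := (hker (k⁻¹ * ⟨m, hm⟩)).1 (by rw [map_mul, map_inv, e, inv_mul_cancel])
    exact this
  have hMK : M ≤ K' := by
    refine H.M_le K' ?_ ?_
    · intro x hx w _
      rw [H.act_eq_one.2 hx]; rfl
    · intro m hm m' hm'
      obtain ⟨k, hk, hkM, n, hn, rfl⟩ := hsplit m hm
      obtain ⟨k', hk', hkM', n', hn', rfl⟩ := hsplit m' hm'
      have h1 : H.large.act ⁅k * n, k' * n'⁆ = H.large.act ⁅k, k'⁆ := by
        rw [commutatorElement_def, commutatorElement_def]
        simp only [map_mul, mul_inv_rev, map_inv]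
        have c1 : Commute (H.large.act k) (H.large.act n) := H.act_comm hkM hn
        have c2 : Commute (H.large.act k') (H.large.act n) := H.act_comm hkM' hn
        have c3 : Commute (H.large.act k) (H.large.act n') := H.act_comm hkM hn'
        have c4 : Commute (H.large.act k') (H.large.act n') := H.act_comm hkM' hn'
        have c5 : Commute (H.large.act n) (H.large.act n') := H.act_comm (H.NM hn) hn'
        have c5' := c5
        have e1 : H.large.act k * H.large.act n * (H.large.act k' * H.large.act n') *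
            ((H.large.act n)⁻¹ * (H.large.act k)⁻¹) * ((H.large.act n')⁻¹ * (H.large.act k')⁻¹)
            = H.large.act k * (H.large.act n * (H.large.act k' * H.large.act n') * (H.large.act n)⁻¹) *
              (H.large.act k)⁻¹ * ((H.large.act n')⁻¹ * (H.large.act k')⁻¹) := by group
        have e2 : H.large.act n * (H.large.act k' * H.large.act n') * (H.large.act n)⁻¹
            = H.large.act k' * H.large.act n' := by
          rw [mul_inv_eq_iff_eq_mul]
          exact ((c2.mul_left c5.symm).eq).symm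
        rw [e1, e2]
        have e3 : H.large.act k * (H.large.act k' * H.large.act n') * (H.large.act k)⁻¹ *
            ((H.large.act n')⁻¹ * (H.large.act k')⁻¹) = H.large.act k * H.large.act k' *
              (H.large.act n' * (H.large.act k)⁻¹ * (H.large.act n')⁻¹) * (H.large.act k')⁻¹ := by group
        have e4 : H.large.act n' * (H.large.act k)⁻¹ * (H.large.act n')⁻¹ = (H.large.act k)⁻¹ := by
          rw [mul_inv_eq_iff_eq_mul]
          exact (c3.inv_left).symm.eq
        rw [e3, e4]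
      intro w hw
      rw [h1]
      exact (K'.mul_mem (K'.mul_mem (K'.mul_mem hk hk') (K'.inv_mem hk)) (K'.inv_mem hk')) w hw
  obtain ⟨w, hw⟩ := H.rho_ne hrQ
  apply hw
  have h1 : S ρ 3 (ρ w + w) = 0 := S_sub ρ 3 hρ3 w
  have h2 : ρ (ρ w + w) = ρ w + w := hMK (H.NM hr) _ h1
  have h3 := eq_zero_of_fix ρ 3 (by decide) h2 h1
  rw [← add_right_cancel_iff (a := w), h3, two_smul']

theorem Hyp.rho_sum (H : Hyp t Q N M) {r : Subgroup.centralizer ({t} : Set G)} (hr : r ∈ N) (hrQ : r ∉ Q)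
    (hr3 : r ^ 3 = 1) (v : H.large.V) :
    v + H.large.act r v + H.large.act r (H.large.act r v) = 0 := by
  have hρ3 : H.large.act r ^ 3 = 1 := by rw [← map_pow, hr3, map_one]
  have h := H.rho_free hr hrQ hr3 (T_S (H.large.act r) 3 hρ3 v)
  rw [S, Finset.sum_range_succ, Finset.sum_range_succ, Finset.sum_range_one, pow_zero, pow_one, pow_two] at h
  exact h

end

end Cfsg.Agent.J4Type
end

-- part: J4Type/NonAb
section
/-!
# J₄ type: lifts of two commuting 3-elements of `M22` do not commute (R07, helper856)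

The image `Y` of `M` in `GL(V)` is a perfect group with `Y / ⟨ρ⟩ = M22`; by transfer its Sylow 3-subgroups are not
abelian.
-/

set_option autoImplicit false

namespace Cfsg.Agent.J4Type

open Cfsg.Agent.Co2Type.Quad NormMap
open scoped commutatorElement

/-- transfer: a central element of order 3 of a perfect group does not lie in an abelian subgroup of index coprime
to 3 -/
theorem NonAb.transfer_false {Y : Type*} [Group Y] [Finite Y] (B : Subgroup Y)
    (hBc : ∀ a ∈ B, ∀ b ∈ B, a * b = b * a) (hB : ¬ 3 ∣ B.index) (z : Y)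
    (hz : ∀ y, y * z = z * y) (hzB : z ∈ B) (hz3 : z ^ 3 = 1) (hz1 : z ≠ 1)
    (hperf : ∀ K : Subgroup Y, (∀ a b : Y, ⁅a, b⁆ ∈ K) → K = ⊤) : False := by
  have hcomm : IsMulCommutative B := ⟨⟨fun a b => Subtype.ext (hBc a a.2 b b.2)⟩⟩
  have : Fact (Nat.Prime 3) := ⟨Nat.prime_three⟩
  have hzo : orderOf z = 3 := orderOf_eq_prime hz3 hz1
  letI : CommGroup B := { (inferInstance : Group B) with mul_comm := hcomm.1.1 }
  have key : ∀ (k : ℕ) (g₀ : Y), g₀⁻¹ * z ^ k * g₀ ∈ B → g₀⁻¹ * z ^ k * g₀ = z ^ k := by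
    intro k g _
    have h : Commute g (z ^ k) := (show Commute g z from hz g).pow_right k
    rw [mul_assoc, ← h.eq, inv_mul_cancel_left]
  have h1 := MonoidHom.transfer_eq_pow (MonoidHom.id B) z key
  have h2 := hperf (MonoidHom.transfer (MonoidHom.id B)).ker (fun a b => by
    rw [MonoidHom.mem_ker, map_commutatorElement, commutatorElement_eq_one_iff_mul_comm, mul_comm])
  have h3 : z ∈ (MonoidHom.transfer (MonoidHom.id B)).ker := by rw [h2]; trivial
  rw [MonoidHom.mem_ker, h1] at h3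
  have h4 : z ^ B.index = 1 := congrArg Subtype.val h3
  exact hB (hzo ▸ orderOf_dvd_of_pow_eq_one h4)

/-- two commuting elements of order 3 generate a group of order divisible by 9 -/
theorem NonAb.nine_dvd {X : Type*} [Group X] [Finite X] {p p' : X} (h3 : p ^ 3 = 1) (h3' : p' ^ 3 = 1)
    (hcomm : p * p' = p' * p) (hp : p ≠ 1) (hn1 : p' ≠ 1) (hn2 : p' ≠ p) (hn3 : p' ≠ p ^ 2) :
    9 ∣ Nat.card (Subgroup.closure ({p, p'} : Set X)) := by
  have : Fact (Nat.Prime 3) := ⟨Nat.prime_three⟩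
  set S := Subgroup.closure ({p, p'} : Set X) with hS
  have hpS : p ∈ S := Subgroup.subset_closure (by simp)
  have hpS' : p' ∈ S := Subgroup.subset_closure (by simp)
  have hcm : IsMulCommutative S := by
    apply Subgroup.isMulCommutative_closure
    rintro x (rfl | rfl) y (rfl | rfl)
    · rfl
    · exact hcomm
    · exact hcomm.symm
    · rfl
  have hc : ∀ x ∈ S, ∀ y ∈ S, x * y = y * x := fun x hx y hy =>
    congrArg Subtype.val (hcm.1.1 ⟨x, hx⟩ ⟨y, hy⟩)
  have hcube : ∀ x ∈ S, x ^ 3 = 1 := by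
    intro x hx
    induction hx using Subgroup.closure_induction with
    | mem y hy => rcases hy with rfl | rfl <;> assumption
    | one => exact one_pow 3
    | mul y w hy hw h1 h2 =>
      have hyw : Commute y w := hc y hy w hw
      rw [hyw.mul_pow, h1, h2, one_mul]
    | inv y hy h1 => rw [inv_pow, h1, inv_one]
  have hpg : IsPGroup 3 S := fun x => ⟨1, Subtype.ext (by rw [pow_one]; exact hcube x x.2)⟩
  obtain ⟨k, hk⟩ := IsPGroup.iff_card.1 hpg
  have hz : Subgroup.zpowers p ≤ S := by rw [Subgroup.zpowers_le]; exact hpS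
  have hzc : Nat.card (Subgroup.zpowers p) = 3 := by
    rw [Nat.card_zpowers]; exact orderOf_eq_prime h3 hp
  have hne : ¬ Nat.card S ≤ 3 := by
    intro hle
    have h1 : Subgroup.zpowers p = S := Subgroup.eq_of_le_of_card_ge hz (by rw [hzc]; exact hle)
    rw [← h1] at hpS'
    obtain ⟨i, hi⟩ := Subgroup.mem_zpowers_iff.1 hpS'
    have h5 : p ^ i = p ^ (i % 3) := by
      conv_lhs => rw [← Int.emod_add_mul_ediv i 3, zpow_add, zpow_mul]
      rw [show p ^ (3 : ℤ) = 1 from (zpow_ofNat p 3).trans h3, one_zpow, mul_one]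
    rw [h5] at hi
    have h6 : 0 ≤ i % 3 := Int.emod_nonneg _ (by norm_num)
    have h7 : i % 3 < 3 := Int.emod_lt_of_pos _ (by norm_num)
    interval_cases h : i % 3
    · exact hn1 (by rw [← hi, zpow_zero])
    · exact hn2 (by rw [← hi, zpow_one])
    · exact hn3 (hi.symm.trans (zpow_ofNat p 2))
  rw [hk] at hne ⊢
  have : 2 ≤ k := by
    by_contra hlt
    push Not at hlt
    interval_cases k <;> omega
  exact pow_dvd_pow 3 this

section

variable {G : Type*} [Group G] [Finite G] {t : G} {Q N M : Subgroup (Subgroup.centralizer ({t} : Set G))}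

/-- Lifts of two commuting elements `P c`, `P c'` of `M22` generating a group of order 9 do not commute on `V`. -/
theorem Hyp.not_comm (H : Hyp t Q N M) {P : Subgroup.centralizer ({t} : Set G) →* Equiv.Perm Cfsg.GolayPt}
    (hP : P.ker = N) (hPM : M.map P = Cfsg.Spor.M22) {c c' : Subgroup.centralizer ({t} : Set G)}
    (hc : c ∈ M) (hc' : c' ∈ M) (h3 : P c ^ 3 = 1) (h3' : P c' ^ 3 = 1) (hcomm : P c * P c' = P c' * P c)
    (hp : P c ≠ 1) (hn1 : P c' ≠ 1) (hn2 : P c' ≠ P c) (hn3 : P c' ≠ P c ^ 2) :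
    H.large.act c * H.large.act c' ≠ H.large.act c' * H.large.act c := by
  intro hcc
  obtain ⟨r, hr, hrQ, hr3⟩ := H.exists_r
  set f : M →* (H.large.V ≃ₗ[ZMod 2] H.large.V) := H.large.act.comp M.subtype with hf
  set S := Subgroup.closure ({P c, P c'} : Set (Equiv.Perm Cfsg.GolayPt)) with hS
  set B₀ : Subgroup M := S.comap (P.comp M.subtype) with hB₀
  have hSM : S ≤ Cfsg.Spor.M22 := by
    rw [hS, Subgroup.closure_le, ← hPM]
    rintro y (rfl | rfl)
    · exact ⟨c, hc, rfl⟩
    · exact ⟨c', hc', rfl⟩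
  have h9 : 9 ∣ Nat.card S := NonAb.nine_dvd h3 h3' hcomm hp hn1 hn2 hn3
  have hidx : ¬ 3 ∣ B₀.index := by
    rw [hB₀, Subgroup.index_comap]
    have h1 : (P.comp M.subtype).range = Cfsg.Spor.M22 := by
      rw [MonoidHom.range_comp, Subgroup.range_subtype, hPM]
    rw [h1, Subgroup.relIndex]
    intro h
    have h2 := Subgroup.card_mul_index (S.subgroupOf Cfsg.Spor.M22)
    rw [Nat.card_congr (Subgroup.subgroupOfEquivOfLe hSM).toEquiv,
      Cfsg.Agent.SporadicA.MathieuRecog.card_M22] at h2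
    have h3 : 9 * 3 ∣ 443520 := by rw [← h2]; exact mul_dvd_mul h9 h
    omega
  -- elements over `S` act as elements of the group generated by the lifts and `ρ`
  set D := Subgroup.closure ({H.large.act c, H.large.act c', H.large.act r} : Set (H.large.V ≃ₗ[ZMod 2] H.large.V))
    with hD
  have hcD : H.large.act c ∈ D := Subgroup.subset_closure (by simp)
  have hcD' : H.large.act c' ∈ D := Subgroup.subset_closure (by simp)
  have hrD : H.large.act r ∈ D := Subgroup.subset_closure (by simp)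
  have hDc : ∀ x ∈ D, ∀ y ∈ D, x * y = y * x := by
    have hcm : IsMulCommutative D := by
      apply Subgroup.isMulCommutative_closure
      rintro x (rfl | rfl | rfl) y (rfl | rfl | rfl)
      · rfl
      · exact hcc
      · exact H.act_comm hc hr
      · exact hcc.symm
      · rfl
      · exact H.act_comm hc' hr
      · exact (H.act_comm hc hr).symm
      · exact (H.act_comm hc' hr).symm
      · rfl
    exact fun x hx y hy => congrArg Subtype.val (hcm.1.1 ⟨x, hx⟩ ⟨y, hy⟩)
  have hND : ∀ n ∈ N, H.large.act n ∈ D := by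
    intro n hn
    rcases H.act_N hr hrQ hr3 hn with h | h | h
    · rw [h]; exact one_mem _
    · rw [h]; exact hrD
    · rw [h]; exact D.pow_mem hrD 2
  have hBD : ∀ m : M, m ∈ B₀ → H.large.act m ∈ D := by
    intro m hm
    have h1 : S ≤ (D.comap f).map (P.comp M.subtype) := by
      rw [hS, Subgroup.closure_le]
      rintro y (rfl | rfl)
      · exact ⟨⟨c, hc⟩, hcD, rfl⟩
      · exact ⟨⟨c', hc'⟩, hcD', rfl⟩
    obtain ⟨k, hk, hkm⟩ := h1 hm
    have h2 : (k : Subgroup.centralizer ({t} : Set G))⁻¹ * m ∈ N := by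
      rw [← hP, MonoidHom.mem_ker, map_mul, map_inv, inv_mul_eq_one]
      exact hkm
    have h3 : H.large.act m = H.large.act k * H.large.act ((k : Subgroup.centralizer ({t} : Set G))⁻¹ * m) := by
      rw [← map_mul, mul_inv_cancel_left]
    rw [h3]
    exact D.mul_mem hk (hND _ h2)
  -- apply the transfer lemma to `f.range`
  have hfin : Finite f.range := Finite.of_surjective f.rangeRestrict f.rangeRestrict_surjective
  refine NonAb.transfer_false (Y := f.range) (B₀.map f.rangeRestrict) ?_ ?_ ⟨H.large.act r, ⟨r, H.NM hr⟩, rfl⟩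
    ?_ ?_ ?_ ?_ ?_
  · rintro _ ⟨a, ha, rfl⟩ _ ⟨b, hb, rfl⟩
    exact Subtype.ext (hDc _ (hBD a ha) _ (hBD b hb))
  · intro h
    exact hidx (h.trans (Subgroup.index_map_dvd _ f.rangeRestrict_surjective))
  · rintro ⟨_, ⟨m, rfl⟩⟩
    exact Subtype.ext (H.act_comm m.2 hr)
  · refine ⟨⟨r, H.NM hr⟩, ?_, rfl⟩
    show P r ∈ S
    rw [← hP, MonoidHom.mem_ker] at hr
    rw [hr]; exact one_mem _
  · apply Subtype.ext
    show H.large.act r ^ 3 = 1
    rw [← map_pow, hr3, map_one]
  · intro h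
    exact hrQ (H.act_eq_one.1 (congrArg Subtype.val h))
  · intro K hK
    rw [eq_top_iff]
    have h1 : M ≤ (K.comap f.rangeRestrict).map M.subtype := by
      refine H.M_le _ ?_ ?_
      · intro x hx
        refine ⟨⟨x, H.NM (H.QN hx)⟩, ?_, rfl⟩
        rw [SetLike.mem_coe, Subgroup.mem_comap]
        have : f.rangeRestrict ⟨x, H.NM (H.QN hx)⟩ = 1 := Subtype.ext (H.act_eq_one.2 hx)
        rw [this]; exact one_mem _
      · intro m hm m' hm'
        refine ⟨⁅(⟨m, hm⟩ : M), ⟨m', hm'⟩⁆, ?_, rfl⟩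
        rw [SetLike.mem_coe, Subgroup.mem_comap, map_commutatorElement]
        exact hK _ _
    rintro ⟨_, ⟨m, rfl⟩⟩ _
    obtain ⟨m', hm', e⟩ := h1 m.2
    have h2 : m' = m := Subtype.ext e
    rw [← h2]
    exact hm'

end

end Cfsg.Agent.J4Type
end

-- part: J4Type/CentOf
section
/-!
# J₄ type: from the hypotheses of S1646 / S1670 to the structure `Cent` (R07, helper856)

`IsP N M P` : what the homomorphism `P` of `C` onto `M22:2` satisfies;
`Hyp.toCent` : the structure `Cent G`;
`Hyp.outer_inv` : elements outside `M` invert `ρ` on `V`, provided `M22:2` contains suitable elements.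
-/

set_option autoImplicit false

namespace Cfsg.Agent.J4Type

open Cfsg Cfsg.Agent.Co2Type.Quad NormMap
open scoped commutatorElement Pointwise

/-- The homomorphism of `C` onto `M22:2`. -/
structure IsP {G : Type*} [Group G] {t : G} (N M : Subgroup (Subgroup.centralizer ({t} : Set G)))
    (P : Subgroup.centralizer ({t} : Set G) →* Equiv.Perm GolayPt) : Prop where
  ker : P.ker = N
  range : P.range = M22d
  mem : ∀ c, c ∈ M ↔ P c none = none

theorem base_none {g : Equiv.Perm GolayPt} (h : g ∈ M22d) (h1 : g none = none) : g (some 0) = some 0 := by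
  have h2 : g • base = base := h.2
  have h3 : g (some 0) ∈ g • base := Finset.smul_mem_smul_finset (by simp [base])
  rw [h2, base, Finset.mem_insert, Finset.mem_singleton] at h3
  rcases h3 with h3 | h3
  · rw [← h1] at h3
    exact absurd (g.injective h3) (by simp)
  · exact h3

theorem M22_le : Cfsg.Spor.M22 ≤ M22d := by
  rintro g ⟨⟨h1, h2⟩, h3⟩
  refine ⟨h1, ?_⟩
  have h2' : g none = none := h2
  have h3' : g (some 0) = some 0 := h3
  show g • base = base
  rw [base, Finset.smul_finset_insert, Finset.smul_finset_singleton]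
  show {g none, g (some 0)} = _
  rw [h2', h3']

section

variable {G : Type*} [Group G] {t : G} {Q N M : Subgroup (Subgroup.centralizer ({t} : Set G))}
  {P : Subgroup.centralizer ({t} : Set G) →* Equiv.Perm GolayPt}

theorem IsP.map (hP : IsP N M P) : M.map P = Cfsg.Spor.M22 := by
  ext g
  constructor
  · rintro ⟨c, hc, rfl⟩
    have h1 : P c ∈ M22d := by rw [← hP.range]; exact ⟨c, rfl⟩
    have h2 := (hP.mem c).1 hc
    exact ⟨⟨h1.1, h2⟩, base_none h1 h2⟩
  · intro h
    have h1 : g ∈ P.range := by rw [hP.range]; exact M22_le h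
    obtain ⟨c, rfl⟩ := h1
    exact ⟨c, (hP.mem c).2 h.1.2, rfl⟩

/-- The structure `Cent G` of `Setup`. -/
noncomputable def Hyp.toCent [Finite G] (H : Hyp t Q N M) (hP : IsP N M P)
    {r : Subgroup.centralizer ({t} : Set G)} (hr : r ∈ N) (hrQ : r ∉ Q) (hr3 : r ^ 3 = 1) : Cent G where
  z := t
  z_order := H.ht
  Q := Q.map (Subgroup.centralizer ({t} : Set G)).subtype
  Q_le := by
    rintro _ ⟨x, _, rfl⟩
    exact x.2
  Q_conj := fun c hc q hq => H.large.conj_mem c hc q hq
  Q_card := H.card_QG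
  z_mem_Q := H.large.z_mem
  Q_sq := H.large.sq
  Q_comm := by
    intro a ha b hb
    rcases H.large.comm a ha b hb with h | h
    · exact Or.inl h
    · right
      rw [h]
      have h1 : b * a ∈ Q.map (Subgroup.centralizer ({t} : Set G)).subtype := Subgroup.mul_mem _ hb ha
      exact H.large.comm_z _ h1
  Q_cent := by
    intro c hc
    have h1 : c * t = t * c := hc t H.large.z_mem
    have h2 : c ∈ Q.map (Subgroup.centralizer ({t} : Set G)).subtype := H.large.self c h1 hc
    exact H.large.cent c h2 (fun x hx => (hc x hx))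
  ρ := r
  ρ_order := by
    have : Fact (Nat.Prime 3) := ⟨Nat.prime_three⟩
    apply orderOf_eq_prime (congrArg Subtype.val hr3)
    intro h
    apply hrQ
    have : r = 1 := Subtype.ext h
    rw [this]; exact one_mem _
  ρ_comm := Subgroup.mem_centralizer_singleton_iff.1 r.2
  ρ_fix := by
    intro q hq h
    have h1 : H.large.act r (H.large.pr ⟨q, hq⟩) = H.large.pr ⟨q, hq⟩ := by
      rw [H.large.act_pr]
      congr 1
      apply Subtype.ext
      rw [H.large.conjQ_coe]
      show (r : G) * q * (r : G)⁻¹ = q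
      rw [h, mul_inv_cancel_right]
    exact (H.large.pr_eq_zero).1 (H.rho_free hr hrQ hr3 h1)
  P := P
  P_ker := by
    intro c
    have h1 : P c = 1 ↔ c ∈ N := by rw [← hP.ker]; exact MonoidHom.mem_ker.symm
    rw [h1]
    constructor
    · intro hc
      have h2 : ∃ i : ℕ, H.large.act c = H.large.act (r ^ i) := by
        rcases H.act_N hr hrQ hr3 hc with h | h | h
        · exact ⟨0, by rw [h, pow_zero, map_one]⟩
        · exact ⟨1, by rw [h, pow_one]⟩
        · exact ⟨2, by rw [h, map_pow]⟩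
      obtain ⟨i, hi⟩ := h2
      have h3 := H.act_eq_act.1 hi
      have h4 : c * (r ^ i)⁻¹ ∈ Q := by
        have h5 := H.Qn.conj_mem _ h3 (r ^ i)
        have h6 : r ^ i * ((r ^ i)⁻¹ * c) * (r ^ i)⁻¹ = c * (r ^ i)⁻¹ := by group
        rwa [h6] at h5
      refine ⟨_, ⟨_, h4, rfl⟩, i, ?_⟩
      show (c : G) = ((c * (r ^ i)⁻¹ : Subgroup.centralizer ({t} : Set G)) : G) *
        ((r ^ i : Subgroup.centralizer ({t} : Set G)) : G)
      rw [← Subgroup.coe_mul, inv_mul_cancel_right]
    · rintro ⟨_, ⟨q, hq, rfl⟩, i, hi⟩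
      have : c = q * r ^ i := Subtype.ext hi
      rw [this]
      exact N.mul_mem (H.QN hq) (N.pow_mem hr i)
  P_range := hP.range
  P_inner := by
    intro c hc
    have h1 : c ∈ M := (hP.mem c).2 hc
    have h2 : ⁅c, r⁆ ∈ Q := H.cent (Subgroup.commutator_mem_commutator h1 hr)
    refine ⟨_, ⟨_, h2, rfl⟩, ?_⟩
    show (c : G) * r * (c : G)⁻¹ = ((⁅c, r⁆ * r : Subgroup.centralizer ({t} : Set G)) : G)
    rw [commutatorElement_def, inv_mul_cancel_right]
    rfl

/-- If `M22:2` contains commuting elements `P c`, `P c'` of order 3 generating a group of order 9 and `P τ` inverts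
the first one and centralises the second one, then `τ` inverts `ρ`. -/
theorem Hyp.inv_of [Finite G] (H : Hyp t Q N M) (hP : IsP N M P)
    {r : Subgroup.centralizer ({t} : Set G)} (hr : r ∈ N) (hrQ : r ∉ Q) (hr3 : r ^ 3 = 1)
    {c c' τ : Subgroup.centralizer ({t} : Set G)}
    (hc : c ∈ M) (hc' : c' ∈ M) (h3 : P c ^ 3 = 1) (h3' : P c' ^ 3 = 1) (hcomm : P c * P c' = P c' * P c)
    (hp : P c ≠ 1) (hn1 : P c' ≠ 1) (hn2 : P c' ≠ P c) (hn3 : P c' ≠ P c ^ 2)
    (hτ : P τ * P c = (P c)⁻¹ * P τ) (hτ' : P τ * P c' = P c' * P τ) :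
    H.large.act τ * H.large.act r = (H.large.act r)⁻¹ * H.large.act τ := by
  have hρ3 : H.large.act r ^ 3 = 1 := by rw [← map_pow, hr3, map_one]
  set ρ := H.large.act r with hρ
  set T := H.large.act τ with hT
  have hinv : ρ⁻¹ = ρ ^ 2 := by
    rw [inv_eq_iff_mul_eq_one, ← pow_succ']; exact hρ3
  -- `w = [x, x']`
  set x := H.large.act c with hx
  set x' := H.large.act c' with hx'
  have hN : ∀ d : Subgroup.centralizer ({t} : Set G), P d = 1 → d ∈ N := fun d hd => by
    rw [← hP.ker]; exact hd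
  have hw : ⁅c, c'⁆ ∈ N := hN _ (by
    rw [map_commutatorElement, commutatorElement_eq_one_iff_mul_comm]; exact hcomm)
  have hwne : ⁅x, x'⁆ ≠ 1 := by
    rw [Ne, commutatorElement_eq_one_iff_mul_comm]
    exact H.not_comm hP.ker hP.map hc hc' h3 h3' hcomm hp hn1 hn2 hn3
  have hwx : ⁅x, x'⁆ = H.large.act ⁅c, c'⁆ := (map_commutatorElement _ _ _).symm
  have hn1' : τ * c * τ⁻¹ * c ∈ N := hN _ (by
    simp only [map_mul, map_inv]
    rw [hτ]; group)
  have hn2' : τ * c' * τ⁻¹ * c'⁻¹ ∈ N := hN _ (by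
    simp only [map_mul, map_inv]
    rw [hτ']; group)
  -- central elements
  have hcen : ∀ n ∈ N, ∀ m ∈ M, Commute (H.large.act n) (H.large.act m) := fun n hn m hm =>
    (H.act_comm hm hn).symm
  have e1 : T * x * T⁻¹ = H.large.act (τ * c * τ⁻¹ * c) * x⁻¹ := by
    simp only [map_mul, map_inv]
    rw [mul_inv_cancel_right]
  have e2 : T * x' * T⁻¹ = H.large.act (τ * c' * τ⁻¹ * c'⁻¹) * x' := by
    simp only [map_mul, map_inv]
    rw [inv_mul_cancel_right]
  have e3 : T * ⁅x, x'⁆ * T⁻¹ = ⁅T * x * T⁻¹, T * x' * T⁻¹⁆ := by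
    rw [commutatorElement_def, commutatorElement_def]; group
  have e4 : ⁅T * x * T⁻¹, T * x' * T⁻¹⁆ = ⁅x⁻¹, x'⁆ := by
    rw [e1, e2]
    set n := H.large.act (τ * c * τ⁻¹ * c) with hn
    set n' := H.large.act (τ * c' * τ⁻¹ * c'⁻¹) with hn'
    have c1 : Commute n x := hcen _ hn1' _ hc
    have c2 : Commute n x' := hcen _ hn1' _ hc'
    have c3 : Commute n' x := hcen _ hn2' _ hc
    have c4 : Commute n' x' := hcen _ hn2' _ hc'
    have c5 : Commute n n' := hcen _ hn1' _ (H.NM hn2')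
    rw [commutatorElement_def, commutatorElement_def]
    have f1 : n * x⁻¹ * (n' * x') * (n * x⁻¹)⁻¹ * (n' * x')⁻¹
        = n * (x⁻¹ * (n' * x') * x) * n⁻¹ * (n' * x')⁻¹ := by group
    have f2 : n * (x⁻¹ * (n' * x') * x) * n⁻¹ = x⁻¹ * (n' * x') * x := by
      rw [mul_inv_eq_iff_eq_mul]
      exact ((c1.inv_right).mul_right (c5.mul_right c2)).mul_right c1
    have f3 : x⁻¹ * (n' * x') * x * (n' * x')⁻¹ = x⁻¹ * (n' * (x' * x * x'⁻¹) * n'⁻¹) := by group
    have f4 : n' * (x' * x * x'⁻¹) * n'⁻¹ = x' * x * x'⁻¹ := by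
      rw [mul_inv_eq_iff_eq_mul]
      exact (c4.mul_right c3).mul_right c4.inv_right
    rw [f1, f2, f3, f4]; group
  have e5 : ⁅x⁻¹, x'⁆ = ⁅x, x'⁆⁻¹ := by
    have c1 : Commute ⁅x, x'⁆ x := by rw [hwx]; exact hcen _ hw _ hc
    have f1 : ⁅x⁻¹, x'⁆ = x⁻¹ * ⁅x, x'⁆⁻¹ * x := by
      rw [commutatorElement_def, commutatorElement_def]; group
    rw [f1, (c1.inv_left.symm.inv_left).eq, inv_mul_cancel_right]
  have e6 : T * ⁅x, x'⁆ * T⁻¹ = ⁅x, x'⁆⁻¹ := by rw [e3, e4, e5]
  have e7 : T * ρ * T⁻¹ = ρ⁻¹ := by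
    rcases H.act_N hr hrQ hr3 hw with h | h | h
    · rw [← hwx] at h; exact absurd h hwne
    · rw [← hwx] at h; rw [h] at e6; exact e6
    · rw [← hwx] at h
      have h4 : ρ = ⁅x, x'⁆⁻¹ := by rw [h, ← hρ, ← hinv, inv_inv]
      rw [h4]
      have := congrArg (·⁻¹) e6
      simpa [mul_assoc] using this
  rw [← e7, inv_mul_cancel_right]

theorem Hyp.outer_inv [Finite G] (H : Hyp t Q N M) (hP : IsP N M P)
    {r : Subgroup.centralizer ({t} : Set G)} (hr : r ∈ N) (hrQ : r ∉ Q) (hr3 : r ^ 3 = 1)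
    {s s' u : Equiv.Perm GolayPt} (hs : s ∈ Cfsg.Spor.M22) (hs' : s' ∈ Cfsg.Spor.M22) (hu : u ∈ M22d)
    (h3 : s ^ 3 = 1) (h3' : s' ^ 3 = 1) (hcomm : s * s' = s' * s)
    (hp : s ≠ 1) (hn1 : s' ≠ 1) (hn2 : s' ≠ s) (hn3 : s' ≠ s ^ 2)
    (hτ : u * s = s⁻¹ * u) (hτ' : u * s' = s' * u) {d : Subgroup.centralizer ({t} : Set G)}
    (hd : d ∉ M) :
    H.large.act d * H.large.act r = (H.large.act r)⁻¹ * H.large.act d := by
  rw [← hP.map] at hs hs'
  obtain ⟨c, hc, rfl⟩ := hs
  obtain ⟨c', hc', rfl⟩ := hs'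
  rw [← hP.range] at hu
  obtain ⟨τ, rfl⟩ := hu
  have h1 := H.inv_of hP hr hrQ hr3 hc hc' h3 h3' hcomm hp hn1 hn2 hn3 hτ hτ'
  have hρ3 : H.large.act r ^ 3 = 1 := by rw [← map_pow, hr3, map_one]
  have hρ1 : H.large.act r ≠ 1 := fun h => hrQ (H.act_eq_one.1 h)
  have hτM : τ ∉ M := by
    intro h
    have h2 := H.act_comm h hr
    rw [h1, mul_left_inj, inv_eq_iff_mul_eq_one] at h2
    apply hρ1
    rw [pow_succ, pow_two, h2, one_mul] at hρ3
    exact hρ3
  have hM := H.Mn
  have h3 : d * τ⁻¹ ∈ M := by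
    have := (Subgroup.mul_mem_iff_of_index_two H.index_M (a := d) (b := τ⁻¹)).2
      ⟨fun h => absurd h hd, fun h => absurd ((Subgroup.inv_mem_iff M).1 h) hτM⟩
    exact this
  have h4 : H.large.act d = H.large.act (d * τ⁻¹) * H.large.act τ := by
    rw [← map_mul, inv_mul_cancel_right]
  have h5 : Commute (H.large.act (d * τ⁻¹)) (H.large.act r) := H.act_comm h3 hr
  rw [h4, mul_assoc, h1, ← mul_assoc, ← mul_assoc, h5.inv_right.eq]

/-- the field `P_outer` of `Hex` -/
theorem Hyp.P_outer [Finite G] (H : Hyp t Q N M) {r : Subgroup.centralizer ({t} : Set G)}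
    {d : Subgroup.centralizer ({t} : Set G)}
    (h : H.large.act d * H.large.act r = (H.large.act r)⁻¹ * H.large.act d) :
    ∃ q ∈ Q.map (Subgroup.centralizer ({t} : Set G)).subtype, (d : G) * r * (d : G)⁻¹ = q * (r : G)⁻¹ := by
  have h1 : d * r * d⁻¹ * r ∈ Q := by
    rw [← H.act_eq_one]
    simp only [map_mul, map_inv]
    rw [h]; group
  refine ⟨_, ⟨_, h1, rfl⟩, ?_⟩
  show (d : G) * r * (d : G)⁻¹ = (d : G) * r * (d : G)⁻¹ * r * (r : G)⁻¹
  rw [mul_inv_cancel_right]

end

end Cfsg.Agent.J4Type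
end

-- part: J4Type/IsPOf
section
/-!
# J₄ type: the homomorphism `P` of `C_G(t)` onto `M22:2` exists (R07)
-/

set_option autoImplicit false

namespace Cfsg.Agent.J4Type

open Cfsg

theorem duad_eq_M22d : Cfsg.Agent.BabyM.DuadGen.duad = M22d := Cfsg.Agent.BabyM.DuadGen.duad_eq

/-- The homomorphism of `C_G(t)` onto `M22d` with kernel `N`. -/
theorem Hyp.exists_isP {G : Type*} [Group G] [Finite G] {t : G}
    {Q N M : Subgroup (Subgroup.centralizer ({t} : Set G))} (H : Hyp t Q N M) :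
    ∃ P : Subgroup.centralizer ({t} : Set G) →* Equiv.Perm GolayPt, IsP N M P := by
  obtain ⟨π, hπ, hker⟩ := H.pi
  have := H.Mn
  have := H.Nn
  obtain ⟨P, h1, h2, h3, -⟩ := OuterM22.exists_P_of_pi M N H.NM H.index_M H.out π hπ hker
  refine ⟨P, h1, h2.trans duad_eq_M22d, fun c => (h3 c).trans ?_⟩
  rw [Cfsg.Agent.SporadicA.MathieuRecog.mem_M22_iff]
  constructor
  · exact fun h => h.2.1
  · intro h
    have h4 : P c ∈ Cfsg.Agent.BabyM.DuadGen.duad := by rw [← h2]; exact ⟨c, rfl⟩
    obtain ⟨h5, ⟨-, h6⟩ | ⟨h6, -⟩⟩ := Cfsg.Agent.BabyM.DuadGen.mem_duad.1 h4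
    · exact ⟨h5, h, h6⟩
    · rw [h] at h6
      exact absurd h6 (by simp)

end Cfsg.Agent.J4Type
end
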