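import Cfsg.Agent.J4Type.FrameMain
import Cfsg.Agent.J4Type.EClasses_mg
import Cfsg.Agent.J4Type.CentCoords
set_option linter.all false

/-!
# From a projective action to explicit coordinates (J4 type recognition)
-/

set_option autoImplicit false

namespace Cfsg.Agent.J4Type.FrameLift

open Cfsg.Agent.SporadicA.FieldFour
open Cfsg.Agent.J4Type.Frame
open Cfsg.Agent.J4Type.FrameForm
open Cfsg.Agent.J4Type.FrameBasis
open Cfsg.Agent.J4Type.FrameOps
open Cfsg.Agent.J4Type.FrameOps2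
open Cfsg.Agent.J4Type.FrameRels
open Cfsg.Agent.J4Type.FramePR
open Cfsg.Agent.J4Type.FrameMain

section

variable {V : Type*} [AddCommGroup V] [Module (ZMod 2) V] {ω : V ≃ₗ[ZMod 2] V}
  (hs : ∀ v, v + ω v + ω (ω v) = 0)

/-- An operator commuting with `ω` is linear over `F4`. -/
def lin (x : V ≃ₗ[ZMod 2] V) (hx : x * ω = ω * x) : letI := modF4 ω hs; V →ₗ[F4] V :=
  letI := modF4 ω hs
  have h : ∀ v, x (ω v) = ω (x v) := fun v => DFunLike.congr_fun hx v
  { toFun := x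
    map_add' := map_add x
    map_smul' := by
      intro r v
      cases r
      · exact map_zero x
      · rfl
      · exact h v
      · change x (ω (ω v)) = ω (ω (x v)); rw [h, h] }

end

section

variable {H : Type*} [Group H]

theorem sq_conj {x y : H} (h3 : x * x * x = 1) (h2 : y * y = 1) :
    (x * y * x * x) * (x * y * x * x) = 1 := by
  calc (x * y * x * x) * (x * y * x * x) = x * y * (x * x * x) * y * x * x := by group
    _ = x * (y * y) * x * x := by rw [h3]; group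
    _ = 1 := by rw [h2, mul_one, h3]

theorem tr_aux {x y : H} (h3 : x * x * x = 1)
    (h : y * (x * y * x * x) * (x * x * y * x) = 1) : y * x * y * x * y * x = 1 := by
  rw [← h]
  calc y * x * y * x * y * x = y * x * y * (x * x * x) * x * y * x := by rw [h3, mul_one]
    _ = _ := by group

theorem sq_conj' {x y : H} (h3 : x * x * x = 1) (h2 : y * y = 1) :
    (x * x * y * x) * (x * x * y * x) = 1 := by
  calc (x * x * y * x) * (x * x * y * x) = x * x * y * (x * x * x) * y * x := by group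
    _ = x * x * (y * y) * x := by rw [h3]; group
    _ = 1 := by rw [h2, mul_one, h3]

end

variable {Γ V : Type*} [Group Γ] [AddCommGroup V] [Module (ZMod 2) V]

/-- Explicit coordinates for a projective action. -/
structure IsCoord (P : PR Γ V) (s t a b c d : Γ) (ω : V ≃ₗ[ZMod 2] V) (φ : V6 → V) : Prop where
  L_om : P.L 1 ω
  om_ne : ω ≠ 1
  bij : Function.Bijective φ
  add : ∀ p p', φ (p + p') = φ p + φ p'
  om : ∀ p, φ (scm .w p) = ω (φ p)
  q : ∀ p, P.q (φ p) = VCoord.tr (VCoord.hp3 p.1 p.2)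
  lin_s : ∀ x, P.L s x → ∃ γ : F4, γ ≠ 0 ∧ ∀ p, x (φ p) = φ (scm γ (CentCoords.MDg p))
  lin_t : ∀ x, P.L t x → ∃ γ : F4, γ ≠ 0 ∧ ∀ p, x (φ p) = φ (scm γ (CentCoords.MSh p))
  lin_a : ∀ x, P.L a x → ∃ γ : F4, γ ≠ 0 ∧ ∀ p, x (φ p) = φ (scm γ (CentCoords.MB01 p))
  lin_b : ∀ x, P.L b x → ∃ γ : F4, γ ≠ 0 ∧ ∀ p, x (φ p) = φ (scm γ (CentCoords.MB45 p))
  lin_c1 : ∀ x, P.L (s * s * d * s) x →
    ∃ γ : F4, γ ≠ 0 ∧ ∀ p, x (φ p) = φ (scm γ (CentCoords.MC1 p))
  lin_c2 : ∀ x, P.L (s * s * c * s) x →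
    ∃ γ : F4, γ ≠ 0 ∧ ∀ p, x (φ p) = φ (scm γ (CentCoords.MC2 p))

namespace PR

variable (P : PR Γ V)

theorem comm_inv {p p' : Γ} (hp' : p' ∈ P.In) {y y' : V ≃ₗ[ZMod 2] V} (hy : P.L p y)
    (hy' : P.L p' y') (hy2' : y' * y' = 1) (h : p * p' = p' * p) : y * y' = y' * y :=
  P.inv_conj hp' hy h hy' hy2' hy' hy2'

theorem sum_of {ω : V ≃ₗ[ZMod 2] V} (h : P.L 1 ω) (hne : ω ≠ 1) (v : V) :
    v + ω v + ω (ω v) = 0 := by
  rcases (P.one ω).1 h with rfl | rfl | rfl
  · exact absurd rfl hne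
  · exact P.sum v
  · change v + P.ρ (P.ρ v) + P.ρ (P.ρ (P.ρ (P.ρ v))) = 0
    have h3 : ∀ w, P.ρ (P.ρ (P.ρ w)) = w := fun w => DFunLike.congr_fun P.rho3 w
    rw [h3, ← P.sum v]
    abel

theorem K_smul {ω : V ≃ₗ[ZMod 2] V} (h : P.L 1 ω) (hne : ω ≠ 1) {k : V ≃ₗ[ZMod 2] V}
    (hk : P.L 1 k) : k = 1 ∨ k = ω ∨ k = ω * ω := by
  have h3 := P.rho3
  rcases (P.one ω).1 h with rfl | rfl | rfl
  · exact absurd rfl hne
  · exact (P.one k).1 hk
  · rcases (P.one k).1 hk with rfl | rfl | rfl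
    · left; rfl
    · right; right
      calc P.ρ = P.ρ * P.ρ * P.ρ * P.ρ := by rw [h3, one_mul]
        _ = _ := by group
    · right; left; rfl

end PR

/-- The scalar operator. -/
theorem exists_ops (P : PR Γ V) {s t a b c d u : Γ} (R : Rels s t a b c d u)
    (hb1 : b ≠ 1) (hd1 : d ≠ 1)
    (hs : s ∈ P.In) (ht : t ∈ P.In) (ha : a ∈ P.In) (hb : b ∈ P.In) (hc : c ∈ P.In)
    (hd : d ∈ P.In) (hu : u ∈ P.In)
    (hnc : ∀ x y, P.L s x → P.L t y → x * y ≠ y * x) :
    ∃ (ω xs xt xa xb xc xd : V ≃ₗ[ZMod 2] V) (hω : P.L 1 ω) (hne : ω ≠ 1),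
      P.L s xs ∧ P.L t xt ∧ P.L a xa ∧ P.L b xb ∧ P.L c xc ∧ P.L d xd ∧
      let _ := modF4 ω (PR.sum_of P hω hne)
      ∃ (T : TP V) (B : Frm T) (O : FrameMain.Ops B),
        (∀ v, T.s v = xs v) ∧ (∀ v, T.t v = xt v) ∧ (∀ v, O.a v = xa v) ∧ (∀ v, O.b v = xb v) ∧
        (∀ v, O.c v = xc v) ∧ (∀ v, O.d v = xd v) ∧ (∀ v, B.q v = P.q v) := by
  obtain ⟨xs, hxs⟩ := P.ex s hs
  obtain ⟨xt, hxt⟩ := P.ex t ht
  obtain ⟨xa, hxa, hxa2⟩ := P.inv_exists ha R.a2
  obtain ⟨xb, hxb, hxb2⟩ := P.inv_exists hb R.b2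
  obtain ⟨xc, hxc, hxc2⟩ := P.inv_exists hc R.c2
  obtain ⟨xd, hxd, hxd2⟩ := P.inv_exists hd R.d2
  obtain ⟨xu, hxu, hxu2⟩ := P.inv_exists hu R.u2
  have hs3 := P.order_three hs hu R.s3 R.us hxs
  have ht3 := P.order_three ht hu R.t3 R.ut hxt
  have hst := P.mul hxs hxt
  have hts := P.mul hxt hxs
  rw [← R.st] at hts
  obtain ⟨ω, hω, hωe⟩ := P.lift_eq hts hst
  have hne : ω ≠ 1 := by
    intro h
    rw [h, one_mul] at hωe
    exact hnc _ _ hxs hxt hωe
  have cω : ∀ {p : Γ}, p ∈ P.In → ∀ {x : V ≃ₗ[ZMod 2] V}, P.L p x → x * ω = ω * x :=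
    fun hp _ hx => (P.K_comm hp hω hx).symm
  refine ⟨ω, xs, xt, xa, xb, xc, xd, hω, hne, hxs, hxt, hxa, hxb, hxc, hxd, ?_⟩
  have hsum := PR.sum_of P hω hne
  -- scalars
  have hK : ∀ k : V ≃ₗ[ZMod 2] V, P.L 1 k → ∃ r : F4, ∀ v, k v = (letI := modF4 ω hsum; r • v) := by
    intro k hk
    rcases PR.K_smul P hω hne hk with rfl | rfl | rfl
    · exact ⟨F4.o, fun v => rfl⟩
    · exact ⟨F4.w, fun v => rfl⟩
    · exact ⟨F4.v, fun v => rfl⟩
  let _ := modF4 ω hsum
  have h1s := hs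
  let T : TP V :=
    { s := lin hsum xs (cω hs hxs)
      t := lin hsum xt (cω ht hxt)
      s3 := fun v => DFunLike.congr_fun hs3 v
      t3 := fun v => DFunLike.congr_fun ht3 v
      st := fun v => DFunLike.congr_fun hωe v }
  let B : Frm T :=
    { b := P.b
      q := P.q
      b_add := P.b_add
      b_comm := P.b_comm
      b_nondeg := P.b_nondeg
      q_add := P.q_add
      b_w := P.b_L hω
      q_w := P.q_L hω
      b_s := P.b_L hxs
      b_t := P.b_L hxt }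
  -- lifts of the conjugates
  have ha' := P.mul (P.mul (P.mul hxt hxa) hxt) hxt
  have ha'2 := sq_conj ht3 hxa2
  have ha'' := P.mul (P.mul (P.mul hxt hxt) hxa) hxt
  have ha''2 := sq_conj' ht3 hxa2
  have hb' := P.mul (P.mul (P.mul hxs hxb) hxs) hxs
  have hb'2 := sq_conj hs3 hxb2
  have hb'' := P.mul (P.mul (P.mul hxs hxs) hxb) hxs
  have hb''2 := sq_conj' hs3 hxb2
  have hc' := P.mul (P.mul (P.mul hxs hxc) hxs) hxs
  have hc'2 := sq_conj hs3 hxc2
  have hc'' := P.mul (P.mul (P.mul hxs hxs) hxc) hxs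
  have hc''2 := sq_conj' hs3 hxc2
  have hd' := P.mul (P.mul (P.mul hxs hxd) hxs) hxs
  have hd'2 := sq_conj hs3 hxd2
  have hd'' := P.mul (P.mul (P.mul hxs hxs) hxd) hxs
  have hd''2 := sq_conj' hs3 hxd2
  have ma' : t * a * t * t ∈ P.In := P.In.mul_mem (P.In.mul_mem (P.In.mul_mem ht ha) ht) ht
  have ma'' : t * t * a * t ∈ P.In := P.In.mul_mem (P.In.mul_mem (P.In.mul_mem ht ht) ha) ht
  have mb' : s * b * s * s ∈ P.In := P.In.mul_mem (P.In.mul_mem (P.In.mul_mem hs hb) hs) hs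
  have mb'' : s * s * b * s ∈ P.In := P.In.mul_mem (P.In.mul_mem (P.In.mul_mem hs hs) hb) hs
  have mc' : s * c * s * s ∈ P.In := P.In.mul_mem (P.In.mul_mem (P.In.mul_mem hs hc) hs) hs
  have mc'' : s * s * c * s ∈ P.In := P.In.mul_mem (P.In.mul_mem (P.In.mul_mem hs hs) hc) hs
  have md' : s * d * s * s ∈ P.In := P.In.mul_mem (P.In.mul_mem (P.In.mul_mem hs hd) hs) hs
  have md'' : s * s * d * s ∈ P.In := P.In.mul_mem (P.In.mul_mem (P.In.mul_mem hs hs) hd) hs
  have caa := PR.comm_inv P ma' hxa ha' ha'2 R.aa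
  have cab := PR.comm_inv P hb hxa hxb hxb2 R.ab
  have cab' := PR.comm_inv P mb' hxa hb' hb'2 R.ab'
  have ca'b := PR.comm_inv P hb ha' hxb hxb2 R.a'b
  have ca'b' := PR.comm_inv P mb' ha' hb' hb'2 R.a'b'
  have cbb := PR.comm_inv P mb' hxb hb' hb'2 R.bb
  have ccc := PR.comm_inv P mc' hxc hc' hc'2 R.cc
  have ccd := PR.comm_inv P hd hxc hxd hxd2 R.cd
  have ccd' := PR.comm_inv P md' hxc hd' hd'2 R.cd'
  have cc'd := PR.comm_inv P hd hc' hxd hxd2 R.c'd
  have cc'd' := PR.comm_inv P md' hc' hd' hd'2 R.c'd'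
  have cdd := PR.comm_inv P md' hxd hd' hd'2 R.dd
  have hatr := P.inv_mul3 ma'' R.atr caa hxa hxa2 ha' ha'2 ha'' ha''2
  have hbtr := P.inv_mul3 mb'' R.btr cbb hxb hxb2 hb' hb'2 hb'' hb''2
  have hctr := P.inv_mul3 mc'' R.ctr ccc hxc hxc2 hc' hc'2 hc'' hc''2
  have hdtr := P.inv_mul3 md'' R.dtr cdd hxd hxd2 hd' hd'2 hd'' hd''2
  have hsa := PR.comm_inv P ha hxs hxa hxa2 R.sa
  have htb := PR.comm_inv P hb hxt hxb hxb2 R.tb
  have hstc := PR.comm_inv P hc (P.mul hxs hxt) hxc hxc2 (by rw [R.stc, mul_assoc])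
  have hstd := PR.comm_inv P hd (P.mul (P.mul hxs hxt) hxt) hxd hxd2
    (by rw [R.std, mul_assoc, mul_assoc, mul_assoc])
  have hua := PR.comm_inv P ha hxu hxa hxa2 R.ua
  have huc := PR.comm_inv P hc hxu hxc hxc2 R.uc
  have hud := PR.comm_inv P hd hxu hxd hxd2 R.ud
  have hub := P.inv_conj mb' hxu R.ub hxb hxb2 hb' hb'2
  have e1 := P.mul hxu hxs
  rw [R.us] at e1
  obtain ⟨k1, hk1, hk1e⟩ := P.lift_eq (P.mul (P.mul hxs hxs) hxu) e1
  obtain ⟨r1, hr1⟩ := hK k1 hk1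
  have e2 := P.mul hxu hxt
  rw [R.ut] at e2
  obtain ⟨k2, hk2, hk2e⟩ := P.lift_eq (P.mul (P.mul hxt hxt) hxu) e2
  obtain ⟨r2, hr2⟩ := hK k2 hk2
  have nz : ∀ {p : Γ} {x : V ≃ₗ[ZMod 2] V}, P.L p x → p ≠ 1 → ∃ v, x v ≠ v := by
    intro p x hx hp
    by_contra hcon
    push Not at hcon
    have : x = 1 := LinearEquiv.ext hcon
    rw [this] at hx
    exact hp (P.inj hx P.one_one)
  have ha1 : a ≠ 1 := by
    rintro rfl
    exact R.ac (by rw [one_mul, mul_one])
  have hc1 : c ≠ 1 := by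
    rintro rfl
    exact R.ac (by rw [one_mul, mul_one])
  let O : FrameMain.Ops B :=
    { a := lin hsum xa (cω ha hxa)
      b := lin hsum xb (cω hb hxb)
      c := lin hsum xc (cω hc hxc)
      d := lin hsum xd (cω hd hxd)
      u := lin hsum xu (cω hu hxu)
      ba := P.b_L hxa
      bb := P.b_L hxb
      bc := P.b_L hxc
      bd := P.b_L hxd
      bu := P.b_L hxu
      a2 := fun v => DFunLike.congr_fun hxa2 v
      b2 := fun v => DFunLike.congr_fun hxb2 v
      c2 := fun v => DFunLike.congr_fun hxc2 v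
      d2 := fun v => DFunLike.congr_fun hxd2 v
      u2 := fun v => DFunLike.congr_fun hxu2 v
      sa := fun v => (DFunLike.congr_fun hsa v).symm
      tb := fun v => (DFunLike.congr_fun htb v).symm
      stc := fun v => (DFunLike.congr_fun hstc v).symm
      std := fun v => (DFunLike.congr_fun hstd v).symm
      atr := by
        intro v
        have h := DFunLike.congr_fun (tr_aux ht3 hatr) v
        simp only [FrameMain.ct, LinearMap.comp_apply, T.t3]
        exact h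
      btr := by
        intro v
        have h := DFunLike.congr_fun (tr_aux hs3 hbtr) v
        simp only [FrameMain.cs, LinearMap.comp_apply, T.s3]
        exact h
      ctr := by
        intro v
        have h := DFunLike.congr_fun (tr_aux hs3 hctr) v
        simp only [FrameMain.cs, LinearMap.comp_apply, T.s3]
        exact h
      dtr := by
        intro v
        have h := DFunLike.congr_fun (tr_aux hs3 hdtr) v
        simp only [FrameMain.cs, LinearMap.comp_apply, T.s3]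
        exact h
      caa := fun v => DFunLike.congr_fun caa v
      cab := fun v => DFunLike.congr_fun cab v
      cab' := fun v => DFunLike.congr_fun cab' v
      ca'b := fun v => DFunLike.congr_fun ca'b v
      ca'b' := fun v => DFunLike.congr_fun ca'b' v
      cbb := fun v => DFunLike.congr_fun cbb v
      ccc := fun v => DFunLike.congr_fun ccc v
      ccd := fun v => DFunLike.congr_fun ccd v
      ccd' := fun v => DFunLike.congr_fun ccd' v
      cc'd := fun v => DFunLike.congr_fun cc'd v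
      cc'd' := fun v => DFunLike.congr_fun cc'd' v
      cdd := fun v => DFunLike.congr_fun cdd v
      us := ⟨r1, fun v => (DFunLike.congr_fun hk1e v).trans (hr1 _)⟩
      ut := ⟨r2, fun v => (DFunLike.congr_fun hk2e v).trans (hr2 _)⟩
      ua := fun v => DFunLike.congr_fun hua v
      ub := fun v => DFunLike.congr_fun hub v
      uc := fun v => DFunLike.congr_fun huc v
      ud := fun v => DFunLike.congr_fun hud v
      na := nz hxa ha1
      nb := nz hxb hb1
      nc := nz hxc hc1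
      nd := nz hxd hd1
      nac := by
        by_contra hcon
        push Not at hcon
        have h1 : xa * xc = xc * xa := LinearEquiv.ext hcon
        have h2 := P.mul hxa hxc
        have h3 := P.mul hxc hxa
        rw [h1] at h2
        exact R.ac (P.inj h2 h3) }
  exact ⟨T, B, O, fun _ => rfl, fun _ => rfl, fun _ => rfl, fun _ => rfl, fun _ => rfl,
    fun _ => rfl, fun _ => rfl⟩

section

variable {V : Type*} [AddCommGroup V] [Module F4 V] {T : TP V} {B : Frm T} (F : Fr B)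

theorem phi_scm (r : F4) (p : V6) : F.phi (scm r p) = r • F.phi p := F.phi_smul r p

theorem phi_IsM' {x : V →ₗ[F4] V} {m : Fin 3 → Fin 3 → F4} (h : F.IsM' x m)
    (a c : Fin 3 → F4) : x (F.phi (a, c)) =
      F.phi (a, c + (fun j => a 0 * m 0 j + a 1 * m 1 j + a 2 * m 2 j)) := by
  have h' : F.swap.IsM x m := h
  have h1 := h'.phi c a
  have e : ∀ (c a : Fin 3 → F4), F.swap.phi (c, a) = F.phi (a, c) := fun c a => add_comm _ _
  rw [e, e] at h1
  exact h1

theorem q_eq (p : V6) : B.q (F.phi p) = VCoord.tr (VCoord.hp3 p.1 p.2) := by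
  rw [F.q_phi, VCoord.hp3]
  have e1 : ∀ x y : F4, tr (x * conj y) = VCoord.tr (x * VCoord.cj y) := by decide
  have e2 : ∀ x y : F4, VCoord.tr (x + y) = VCoord.tr x + VCoord.tr y := by decide
  rw [e1, e1, e1, e2, e2]

theorem s_phi (p : V6) : T.s (F.phi p) = F.phi (scm F.lam (CentCoords.MDg p)) := by
  have h : ∀ a : Fin 3 → F4, (fun j => F.lam * TP.ev j * a j) = VCoord.sc F.lam (CentCoords.Dg a) := by
    intro a
    funext j
    have k : ∀ l x : F4, l * F4.o * x = l * x := by decide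
    fin_cases j
    · exact k _ _
    · exact mul_assoc _ _ _
    · exact mul_assoc _ _ _
  change T.s (F.E p.1 + F.G p.2) = F.E _ + F.G _
  rw [map_add, s_E, G_s, h, h]
  rfl

theorem t_phi (p : V6) : T.t (F.phi p) = F.phi (scm F.kap (CentCoords.MSh p)) := by
  have h : ∀ a : Fin 3 → F4, (fun j => F.kap * a (j - 1)) = VCoord.sc F.kap (CentCoords.Sh a) := by
    intro a
    funext j
    fin_cases j <;> rfl
  change T.t (F.E p.1 + F.G p.2) = F.E _ + F.G _
  have e2 : T.t (F.G p.2) = F.G (fun j => F.kap * p.2 (j - 1)) := t_E F.swap p.2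
  rw [map_add, t_E, e2, h, h]
  rfl

theorem a_phi {x : V →ₗ[F4] V} (h : F.IsM x mA) (p : V6) : x (F.phi p) = F.phi (CentCoords.MB01 p) := by
  obtain ⟨a, c⟩ := p
  rw [h.phi]
  congr 1
  apply Prod.ext
  · change a + _ = a + _
    congr 1
    funext j
    change c 0 * mA 0 j + c 1 * mA 1 j + c 2 * mA 2 j = CentCoords.B01 c j
    have k0 : ∀ x y r : F4, x * F4.o + y * F4.z + r * F4.z = x := by decide
    have k1 : ∀ x y r : F4, x * F4.z + y * F4.o + r * F4.z = y := by decide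
    have k2 : ∀ x y r : F4, x * F4.z + y * F4.z + r * F4.z = F4.z := by decide
    fin_cases j
    · exact k0 _ _ _
    · exact k1 _ _ _
    · exact k2 _ _ _
  · rfl

theorem b_phi {x : V →ₗ[F4] V} (h : F.IsM x mB) (p : V6) : x (F.phi p) = F.phi (CentCoords.MB45 p) := by
  obtain ⟨a, c⟩ := p
  rw [h.phi]
  congr 1
  apply Prod.ext
  · change a + _ = a + _
    congr 1
    funext j
    change c 0 * mB 0 j + c 1 * mB 1 j + c 2 * mB 2 j = CentCoords.B45 c j
    have k0 : ∀ x y r : F4, x * F4.z + y * F4.o + r * F4.o = y + r := by decide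
    have k1 : ∀ x y r : F4, x * F4.o + y * F4.z + r * F4.o = x + r := by decide
    have k2 : ∀ x y r : F4, x * F4.o + y * F4.o + r * F4.z = x + y := by decide
    fin_cases j
    · exact k0 _ _ _
    · exact k1 _ _ _
    · exact k2 _ _ _
  · rfl

theorem d_phi {x : V →ₗ[F4] V} (h : F.IsM' x mD) (p : V6) :
    cs T (cs T x) (F.phi p) = F.phi (CentCoords.MC1 p) := by
  obtain ⟨a, c⟩ := p
  have h1 := conj_s (F := F.swap) h (cs_s (T := T) x)
  have h2 : F.IsM' (cs T (cs T x)) (fun i j => (TP.ev i)⁻¹ * TP.ev j *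
    ((TP.ev i)⁻¹ * TP.ev j * mD i j)) := conj_s h1 (cs_s (T := T) (cs T x))
  rw [phi_IsM' F h2]
  congr 1
  apply Prod.ext
  · rfl
  · change c + _ = c + _
    congr 1
    funext j
    have k0 : ∀ x y r : F4, x * F4.z + y * F4.v + r * F4.v = F4.v * y + F4.v * r := by decide
    have k1 : ∀ x y r : F4, x * F4.w + y * F4.z + r * F4.o = F4.w * x + r := by decide
    have k2 : ∀ x y r : F4, x * F4.w + y * F4.o + r * F4.z = F4.w * x + y := by decide
    fin_cases j
    · exact k0 _ _ _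
    · exact k1 _ _ _
    · exact k2 _ _ _

theorem c_phi {x : V →ₗ[F4] V} (h : F.IsM' x mC) (p : V6) :
    cs T (cs T x) (F.phi p) = F.phi (CentCoords.MC2 p) := by
  obtain ⟨a, c⟩ := p
  have h1 := conj_s (F := F.swap) h (cs_s (T := T) x)
  have h2 : F.IsM' (cs T (cs T x)) (fun i j => (TP.ev i)⁻¹ * TP.ev j *
    ((TP.ev i)⁻¹ * TP.ev j * mC i j)) := conj_s h1 (cs_s (T := T) (cs T x))
  rw [phi_IsM' F h2]
  congr 1
  apply Prod.ext
  · rfl
  · change c + _ = c + _
    congr 1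
    funext j
    have k0 : ∀ x y r : F4, x * F4.z + y * F4.v + r * F4.o = F4.v * y + r := by decide
    have k1 : ∀ x y r : F4, x * F4.w + y * F4.z + r * F4.w = F4.w * x + F4.w * r := by decide
    have k2 : ∀ x y r : F4, x * F4.o + y * F4.v + r * F4.z = x + F4.v * y := by decide
    fin_cases j
    · exact k0 _ _ _
    · exact k1 _ _ _
    · exact k2 _ _ _

end

theorem exists_coord (P : PR Γ V) [Finite V] (hV : Nat.card V = 4096) {s t a b c d u : Γ}
    (R : Rels s t a b c d u) (hb1 : b ≠ 1) (hd1 : d ≠ 1)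
    (hs : s ∈ P.In) (ht : t ∈ P.In) (ha : a ∈ P.In) (hb : b ∈ P.In) (hc : c ∈ P.In)
    (hd : d ∈ P.In) (hu : u ∈ P.In)
    (hnc : ∀ x y, P.L s x → P.L t y → x * y ≠ y * x) :
    ∃ (ω : V ≃ₗ[ZMod 2] V) (φ : V6 → V), IsCoord P s t a b c d ω φ := by
  obtain ⟨ω, xs, xt, xa, xb, xc, xd, hω, hne, hxs, hxt, hxa, hxb, hxc, hxd, T, B, O, eT, eT', ea,
    eb, ec, ed, eq⟩ := exists_ops P R hb1 hd1 hs ht ha hb hc hd hu hnc
  have hsum := PR.sum_of P hω hne
  let _ := modF4 ω hsum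
  obtain ⟨F, hFa, hFb, hFc, hFd, -⟩ := O.main hV
  have hK : ∀ k : V ≃ₗ[ZMod 2] V, P.L 1 k → ∃ r : F4, r ≠ 0 ∧ ∀ v, k v = r • v := by
    intro k hk
    rcases PR.K_smul P hω hne hk with rfl | rfl | rfl
    · exact ⟨F4.o, by decide, fun v => rfl⟩
    · exact ⟨F4.w, by decide, fun v => rfl⟩
    · exact ⟨F4.v, by decide, fun v => rfl⟩
  have key : ∀ {p : Γ} {x0 : V ≃ₗ[ZMod 2] V} {r : F4} {M : V6 → V6}, P.L p x0 → r ≠ 0 →
      (∀ v, x0 (F.phi v) = F.phi (scm r (M v))) →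
      ∀ x, P.L p x → ∃ γ : F4, γ ≠ 0 ∧ ∀ v, x (F.phi v) = F.phi (scm γ (M v)) := by
    intro p x0 r M h0 hr hM x hx
    obtain ⟨k, hk, rfl⟩ := P.lift_eq h0 hx
    obtain ⟨r', hr', hkr⟩ := hK k hk
    refine ⟨r' * r, mul_ne_zero hr' hr, fun v => ?_⟩
    change k (x0 (F.phi v)) = _
    rw [hkr, hM, phi_scm, phi_scm, smul_smul]
  have one_scm : ∀ v : V6, scm 1 v = v := fun v => one_smul F4 v
  have hcs : ∀ (x : V →ₗ[F4] V) (w : V), cs T (cs T x) w = T.s (T.s (x (T.s w))) := by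
    intro x w
    simp only [FrameMain.cs, LinearMap.comp_apply, T.s3]
  refine ⟨ω, F.phi, ⟨hω, hne, F.phi_bijective hV, F.phi_add, fun p => phi_scm F F4.w p,
    fun p => (eq _).symm.trans (q_eq F p), ?_, ?_, ?_, ?_, ?_, ?_⟩⟩
  · exact key hxs F.lam_ne (fun v => (eT _).symm.trans (s_phi F v))
  · exact key hxt F.kap_ne (fun v => (eT' _).symm.trans (t_phi F v))
  · exact key (r := 1) hxa one_ne_zero (fun v => by rw [one_scm, ← ea, a_phi F hFa])
  · exact key (r := 1) hxb one_ne_zero (fun v => by rw [one_scm, ← eb, b_phi F hFb])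
  · refine key (r := 1) (P.mul (P.mul (P.mul hxs hxs) hxd) hxs) one_ne_zero (fun v => ?_)
    rw [one_scm, ← d_phi F hFd]
    rw [hcs, eT, eT, eT, ed]
    rfl
  · refine key (r := 1) (P.mul (P.mul (P.mul hxs hxs) hxc) hxs) one_ne_zero (fun v => ?_)
    rw [one_scm, ← c_phi F hFc]
    rw [hcs, eT, eT, eT, ec]
    rfl

end Cfsg.Agent.J4Type.FrameLift
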