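import Cfsg.Agent.J4Type.CentCoords
set_option linter.all false

/-!
# J₄ type: the data from which the coordinates of `V = Q/⟨z⟩` are constructed (R07, helper856)

* `ps, ps', pb01, pb45, pc1, pc2, pu` : explicit elements of `M22` (as elements of `M24`) and relations between them;
* `PR V` : an `F₄`-space `V` of dimension 6 with a quadratic form (over `F₂`) and a relation `L p x` : "`x` is a lift
  of the element `p` of `M22`";
* `Co R` : coordinates of `V` in which the lifts of `ps`, `ps'` are monomial;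
* lifts of order 2 of commuting involutions commute, etc.
-/

set_option autoImplicit false

namespace Cfsg.Agent.J4Type.CoordPR

open Cfsg Cfsg.Agent.SporadicA.GolayBase Cfsg.Agent.SporadicA.GolayPerm
open Cfsg.Agent.SporadicA.FieldFour (F4)
open Cfsg.Agent.J4Type.VCoord Cfsg.Agent.J4Type.CentCoords Cfsg.Agent.J4Type.CocodeMask

/-- inverts `ps` and `ps'`: `(0 1)(3 4)` on `hex1` -/
def Tu : ℕ := 983560731418158413928926452022259104

noncomputable def ps : M24 := mk Ts (by decide +kernel)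
noncomputable def ps' : M24 := mk Ts' (by decide +kernel)
noncomputable def pb01 : M24 := mk Tb01 (by decide +kernel)
noncomputable def pb45 : M24 := mk Tb45 (by decide +kernel)
noncomputable def pc1 : M24 := mk Tc1 (by decide +kernel)
noncomputable def pc2 : M24 := mk Tc2 (by decide +kernel)
noncomputable def pu : M24 := mk Tu (by decide +kernel)

theorem tab_s : IsTab ps Ts := isTab_mk _ _
theorem tab_s' : IsTab ps' Ts' := isTab_mk _ _
theorem tab_b01 : IsTab pb01 Tb01 := isTab_mk _ _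
theorem tab_b45 : IsTab pb45 Tb45 := isTab_mk _ _
theorem tab_c1 : IsTab pc1 Tc1 := isTab_mk _ _
theorem tab_c2 : IsTab pc2 Tc2 := isTab_mk _ _
theorem tab_u : IsTab pu Tu := isTab_mk _ _

theorem eq_of_tab {g h : M24} {P Q : ℕ} (hg : IsTab g P) (hh : IsTab h Q) (hPQ : P = Q) : g = h := by
  subst hPQ
  exact hg.eq hh

theorem ne_of_tab {g h : M24} {P Q : ℕ} (hg : IsTab g P) (hh : IsTab h Q) (p : GolayPt)
    (hPQ : papp P (idx p) ≠ papp Q (idx p)) : g ≠ h := by
  rintro rfl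
  exact hPQ ((hg p).symm.trans (hh p))

/-- the elements of `M22` -/
def Inn (p : M24) : Prop :=
  (p : Equiv.Perm GolayPt) none = none ∧ (p : Equiv.Perm GolayPt) (some 0) = some 0

theorem inn_of_tab {g : M24} {P : ℕ} (hg : IsTab g P) (h1 : papp P 23 = 23) (h2 : papp P 0 = 0) : Inn g := by
  refine ⟨idx_injective ?_, idx_injective ?_⟩
  · exact (hg none).trans h1
  · exact (hg (some 0)).trans h2

theorem Inn.mul {p p' : M24} (h : Inn p) (h' : Inn p') : Inn (p * p') := by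
  refine ⟨?_, ?_⟩
  · show (p : Equiv.Perm GolayPt) ((p' : Equiv.Perm GolayPt) none) = none
    rw [h'.1, h.1]
  · show (p : Equiv.Perm GolayPt) ((p' : Equiv.Perm GolayPt) (some 0)) = some 0
    rw [h'.2, h.2]

theorem Inn.inv {p : M24} (h : Inn p) : Inn p⁻¹ := by
  refine ⟨?_, ?_⟩
  · show (p : Equiv.Perm GolayPt)⁻¹ none = none
    rw [Equiv.Perm.inv_eq_iff_eq, h.1]
  · show (p : Equiv.Perm GolayPt)⁻¹ (some 0) = some 0
    rw [Equiv.Perm.inv_eq_iff_eq, h.2]

theorem inn_s : Inn ps := inn_of_tab tab_s (by decide +kernel) (by decide +kernel)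
theorem inn_s' : Inn ps' := inn_of_tab tab_s' (by decide +kernel) (by decide +kernel)
theorem inn_b01 : Inn pb01 := inn_of_tab tab_b01 (by decide +kernel) (by decide +kernel)
theorem inn_b45 : Inn pb45 := inn_of_tab tab_b45 (by decide +kernel) (by decide +kernel)
theorem inn_c1 : Inn pc1 := inn_of_tab tab_c1 (by decide +kernel) (by decide +kernel)
theorem inn_c2 : Inn pc2 := inn_of_tab tab_c2 (by decide +kernel) (by decide +kernel)
theorem inn_u : Inn pu := inn_of_tab tab_u (by decide +kernel) (by decide +kernel)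

/-! ### relations -/

theorem s_cube : ps * ps * ps = 1 := eq_of_tab ((tab_s.mul tab_s).mul tab_s) isTab_one (by decide +kernel)
theorem s'_cube : ps' * ps' * ps' = 1 :=
  eq_of_tab ((tab_s'.mul tab_s').mul tab_s') isTab_one (by decide +kernel)
theorem s_comm : ps * ps' = ps' * ps := eq_of_tab (tab_s.mul tab_s') (tab_s'.mul tab_s) (by decide +kernel)
theorem s_u_s : ps * pu * ps = pu := eq_of_tab ((tab_s.mul tab_u).mul tab_s) tab_u (by decide +kernel)
theorem s'_u_s' : ps' * pu * ps' = pu := eq_of_tab ((tab_s'.mul tab_u).mul tab_s') tab_u (by decide +kernel)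
theorem s_ne : ps ≠ 1 := ne_of_tab tab_s isTab_one (pt 15) (by decide +kernel)
theorem s'_ne : ps' ≠ 1 := ne_of_tab tab_s' isTab_one (pt 3) (by decide +kernel)
theorem s'_ne_s : ps' ≠ ps := ne_of_tab tab_s' tab_s (pt 15) (by decide +kernel)
theorem s'_ne_s2 : ps' ≠ ps * ps := ne_of_tab tab_s' (tab_s.mul tab_s) (pt 15) (by decide +kernel)

theorem b01_sq : pb01 * pb01 = 1 := eq_of_tab (tab_b01.mul tab_b01) isTab_one (by decide +kernel)
theorem b45_sq : pb45 * pb45 = 1 := eq_of_tab (tab_b45.mul tab_b45) isTab_one (by decide +kernel)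
theorem c1_sq : pc1 * pc1 = 1 := eq_of_tab (tab_c1.mul tab_c1) isTab_one (by decide +kernel)
theorem c2_sq : pc2 * pc2 = 1 := eq_of_tab (tab_c2.mul tab_c2) isTab_one (by decide +kernel)
theorem b01_ne : pb01 ≠ 1 := ne_of_tab tab_b01 isTab_one (pt 3) (by decide +kernel)
theorem b45_ne : pb45 ≠ 1 := ne_of_tab tab_b45 isTab_one (pt 18) (by decide +kernel)
theorem c1_ne : pc1 ≠ 1 := ne_of_tab tab_c1 isTab_one (pt 4) (by decide +kernel)
theorem c2_ne : pc2 ≠ 1 := ne_of_tab tab_c2 isTab_one (pt 2) (by decide +kernel)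

/-- `s` centralises `b01` -/
theorem s_b01 : ps * pb01 = pb01 * ps := eq_of_tab (tab_s.mul tab_b01) (tab_b01.mul tab_s) (by decide +kernel)
/-- `s'` centralises `b45` -/
theorem s'_b45 : ps' * pb45 = pb45 * ps' :=
  eq_of_tab (tab_s'.mul tab_b45) (tab_b45.mul tab_s') (by decide +kernel)
/-- `b01 (s' b01 s'⁻¹) (s'⁻¹ b01 s') = 1` -/
theorem b01_rel : pb01 * (ps' * pb01 * (ps' * ps')) = ps' * ps' * pb01 * ps' :=
  eq_of_tab (tab_b01.mul ((tab_s'.mul tab_b01).mul (tab_s'.mul tab_s')))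
    (((tab_s'.mul tab_s').mul tab_b01).mul tab_s') (by decide +kernel)
theorem b45_rel : pb45 * (ps * pb45 * (ps * ps)) = ps * ps * pb45 * ps :=
  eq_of_tab (tab_b45.mul ((tab_s.mul tab_b45).mul (tab_s.mul tab_s)))
    (((tab_s.mul tab_s).mul tab_b45).mul tab_s) (by decide +kernel)
theorem b01_b45 : pb01 * pb45 = pb45 * pb01 :=
  eq_of_tab (tab_b01.mul tab_b45) (tab_b45.mul tab_b01) (by decide +kernel)
/-- `s s'⁻¹` centralises `c1` -/
theorem s_c1 : ps * pc1 * (ps * ps) = ps' * pc1 * (ps' * ps') :=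
  eq_of_tab ((tab_s.mul tab_c1).mul (tab_s.mul tab_s)) ((tab_s'.mul tab_c1).mul (tab_s'.mul tab_s'))
    (by decide +kernel)
/-- `s s'` centralises `c2` -/
theorem s_c2 : ps * pc2 * (ps * ps) = ps' * ps' * pc2 * ps' :=
  eq_of_tab ((tab_s.mul tab_c2).mul (tab_s.mul tab_s)) (((tab_s'.mul tab_s').mul tab_c2).mul tab_s')
    (by decide +kernel)
theorem c1_rel : pc1 * (ps * pc1 * (ps * ps)) = ps * ps * pc1 * ps :=
  eq_of_tab (tab_c1.mul ((tab_s.mul tab_c1).mul (tab_s.mul tab_s)))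
    (((tab_s.mul tab_s).mul tab_c1).mul tab_s) (by decide +kernel)
theorem c2_rel : pc2 * (ps * pc2 * (ps * ps)) = ps * ps * pc2 * ps :=
  eq_of_tab (tab_c2.mul ((tab_s.mul tab_c2).mul (tab_s.mul tab_s)))
    (((tab_s.mul tab_s).mul tab_c2).mul tab_s) (by decide +kernel)
theorem c1_c2 : pc1 * pc2 = pc2 * pc1 :=
  eq_of_tab (tab_c1.mul tab_c2) (tab_c2.mul tab_c1) (by decide +kernel)
theorem b01_c1 : pb01 * pc1 ≠ pc1 * pb01 :=
  ne_of_tab (tab_b01.mul tab_c1) (tab_c1.mul tab_b01) (pt 1) (by decide +kernel)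

/-- the product of `b01 b45` and `s'² c1 s'` -/
noncomputable def pr1 : M24 := pb01 * pb45 * (ps' * ps' * pc1 * ps')
/-- the product of `b01 b45` and `s' c2 s'²` -/
noncomputable def pr2 : M24 := pb01 * pb45 * (ps' * pc2 * (ps' * ps'))

theorem pr1_rel : pr1 * pr1 * (pr1 * pr1) = 1 := by
  have h : IsTab pr1 _ := ((tab_b01.mul tab_b45).mul (((tab_s'.mul tab_s').mul tab_c1).mul tab_s'))
  exact eq_of_tab ((h.mul h).mul (h.mul h)) isTab_one (by decide +kernel)

theorem pr2_rel : pr2 * pr2 * (pr2 * pr2) = 1 := by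
  have h : IsTab pr2 _ := ((tab_b01.mul tab_b45).mul ((tab_s'.mul tab_c2).mul (tab_s'.mul tab_s')))
  exact eq_of_tab ((h.mul h).mul (h.mul h)) isTab_one (by decide +kernel)

end Cfsg.Agent.J4Type.CoordPR

namespace Cfsg.Agent.J4Type

open Cfsg CoordPR CentCoords VCoord
open Cfsg.Agent.SporadicA.FieldFour (F4)

/-- `V` is an `F₄`-space of dimension 6 with a quadratic form over `F₂`, and `L p x` says that `x` is a lift of the
element `p` of `M22`. -/
structure PR (V : Type*) [AddCommGroup V] [Module F4 V] where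
  q : V → ZMod 2
  B : V → V → ZMod 2
  L : M24 → (V ≃ₗ[F4] V) → Prop
  card : Nat.card V = 4096
  q_add : ∀ u v, q (u + v) = q u + q v + B u v
  B_add : ∀ u v w, B (u + v) w = B u w + B v w
  B_comm : ∀ u v, B u v = B v u
  nondeg : ∀ u, (∀ v, B u v = 0) → u = 0
  q_smul : ∀ (γ : F4) (v : V), γ ≠ 0 → q (γ • v) = q v
  L_one : ∀ x, L 1 x ↔ ∃ γ : F4, γ ≠ 0 ∧ ∀ v, x v = γ • v
  L_mul : ∀ p p' x x', L p x → L p' x' → L (p * p') (x * x')
  L_inv : ∀ p x, L p x → L p⁻¹ x⁻¹
  L_inj : ∀ p p' x, L p x → L p' x → p = p'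
  L_q : ∀ p x, L p x → ∀ v, q (x v) = q v
  L_exists : ∀ p : M24, Inn p → ∃ x, L p x
  /-- the choice of the `F₄`-structure -/
  comm : ∀ x x', L ps x → L ps' x' → ∀ v, x (x' v) = (.w : F4) • x' (x v)

/-- Coordinates in which the lifts of `ps`, `ps'` are monomial. -/
structure Co {V : Type*} [AddCommGroup V] [Module F4 V] (R : PR V) where
  co : V ≃ₗ[F4] V6
  q_co : ∀ v, R.q v = tr (hp3 (co v).1 (co v).2)
  co_s : ∀ x, R.L ps x → ∃ γ : F4, γ ≠ 0 ∧ ∀ v, co (x v) = γ • MDg (co v)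
  co_s' : ∀ x, R.L ps' x → ∃ γ : F4, γ ≠ 0 ∧ ∀ v, co (x v) = γ • MSh (co v)
  fix_b : ∀ p x, p = pb01 ∨ p = pb45 → R.L p x → x * x = 1 → ∀ v, (co v).2 = 0 → x v = v
  fix_c : ∀ p x, p = pc1 ∨ p = pc2 → R.L p x → x * x = 1 → ∀ v, (co v).1 = 0 → x v = v

end Cfsg.Agent.J4Type
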