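import Cfsg.Agent.J4Type.NormE
import Cfsg.Agent.J4Type.DuadStab
set_option linter.all false

/-!
# From a presentation of `E hex0` as the even cocode to `Frame`

`Coco H` : elements `e p` of `E = E hex0`, one for each of the 24 points, presenting `E` as the
even cocode, such that the conjugates of `z` under `N_G(E)` are exactly the elements of `E` which
are not `1` and not duads, together with the position of `z`, of `E ∩ Q`, of the map `P` and of
`ρ` with respect to the `e p`.
-/

set_option autoImplicit false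

namespace Cfsg.Agent.J4Type.FrameOf

open Cfsg Cfsg.Agent.J4Type.HexStab Cfsg.Agent.J4Type.NormE
open Cfsg.Agent.J4Type.DuadStab (IsCocode prod_symmDiff)
open scoped Pointwise IsMulCommutative

variable {G : Type*} [Group G]

instance instCommE (H : Hex G) : IsMulCommutative (H.E hex0) :=
  ⟨⟨fun a b => Subtype.ext ((H.E_elem hex0 isHex_hex0).2 a a.2 b b.2)⟩⟩

/-- multiplication by `ω` on the codes `0, 1, 2 = ω, 3 = ω²` -/
def om : Fin 4 → Fin 4 := ![0, 2, 3, 1]

/-- A presentation of `E = E hex0` as the even cocode. -/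
structure Coco (H : Hex G) where
  e : GolayPt → H.E hex0
  cocode : IsCocode e
  gen : ∀ a : H.E hex0, ∃ S : Finset GolayPt, Even S.card ∧ a = ∏ i ∈ S, e i
  /-- the conjugates of `z` under `N_G(E)` are the elements which are not duads -/
  conj_iff : ∀ a : H.E hex0, a ≠ 1 →
    ((∃ n ∈ Subgroup.normalizer (H.E hex0 : Set G), n * H.z * n⁻¹ = a) ↔
      ¬ ∃ p q, p ≠ q ∧ a = e p * e q)
  prod_tet : ∀ i, ((∏ p ∈ tet i, e p : H.E hex0) : G) = H.z
  mem_Q : ∀ i j : Fin 6, ∀ p ∈ tet i, ∀ q ∈ tet j, ((e p : G) * (e q : G) ∈ H.Q ↔ i = j)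
  P_duad : ∀ (a : Subgroup.centralizer ({H.z} : Set G)) (i j : Fin 6), i ≠ j →
    ∀ p ∈ tet i, ∀ q ∈ tet j, (a : G) = (e p : G) * (e q : G) → H.P a (hp i) = hp j
  ρ_duad : ∀ (i j : Fin 6) (c d : Fin 4),
    H.ρ * ((e (mog i c) : G) * (e (mog j d) : G)) * H.ρ⁻¹ =
      (e (mog i (om c)) : G) * (e (mog j (om d)) : G)

variable {H : Hex G} (K : Coco H)

/-- The cocode element of a set. -/
noncomputable def eps (S : Finset GolayPt) : G := ((∏ p ∈ S, K.e p : H.E hex0) : G)

theorem eps_mul (S T : Finset GolayPt) : eps K (symmDiff S T) = eps K S * eps K T := by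
  unfold eps
  rw [prod_symmDiff K.cocode.sq, Subgroup.coe_mul]

theorem eps_eq_one (S : Finset GolayPt) (hS : Even S.card) : eps K S = 1 ↔ IsCode S := by
  have h : eps K S = 1 ↔ ∏ p ∈ S, K.e p = 1 :=
    ⟨fun h => Subtype.ext h, fun h => by unfold eps; rw [h]; rfl⟩
  rw [h]
  exact K.cocode.ker S hS

theorem eps_pair {p q : GolayPt} (h : p ≠ q) : eps K {p, q} = (K.e p : G) * (K.e q : G) := by
  unfold eps
  rw [Finset.prod_pair h, Subgroup.coe_mul]

/-- The conjugation action of the normaliser. -/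
noncomputable abbrev actN (H : Hex G) :
    MulDistribMulAction (Subgroup.normalizer (H.E hex0 : Set G)) (H.E hex0) :=
  MulDistribMulAction.compHom (H.E hex0) (H.E hex0).normalizerMonoidHom

attribute [local instance] actN

theorem duad_ne_one {p q : GolayPt} (h : p ≠ q) : K.e p * K.e q ≠ 1 := by
  intro h1
  have h2 := K.cocode.eq_empty {p, q} (by rw [Finset.card_pair h]; exact ⟨1, rfl⟩)
    (by rw [Finset.card_pair h]; norm_num) (by rw [Finset.prod_pair h, h1])
  exact Finset.insert_ne_empty _ _ h2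

/-- The duads are permuted by the normaliser. -/
theorem duad_conj (n : Subgroup.normalizer (H.E hex0 : Set G)) (i j : GolayPt) (hij : i ≠ j) :
    ∃ k l, k ≠ l ∧ n • (K.e i * K.e j) = K.e k * K.e l := by
  by_contra hcon
  have h1 : n • (K.e i * K.e j) ≠ 1 := by
    intro h
    have h2 : (n : G) * ((K.e i * K.e j : H.E hex0) : G) * (n : G)⁻¹ = 1 :=
      congrArg (fun x : H.E hex0 => (x : G)) h
    have h3 : ((K.e i * K.e j : H.E hex0) : G) = 1 := by
      rw [mul_inv_eq_one, mul_eq_left] at h2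
      exact h2
    exact duad_ne_one K hij (Subtype.ext h3)
  obtain ⟨m, hm, h2⟩ := (K.conj_iff _ h1).2 hcon
  have h3 : m * H.z * m⁻¹ = (n : G) * ((K.e i * K.e j : H.E hex0) : G) * (n : G)⁻¹ := h2
  refine (K.conj_iff (K.e i * K.e j) (duad_ne_one K hij)).1 ⟨(n : G)⁻¹ * m,
    Subgroup.mul_mem _ (Subgroup.inv_mem _ n.2) hm, ?_⟩ ⟨i, j, hij, rfl⟩
  calc (n : G)⁻¹ * m * H.z * ((n : G)⁻¹ * m)⁻¹ = (n : G)⁻¹ * (m * H.z * m⁻¹) * n := by group
    _ = ((K.e i * K.e j : H.E hex0) : G) := by rw [h3]; group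

theorem exists_pi : ∃ f : Subgroup.normalizer (H.E hex0 : Set G) →* M24,
    (∀ (n : Subgroup.normalizer (H.E hex0 : Set G)) (S : Finset GolayPt), Even S.card →
      (n : G) * eps K S * (n : G)⁻¹ = eps K ((f n : Equiv.Perm GolayPt) • S)) ∧
    ∀ n, f n = 1 ↔ (n : G) ∈ H.E hex0 := by
  obtain ⟨f, h1, h2⟩ := K.cocode.exists_hom (X := Subgroup.normalizer (H.E hex0 : Set G))
    K.gen (fun n i j hij => duad_conj K n i j hij)
  refine ⟨f, fun n S hS => ?_, fun n => ?_⟩
  · have h3 := congrArg (fun x : H.E hex0 => (x : G)) (h1 n S hS)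
    have h4 : ∏ i ∈ S, K.e ((f n : Equiv.Perm GolayPt) i) =
        ∏ i ∈ ((f n : Equiv.Perm GolayPt) • S), K.e i := by
      have h5 : ((f n : Equiv.Perm GolayPt) • S) = S.map (f n : Equiv.Perm GolayPt).toEmbedding :=
        SporadicA.GolayPerm.smul_finset_eq_map _ _
      rw [h5, Finset.prod_map]
      rfl
    rw [h4] at h3
    exact h3
  · rw [h2 n]
    constructor
    · intro h
      apply H.A_cent hex0 isHex_hex0
      intro a ha _
      have h3 : (n : G) * a * (n : G)⁻¹ = a :=
        congrArg (fun x : H.E hex0 => (x : G)) (h ⟨a, ha⟩)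
      rw [mul_inv_eq_iff_eq_mul] at h3
      exact h3
    · intro h a
      apply Subtype.ext
      show (n : G) * (a : G) * (n : G)⁻¹ = a
      rw [(H.E_elem hex0 isHex_hex0).2 n h a a.2, mul_inv_cancel_right]

/-- The set of duads. -/
def duads : Set (H.E hex0) := {a | ∃ p q, p ≠ q ∧ a = K.e p * K.e q}

theorem ncard_duads : (duads K).ncard = 276 := by
  classical
  have h1 : duads K = (fun S : Finset GolayPt => ∏ p ∈ S, K.e p) ''
      ((Finset.univ : Finset GolayPt).powersetCard 2 : Finset (Finset GolayPt)) := by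
    ext a
    constructor
    · rintro ⟨p, q, hpq, rfl⟩
      refine ⟨{p, q}, ?_, Finset.prod_pair hpq⟩
      rw [Finset.mem_coe, Finset.mem_powersetCard]
      exact ⟨Finset.subset_univ _, Finset.card_pair hpq⟩
    · rintro ⟨S, hS, rfl⟩
      rw [Finset.mem_coe, Finset.mem_powersetCard] at hS
      obtain ⟨p, q, hpq, rfl⟩ := Finset.card_eq_two.1 hS.2
      exact ⟨p, q, hpq, Finset.prod_pair hpq⟩
  have h2 : Set.InjOn (fun S : Finset GolayPt => ∏ p ∈ S, K.e p)
      ((Finset.univ : Finset GolayPt).powersetCard 2 : Finset (Finset GolayPt)) := by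
    intro S hS T hT h
    rw [Finset.mem_coe, Finset.mem_powersetCard] at hS hT
    dsimp only at h
    have h3 : symmDiff S T = ∅ := by
      apply K.cocode.eq_empty
      · rw [Nat.even_iff, DuadStab.card_symmDiff_parity, hS.2, hT.2]
      · have := Finset.card_le_card (Finset.symmDiff_subset_union (s := S) (t := T))
        have := Finset.card_union_le S T
        have := hS.2
        have := hT.2
        omega
      · rw [prod_symmDiff K.cocode.sq, h, ← prod_symmDiff K.cocode.sq, symmDiff_self]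
        exact Finset.prod_empty
    exact symmDiff_eq_bot.1 h3
  rw [h1, h2.ncard_image, Set.ncard_coe_finset, Finset.card_powersetCard]
  decide +kernel

/-- `z` as an element of `E`. -/
def zE (H : Hex G) : H.E hex0 := ⟨H.z, H.z_mem_E hex0 isHex_hex0⟩

theorem orbit_eq : MulAction.orbit (Subgroup.normalizer (H.E hex0 : Set G)) (zE H) =
    ({1} ∪ duads K)ᶜ := by
  ext a
  rw [MulAction.mem_orbit_iff, Set.mem_compl_iff, Set.mem_union, Set.mem_singleton_iff, not_or]
  have h1 : (∃ x : Subgroup.normalizer (H.E hex0 : Set G), x • zE H = a) ↔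
      ∃ n ∈ Subgroup.normalizer (H.E hex0 : Set G), n * H.z * n⁻¹ = a := by
    constructor
    · rintro ⟨x, rfl⟩
      exact ⟨x, x.2, rfl⟩
    · rintro ⟨n, hn, h⟩
      exact ⟨⟨n, hn⟩, Subtype.ext h⟩
  rw [h1]
  constructor
  · rintro ⟨n, hn, h⟩
    have h2 : a ≠ 1 := by
      rintro rfl
      have h3 : n * H.z * n⁻¹ = 1 := h
      rw [mul_inv_eq_one, mul_eq_left] at h3
      exact z_ne_one H.toCent h3
    exact ⟨h2, (K.conj_iff a h2).1 ⟨n, hn, h⟩⟩
  · rintro ⟨h2, h3⟩
    exact (K.conj_iff a h2).2 h3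

include K in
theorem ncard_orbit [Finite G] :
    (MulAction.orbit (Subgroup.normalizer (H.E hex0 : Set G)) (zE H)).ncard = 1771 := by
  have h1 : Disjoint ({1} : Set (H.E hex0)) (duads K) := by
    rw [Set.disjoint_singleton_left]
    rintro ⟨p, q, hpq, h⟩
    exact duad_ne_one K hpq h.symm
  rw [orbit_eq K, Set.ncard_compl, H.E_card hex0 isHex_hex0, Set.ncard_union_eq h1,
    Set.ncard_singleton, ncard_duads]
  norm_num

theorem card_stab_zE [Finite G] :
    Nat.card (MulAction.stabilizer (Subgroup.normalizer (H.E hex0 : Set G)) (zE H)) = 2 ^ 13 * 3 * 11520 := by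
  rw [← card_normalizer_inf H isHex_hex0]
  have h1 : (MulAction.stabilizer (Subgroup.normalizer (H.E hex0 : Set G)) (zE H)).map
      (Subgroup.subtype _) = Subgroup.normalizer (H.E hex0 : Set G) ⊓
        Subgroup.centralizer ({H.z} : Set G) := by
    ext g
    rw [Subgroup.mem_map, Subgroup.mem_inf]
    constructor
    · rintro ⟨n, hn, rfl⟩
      refine ⟨n.2, ?_⟩
      rw [Subgroup.mem_centralizer_singleton_iff]
      have h2 : (n : G) * H.z * (n : G)⁻¹ = H.z := congrArg (fun x : H.E hex0 => (x : G)) hn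
      rw [mul_inv_eq_iff_eq_mul] at h2
      exact h2
    · rintro ⟨h2, h3⟩
      rw [Subgroup.mem_centralizer_singleton_iff] at h3
      refine ⟨⟨g, h2⟩, Subtype.ext ?_, rfl⟩
      show g * H.z * g⁻¹ = H.z
      rw [h3, mul_inv_cancel_right]
  rw [← h1]
  exact Nat.card_congr (Subgroup.equivMapOfInjective _ _
    (Subgroup.subtype_injective (Subgroup.normalizer (H.E hex0 : Set G)))).toEquiv

include K in
theorem card_normalizer [Finite G] : Nat.card (Subgroup.normalizer (H.E hex0 : Set G)) =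
    2 ^ 11 * 244823040 := by
  have h1 := Subgroup.card_mul_index
    (MulAction.stabilizer (Subgroup.normalizer (H.E hex0 : Set G)) (zE H))
  rw [MulAction.index_stabilizer, card_stab_zE, ncard_orbit K] at h1
  rw [← h1]
  norm_num

theorem surjective_of_ker [Finite G] (f : Subgroup.normalizer (H.E hex0 : Set G) →* M24)
    (hf : ∀ n, f n = 1 ↔ (n : G) ∈ H.E hex0)
    (hc : Nat.card (Subgroup.normalizer (H.E hex0 : Set G)) = 2 ^ 11 * 244823040) :
    Function.Surjective f := by
  have h1 := Subgroup.card_mul_index f.ker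
  rw [Subgroup.index_ker, hc] at h1
  have h2 : Nat.card f.ker = 2 ^ 11 := by
    rw [← H.E_card hex0 isHex_hex0]
    have h3 : f.ker.map (Subgroup.subtype _) = H.E hex0 := by
      ext g
      rw [Subgroup.mem_map]
      constructor
      · rintro ⟨n, hn, rfl⟩
        exact (hf n).1 hn
      · intro hg
        exact ⟨⟨g, Subgroup.le_normalizer hg⟩, (hf ⟨g, Subgroup.le_normalizer hg⟩).2 hg, rfl⟩
    conv_rhs => rw [← h3]
    exact Nat.card_congr (Subgroup.equivMapOfInjective _ _
      (Subgroup.subtype_injective (Subgroup.normalizer (H.E hex0 : Set G)))).toEquiv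
  rw [h2] at h1
  rw [← MonoidHom.range_eq_top]
  apply Subgroup.eq_top_of_card_eq
  rw [SporadicA.M24Trans.card_M24]
  omega

end Cfsg.Agent.J4Type.FrameOf
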