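import Cfsg.Agent.J4Type.DDataOf
import Cfsg.Agent.J4Type.DDataMain
import Cfsg.Agent.J4Type.FusionCount2
import Cfsg.Agent.J4Type.FrameOf
import Cfsg.Agent.J4Type.FrameOf2
import Cfsg.Agent.J4Type.DuadCount
import Cfsg.Agent.J4Type.DuadInv
import Cfsg.Agent.J4Type.DuadSet
import Cfsg.Agent.J4Type.DuadEnd
import Cfsg.Agent.J4Type.PartC
import Cfsg.Agent.J4Type.CoordPR
import Cfsg.Agent.J4Type.LRel
import Cfsg.Agent.J4Type.CoordOut
import Cfsg.Agent.J4Type.CoordOutB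
import Cfsg.Agent.J4Type.FrameMain
import Cfsg.Agent.J4Type.FrameLift
import Cfsg.Agent.J4Type.CoordMain
import Cfsg.Agent.J4Type.CoordMainW
import Cfsg.Agent.J4Type.CoordRels
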