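import Cfsg.Agent.J4Type.EClasses_mg
set_option linter.all false

/-!
# From `|z^{N_G(E)}| = 1771` to `DData` (part (c), helper233)
-/

set_option autoImplicit false

open scoped Pointwise

namespace Cfsg.Agent.J4Type.DDataOf

open Cfsg VCoord HexPerms ECoord EElems EPi EOrbCheck EOrbits EClasses
open SporadicA.FieldFour (F4)

/-! ### finite facts -/

/-- the permutation of the six points induced by a word -/
def act (w : List Bool) (i : Fin 6) : Fin 6 := w.foldl (fun i b => piG b i) i

def ws : List (List Bool) :=
  [[], [false], [true], [false, false], [true, false], [true, true], [false, false, false],
   [false, false, true], [true, false, false], [true, false, true], [true, true, false], [true,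
   true, true], [false, false, false, false], [false, false, false, true], [false, false, true,
   false], [false, false, true, true], [true, false, false, false], [true, false, false, true],
   [true, false, true, false], [true, false, true, true], [true, true, false, false], [true,
   true, false, true], [true, true, true, false], [true, true, true, true], [false, false,
   false, false, true], [false, false, false, true, true], [false, false, true, false, false],
   [false, false, true, false, true], [false, false, true, true, false], [false, false, true,
   true, true], [true, false, false, false, false], [true, false, false, false, true], [true,
   false, false, true, true], [true, false, true, false, false], [true, false, true, true,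
   false], [true, true, false, false, false], [true, true, false, false, true], [true, true,
   false, true, true], [true, true, true, false, false], [true, true, true, true, false],
   [false, false, false, false, true, false], [false, false, false, false, true, true], [false,
   false, false, true, true, false], [false, false, false, true, true, true], [false, false,
   true, false, false, false], [false, false, true, false, false, true], [false, false, true,
   false, true, true], [false, false, true, true, false, false], [false, false, true, true,
   false, true], [false, false, true, true, true, false], [true, false, false, false, true,
   true], [true, false, false, true, true, true], [true, false, true, false, false, false],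
   [true, false, true, true, false, false], [true, true, false, false, false, false], [true,
   true, false, false, true, false], [true, true, false, false, true, true], [true, true, false,
   true, true, false], [true, true, false, true, true, true], [true, true, true, false, false,
   false], [true, true, true, false, false, true], [true, true, true, true, false, false],
   [true, true, true, true, false, true], [false, false, false, false, true, false, false],
   [false, false, false, false, true, false, true], [false, false, false, false, true, true,
   false], [false, false, false, false, true, true, true], [false, false, false, true, true,
   false, false], [false, false, false, true, true, false, true], [false, false, false, true,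
   true, true, false], [false, false, false, true, true, true, true], [false, false, true,
   false, false, false, false], [false, false, true, false, false, true, true], [false, false,
   true, false, true, true, true], [false, false, true, true, false, false, false], [false,
   false, true, true, false, true, true], [false, false, true, true, true, false, false], [true,
   false, false, false, true, true, false], [true, false, false, false, true, true, true],
   [true, false, false, true, true, true, false], [true, false, false, true, true, true, true],
   [true, false, true, false, false, false, false], [true, false, true, false, false, false,
   true], [true, false, true, true, false, false, false], [true, false, true, true, false,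
   false, true], [true, true, false, false, true, true, true], [true, true, false, true, true,
   true, true], [true, true, true, false, false, false, false], [true, true, true, false, false,
   false, true], [true, true, true, false, false, true, false], [true, true, true, true, false,
   false, false], [true, true, true, true, false, false, true], [true, true, true, true, false,
   true, false], [false, false, false, false, true, true, false, false], [false, false, false,
   true, true, false, false, false], [false, false, false, true, true, false, false, true],
   [false, false, false, true, true, false, true, false], [false, false, false, true, true,
   true, false, false], [false, false, false, true, true, true, true, false], [false, false,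
   true, false, false, true, true, true], [false, false, true, false, true, true, true, true],
   [false, false, true, true, false, false, false, true], [false, false, true, true, false,
   true, true, true], [false, false, true, true, true, false, false, false], [false, false,
   true, true, true, false, false, true], [true, false, false, false, true, true, true, false],
   [true, false, false, false, true, true, true, true], [true, false, false, true, true, true,
   false, false], [true, false, false, true, true, true, false, true], [true, false, false,
   true, true, true, true, false], [true, false, true, false, false, false, true, true], [true,
   true, false, true, true, true, true, false], [true, true, true, true, false, false, true,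
   true], [true, true, true, true, false, true, false, false], [false, false, false, true, true,
   true, false, false, true], [false, false, true, false, false, true, true, true, true],
   [false, false, true, true, false, true, true, true, true], [false, false, true, true, true,
   false, false, false, true], [false, false, true, true, true, false, false, true, true],
   [true, false, false, true, true, true, true, false, true]]

/-- `A₆` is transitive on triples -/
theorem trans3 : ∀ i j k : Fin 6, i ≠ j → i ≠ k → j ≠ k →
    ∃ w ∈ ws, act w 0 = i ∧ act w 1 = j ∧ act w 2 = k := by decide +kernel

theorem act_inj (w : List Bool) : Function.Injective (act w) := by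
  unfold act
  induction w with
  | nil => exact fun a b h => h
  | cons b w ih =>
    intro i j h
    exact piG_inj b i j (ih h)

theorem kap_two_iff : ∀ x < 2048, kapX x = 2 → oX x = 0 ∧ ∃ i : Fin 6, ∃ y : F4, y ≠ 0 ∧
    aX x = sc y (hv i) := by
  have h : SporadicA.GolayBase.allR 11 0 (fun x => decide (kapX x = 2 → oX x = 0 ∧
      ∃ i : Fin 6, ∃ y : F4, y ≠ 0 ∧ aX x = sc y (hv i))) = true := by
    decide +kernel
  intro x hx
  exact of_decide_eq_true (SporadicA.GolayBase.allR_zero_spec h x hx)

theorem kap_four_iff : ∀ x < 2048, kapX x = 4 → ∃ i j : Fin 6, i ≠ j ∧ oX x = mo i j ∧
    ∃ y y' : F4, tX x = nm y + nm y' ∧ aX x = sc y (hv i) + sc y' (hv j) := by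
  have h : SporadicA.GolayBase.allR 11 0 (fun x => decide (kapX x = 4 → ∃ i j : Fin 6, i ≠ j ∧
      oX x = mo i j ∧ ∃ y y' : F4, tX x = nm y + nm y' ∧ aX x = sc y (hv i) + sc y' (hv j))) =
      true := by
    decide +kernel
  intro x hx
  exact of_decide_eq_true (SporadicA.GolayBase.allR_zero_spec h x hx)

theorem kap_two_of : ∀ (t : ZMod 2) (i : Fin 6) (y : F4), y ≠ 0 → kap t (sc y (hv i)) 0 = 2 := by
  decide +kernel

theorem kap_four_of : ∀ (i j : Fin 6) (y y' : F4), i ≠ j →
    kap (nm y + nm y') (sc y (hv i) + sc y' (hv j)) (mo i j) = 4 := by
  decide +kernel

theorem kap_f : ∀ (t : ZMod 2) (o : Fin 16), o ≠ 0 → (kap t 0 o = 4 ↔ t = 0) ∧ kap t 0 o ≠ 2 := by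
  decide +kernel

/-- adding `z` outside `Q` exchanges the classes 4 and 5 -/
def sw : Fin 7 → Fin 7 := ![0, 1, 2, 3, 5, 4, 6]

theorem kap_sw (t : ZMod 2) (a : F43) (o : Fin 16) (ho : o ≠ 0) : kap (t + 1) a o = sw (kap t a o) := by
  have h0 : fcls (encY a o) ≠ 0 := fun h => ho (fcls_encY_zero h).2
  have h1 : ∀ x < 2048, oX x ≠ 0 → (kapX x = 4 ∨ kapX x = 5 ∨ kapX x = 6) := by
    have h : SporadicA.GolayBase.allR 11 0 (fun x => decide (oX x ≠ 0 →
        (kapX x = 4 ∨ kapX x = 5 ∨ kapX x = 6))) = true := by decide +kernel
    intro x hx
    exact of_decide_eq_true (SporadicA.GolayBase.allR_zero_spec h x hx)
  have h2 := h1 _ (encX_lt t a o) (by rw [oX_encX]; exact ho)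
  rw [← kap_eq] at h2
  have e1 : ∀ x y : ZMod 2, x + y = 0 → x + 1 + y ≠ 0 := by decide
  have e2 : ∀ x y : ZMod 2, x + y ≠ 0 → x + 1 + y = 0 := by decide
  have hc1 : fcls (encY a o) ≠ 1 := by
    intro h
    have h3 : kap t a o = 2 := by unfold kap; rw [if_neg h0, if_pos h]
    rw [h3] at h2
    revert h2; decide
  have hc2 : fcls (encY a o) ≠ 2 := by
    intro h
    have h3 : kap t a o = 3 := by unfold kap; rw [if_neg h0, if_neg hc1, if_pos h]
    rw [h3] at h2
    revert h2; decide
  unfold kap
  rw [if_neg h0, if_neg h0, if_neg hc1, if_neg hc1, if_neg hc2, if_neg hc2]
  by_cases hc3 : fcls (encY a o) = 3
  · rw [if_pos hc3, if_pos hc3]
    by_cases h : t + sY (encY a o) = 0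
    · rw [if_pos h, if_neg (e1 _ _ h)]; rfl
    · rw [if_neg h, if_pos (e2 _ _ h)]; rfl
  · rw [if_neg hc3, if_neg hc3]; rfl

end Cfsg.Agent.J4Type.DDataOf
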